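import Cfsg.Agent.Lib.GW.PartII.CompDefs

/-!
# The component configuration: points and blocks

The points are the conjugates of `⟨y⟩`, the blocks the involutions; `Inc` is the conjugacy class
of the incidence of `⟨y⟩` and `t`, `Adj` is "distinct, commuting and on a common block".
`Plane` collects what the count of second neighbours needs; `Heis` what the uniqueness of the
middle point of two second neighbours needs in addition.
-/

set_option autoImplicit false

namespace Cfsg.Agent.GW

open Subgroup

universe u

variable {G : Type u} [Group G] [Finite G]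

/-- The point `Y` lies on the block `s`. -/
def Inc (t y : G) (Y : Subgroup G) (s : G) : Prop :=
  ∃ g : G, Y = (zpowers y).map (MulAut.conj g).toMonoidHom ∧ s = g * t * g⁻¹

/-- Distinct commuting points on a common block. -/
def Adj (t y : G) (Y Y' : Subgroup G) : Prop :=
  Y ≠ Y' ∧ (∀ a ∈ Y, ∀ c ∈ Y', Commute a c) ∧ ∃ s, Inc t y Y s ∧ Inc t y Y' s

/-- The commuting neighbours of `⟨y⟩` on the block `t`. -/
def nbrs (t y : G) : Set (Subgroup G) :=
  {Y | Inc t y Y t ∧ Y ≠ zpowers y ∧ ∀ a ∈ Y, Commute a y}

/-- A point `⟨y⟩` of prime order with `τ` of the same order on its torus, such that two points of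
a block generate a subgroup with centraliser inside that of `t` and of `τ`. -/
structure Plane (t b y τ : G) : Prop where
  pin : Pin t b y τ
  prime : (orderOf y).Prime
  order_τ : orderOf τ = orderOf y
  noRefl : ∀ u : G, orderOf u = 2 → u ≠ t → Commute u t → Commute u y → ¬ Commute u τ
  meet : ∀ Y : Subgroup G, Inc t y Y t → Y ≠ zpowers y →
    ∀ x : G, Commute x y → (∀ a ∈ Y, Commute x a) → x ∈ Cent t ∧ Commute x τ
  span : ∀ Y ∈ nbrs t y, Y ≤ zpowers y ⊔ zpowers τ

/-- The extraspecial situation: `τ` is central in `oCore t` and `⟨y * τ⟩` is conjugate to `⟨y⟩`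
by an element inverted by `b`. -/
structure Heis (t b y τ : G) : Prop where
  plane : Plane t b y τ
  cent_τ : Cent τ ≤ Cent t
  comm_τ : ∀ o ∈ oCore t, Commute o τ
  shift : ∃ o ∈ oCore t, b * o * b⁻¹ = o⁻¹ ∧ o * y * o⁻¹ = y * τ
  dFix_eq : dFix t b = qFix t b
  comm_dFix : ∀ d ∈ dFix t b, Commute d y
  cyclic : IsCyclic ↥(dFix t b)
  pGroup : ∀ u : G, orderOf u = 2 → u ≠ t → Commute u t → IsPGroup (orderOf y) ↥(dFix t u)

end Cfsg.Agent.GW
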