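import Cfsg.Agent.Lib.GW.PartII.CompHeisMat
import Cfsg.Agent.Lib.GW.PartII.CompPlane

/-!
# The component configuration: the extraspecial shape

`Central.heis_of_extraspecial`: an extraspecial subgroup `W` of order `r ^ 3` of `fitCore t` without
invariant maximal subgroup gives a point of Heisenberg type, with bounds for the number of conjugates
of the point in `Cent t`, for the index of `fitCore t` in `oCore t` and for the fixed points of the
reflections.
-/

set_option autoImplicit false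
set_option linter.style.haveILetI false
set_option linter.unusedSectionVars false

namespace Cfsg.Agent.GW

open Subgroup
open BSW (mem_cent)
open CompLocal (FixModel)

universe u

variable {G : Type u} [Group G] [Finite G] {S : Sylow 2 G} {t τ : G} {W : Subgroup G}

/-- The conjugates of `⟨y⟩` under `L` are few. -/
theorem relIndex_stab_mul_le {L A : Subgroup G} {τ y : G} (hL : L ≤ normalizer (A : Set G))
    (hLτ : L ≤ normalizer (zpowers τ : Set G)) (hτA : τ ∈ A) (hy : y ∈ A) (hp : (orderOf y).Prime)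
    (hyτ : y ∉ zpowers τ) :
    (normalizer (zpowers y : Set G) ⊓ L).relIndex L * (orderOf y - 1) + orderOf τ ≤ Nat.card A := by
  classical
  set P := (normalizer (zpowers y : Set G) ⊓ L).subgroupOf L with hP
  have hyT : ∀ z ∈ zpowers y, z ≠ 1 → zpowers z = zpowers y := fun z hz hz1 =>
    eq_of_le_of_card_ge (zpowers_le.2 hz) (by
      rw [Nat.card_zpowers, Nat.card_zpowers]
      exact ((hp.eq_one_or_self_of_dvd _ (orderOf_dvd_of_mem_zpowers hz)).resolve_left
        fun e => hz1 (orderOf_eq_one_iff.1 e)).ge)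
  have hdisj : ∀ z ∈ zpowers y, z ≠ 1 → z ∉ zpowers τ := fun z hz hz1 hzτ =>
    hyτ (zpowers_le.2 hzτ (hyT z hz hz1 ▸ mem_zpowers y))
  let f : (L ⧸ P) × ↥((zpowers y : Set G) \ {1}) → ↥((A : Set G) \ (zpowers τ : Set G)) := fun q =>
    ⟨(q.1.out : L) * (q.2 : G) * ((q.1.out : L) : G)⁻¹,
      (mem_normalizer_iff.1 (hL (SetLike.coe_mem q.1.out)) _).1 (zpowers_le.2 hy q.2.2.1),
      fun h1 => hdisj _ q.2.2.1 q.2.2.2
        ((mem_normalizer_iff.1 (hLτ (SetLike.coe_mem q.1.out)) _).2 h1)⟩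
  have hf : Function.Injective f := by
    rintro ⟨c, z, hz, hz1⟩ ⟨c', z', hz', hz1'⟩ hcc
    have h1 : ((c.out : L) : G) * z * ((c.out : L) : G)⁻¹ =
        ((c'.out : L) : G) * z' * ((c'.out : L) : G)⁻¹ := congrArg Subtype.val hcc
    set g := ((c'.out : L) : G)⁻¹ * ((c.out : L) : G) with hg
    have h2 : g * z * g⁻¹ = z' := by
      rw [hg, show ((c'.out : L) : G)⁻¹ * ((c.out : L) : G) * z * (((c'.out : L) : G)⁻¹ * ((c.out : L) : G))⁻¹ =
        ((c'.out : L) : G)⁻¹ * (((c.out : L) : G) * z * ((c.out : L) : G)⁻¹) * ((c'.out : L) : G) by group,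
        h1]
      group
    have hgN : g ∈ normalizer (zpowers y : Set G) := by
      refine mem_normalizer_iff_map_conj_eq.2 ?_
      rw [← hyT z hz hz1, MonoidHom.map_zpowers]
      show zpowers (g * z * g⁻¹) = zpowers z
      rw [h2, hyT z hz hz1, hyT z' hz' hz1']
    have hgL : g ∈ L := mul_mem (inv_mem (SetLike.coe_mem c'.out)) (SetLike.coe_mem c.out)
    obtain rfl : c = c' := by
      rw [← c.out_eq', ← c'.out_eq', eq_comm, QuotientGroup.eq]
      exact mem_subgroupOf.2 ⟨hgN, hgL⟩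
    obtain rfl : z = z' := by
      rw [hg, inv_mul_cancel, one_mul, inv_one, mul_one] at h2
      exact h2
    rfl
  have h := Nat.card_le_card_of_injective f hf
  rw [Nat.card_prod, Nat.card_coe_set_eq, Nat.card_coe_set_eq,
    Set.ncard_sdiff (Set.singleton_subset_iff.2 (one_mem (zpowers y))),
    Set.ncard_sdiff (zpowers_le.2 hτA : zpowers τ ≤ A), Set.ncard_singleton] at h
  simp only [← Nat.card_coe_set_eq, SetLike.coe_sort_coe, Nat.card_zpowers] at h
  have hcard : orderOf τ ≤ Nat.card A := by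
    rw [← Nat.card_zpowers]
    exact Subgroup.card_le_of_le (zpowers_le.2 hτA)
  have hrel : (normalizer (zpowers y : Set G) ⊓ L).relIndex L = Nat.card (L ⧸ P) := rfl
  rw [hrel]
  omega

namespace Extra

/-- The commuting neighbours of `⟨y⟩` on the block `t` lie in `⟨y, τ⟩`. -/
theorem le_W_of_inc (E : Extra t τ W) {y : G} (hy : y ∈ W) {Y : Subgroup G} (hY : Inc t y Y t) :
    ∃ y' ∈ W, Y = zpowers y' ∧ orderOf y' = orderOf y := by
  obtain ⟨g, rfl, hg⟩ := hY
  refine ⟨g * y * g⁻¹, E.conj_mem (mem_cent.2 ?_) hy, ?_, ?_⟩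
  · exact (mul_inv_eq_iff_eq_mul.1 hg.symm)
  · rw [MonoidHom.map_zpowers]
    rfl
  · show orderOf (MulAut.conj g y) = orderOf y
    exact MulEquiv.orderOf_eq _ _

/-- The shift: a power of `x`. -/
theorem exists_shift (h : Central t τ) (E : Extra t τ W) {x y : G} (hx : x ∈ W) (hy : y ∈ W)
    (hxy : ¬ Commute x y) {z : G} (hz : z ∈ zpowers τ) :
    ∃ n : ℕ, x ^ n * y * (x ^ n)⁻¹ = y * z := by
  set τ₁ := x * y * x⁻¹ * y⁻¹ with hτ₁
  have hτ₁m : τ₁ ∈ zpowers τ := E.comm x hx y (E.le hy)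
  have hτ₁1 : τ₁ ≠ 1 := fun e1 => hxy (mul_inv_eq_iff_eq_mul.1 (mul_inv_eq_one.1 e1))
  have hgen : zpowers τ₁ = zpowers τ := eq_of_le_of_card_ge (zpowers_le.2 hτ₁m) (by
    rw [Nat.card_zpowers, Nat.card_zpowers, E.orderOf_eq h (zpowers_le.2 E.mem hτ₁m) hτ₁1])
  obtain ⟨n, hn⟩ := mem_powers_iff_mem_zpowers.2 (hgen ▸ hz)
  have hτ₁c : ∀ {w : G}, w ∈ W → Commute τ₁ w := fun hw => by
    obtain ⟨k, hk⟩ := mem_zpowers_iff.1 hτ₁m
    rw [← hk]
    exact (E.commute_τ h hw).zpow_left k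
  have key : ∀ m : ℕ, x ^ m * y * (x ^ m)⁻¹ = y * τ₁ ^ m := by
    intro m
    induction m with
    | zero => simp
    | succ m ih =>
      calc x ^ (m + 1) * y * (x ^ (m + 1))⁻¹ = x * (x ^ m * y * (x ^ m)⁻¹) * x⁻¹ := by
            rw [pow_succ']; group
        _ = x * y * (τ₁ ^ m * x⁻¹) := by rw [ih]; group
        _ = x * y * (x⁻¹ * τ₁ ^ m) := by rw [((hτ₁c hx).inv_right.pow_left m).eq]
        _ = τ₁ * y * τ₁ ^ m := by rw [hτ₁]; group
        _ = y * τ₁ ^ (m + 1) := by rw [(hτ₁c hy).eq, mul_assoc, ← pow_succ']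
  exact ⟨n, (key n).trans (congrArg (y * ·) hn)⟩

/-- If the square of the rotation `σ` is `1` or `t`, the reflection `τ` fixes what `σ` makes of its
fixed points. -/
theorem commute_conj_rotation (hyp : Hyp S t) (h16 : ¬ 16 ∣ Nat.card (S : Subgroup G))
    (g : BSW.DihedralTI.Gens S t) {y : G} (hyt : Commute t y) (hy : Commute g.τ y) :
    Commute (g.σ * y * g.σ⁻¹) g.τ := by
  have hσ2 : Commute (g.σ * g.σ) y := by
    by_cases h1 : g.σ * g.σ = 1
    · rw [h1]; exact Commute.one_left y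
    · have hk2 : g.k ≤ 1 := by
        by_contra hk3
        refine h16 ?_
        rw [g.hcard, g.hn]
        exact ⟨2 ^ (g.k - 2), by
          conv_lhs => rw [show g.k + 1 = 3 + (g.k - 2) by omega, pow_add]
          ring⟩
      have h4 : (g.σ * g.σ) * (g.σ * g.σ) = 1 := by
        have hd : orderOf g.σ ∣ 4 := by
          rw [g.hord, g.hn, show (4 : ℕ) = 2 ^ 2 by norm_num]
          exact pow_dvd_pow 2 (by omega)
        rw [← orderOf_dvd_iff_pow_eq_one.1 hd, ← pow_two, ← pow_two, ← pow_mul]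
      rw [eq_of_invol_zpowers (mul_mem (mem_zpowers _) (mem_zpowers _)) g.htσ
        (BSW.order_of_sq h4 h1) hyp.orderT]
      exact hyt
  refine (Commute.symm (mul_inv_eq_iff_eq_mul.1 ?_))
  calc g.τ * (g.σ * y * g.σ⁻¹) * g.τ⁻¹
      = (g.τ * g.σ * g.τ⁻¹) * (g.τ * y * g.τ⁻¹) * (g.τ * g.σ * g.τ⁻¹)⁻¹ := by group
    _ = g.σ⁻¹ * y * g.σ := by rw [g.hrel, hy.eq, mul_inv_cancel_right, inv_inv]
    _ = g.σ * ((g.σ * g.σ)⁻¹ * y * (g.σ * g.σ)) * g.σ⁻¹ := by group
    _ = g.σ * y * g.σ⁻¹ := by rw [hσ2.inv_left.eq, inv_mul_cancel_right]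

end Extra

/-- **The extraspecial shape.** -/
theorem Central.heis_of_extraspecial (hyp : Hyp S t) (hk : ProperKnown G) (hM : IsCoatom (Cent t))
    (hm : FixModel.{u}) (h : Central t τ) {W : Subgroup G} (hle : W ≤ fitCore t) (hτW : τ ∈ W)
    (hcard : Nat.card W = orderOf τ ^ 3) (hexp : ∀ w ∈ W, w ^ orderOf τ = 1)
    (hcomm : ∀ w ∈ W, ∀ f ∈ fitCore t, w * f * w⁻¹ * f⁻¹ ∈ zpowers τ)
    (hnorm : Cent t ≤ normalizer (W : Set G)) (hnc : ¬ IsMulCommutative W)
    (hnoA : ¬ ∃ A : Subgroup G, τ ∈ A ∧ A ≤ W ∧ Nat.card A = orderOf τ ^ 2 ∧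
      Cent t ≤ normalizer (A : Set G)) :
    ∃ b y, (orderOf b = 2 ∧ b ≠ t ∧ Commute b t) ∧ Heis t b y τ ∧
      orderOf τ - 1 ≤ (nbrs t y).ncard ∧
      ((normalizer (zpowers y : Set G)) ⊓ Cent t).relIndex (Cent t) ≤ orderOf τ * (orderOf τ + 1) ∧
      (fitCore t).relIndex (oCore t) ≤ orderOf τ + 1 ∧
      (∀ u : G, orderOf u = 2 → u ≠ t → Commute u t → Nat.card (dFix t u) = orderOf τ) ∧
      (orderOf τ = 3 → 16 ∣ Nat.card (S : Subgroup G)) := by
  have E : Extra t τ W := ⟨hle, hτW, hcard, hexp, hcomm, hnorm,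
    fun hc => hnc ⟨⟨fun a b => Subtype.ext (hc a a.2 b b.2).eq⟩⟩,
    fun A h1 h2 h3 h4 => hnoA ⟨A, h1, h2, h3, h4⟩⟩
  haveI := Fact.mk h.prime
  obtain ⟨g⟩ := hyp.exists_gens
  have hb : orderOf g.τ = 2 := g.hτo
  have hbne : g.τ ≠ t := fun e1 => tau_not_mem g (by rw [e1]; exact g.htσ)
  have hbc : Commute g.τ t := hyp.centralS _ g.hτ
  set b := g.τ with hbdef
  obtain ⟨x, y, hx, hy, hxi, hby, hxy, hoy, hyq, hqy, -⟩ := E.base hyp hk hM hm h hb hbne hbc
  obtain ⟨e, he⟩ := E.coord h hx hy hxy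
  obtain ⟨-, hrel, hthree⟩ := E.oCore_small hyp hk hM hm h he hxy
  have hy1 : y ≠ 1 := fun e1 => h.prime.ne_one (by rw [← hoy, e1, orderOf_one])
  have hcardD : ∀ u : G, orderOf u = 2 → u ≠ t → Commute u t → Nat.card (dFix t u) = orderOf τ := by
    intro u hu hne hc
    obtain ⟨-, y', -, -, -, -, -, hoy', -, hqy', -⟩ := E.base hyp hk hM hm h hu hne hc
    rw [E.dFix_eq hyp hk hM hm h hu hne hc, hqy', Nat.card_zpowers, hoy']
  have hdb : dFix t b = zpowers y := (E.dFix_eq hyp hk hM hm h hb hbne hbc).trans hqy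
  have hyp' : (orderOf y).Prime := hoy ▸ h.prime
  have hyτ : y ∉ zpowers τ := fun h1 => hxy (by
    obtain ⟨k, rfl⟩ := mem_zpowers_iff.1 h1
    exact ((E.commute_τ h hx).zpow_left k).symm)
  have hτsup : τ ∈ zpowers y ⊔ zpowers τ := mem_sup_right (mem_zpowers τ)
  have hysup : y ∈ zpowers y ⊔ zpowers τ := mem_sup_left (mem_zpowers y)
  have hspan : ∀ Y ∈ nbrs t y, Y ≤ zpowers y ⊔ zpowers τ := by
    rintro Y ⟨hY, -, hYc⟩
    obtain ⟨y', hy', rfl, -⟩ := E.le_W_of_inc hy hY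
    exact zpowers_le.2 (he.mem_sup_of_commute (E.exp x hx) (fun _ hw => E.commute_τ h hw) hxy hy'
      (hYc y' (mem_zpowers y')))
  have hplane : Plane t b y τ := by
    refine ⟨h.pin hyp hb hbne hbc hyq hy1, hyp', hoy.symm,
      fun u hu hne hc _ => h.not_commute_refl hyp hu hne hc, ?_, hspan⟩
    intro Y hY hYne z hzy hzY
    suffices hzτ : Commute z τ from ⟨h.cent (mem_cent.2 hzτ.eq), hzτ⟩
    obtain ⟨y', hy', rfl, hoy'⟩ := E.le_W_of_inc hy hY
    have hzy' : Commute z y' := hzY y' (mem_zpowers y')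
    by_cases hc : Commute y' y
    · have h1 := he.mem_sup_of_commute (E.exp x hx) (fun _ hw => E.commute_τ h hw) hxy hy' hc
      obtain ⟨a, ha, c, hc', hac⟩ := (Coprime.mem_sup_iff_of_le_normalizer
        (H := zpowers y) (N := zpowers τ)
        (zpowers_le.2 (mem_normalizer_zpowers_of_commute (E.commute_τ h hy).symm))).1 h1
      have hca : Commute z c := by
        obtain ⟨k, rfl⟩ := mem_zpowers_iff.1 ha
        rw [show c = (y ^ k)⁻¹ * y' by rw [← hac]; group]
        exact (hzy.zpow_right k).inv_right.mul_right hzy'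
      have hc1 : c ≠ 1 := fun e1 => by
        rw [e1, mul_one] at hac
        exact hYne (eq_of_le_of_card_ge (zpowers_le.2 (hac ▸ ha))
          (by rw [Nat.card_zpowers, Nat.card_zpowers, hoy']))
      obtain ⟨k, hk'⟩ := mem_powers_iff_mem_zpowers.2 (show τ ∈ zpowers c from by
        rw [eq_of_le_of_card_ge (zpowers_le.2 hc') (by
          rw [Nat.card_zpowers, Nat.card_zpowers, E.orderOf_eq h (zpowers_le.2 E.mem hc') hc1])]
        exact mem_zpowers τ)
      rw [← hk']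
      exact hca.pow_right k
    · have hm1 := E.comm y' hy' y (E.le hy)
      have hne1 : y' * y * y'⁻¹ * y⁻¹ ≠ 1 := fun e1 =>
        hc (mul_inv_eq_iff_eq_mul.1 (mul_inv_eq_one.1 e1))
      obtain ⟨k, hk'⟩ := mem_powers_iff_mem_zpowers.2 (show τ ∈ zpowers (y' * y * y'⁻¹ * y⁻¹) from by
        rw [eq_of_le_of_card_ge (zpowers_le.2 hm1) (by
          rw [Nat.card_zpowers, Nat.card_zpowers, E.orderOf_eq h (zpowers_le.2 E.mem hm1) hne1])]
        exact mem_zpowers τ)
      rw [← hk']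
      exact (((hzy'.mul_right hzy).mul_right hzy'.inv_right).mul_right hzy.inv_right).pow_right k
  have hheis : Heis t b y τ := by
    obtain ⟨n, hn⟩ := E.exists_shift h hx hy hxy (mem_zpowers τ)
    refine ⟨hplane, h.cent, h.comm, ⟨x ^ n, pow_mem (E.le_oCore hx) n, ?_, hn⟩,
      E.dFix_eq hyp hk hM hm h hb hbne hbc, ?_, ?_, ?_⟩
    · rw [← conj_pow, hxi, inv_pow]
    · intro d hd
      rw [hdb] at hd
      obtain ⟨k, rfl⟩ := mem_zpowers_iff.1 hd
      exact (Commute.refl y).zpow_left k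
    · rw [hdb]; infer_instance
    · intro u hu hne hc
      exact IsPGroup.of_card (n := 1) (by rw [hcardD u hu hne hc, pow_one, hoy])
  have hnb : orderOf τ - 1 ≤ (nbrs t y).ncard := by
    have hmem : ∀ i ∈ Set.Icc 1 (orderOf τ - 1), zpowers (y * τ ^ i) ∈ nbrs t y := by
      intro i hi
      obtain ⟨n, hn⟩ := E.exists_shift h hx hy hxy (pow_mem (mem_zpowers τ) i)
      refine ⟨⟨x ^ n, ?_, ?_⟩, ?_, ?_⟩
      · rw [MonoidHom.map_zpowers]
        show zpowers (y * τ ^ i) = zpowers (x ^ n * y * (x ^ n)⁻¹)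
        rw [hn]
      · rw [(show Commute (x ^ n) t from
          mem_cent.1 (pow_mem (Hyp.oCore_le_cent t (E.le_oCore hx)) n)).eq, mul_inv_cancel_right]
      · intro e1
        have h1 : τ ^ i ∈ zpowers y := by
          have h2 := mul_mem (inv_mem (mem_zpowers y)) (e1 ▸ mem_zpowers (y * τ ^ i) : y * τ ^ i ∈ zpowers y)
          rwa [inv_mul_cancel_left] at h2
        have hi1 : τ ^ i ≠ 1 := fun e2 => by
          have h3 := Nat.le_of_dvd (by have := hi.1; omega) (orderOf_dvd_of_pow_eq_one e2)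
          have := hi.2
          have := h.prime.two_le
          omega
        have h4 : zpowers (τ ^ i) = zpowers y := eq_of_le_of_card_ge (zpowers_le.2 h1) (by
          rw [Nat.card_zpowers, Nat.card_zpowers, hoy,
            E.orderOf_eq h (zpowers_le.2 E.mem (pow_mem (mem_zpowers τ) i)) hi1])
        exact hyτ (zpowers_le.2 (pow_mem (mem_zpowers τ) i) (h4 ▸ mem_zpowers y))
      · intro a ha
        obtain ⟨k, rfl⟩ := mem_zpowers_iff.1 ha
        exact ((Commute.refl y).mul_left ((E.commute_τ h hy).pow_left i)).zpow_left k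
    have hinj : Set.InjOn (fun i => zpowers (y * τ ^ i)) (Set.Icc 1 (orderOf τ - 1)) := by
      intro i hi j hj hij
      have h1 : y * τ ^ j ∈ zpowers (y * τ ^ i) := (show zpowers (y * τ ^ i) = _ from hij) ▸ mem_zpowers _
      obtain ⟨m, hm'⟩ := mem_powers_iff_mem_zpowers.2 h1
      simp only at hm'
      rw [((E.commute_τ h hy).symm.pow_right i).mul_pow, ← pow_mul] at hm'
      have hem := congrArg e hm'
      rw [he.add _ (pow_mem hy m) _ (pow_mem E.mem _), he.add _ hy _ (pow_mem E.mem j),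
        (he.zero _ (pow_mem E.mem _)).2 (pow_mem (mem_zpowers τ) _),
        (he.zero _ (pow_mem E.mem j)).2 (pow_mem (mem_zpowers τ) _), add_zero, add_zero,
        he.map_pow hy, he.apY] at hem
      have h5 := congrFun hem 1
      simp at h5
      have hym : y ^ m = y := by
        conv_rhs => rw [← pow_one y]
        rw [pow_eq_pow_iff_modEq, hoy]
        exact (ZMod.natCast_eq_natCast_iff m 1 _).1 (by simpa using h5)
      rw [hym] at hm'
      have hj' := mul_left_cancel hm'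
      rw [pow_eq_pow_iff_modEq] at hj'
      have hmm : i * m ≡ i [MOD orderOf τ] := by
        have h6 : m ≡ 1 [MOD orderOf τ] := by
          have h7 := (pow_eq_pow_iff_modEq (x := y)).1 (hym.trans (pow_one y).symm)
          rwa [hoy] at h7
        simpa using h6.mul_left i
      refine Nat.ModEq.eq_of_lt_of_lt (hmm.symm.trans hj') ?_ ?_
      · have := hi.2; have := h.prime.two_le; omega
      · have := hj.2; have := h.prime.two_le; omega
    calc orderOf τ - 1 = (Set.Icc 1 (orderOf τ - 1)).ncard := by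
          rw [← Finset.coe_Icc, Set.ncard_coe_finset, Nat.card_Icc]; omega
      _ = ((fun i => zpowers (y * τ ^ i)) '' Set.Icc 1 (orderOf τ - 1)).ncard :=
          hinj.ncard_image.symm
      _ ≤ (nbrs t y).ncard := Set.ncard_le_ncard (Set.image_subset_iff.2 hmem) (Set.toFinite _)
  have hLτ : Cent t ≤ normalizer (zpowers τ : Set G) := by
    rw [le_normalizer_iff]
    intro c hc z hz
    obtain ⟨k, rfl⟩ := mem_zpowers_iff.1 hz
    rw [← conj_zpow]
    exact zpow_mem (h.conj_mem_zpowers hyp hc) k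
  have hMle : ((normalizer (zpowers y : Set G)) ⊓ Cent t).relIndex (Cent t) ≤
      orderOf τ * (orderOf τ + 1) := by
    have h1 := relIndex_stab_mul_le E.norm hLτ E.mem hy hyp' hyτ
    rw [hoy, E.card] at h1
    obtain ⟨r, hr⟩ : ∃ r, orderOf τ = r + 2 := ⟨orderOf τ - 2, by have := h.prime.two_le; omega⟩
    rw [hr, show r + 2 - 1 = r + 1 by omega] at h1
    rw [hr]
    refine Nat.le_of_mul_le_mul_right ?_ (show 0 < r + 1 by omega)
    have h2 : (r + 2) ^ 3 = (r + 2) * (r + 2 + 1) * (r + 1) + (r + 2) := by ring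
    omega
  refine ⟨b, y, ⟨hb, hbne, hbc⟩, hheis, hnb, hMle, hrel, hcardD, fun h3 => ?_⟩
  by_contra h16
  have hOF := hthree h3
  set A := zpowers y ⊔ zpowers τ with hA
  have hAW : A ≤ W := sup_le (zpowers_le.2 hy) (zpowers_le.2 E.mem)
  have hxA : x ∉ A := fun h1 => hxy (by
    obtain ⟨a, ha, c, hc, rfl⟩ := (Coprime.mem_sup_iff_of_le_normalizer
      (H := zpowers y) (N := zpowers τ)
      (zpowers_le.2 (mem_normalizer_zpowers_of_commute (E.commute_τ h hy).symm))).1 h1
    obtain ⟨i, rfl⟩ := mem_zpowers_iff.1 ha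
    obtain ⟨j, rfl⟩ := mem_zpowers_iff.1 hc
    exact ((Commute.refl y).zpow_left i).mul_left ((E.commute_τ h hy).zpow_left j))
  have hAc : Nat.card A = orderOf τ ^ 2 := E.card_eq_sq h hAW hτsup hysup hyτ hx hxA
  set L := normalizer (A : Set G) ⊓ Cent t with hL
  have hOL : oCore t ≤ L := by
    refine le_inf ?_ (Hyp.oCore_le_cent t)
    rw [le_normalizer_iff]
    intro o ho a ha
    have h1 := inv_mem (E.comm a (hAW ha) o (hOF ho))
    rw [show (a * o * a⁻¹ * o⁻¹)⁻¹ = o * a * o⁻¹ * a⁻¹ by group] at h1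
    have h2 := mul_mem (mem_sup_right h1 : o * a * o⁻¹ * a⁻¹ ∈ A) ha
    rwa [inv_mul_cancel_right] at h2
  have hgenA : ∀ {c : G}, c * y * c⁻¹ ∈ A → c ∈ Cent t → c ∈ L := by
    intro c hcy hc
    refine ⟨?_, hc⟩
    refine mem_normalizer_iff_map_conj_eq.2 (eq_of_le_of_card_ge ?_ (card_map_of_injective
      (MulAut.conj c).injective).ge)
    rw [hA, map_le_iff_le_comap]
    exact sup_le (zpowers_le.2 hcy) (zpowers_le.2 (mem_sup_right (h.conj_mem_zpowers hyp hc)))
  have hbL : b ∈ L := hgenA (by rw [hby.eq, mul_inv_cancel_right]; exact hysup) (mem_cent.2 hbc.eq)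
  have hσC : g.σ ∈ Cent t := hyp.sylow_le_cent g.hσ
  have hσL : g.σ ∈ L := hgenA (mem_sup_left (hqy ▸ ⟨E.le (E.conj_mem hσC hy), mem_cent.2
    (Extra.commute_conj_rotation hyp h16 g (commute_of_fitCore (E.le hy)).symm hby).eq⟩)) hσC
  refine E.noA A hτsup hAW hAc fun c hc => ?_
  obtain ⟨v, hv, s, hs, rfl⟩ := hyp.exists_oCore_mul hc
  suffices hsL : s ∈ L from (mul_mem (hOL hv) hsL).1
  obtain ⟨i, rfl | rfl⟩ := g.hform s hs
  · exact L.zpow_mem hσL i
  · exact mul_mem (L.zpow_mem hσL i) hbL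

end Cfsg.Agent.GW
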