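import Cfsg.Agent.Lib.GW.PartII.CompOneOrbit
import Cfsg.Agent.Lib.Coprime.FixedForce

/-!
# Component configuration, case I: some inverted line is not normalised

`CaseOne.false_of_full`: it is impossible that `Cent t` normalises `⟨τ⟩` for every line `y, τ`.
-/

set_option autoImplicit false
set_option linter.style.haveILetI false
set_option linter.unusedSectionVars false
set_option linter.unusedVariables false

namespace Cfsg.Agent.GW

open Subgroup CompLocal Cfsg.Agent.S1856 Cfsg.Agent.S1312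
open BSW (mem_cent)

universe u

variable {G : Type u} [Group G] [Finite G] {S : Sylow 2 G} {t : G}

/-- An element commuting with the `r`-part and the `r'`-part of `f` commutes with `f`. -/
theorem commute_of_parts {g f : G} {r k m : ℕ} (hr : r.Prime) (hm : ¬ r ∣ m)
    (hf : orderOf f = r ^ k * m) (h1 : Commute g (f ^ m)) (h2 : Commute g (f ^ r ^ k)) : Commute g f := by
  have hg : Nat.gcd m (r ^ k) = 1 := ((hr.coprime_iff_not_dvd.2 hm).symm.pow_right k).gcd_eq_one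
  have hab := Nat.gcd_eq_gcd_ab m (r ^ k)
  rw [hg, Nat.cast_one] at hab
  have he : f = (f ^ m) ^ Nat.gcdA m (r ^ k) * (f ^ r ^ k) ^ Nat.gcdB m (r ^ k) := by
    rw [← zpow_natCast f m, ← zpow_natCast f (r ^ k), ← zpow_mul, ← zpow_mul, ← zpow_add, ← hab, zpow_one]
  rw [he]
  exact (h1.zpow_right _).mul_right (h2.zpow_right _)

/-- An element inverted by `b` centralises the elements inverted by `b` generating a cyclic group it
normalises. -/
theorem commute_of_conj_mem {b u c : G} (hu : Odd (orderOf u)) (hbu : b * u * b⁻¹ = u⁻¹)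
    (hbc : b * c * b⁻¹ = c⁻¹) (h : u * c * u⁻¹ ∈ zpowers c) : Commute u c := by
  obtain ⟨n, hn⟩ := mem_zpowers_iff.1 h
  have h1 : (u⁻¹ * c * u)⁻¹ = (c ^ n)⁻¹ := by
    calc (u⁻¹ * c * u)⁻¹ = b * u * b⁻¹ * (b * c * b⁻¹) * (b * u * b⁻¹)⁻¹ := by rw [hbu, hbc]; group
      _ = b * (c ^ n) * b⁻¹ := by rw [hn]; group
      _ = (c ^ n)⁻¹ := by rw [← conj_zpow, hbc, inv_zpow]
  refine commute_of_sq hu ?_
  calc u * u * c = u * (u * c * u⁻¹) * u := by group
    _ = u * (u⁻¹ * c * u) * u := by rw [← hn, inv_inj.1 h1]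
    _ = c * (u * u) := by group

namespace OneLine

variable {b y τ : G} (l : OneLine t b y τ)
include l

theorem commute_τ (hyp : Hyp S t) (hfull : Cent t ≤ normalizer (zpowers τ : Set G)) {u : G}
    (hu : u ∈ oCore t) (hinv : b * u * b⁻¹ = u⁻¹) : Commute u τ :=
  commute_of_conj_mem ((hyp.odd_oCore t).of_dvd_nat (Subgroup.orderOf_dvd_natCard _ hu)) hinv l.inv_τ
    ((mem_normalizer_iff.1 (hfull (Hyp.oCore_le_cent t hu)) τ).1 (mem_zpowers τ))

/-- Inverted elements move `y` by powers of `τ`. -/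
theorem shift (hyp : Hyp S t) (hk : ProperKnown G) (hM : IsCoatom (Cent t)) (hm : FixModel.{u})
    (hfull : Cent t ≤ normalizer (zpowers τ : Set G)) {u : G} (hu : u ∈ oCore t)
    (hinv : b * u * b⁻¹ = u⁻¹) : ∃ n : ℤ, u * y * u⁻¹ = τ ^ n * y := by
  have huC := Hyp.oCore_le_cent t hu
  have hyO : y ∈ l.one.omega (orderOf y) := ⟨l.mem_y.1, pow_orderOf_eq_one y⟩
  have hoddO : ∀ {g : G}, g ∈ oCore t → Odd (orderOf g) := fun hg =>
    (hyp.odd_oCore t).of_dvd_nat (Subgroup.orderOf_dvd_natCard _ hg)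
  obtain ⟨i, hi, q, hq, hqb, e⟩ := l.decomp hyp (l.conj_mem_omega huC hyO)
  obtain ⟨n, rfl⟩ := mem_zpowers_iff.1 hi
  have hτu : u * τ * u⁻¹ = τ := by rw [(l.commute_τ hyp hfull hu hinv).eq, mul_inv_cancel_right]
  have hyb : b * y * b⁻¹ = y := by
    rw [← (show Commute y b from mem_cent.1 l.mem_y.2).eq, mul_inv_cancel_right]
  have hqb' : b * q * b⁻¹ = q := by rw [← hqb.eq, mul_inv_cancel_right]
  obtain ⟨c, hc⟩ := mem_zpowers_iff.1 ((l.omega_fixed hyp hk hM hm).1 q hq hqb)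
  have e' : u⁻¹ * y * u = τ ^ (-n) * y ^ c := by
    calc u⁻¹ * y * u = b * u * b⁻¹ * (b * y * b⁻¹) * (b * u * b⁻¹)⁻¹ := by rw [hinv, hyb, inv_inv]
      _ = b * (u * y * u⁻¹) * b⁻¹ := by group
      _ = b * (τ ^ n * q) * b⁻¹ := by rw [e]
      _ = b * τ ^ n * b⁻¹ * (b * q * b⁻¹) := by group
      _ = τ ^ (-n) * y ^ c := by rw [hqb', ← conj_zpow, l.inv_τ, inv_zpow, ← zpow_neg, hc]
  have hcy : Commute τ y := l.one.abelian τ l.mem_τ y l.mem_y.1
  have hmain : y = τ ^ (-n + n * c) * y ^ (c * c) := by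
    calc y = u * (u⁻¹ * y * u) * u⁻¹ := by group
      _ = (u * τ * u⁻¹) ^ (-n) * (u * y * u⁻¹) ^ c := by rw [e', conj_zpow, conj_zpow]; group
      _ = τ ^ (-n + n * c) * y ^ (c * c) := by
        rw [hτu, e, ← hc, ((hcy.zpow_zpow n c)).mul_zpow, ← zpow_mul, ← zpow_mul, ← mul_assoc, ← zpow_add]
  have hy1 : y ^ (c * c - 1) = 1 := by
    have h1 : τ ^ (-n + n * c) = (y ^ (c * c - 1))⁻¹ := by
      rw [← zpow_neg, neg_sub, zpow_sub, zpow_one]
      exact eq_mul_inv_of_mul_eq hmain.symm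
    have h2 : y ^ (c * c - 1) ∈ zpowers τ := inv_mem_iff.1 (h1 ▸ zpow_mem (mem_zpowers τ) _)
    obtain ⟨k, hk'⟩ := mem_zpowers_iff.1 h2
    refine CompInverted.eq_one_of_commute_inverted (a := b)
      (hoddO (zpow_mem (fitCore_le_oCore t l.mem_y.1) _)) ?_ ((show Commute y b from mem_cent.1 l.mem_y.2).zpow_left _)
    rw [← hk', ← conj_zpow, l.inv_τ, inv_zpow]
  have hdvd : ((orderOf y : ℕ) : ℤ) ∣ (c - 1) * (c + 1) := by
    rw [show (c - 1) * (c + 1) = c * c - 1 by ring, orderOf_dvd_iff_zpow_eq_one, hy1]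
  rcases (Nat.prime_iff_prime_int.1 l.prime).dvd_or_dvd hdvd with h | h
  · refine ⟨n, ?_⟩
    rw [e, ← hc, ← sub_add_cancel c 1, zpow_add, zpow_one, orderOf_dvd_iff_zpow_eq_one.1 h, one_mul]
  · refine ⟨0, ?_⟩
    have hq' : q = y⁻¹ := by
      rw [← hc, ← add_sub_cancel_right c 1, zpow_sub, zpow_one, orderOf_dvd_iff_zpow_eq_one.1 h, one_mul]
    have h2 : u * u * y * (u * u)⁻¹ = y := by
      calc u * u * y * (u * u)⁻¹ = u * (u * y * u⁻¹) * u⁻¹ := by group
        _ = u * (τ ^ n * y⁻¹) * u⁻¹ := by rw [e, hq']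
        _ = (u * τ * u⁻¹) ^ n * (u * y * u⁻¹)⁻¹ := by rw [conj_zpow]; group
        _ = y := by rw [hτu, e, hq', mul_inv_rev, inv_inv, ← mul_assoc, (hcy.zpow_left n).eq]; group
    have hc' := commute_of_sq (hoddO hu) (mul_inv_eq_iff_eq_mul.1 h2)
    rw [zpow_zero, one_mul, hc'.eq, mul_inv_cancel_right]

/-- The `r`-th power of an inverted element centralises `y`. -/
theorem commute_pow (hyp : Hyp S t) (hk : ProperKnown G) (hM : IsCoatom (Cent t)) (hm : FixModel.{u})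
    (hfull : Cent t ≤ normalizer (zpowers τ : Set G)) {u : G} (hu : u ∈ oCore t)
    (hinv : b * u * b⁻¹ = u⁻¹) : Commute (u ^ orderOf y) y := by
  obtain ⟨n, hn⟩ := l.shift hyp hk hM hm hfull hu hinv
  have hτu : u * τ * u⁻¹ = τ := by rw [(l.commute_τ hyp hfull hu hinv).eq, mul_inv_cancel_right]
  have key : ∀ k : ℕ, u ^ k * y * (u ^ k)⁻¹ = τ ^ (n * k) * y := by
    intro k
    induction k with
    | zero => simp
    | succ k ih =>
      calc u ^ (k + 1) * y * (u ^ (k + 1))⁻¹ = u * (u ^ k * y * (u ^ k)⁻¹) * u⁻¹ := by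
            rw [pow_succ']; group
        _ = (u * τ * u⁻¹) ^ (n * k) * (u * y * u⁻¹) := by rw [ih, conj_zpow]; group
        _ = τ ^ (n * (k + 1 : ℕ)) * y := by
            rw [hτu, hn, ← mul_assoc, ← zpow_add]; push_cast; rw [mul_add, mul_one]
  refine mul_inv_eq_iff_eq_mul.1 ((key _).trans ?_)
  rw [orderOf_dvd_iff_zpow_eq_one.1 (dvd_mul_of_dvd_right (by rw [l.order_τ]) n), one_mul]

end OneLine

/-- Some inverted line is not normalised. -/
theorem CaseOne.false_of_full (hyp : Hyp S t) (hk : ProperKnown G) (hM : IsCoatom (Cent t))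
    (hm : FixModel.{u}) {b : G} (h : CaseOne t b)
    (hfull : ∀ y τ : G, OneLine t b y τ → Cent t ≤ normalizer (zpowers τ : Set G)) : False := by
  have hprime : ∀ {q : G}, q ∈ qFix t b → ∀ s : ℕ, s.Prime → s ∣ orderOf q →
      ∃ q' ∈ qFix t b, orderOf q' = s ∧ (orderOf q').Prime := fun {q} hq s hs hsd =>
    ⟨q ^ (orderOf q / s), pow_mem hq _, orderOf_pow_orderOf_div (orderOf_pos q).ne' hsd,
      (orderOf_pow_orderOf_div (orderOf_pos q).ne' hsd).symm ▸ hs⟩
  obtain ⟨y₀, hy₀, hy₀1⟩ := h.exists_fixed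
  obtain ⟨r₀, hr₀, hr₀d⟩ := Nat.exists_prime_and_dvd (fun e => hy₀1 (orderOf_eq_one_iff.1 e))
  obtain ⟨y, hy, -, hyprime⟩ := hprime hy₀ r₀ hr₀ hr₀d
  obtain ⟨τ, l⟩ := h.exists_oneLine hyp hk hM hm hy hyprime
  obtain ⟨hfix, ⟨x, hx, hxinv, hxN⟩, -⟩ := l.omega_fixed hyp hk hM hm
  have hτN := hfull y τ l
  set r := orderOf y with hr
  haveI := Fact.mk hyprime
  have hxy : ¬ Commute x y := fun e => hxN (mem_normalizer_zpowers_of_commute e)
  have hxC := Hyp.oCore_le_cent t hx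
  have hoddO : ∀ {g : G}, g ∈ oCore t → Odd (orderOf g) := fun hg =>
    (hyp.odd_oCore t).of_dvd_nat (Subgroup.orderOf_dvd_natCard _ hg)
  have hyodd := hoddO (fitCore_le_oCore t hy.1)
  have hr2 : r ≠ 2 := fun e => by rw [← hr, e] at hyodd; exact absurd hyodd (by decide)
  -- `qFix` is an `r`-group
  have honly : ∀ q ∈ qFix t b, (orderOf q).Coprime r → q = 1 := by
    intro q hq hcop
    by_contra hq1
    obtain ⟨s, hs, hsd⟩ := Nat.exists_prime_and_dvd (fun e => hq1 (orderOf_eq_one_iff.1 e))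
    obtain ⟨y', hy', hy's, hy'p⟩ := hprime hq s hs hsd
    have hsr : s.Coprime r := hcop.coprime_dvd_left hsd
    obtain ⟨τ', l'⟩ := h.exists_oneLine hyp hk hM hm hy' hy'p
    have h1 := l'.commute_pow hyp hk hM hm (hfull y' τ' l') hx hxinv
    rw [hy's] at h1
    have h2 : Commute (x ^ s) y :=
      h.comm_fix hyp hk hM hm (pow_mem hx s) (by rw [← conj_pow, hxinv, inv_pow]) hy' l'.ne_y h1 hy
    have h3 : Commute (x ^ r) y := l.commute_pow hyp hk hM hm hτN hx hxinv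
    have hab := Nat.gcd_eq_gcd_ab s r
    rw [hsr.gcd_eq_one, Nat.cast_one] at hab
    refine hxy ?_
    rw [show x = (x ^ s) ^ Nat.gcdA s r * (x ^ r) ^ Nat.gcdB s r by
      rw [← zpow_natCast x s, ← zpow_natCast x r, ← zpow_mul, ← zpow_mul, ← zpow_add, ← hab, zpow_one]]
    exact (h2.zpow_left _).mul_left (h3.zpow_left _)
  -- the `r'`-part of `fitCore t` is inverted and centralised by `x`
  have hbC : b ∈ Cent t := mem_cent.2 h.pair.comm.symm
  have hFn : ∀ {c f : G}, c ∈ Cent t → f ∈ fitCore t → c * f * c⁻¹ ∈ fitCore t := fun hc hf =>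
    (mem_normalizer_iff.1 (cent_le_normalizer_fitCore t hc) _).1 hf
  have hKinv : ∀ f ∈ fitCore t, (orderOf f).Coprime r → b * f * b⁻¹ = f⁻¹ := by
    intro f hf hcop
    have hbf := hFn hbC hf
    have hc := h.abelian f hf _ hbf
    have hq : f * (b * f * b⁻¹) ∈ qFix t b := by
      refine ⟨mul_mem hf hbf, mem_cent.2 (mul_inv_eq_iff_eq_mul.1 ?_).symm⟩
      calc b * (f * (b * f * b⁻¹)) * b⁻¹ = b * f * b⁻¹ * (b * b * f * (b * b)⁻¹) := by group
        _ = f * (b * f * b⁻¹) := by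
          rw [BSW.sq_of_order h.pair.hb]; simp only [one_mul, inv_one, mul_one]; exact hc.symm.eq
    have ho : (orderOf (f * (b * f * b⁻¹))).Coprime r := by
      refine Nat.Coprime.coprime_dvd_left hc.orderOf_mul_dvd_mul_orderOf (Nat.Coprime.mul_left hcop ?_)
      rwa [← MulAut.conj_apply, MulEquiv.orderOf_eq]
    exact eq_inv_of_mul_eq_one_right (honly _ hq ho)
  obtain ⟨T, hTcyc, -, hT⟩ := (h.pin hy l.ne_y l.mem_τ l.ne_τ l.inv_τ).exists_torus hyp hk hM hm
  haveI := hTcyc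
  have hxK : ∀ f ∈ fitCore t, (orderOf f).Coprime r → Commute x f := by
    intro f hf hcop
    have hconj : (orderOf (x * f * x⁻¹)) = orderOf f := by rw [← MulAut.conj_apply, MulEquiv.orderOf_eq]
    have hf' := hFn hxC hf
    let f₁ : T := ⟨f, (hT f).2 ⟨fitCore_le_oCore t hf, h.abelian f hf y hy.1, hKinv f hf hcop⟩⟩
    let f₂ : T := ⟨x * f * x⁻¹, (hT _).2 ⟨fitCore_le_oCore t hf', h.abelian _ hf' y hy.1,
      hKinv _ hf' (by rw [hconj]; exact hcop)⟩⟩
    have he : zpowers f₂ = zpowers f₁ := eq_of_card_eq_of_cyclic (by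
      rw [Nat.card_zpowers, Nat.card_zpowers, orderOf_mk, orderOf_mk, hconj])
    obtain ⟨n, hn⟩ := mem_zpowers_iff.1 (he ▸ mem_zpowers f₂ : f₂ ∈ zpowers f₁)
    exact commute_of_conj_mem (hoddO hx) hxinv (hKinv f hf hcop)
      (mem_zpowers_iff.2 ⟨n, congrArg Subtype.val hn⟩)
  -- the group `N₀`
  let N₀ : Subgroup G :=
    { carrier := {g | g ∈ oCore t ∧ (∀ f ∈ fitCore t, (orderOf f).Coprime r → Commute g f) ∧
        Commute g τ ∧ ∀ z ∈ h.omega r, g * z * g⁻¹ * z⁻¹ ∈ zpowers τ}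
      one_mem' := ⟨one_mem _, fun f _ _ => Commute.one_left f, Commute.one_left τ, fun z _ => by
        simp⟩
      mul_mem' := fun {g g'} ⟨h1, h2, h3, h4⟩ ⟨h1', h2', h3', h4'⟩ => ⟨mul_mem h1 h1',
        fun f hf hc => (h2 f hf hc).mul_left (h2' f hf hc), h3.mul_left h3', fun z hz => by
          obtain ⟨n, hn⟩ := mem_zpowers_iff.1 (h4' z hz)
          rw [show g * g' * z * (g * g')⁻¹ * z⁻¹ =
            g * (g' * z * g'⁻¹ * z⁻¹) * g⁻¹ * (g * z * g⁻¹ * z⁻¹) by group, ← hn, (h3.zpow_right n).eq,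
            mul_inv_cancel_right]
          exact mul_mem (zpow_mem (mem_zpowers τ) n) (h4 z hz)⟩
      inv_mem' := fun {g} ⟨h1, h2, h3, h4⟩ => ⟨inv_mem h1, fun f hf hc => (h2 f hf hc).inv_left,
        h3.inv_left, fun z hz => by
          obtain ⟨n, hn⟩ := mem_zpowers_iff.1 (h4 z hz)
          rw [show g⁻¹ * z * g⁻¹⁻¹ * z⁻¹ = g⁻¹ * (g * z * g⁻¹ * z⁻¹)⁻¹ * g⁻¹⁻¹ by group, ← hn,
            (h3.zpow_right n).inv_left.inv_right.eq, mul_inv_cancel_right]
          exact inv_mem (zpow_mem (mem_zpowers τ) n)⟩ }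
  have hxN₀ : x ∈ N₀ := by
    have hxτ := l.commute_τ hyp hτN hx hxinv
    refine ⟨hx, hxK, hxτ, fun z hz => ?_⟩
    obtain ⟨i, hi, q, hq, hqb, rfl⟩ := l.decomp hyp hz
    obtain ⟨c, rfl⟩ := mem_zpowers_iff.1 (hfix q hq hqb)
    obtain ⟨j, rfl⟩ := mem_zpowers_iff.1 hi
    obtain ⟨n, hn⟩ := l.shift hyp hk hM hm hτN hx hxinv
    have hcy : Commute τ y := h.abelian τ l.mem_τ y hy.1
    have e1 : x * (τ ^ j * y ^ c) * x⁻¹ = τ ^ (j + n * c) * y ^ c := by
      rw [show x * (τ ^ j * y ^ c) * x⁻¹ = x * τ ^ j * x⁻¹ * (x * y ^ c * x⁻¹) by group,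
        ← conj_zpow (a := x) (b := y), hn, (hxτ.zpow_right j).eq, mul_inv_cancel_right,
        (hcy.zpow_left n).mul_zpow, ← zpow_mul, zpow_add, mul_assoc]
    rw [e1, mul_inv_rev, show τ ^ (j + n * c) * y ^ c * ((y ^ c)⁻¹ * (τ ^ j)⁻¹) =
      τ ^ (j + n * c) * (τ ^ j)⁻¹ by group]
    exact mul_mem (zpow_mem (mem_zpowers τ) _) (inv_mem (zpow_mem (mem_zpowers τ) _))
  have hN₀n : ∀ o ∈ oCore t, ∀ g ∈ N₀, o * g * o⁻¹ ∈ N₀ := by
    rintro o ho g ⟨h1, h2, h3, h4⟩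
    have hoC := Hyp.oCore_le_cent t ho
    have hoC' : o⁻¹ ∈ Cent t := inv_mem hoC
    have key : ∀ f : G, Commute g (o⁻¹ * f * o) → Commute (o * g * o⁻¹) f := fun f hf => by
      have := hf.map (MulAut.conj o)
      rwa [MulAut.conj_apply, MulAut.conj_apply, show o * (o⁻¹ * f * o) * o⁻¹ = f by group] at this
    refine ⟨mul_mem (mul_mem ho h1) (inv_mem ho), fun f hf hc => key f ?_, key τ ?_, fun z hz => ?_⟩
    · have := h2 (o⁻¹ * f * o⁻¹⁻¹) (hFn hoC' hf) (by rwa [← MulAut.conj_apply, MulEquiv.orderOf_eq])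
      rwa [inv_inv] at this
    · have hτ' := (mem_normalizer_iff.1 (hτN hoC') τ).1 (mem_zpowers τ)
      obtain ⟨n, hn⟩ := mem_zpowers_iff.1 hτ'
      rw [show o⁻¹ * τ * o = τ ^ n by rw [hn, inv_inv]]
      exact h3.zpow_right n
    · have h5 := h4 (o⁻¹ * z * o⁻¹⁻¹) (l.conj_mem_omega hoC' hz)
      have h6 := (mem_normalizer_iff.1 (hτN hoC) _).1 h5
      rwa [show o * (g * (o⁻¹ * z * o⁻¹⁻¹) * g⁻¹ * (o⁻¹ * z * o⁻¹⁻¹)⁻¹) * o⁻¹ =
        o * g * o⁻¹ * z * (o * g * o⁻¹)⁻¹ * z⁻¹ by group] at h6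
  -- its `r'`-elements lie in `fitCore t`
  haveI hOs : Group.IsSolvable (oCore t) := Cfsg.Agent.S0205.result (hyp.odd_oCore t)
  have hP : ∀ g ∈ N₀, (orderOf g).Coprime r → g ∈ fitCore t := by
    rintro g ⟨h1, h2, h3, h4⟩ hcop
    have htriv : ∀ z ∈ h.omega r, Commute g z := by
      intro z hz
      obtain ⟨n, hn⟩ := mem_zpowers_iff.1 (h4 z hz)
      have hτg : g * τ * g⁻¹ = τ := by rw [h3.eq, mul_inv_cancel_right]
      have key : ∀ k : ℕ, g ^ k * z * (g ^ k)⁻¹ = τ ^ (n * k) * z := by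
        intro k
        induction k with
        | zero => simp
        | succ k ih =>
          calc g ^ (k + 1) * z * (g ^ (k + 1))⁻¹ = g * (g ^ k * z * (g ^ k)⁻¹) * g⁻¹ := by
                rw [pow_succ']; group
            _ = (g * τ * g⁻¹) ^ (n * k) * (g * z * g⁻¹ * z⁻¹) * z := by rw [ih, conj_zpow]; group
            _ = τ ^ (n * (k + 1 : ℕ)) * z := by
                rw [hτg, ← hn, ← zpow_add]; push_cast; rw [mul_add, mul_one]
      have h5 := key (orderOf g)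
      rw [pow_orderOf_eq_one, one_mul, inv_one, mul_one] at h5
      have h6 : ((r : ℕ) : ℤ) ∣ n * (orderOf g : ℕ) := by
        rw [show r = orderOf τ from l.order_τ.symm, orderOf_dvd_iff_zpow_eq_one]
        exact right_eq_mul.1 h5
      have h7 : (r : ℤ) ∣ n := (Int.isCoprime_iff_gcd_eq_one.2 (by
        rw [Int.gcd_natCast_natCast]; exact hcop.symm.gcd_eq_one)).dvd_of_dvd_mul_right h6
      have h8 : g * z * g⁻¹ * z⁻¹ = 1 := by
        rw [← hn]; exact orderOf_dvd_iff_zpow_eq_one.1 (by rw [l.order_τ]; exact h7)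
      exact mul_inv_eq_iff_eq_mul.1 (mul_inv_eq_one.1 h8)
    have hcoreF : coreP r (oCore t) ≤ fitCore t := map_mono (Components.pCore_le_fittingSubgroup hyprime)
    have hVn : zpowers g ≤ normalizer (coreP r (oCore t) : Set G) :=
      zpowers_le.2 (cent_le_normalizer_coreP r t (Hyp.oCore_le_cent t h1))
    have hcent := Coprime.le_centralizer_of_fix_omega hr2 (coreP r (oCore t)) ⊥ (zpowers g)
      (isPGroup_coreP r _) IsPGroup.of_bot (by rw [Nat.card_zpowers]; exact hcop) bot_le hVn bot_le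
      fun z hz hzr => mem_centralizer_iff.2 fun g' hg' => by
        obtain ⟨i, rfl⟩ := mem_zpowers_iff.1 hg'
        exact ((htriv z ⟨hcoreF hz.1, hzr⟩).zpow_left i).eq
    have hgF : ∀ f ∈ fitCore t, Commute g f := by
      intro f hf
      obtain ⟨k, m, hm', hfo⟩ := Nat.exists_eq_pow_mul_and_not_dvd (orderOf_pos f).ne' r hyprime.ne_one
      refine commute_of_parts hyprime hm' hfo ?_ (h2 _ (pow_mem hf _) ?_)
      · exact (mem_centralizer_iff.1 (hcent (mem_zpowers g)) _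
          (mem_coreP_of_pow (k := k) (pow_mem hf m) (by
            rw [← pow_mul, mul_comm, ← hfo, pow_orderOf_eq_one]))).symm
      · refine Nat.Coprime.coprime_dvd_left ?_ (hyprime.coprime_iff_not_dvd.2 hm').symm
        exact orderOf_dvd_of_pow_eq_one (by rw [← pow_mul, ← hfo, pow_orderOf_eq_one])
    refine ⟨⟨g, h1⟩, Components.centralizer_fittingSubgroup_le (mem_centralizer_iff.2 fun f hf => ?_), rfl⟩
    exact Subtype.ext (hgF f (mem_map_of_mem _ hf)).eq.symm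
  -- `N₀` is nilpotent
  have hN₀O : N₀ ≤ oCore t := fun g hg => hg.1
  haveI hnil : Group.IsNilpotent N₀ := by
    refine Group.of_quotient_center_nilpotent (IsPGroup.isNilpotent (p := r) ?_)
    intro q
    obtain ⟨g, rfl⟩ := QuotientGroup.mk'_surjective (center N₀) q
    obtain ⟨k, m, hm', hgo⟩ := Nat.exists_eq_pow_mul_and_not_dvd (orderOf_pos g).ne' r hyprime.ne_one
    refine ⟨k, ?_⟩
    rw [← map_pow]
    refine (QuotientGroup.eq_one_iff _).2 (mem_center_iff.2 fun g' => Subtype.ext ?_)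
    have hcop : (orderOf ((g : G) ^ r ^ k)).Coprime r := by
      refine Nat.Coprime.coprime_dvd_left ?_ (hyprime.coprime_iff_not_dvd.2 hm').symm
      exact orderOf_dvd_of_pow_eq_one (by
        rw [← pow_mul, ← hgo, ← Subgroup.coe_pow, pow_orderOf_eq_one, Subgroup.coe_one])
    exact (g'.2.2.1 _ (hP _ (pow_mem g.2 _) hcop) hcop).eq
  have hxF : x ∈ fitCore t := by
    haveI : Group.IsNilpotent (N₀.subgroupOf (oCore t)) :=
      Group.nilpotent_of_mulEquiv (subgroupOfEquivOfLe hN₀O).symm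
    exact ⟨⟨x, hx⟩, Components.le_fittingSubgroup
      (N := N₀.subgroupOf (oCore t)) ⟨fun g hg o => hN₀n o o.2 g hg⟩ hxN₀, rfl⟩
  exact hxy (h.abelian x hxF y hy.1)

end Cfsg.Agent.GW
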