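import Cfsg.Agent.Lib.GW.PartII.CompEvery
import Cfsg.Agent.Lib.GW.PartII.CompOneFull
import Cfsg.Agent.Lib.GW.PartII.CompPlane
import Cfsg.Agent.Lib.Coprime.FixedForce
import Cfsg.Agent.Lib.PGroup.UniqueOrderP

/-!
# The component configuration with inverted centre: a normalised plane

If `Cent t` normalises `⟨y, τ⟩` for a fixed point `y` of order `r = orderOf τ`, then `oCore t` is
nilpotent, the fixed points of `b` are cyclic and `⟨y⟩` has exactly `r` conjugates under `Cent t`: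
`Central.heis_of_line`.
-/

set_option autoImplicit false
set_option linter.unusedSectionVars false
set_option linter.style.haveILetI false

namespace Cfsg.Agent.GW

open Subgroup Cfsg.Agent.S1856 Cfsg.Agent.S1312 Cfsg.Agent.GW.CompLocal
open BSW (sq_of_order mem_cent)
open scoped commutatorElement

universe u

variable {G : Type u} [Group G] [Finite G] {S : Sylow 2 G} {t : G}

/-- A point `y` of order `orderOf τ` spanning with `τ` a plane normalised by `Cent t`. -/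
structure CentralLine (S : Sylow 2 G) (t b y τ : G) : Prop where
  hyp : Hyp S t
  central : Central t τ
  hb : orderOf b = 2
  hne : b ≠ t
  hbt : Commute b t
  hy : y ∈ qFix t b
  hord : orderOf y = orderOf τ
  norm : Cent t ≤ normalizer ((zpowers y ⊔ zpowers τ : Subgroup G) : Set G)

namespace CentralLine

variable {b y τ : G} (l : CentralLine S t b y τ)
include l

theorem y_ne : y ≠ 1 := fun e => l.central.prime.ne_one (by rw [← l.hord, e, orderOf_one])

theorem pin : Pin t b y τ := l.central.pin l.hyp l.hb l.hne l.hbt l.hy l.y_ne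

theorem pair : Pair t b := l.pin.pair

theorem fix_y : b * y * b⁻¹ = y := by
  rw [← (show Commute y b from mem_cent.1 l.hy.2).eq, mul_inv_cancel_right]

theorem inv_τ : b * τ * b⁻¹ = τ⁻¹ := l.pin.inv_τ

theorem comm_zpow (i j : ℤ) : Commute (τ ^ i) (y ^ j) := l.pin.comm.zpow_zpow i j

theorem oddO {g : G} (hg : g ∈ oCore t) : Odd (orderOf g) :=
  (l.hyp.odd_oCore t).of_dvd_nat (Subgroup.orderOf_dvd_natCard _ hg)

/-- The exponents of `τ ^ i * y ^ j` are determined modulo the order. -/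
theorem eq_one_of_mul {i j : ℤ} (h : τ ^ i * y ^ j = 1) : τ ^ i = 1 ∧ y ^ j = 1 := by
  have h1 : b * (τ ^ i * y ^ j) * b⁻¹ = τ ^ (-i) * y ^ j := by
    rw [show b * (τ ^ i * y ^ j) * b⁻¹ = b * τ ^ i * b⁻¹ * (b * y ^ j * b⁻¹) by group, ← conj_zpow,
      ← conj_zpow, l.inv_τ, l.fix_y, inv_zpow, ← zpow_neg]
  rw [h, mul_one, mul_inv_cancel] at h1
  have h2 : τ ^ i * τ ^ i = 1 := by
    have h3 : τ ^ i = τ ^ (-i) := mul_right_cancel (h.trans h1)
    calc τ ^ i * τ ^ i = τ ^ i * τ ^ (-i) := by rw [← h3]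
      _ = 1 := by rw [zpow_neg, mul_inv_cancel]
  have h3 : orderOf (τ ^ i) ∣ 2 := orderOf_dvd_of_pow_eq_one (by rw [pow_two]; exact h2)
  have h4 := l.oddO (zpow_mem l.pin.mem_τ i)
  have h5 : τ ^ i = 1 := orderOf_eq_one_iff.1
    (Nat.eq_one_of_dvd_coprimes (Nat.coprime_two_right.2 h4) dvd_rfl h3)
  exact ⟨h5, by rwa [h5, one_mul] at h⟩

theorem dvd_of_mul {i j : ℤ} (h : τ ^ i * y ^ j = 1) :
    (orderOf τ : ℤ) ∣ i ∧ (orderOf τ : ℤ) ∣ j :=
  ⟨orderOf_dvd_iff_zpow_eq_one.2 (l.eq_one_of_mul h).1,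
    l.hord ▸ orderOf_dvd_iff_zpow_eq_one.2 (l.eq_one_of_mul h).2⟩

theorem dvd_sub {i i' j j' : ℤ} (h : τ ^ i * y ^ j = τ ^ i' * y ^ j') :
    (orderOf τ : ℤ) ∣ i - i' ∧ (orderOf τ : ℤ) ∣ j - j' := by
  refine l.dvd_of_mul ?_
  calc τ ^ (i - i') * y ^ (j - j') = τ ^ (-i') * (τ ^ i * y ^ j) * y ^ (-j') := by
        rw [show i - i' = -i' + i by ring, show j - j' = j + -j' by ring, zpow_add, zpow_add]; group
    _ = 1 := by rw [h]; group

/-- The elements of the plane. -/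
theorem mem_plane {g : G} (hg : g ∈ zpowers y ⊔ zpowers τ) : ∃ i j : ℤ, g = τ ^ i * y ^ j := by
  let L : Subgroup G :=
    { carrier := {g | ∃ i j : ℤ, g = τ ^ i * y ^ j}
      one_mem' := ⟨0, 0, by simp⟩
      mul_mem' := fun {g g'} ⟨i, j, hg⟩ ⟨i', j', hg'⟩ => ⟨i + i', j + j', by
        rw [hg, hg', zpow_add, zpow_add,
          show τ ^ i * y ^ j * (τ ^ i' * y ^ j') = τ ^ i * (y ^ j * τ ^ i') * y ^ j' by group,
          ← (l.comm_zpow i' j).eq]
        group⟩
      inv_mem' := fun {g} ⟨i, j, hg⟩ => ⟨-i, -j, by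
        rw [hg, (l.comm_zpow i j).eq, mul_inv_rev, zpow_neg, zpow_neg]⟩ }
  have hle : zpowers y ⊔ zpowers τ ≤ L :=
    sup_le (zpowers_le.2 ⟨0, 1, by simp⟩) (zpowers_le.2 ⟨1, 0, by simp⟩)
  exact hle hg

/-- Conjugates of `y` under `Cent t`. -/
theorem exists_conj {c : G} (hc : c ∈ Cent t) : ∃ i j : ℤ, c * y * c⁻¹ = τ ^ i * y ^ j :=
  l.mem_plane ((mem_normalizer_iff.1 (l.norm hc) y).1 (mem_sup_left (mem_zpowers y)))

/-- `Cent t` normalises `⟨τ⟩`, the central part of the plane. -/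
theorem conj_τ {c : G} (hc : c ∈ Cent t) : ∃ k : ℤ, c * τ * c⁻¹ = τ ^ k := by
  obtain ⟨i, j, h⟩ := l.mem_plane ((mem_normalizer_iff.1 (l.norm hc) τ).1 (mem_sup_right (mem_zpowers τ)))
  refine ⟨i, ?_⟩
  suffices hj : y ^ j = 1 by rw [h, hj, mul_one]
  refine l.central.fixed_center b l.hb l.hne l.hbt _ (zpow_mem l.hy _) fun g hg => ?_
  have hgO := fitCore_le_oCore t hg
  have hcg : c⁻¹ * g * c⁻¹⁻¹ ∈ oCore t :=
    (mem_normalizer_iff.1 (Hyp.cent_le_normalizer t (inv_mem hc)) g).1 hgO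
  have h2 := ((l.central.comm _ hcg).map (MulAut.conj c)).symm
  rw [MulAut.conj_apply, MulAut.conj_apply, h, show c * (c⁻¹ * g * c⁻¹⁻¹) * c⁻¹ = g by group] at h2
  have h3 := (((l.central.comm g hgO).zpow_right i).symm).inv_left.mul_left h2
  rwa [inv_mul_cancel_left] at h3

/-- The conjugates of `⟨y⟩` under `Cent t` meet `⟨τ⟩` trivially. -/
theorem exists_conj_ne {c : G} (hc : c ∈ Cent t) :
    ∃ i j : ℤ, c * y * c⁻¹ = τ ^ i * y ^ j ∧ ¬ (orderOf τ : ℤ) ∣ j := by
  obtain ⟨i, j, h⟩ := l.exists_conj hc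
  refine ⟨i, j, h, fun hj => ?_⟩
  rw [← l.hord, orderOf_dvd_iff_zpow_eq_one] at hj
  rw [hj, mul_one] at h
  refine l.y_ne (l.central.fixed_center b l.hb l.hne l.hbt y l.hy fun g hg => ?_)
  have hcg : c * g * c⁻¹ ∈ oCore t :=
    (mem_normalizer_iff.1 (Hyp.cent_le_normalizer t hc) g).1 (fitCore_le_oCore t hg)
  have h1 := ((l.central.comm _ hcg).zpow_right i).symm
  rw [← h] at h1
  have h2 := h1.map (MulAut.conj c⁻¹)
  rwa [MulAut.conj_apply, MulAut.conj_apply, show c⁻¹ * (c * y * c⁻¹) * c⁻¹⁻¹ = y by group,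
    show c⁻¹ * (c * g * c⁻¹) * c⁻¹⁻¹ = g by group] at h2

theorem comm_τ {o : G} (ho : o ∈ oCore t) (i : ℤ) : o * τ ^ i * o⁻¹ = τ ^ i := by
  rw [((l.central.comm o ho).zpow_right i).eq, mul_inv_cancel_right]

/-- Some element of `oCore t` moves `y`. -/
theorem exists_move : ∃ o ∈ oCore t, ¬ Commute o y := by
  by_contra hno
  push Not at hno
  exact l.y_ne (l.central.fixed_center b l.hb l.hne l.hbt y l.hy fun f hf =>
    (hno f (fitCore_le_oCore t hf)).symm)

/-- `oCore t` fixes `y` modulo `⟨τ⟩`. -/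
theorem exists_shift {o : G} (ho : o ∈ oCore t) : ∃ n : ℤ, o * y * o⁻¹ = τ ^ n * y := by
  classical
  set r := orderOf τ with hr
  haveI : Fact r.Prime := ⟨l.central.prime⟩
  have hex : ∀ v : oCore t, ∃ k : ℤ, ∃ i : ℤ, (v : G) * y * (v : G)⁻¹ = τ ^ i * y ^ k := fun v => by
    obtain ⟨i, j, h⟩ := l.exists_conj (Hyp.oCore_le_cent t v.2)
    exact ⟨j, i, h⟩
  choose k i hki using hex
  have huniq : ∀ (v : oCore t) (i' k' : ℤ), (v : G) * y * (v : G)⁻¹ = τ ^ i' * y ^ k' →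
      (k v : ZMod r) = k' := fun v i' k' h => by
    rw [ZMod.intCast_eq_intCast_iff_dvd_sub]
    exact dvd_sub_comm.1 (l.dvd_sub ((hki v).symm.trans h)).2
  let f : oCore t →* ZMod r :=
    { toFun := fun v => (k v : ZMod r)
      map_one' := by rw [huniq 1 0 1 (by simp), Int.cast_one]
      map_mul' := fun v w => by
        show (k (v * w) : ZMod r) = (k v : ZMod r) * (k w : ZMod r)
        rw [← Int.cast_mul]
        refine huniq _ (i w + i v * k w) _ ?_
        calc ((v * w : oCore t) : G) * y * ((v * w : oCore t) : G)⁻¹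
            = (v : G) * ((w : G) * y * (w : G)⁻¹) * (v : G)⁻¹ := by rw [Subgroup.coe_mul]; group
          _ = (v : G) * τ ^ i w * (v : G)⁻¹ * ((v : G) * y * (v : G)⁻¹) ^ k w := by
              rw [hki w, conj_zpow]; group
          _ = τ ^ (i w + i v * k w) * y ^ (k v * k w) := by
              rw [l.comm_τ v.2, hki v, (l.comm_zpow (i v) (k v)).mul_zpow, ← zpow_mul, ← zpow_mul,
                ← mul_assoc, ← zpow_add] }
  have hθ : f.toHomUnits = 1 := no_char l.hyp l.central.cycle f.toHomUnits fun c hc v w hw => by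
    refine Units.ext ?_
    show (k w : ZMod r) = (k v : ZMod r)
    obtain ⟨p, q, hcy, hq'⟩ := l.exists_conj_ne hc
    have hq : (q : ZMod r) ≠ 0 := by rwa [Ne, ZMod.intCast_zmod_eq_zero_iff_dvd]
    obtain ⟨p', hp'⟩ : ∃ p' : ℤ, c * τ ^ i v * c⁻¹ = τ ^ p' := by
      obtain ⟨z, hz⟩ := l.conj_τ hc
      exact ⟨z * i v, by rw [← conj_zpow, hz, ← zpow_mul]⟩
    have e1 : (w : G) * (c * y * c⁻¹) * (w : G)⁻¹ = τ ^ (p + i w * q) * y ^ (k w * q) := by
      calc (w : G) * (c * y * c⁻¹) * (w : G)⁻¹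
          = (w : G) * τ ^ p * (w : G)⁻¹ * ((w : G) * y * (w : G)⁻¹) ^ q := by rw [hcy, conj_zpow]; group
        _ = τ ^ (p + i w * q) * y ^ (k w * q) := by
            rw [l.comm_τ w.2, hki w, (l.comm_zpow (i w) (k w)).mul_zpow, ← zpow_mul, ← zpow_mul,
              ← mul_assoc, ← zpow_add]
    have e2 : (w : G) * (c * y * c⁻¹) * (w : G)⁻¹ = τ ^ (p' + p * k v) * y ^ (q * k v) := by
      calc (w : G) * (c * y * c⁻¹) * (w : G)⁻¹ = c * ((v : G) * y * (v : G)⁻¹) * c⁻¹ := by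
            rw [hw]; group
        _ = c * τ ^ i v * c⁻¹ * (c * y * c⁻¹) ^ k v := by rw [hki v, conj_zpow]; group
        _ = τ ^ (p' + p * k v) * y ^ (q * k v) := by
            rw [hp', hcy, (l.comm_zpow p q).mul_zpow, ← zpow_mul, ← zpow_mul, ← mul_assoc, ← zpow_add]
    have h := (l.dvd_sub (e1.symm.trans e2)).2
    rw [← hr, ← ZMod.intCast_zmod_eq_zero_iff_dvd, Int.cast_sub, Int.cast_mul, Int.cast_mul, sub_eq_zero,
      mul_comm (q : ZMod r)] at h
    exact mul_right_cancel₀ hq h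
  have h1 : (k ⟨o, ho⟩ : ZMod r) = ((1 : ℤ) : ZMod r) := by
    have := congrArg (fun φ : oCore t →* (ZMod r)ˣ => ((φ ⟨o, ho⟩ : (ZMod r)ˣ) : ZMod r)) hθ
    rw [Int.cast_one]
    exact this
  rw [ZMod.intCast_eq_intCast_iff_dvd_sub, hr, ← l.hord, orderOf_dvd_iff_zpow_eq_one, zpow_sub] at h1
  refine ⟨i ⟨o, ho⟩, (hki ⟨o, ho⟩).trans ?_⟩
  rw [← mul_inv_eq_one.1 h1, zpow_one]

theorem shift_pow {o : G} (ho : o ∈ oCore t) {n : ℤ} (h : o * y * o⁻¹ = τ ^ n * y) :
    ∀ m : ℕ, o ^ m * y * (o ^ m)⁻¹ = τ ^ (n * m) * y := by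
  intro m
  induction m with
  | zero => simp
  | succ m ih =>
    calc o ^ (m + 1) * y * (o ^ (m + 1))⁻¹ = o * (o ^ m * y * (o ^ m)⁻¹) * o⁻¹ := by
          rw [pow_succ']; group
      _ = o * τ ^ (n * m) * o⁻¹ * (o * y * o⁻¹) := by rw [ih]; group
      _ = τ ^ (n * (m + 1 : ℕ)) * y := by
          rw [l.comm_τ ho, h, ← mul_assoc, ← zpow_add]; push_cast; rw [mul_add, mul_one]

/-- The elements of `oCore t` of order prime to `r` centralise `y`. -/
theorem commute_of_coprime {g : G} (hg : g ∈ oCore t) (hc : (orderOf g).Coprime (orderOf τ)) :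
    Commute g y := by
  obtain ⟨n, hn⟩ := l.exists_shift hg
  have h1 := l.shift_pow hg hn (orderOf g)
  rw [pow_orderOf_eq_one, one_mul, inv_one, mul_one] at h1
  have h2 : (orderOf τ : ℤ) ∣ n * (orderOf g : ℕ) :=
    orderOf_dvd_iff_zpow_eq_one.2 (right_eq_mul.1 h1)
  have h3 : (orderOf τ : ℤ) ∣ n := (Int.isCoprime_iff_gcd_eq_one.2 (by
    rw [Int.gcd_natCast_natCast]; exact hc.symm.gcd_eq_one)).dvd_of_dvd_mul_right h2
  refine mul_inv_eq_iff_eq_mul.1 ?_
  rw [hn, orderOf_dvd_iff_zpow_eq_one.1 h3, one_mul]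

/-- The fixed points of `b` centralise `y`. -/
theorem comm_dFix {d : G} (hd : d ∈ dFix t b) : Commute d y := by
  obtain ⟨n, hn⟩ := l.exists_shift hd.1
  have hdb : b * d * b⁻¹ = d := by
    rw [← (show Commute d b from mem_cent.1 hd.2).eq, mul_inv_cancel_right]
  have h1 : τ ^ n * y ^ (1 : ℤ) = τ ^ (-n) * y ^ (1 : ℤ) := by
    rw [zpow_one, ← hn]
    calc d * y * d⁻¹ = b * d * b⁻¹ * (b * y * b⁻¹) * (b * d * b⁻¹)⁻¹ := by rw [hdb, l.fix_y]
      _ = b * (τ ^ n * y) * b⁻¹ := by rw [← hn]; group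
      _ = τ ^ (-n) * y := by
          rw [show b * (τ ^ n * y) * b⁻¹ = b * τ ^ n * b⁻¹ * (b * y * b⁻¹) by group, ← conj_zpow,
            l.inv_τ, l.fix_y, inv_zpow, ← zpow_neg]
  have h2 := (l.dvd_sub h1).1
  rw [sub_neg_eq_add, ← two_mul] at h2
  have hr : (Int.gcd (orderOf τ) 2) = 1 := by
    rw [show ((2 : ℤ)) = ((2 : ℕ) : ℤ) by norm_num, Int.gcd_natCast_natCast]
    exact Nat.coprime_two_right.2 (l.oddO l.pin.mem_τ)
  refine mul_inv_eq_iff_eq_mul.1 ?_
  rw [hn, orderOf_dvd_iff_zpow_eq_one.1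
    ((Int.isCoprime_iff_gcd_eq_one.2 hr).dvd_of_dvd_mul_left h2), one_mul]

/-- An element inverted by `b` moving `y` to `y * τ`. -/
theorem exists_inverted_shift : ∃ o ∈ oCore t, b * o * b⁻¹ = o⁻¹ ∧ o * y * o⁻¹ = y * τ := by
  obtain ⟨o, ho, hoy⟩ := l.exists_move
  obtain ⟨i, hi, q, hq, rfl, hinv, hqb⟩ := exists_inverted_mul_fixed l.hb (l.hyp.odd_oCore t)
    (Hyp.cent_le_normalizer t (mem_cent.2 l.hbt.eq)) ho
  have hqy := l.comm_dFix (d := q) ⟨hq, mem_cent.2 hqb.eq⟩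
  have hiy : ¬ Commute i y := fun e => hoy (e.mul_left hqy)
  obtain ⟨n, hn⟩ := l.exists_shift hi
  haveI : Fact (orderOf τ).Prime := ⟨l.central.prime⟩
  have hn0 : (n : ZMod (orderOf τ)) ≠ 0 := fun h0 => hiy (by
    rw [ZMod.intCast_zmod_eq_zero_iff_dvd, orderOf_dvd_iff_zpow_eq_one] at h0
    exact mul_inv_eq_iff_eq_mul.1 (by rw [hn, h0, one_mul]))
  set m : ℕ := ((n : ZMod (orderOf τ))⁻¹).val with hm
  refine ⟨i ^ m, pow_mem hi m, by rw [← conj_pow, hinv, inv_pow], ?_⟩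
  rw [l.shift_pow hi hn m]
  have : τ ^ (n * m) = τ ^ (1 : ℤ) := by
    rw [zpow_eq_zpow_iff_modEq, ← ZMod.intCast_eq_intCast_iff, Int.cast_mul, Int.cast_natCast, hm,
      ZMod.natCast_zmod_val, mul_inv_cancel₀ hn0, Int.cast_one]
  rw [this, zpow_one]
  exact l.pin.comm.eq

theorem zpowers_conj (c : G) :
    (zpowers y).map (MulAut.conj c).toMonoidHom = zpowers (c * y * c⁻¹) := by
  rw [MonoidHom.map_zpowers]; rfl

/-- The torus at `y` and the decomposition of `oCore t ⊓ Cent y`. -/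
theorem exists_torus_split (hk : ProperKnown G) (hM : IsCoatom (Cent t)) (hm : FixModel.{u}) :
    ∃ T : Subgroup G, IsCyclic T ∧
      (∀ x, x ∈ T ↔ (x ∈ oCore t ∧ Commute x y ∧ b * x * b⁻¹ = x⁻¹)) ∧
      (∀ q ∈ qFix t b, ∀ i ∈ T, Commute q i) ∧
      ∀ f ∈ fitCore t, Commute f y → ∃ i ∈ T, ∃ q ∈ qFix t b, i ∈ fitCore t ∧ f = i * q := by
  obtain ⟨T, hT, hTL, hiff⟩ := l.pin.exists_torus l.hyp hk hM hm
  refine ⟨T, hT, hiff, fun q hq i hi => l.pin.commute_layer l.hyp hk hM hm hq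
    (l.comm_dFix (qFix_le_dFix t b hq)) i (hTL hi), fun f hf hfy => ?_⟩
  have hbC : b ∈ Cent t := mem_cent.2 l.hbt.eq
  have hby : Commute b y := (mem_cent.1 l.hy.2).symm
  obtain ⟨i, hi, q, hq, e, hinv, hqb⟩ := exists_inverted_mul_fixed l.hb
    (K := fitCore t ⊓ Cent y)
    ((l.hyp.odd_oCore t).of_dvd_nat (card_dvd_of_le (inf_le_left.trans (fitCore_le_oCore t))))
    (inf_normalizer_le_normalizer_inf ⟨cent_le_normalizer_fitCore t hbC,
      le_normalizer (mem_cent.2 hby.eq)⟩)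
    (show f ∈ fitCore t ⊓ Cent y from ⟨hf, mem_cent.2 hfy.eq⟩)
  exact ⟨i, (hiff i).2 ⟨fitCore_le_oCore t hi.1, mem_cent.1 hi.2, hinv⟩, q,
    ⟨hq.1, mem_cent.2 hqb.eq⟩, hi.1, e⟩

/-- An element of order dividing `r` of the torus is a power of `τ`. -/
theorem mem_zpowers_τ {T : Subgroup G} [IsCyclic T]
    (hiff : ∀ x, x ∈ T ↔ (x ∈ oCore t ∧ Commute x y ∧ b * x * b⁻¹ = x⁻¹)) {i : G} (hi : i ∈ T)
    (hir : i ^ orderOf τ = 1) : i ∈ zpowers τ := by
  rcases eq_or_ne i 1 with rfl | hi1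
  · exact one_mem _
  haveI : Fact (orderOf τ).Prime := ⟨l.central.prime⟩
  let τ' : T := ⟨τ, (hiff τ).2 ⟨l.pin.mem_τ, l.pin.comm, l.inv_τ⟩⟩
  let i' : T := ⟨i, hi⟩
  have he : zpowers i' = zpowers τ' := eq_of_card_eq_of_cyclic (by
    rw [Nat.card_zpowers, Nat.card_zpowers, orderOf_mk, orderOf_mk, orderOf_eq_prime hir hi1])
  obtain ⟨n, hn⟩ := mem_zpowers_iff.1 (show i' ∈ zpowers τ' from he ▸ mem_zpowers i')
  exact mem_zpowers_iff.2 ⟨n, congrArg Subtype.val hn⟩

/-- The fixed points are abelian. -/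
theorem abelian (hk : ProperKnown G) (hM : IsCoatom (Cent t)) (hm : FixModel.{u}) :
    ∀ q ∈ qFix t b, ∀ q' ∈ qFix t b, Commute q q' := by
  obtain ⟨T, hT, hiff, hQT, hdec⟩ := l.exists_torus_split hk hM hm
  letI := hT.commGroup
  set B : Subgroup G := fitCore t ⊓ Cent y with hB
  have hmul : ∀ q ∈ qFix t b, q ∈ B := fun q hq =>
    ⟨hq.1, mem_cent.2 (l.comm_dFix (qFix_le_dFix t b hq)).eq⟩
  have hD : ⁅B, B⁆ ≤ qFix t b := by
    refine commutator_le.2 fun f hf f' hf' => ?_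
    obtain ⟨i, hi, q, hq, -, rfl⟩ := hdec f hf.1 (mem_cent.1 hf.2)
    obtain ⟨i', hi', q', hq', -, rfl⟩ := hdec f' hf'.1 (mem_cent.1 hf'.2)
    have cii : Commute i i' := congrArg Subtype.val (mul_comm (⟨i, hi⟩ : T) ⟨i', hi'⟩)
    have hm' : ⁅q, q'⁆ ∈ qFix t b := by
      rw [commutatorElement_def]
      exact mul_mem (mul_mem (mul_mem hq hq') (inv_mem hq)) (inv_mem hq')
    have c1 : Commute i (q * (i' * q') * q⁻¹) :=
      ((hQT q hq i hi).symm.mul_right (cii.mul_right (hQT q' hq' i hi).symm)).mul_right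
        (hQT q hq i hi).symm.inv_right
    have key : ⁅i * q, i' * q'⁆ = ⁅q, q'⁆ := by
      calc ⁅i * q, i' * q'⁆ = i * (q * (i' * q') * q⁻¹) * i⁻¹ * (i' * q')⁻¹ := by
            rw [commutatorElement_def]; group
        _ = q * i' * q' * q⁻¹ * (q'⁻¹ * i'⁻¹) := by rw [c1.eq]; group
        _ = i' * ⁅q, q'⁆ * i'⁻¹ := by
            rw [(hQT q hq i' hi').eq, commutatorElement_def]; group
        _ = ⁅q, q'⁆ := by rw [← (hQT _ hm' i' hi').eq, mul_inv_cancel_right]
    rw [key]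
    exact hm'
  have hn : Cent t ≤ normalizer ((⁅B, B⁆ : Subgroup G) : Set G) := fun c hc => by
    have hBn : B.map (MulAut.conj c).toMonoidHom = B := by
      refine Subgroup.eq_of_le_of_card_ge ?_ (card_map_of_injective (MulEquiv.injective _)).ge
      rintro _ ⟨f, ⟨hf, hfy⟩, rfl⟩
      refine ⟨(mem_normalizer_iff.1 (cent_le_normalizer_fitCore t hc) f).1 hf, mem_cent.2 ?_⟩
      -- `c y c⁻¹` generates with `τ` the same plane
      obtain ⟨i, j, e, hj⟩ := l.exists_conj_ne hc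
      have h1 : Commute (c * f * c⁻¹) (τ ^ i * y ^ j) := by
        rw [← e, ← MulAut.conj_apply, ← MulAut.conj_apply]
        exact (show Commute f y from mem_cent.1 hfy).map (MulAut.conj c)
      have h2 : Commute (c * f * c⁻¹) (y ^ j) := by
        have h3 := (((l.central.comm (c * f * c⁻¹) ((mem_normalizer_iff.1
          (Hyp.cent_le_normalizer t hc) f).1 (fitCore_le_oCore t hf))).zpow_right i).inv_right).mul_right h1
        rwa [inv_mul_cancel_left] at h3
      haveI : Fact (orderOf τ).Prime := ⟨l.central.prime⟩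
      obtain ⟨a, ha⟩ : ∃ a : ℤ, y = (y ^ j) ^ a := by
        refine ⟨(((j : ZMod (orderOf τ)))⁻¹).val, ?_⟩
        rw [← zpow_mul]
        conv_lhs => rw [← zpow_one y]
        rw [zpow_eq_zpow_iff_modEq, l.hord, ← ZMod.intCast_eq_intCast_iff, Int.cast_one, Int.cast_mul,
          Int.cast_natCast, ZMod.natCast_zmod_val,
          mul_inv_cancel₀ (by rwa [Ne, ZMod.intCast_zmod_eq_zero_iff_dvd])]
      show (MulAut.conj c) f * y = y * (MulAut.conj c) f
      rw [MulAut.conj_apply, ha]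
      exact (h2.zpow_right a).eq
    rw [mem_normalizer_iff_map_conj_eq, map_commutator]
    exact congrArg₂ _ hBn hBn
  intro q hq q' hq'
  by_contra hne
  exact not_normal l.hyp hM l.pair l.pin.cycle (hD.trans (qFix_le_dFix t b))
    (fun e => hne (commutatorElement_eq_one_iff_commute.1
      (mem_bot.1 (e ▸ commutator_mem_commutator (hmul q hq) (hmul q' hq'))))) hn

/-- The fixed points of exponent `r` form `⟨y⟩`. -/
theorem mem_zpowers_y (hk : ProperKnown G) (hM : IsCoatom (Cent t)) (hm : FixModel.{u}) {z : G}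
    (hz : z ∈ qFix t b) (hzr : z ^ orderOf τ = 1) : z ∈ zpowers y := by
  haveI : Fact (orderOf τ).Prime := ⟨l.central.prime⟩
  obtain ⟨T, hT, hiff, hQT, hdec⟩ := l.exists_torus_split hk hM hm
  haveI := hT
  have hab := l.abelian hk hM hm
  obtain ⟨o, ho, hoinv, hoy⟩ := l.exists_inverted_shift
  have hoC := Hyp.oCore_le_cent t ho
  have hzy := l.comm_dFix (qFix_le_dFix t b hz)
  have hozy : Commute (o * z * o⁻¹) y := by
    have h1 := hzy.map (MulAut.conj o)
    rw [MulAut.conj_apply, MulAut.conj_apply, hoy] at h1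
    have hτ : Commute (o * z * o⁻¹) τ := by
      refine l.central.comm _ (mul_mem (mul_mem ho ?_) (inv_mem ho))
      exact fitCore_le_oCore t hz.1
    have h2 := h1.mul_right hτ.inv_right
    rwa [mul_inv_cancel_right] at h2
  obtain ⟨s, hs, q, hq, hsF, e⟩ := hdec _ ((mem_normalizer_iff.1 (cent_le_normalizer_fitCore t hoC) z).1 hz.1) hozy
  have hsq : Commute s q := (hQT q hq s hs).symm
  have hsr : s ^ orderOf τ = 1 := by
    have h1 : s ^ orderOf τ * q ^ orderOf τ = 1 := by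
      rw [← hsq.mul_pow, ← e, conj_pow, hzr, mul_one, mul_inv_cancel]
    refine CompInverted.eq_one_of_commute_inverted (a := b) (l.oddO (pow_mem ((hiff s).1 hs).1 _))
      (by rw [← conj_pow, ((hiff s).1 hs).2.2, inv_pow]) ?_
    rw [eq_inv_of_mul_eq_one_left h1]
    exact ((show Commute q b from mem_cent.1 hq.2).pow_left _).inv_left
  obtain ⟨n, rfl⟩ := mem_zpowers_iff.1 (l.mem_zpowers_τ hiff hs hsr)
  have hzb : b * z * b⁻¹ = z := by
    rw [← (show Commute z b from mem_cent.1 hz.2).eq, mul_inv_cancel_right]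
  have hqb : b * q * b⁻¹ = q := by
    rw [← (show Commute q b from mem_cent.1 hq.2).eq, mul_inv_cancel_right]
  have e2 : o⁻¹ * z * o = τ ^ (-n) * q := by
    calc o⁻¹ * z * o = b * o * b⁻¹ * (b * z * b⁻¹) * (b * o * b⁻¹)⁻¹ := by rw [hoinv, hzb, inv_inv]
      _ = b * (τ ^ n * q) * b⁻¹ := by rw [← e]; group
      _ = b * τ ^ n * b⁻¹ * (b * q * b⁻¹) := by group
      _ = τ ^ (-n) * q := by rw [← conj_zpow, l.inv_τ, hqb, inv_zpow, ← zpow_neg]
  have e3 : o * q * o⁻¹ = τ ^ n * z := by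
    calc o * q * o⁻¹ = o * (τ ^ n * (o⁻¹ * z * o)) * o⁻¹ := by rw [e2, ← mul_assoc (τ ^ n), ← zpow_add]; simp
      _ = o * τ ^ n * o⁻¹ * z := by group
      _ = τ ^ n * z := by rw [l.comm_τ ho]
  have hw : o * (q * z⁻¹) * o⁻¹ = (q * z⁻¹)⁻¹ := by
    calc o * (q * z⁻¹) * o⁻¹ = o * q * o⁻¹ * (o * z * o⁻¹)⁻¹ := by group
      _ = τ ^ n * (z * q⁻¹) * (τ ^ n)⁻¹ := by rw [e3, e]; group
      _ = z * q⁻¹ := by
          rw [(((l.central.comm z (fitCore_le_oCore t hz.1)).mul_left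
            (l.central.comm q (fitCore_le_oCore t hq.1)).inv_left).symm.zpow_left n).eq,
            mul_inv_cancel_right]
      _ = (q * z⁻¹)⁻¹ := by group
  have hwO : q * z⁻¹ ∈ oCore t := mul_mem (fitCore_le_oCore t hq.1) (inv_mem (fitCore_le_oCore t hz.1))
  have hwo : Commute (q * z⁻¹) o := by
    refine ((commute_of_sq (l.oddO ho) ?_)).symm
    refine mul_inv_eq_iff_eq_mul.1 ?_
    calc o * o * (q * z⁻¹) * (o * o)⁻¹ = o * (o * (q * z⁻¹) * o⁻¹) * o⁻¹ := by group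
      _ = q * z⁻¹ := by rw [hw, ← conj_inv, hw, inv_inv]
  have hw1 : q * z⁻¹ = 1 := by
    have h1 : (q * z⁻¹) * (q * z⁻¹) = 1 := by
      calc (q * z⁻¹) * (q * z⁻¹) = o * (q * z⁻¹) * o⁻¹ * (q * z⁻¹) := by
            rw [← hwo.eq, mul_inv_cancel_right]
        _ = 1 := by rw [hw, inv_mul_cancel]
    exact orderOf_eq_one_iff.1 (Nat.eq_one_of_dvd_coprimes (Nat.coprime_two_right.2 (l.oddO hwO))
      dvd_rfl (orderOf_dvd_of_pow_eq_one (by rw [pow_two]; exact h1)))
  have hqz : q = z := mul_inv_eq_one.1 hw1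
  subst hqz
  -- now `o` fixes `q * y ^ (-n)`
  set w := q * y ^ (-n) with hwdef
  have how : Commute o w := by
    refine mul_inv_eq_iff_eq_mul.1 ?_
    calc o * w * o⁻¹ = o * q * o⁻¹ * (o * y * o⁻¹) ^ (-n) := by rw [hwdef, conj_zpow]; group
      _ = τ ^ n * q * (τ ^ (-n) * y ^ (-n)) := by
          rw [e, hoy, (show Commute y τ from l.pin.comm.symm).mul_zpow, (l.comm_zpow (-n) (-n)).eq]
      _ = w := by
          rw [show τ ^ n * q * (τ ^ (-n) * y ^ (-n)) = τ ^ n * (q * τ ^ (-n)) * y ^ (-n) by group,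
            ((l.central.comm q (fitCore_le_oCore t hq.1)).zpow_right (-n)).eq, hwdef]
          group
  by_contra hzn
  have hwQ : w ∈ qFix t b := mul_mem hq (zpow_mem l.hy _)
  have hw1' : w ≠ 1 := fun e' => hzn (by
    rw [hwdef, zpow_neg, mul_inv_eq_one] at e'
    rw [e']
    exact zpow_mem (mem_zpowers y) _)
  have p : Pin t b w τ := l.central.pin l.hyp l.hb l.hne l.hbt hwQ hw1'
  obtain ⟨Tw, -, hTwL, hTw⟩ := p.exists_torus l.hyp hk hM hm
  have h1 := p.commute_layer l.hyp hk hM hm l.hy (hab _ l.hy _ hwQ) o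
    (hTwL ((hTw o).2 ⟨ho, how, hoinv⟩))
  have h2 : τ ^ (1 : ℤ) * y ^ (1 : ℤ) = τ ^ (0 : ℤ) * y ^ (1 : ℤ) := by
    simp only [zpow_one, zpow_zero, one_mul]
    rw [l.pin.comm.eq, ← hoy, ← h1.eq, mul_inv_cancel_right]
  have h3 := (l.dvd_sub h2).1
  rw [sub_zero] at h3
  exact l.central.prime.ne_one (by exact_mod_cast Int.eq_one_of_dvd_one (Int.natCast_nonneg _) h3)

/-- The elements of `fitCore t` of order prime to `r` are central in `oCore t`. -/
theorem commute_coprime_fit (hk : ProperKnown G) (hM : IsCoatom (Cent t)) (hm : FixModel.{u}) {f o : G}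
    (hf : f ∈ fitCore t) (hc : (orderOf f).Coprime (orderOf τ)) (ho : o ∈ oCore t) : Commute o f := by
  obtain ⟨T, hT, hiff, hQT, hdec⟩ := l.exists_torus_split hk hM hm
  haveI := hT
  have hin : ∀ g ∈ fitCore t, (orderOf g).Coprime (orderOf τ) → g ∈ T := by
    intro g hg hgc
    obtain ⟨i, hi, q, hq, -, rfl⟩ := hdec g hg (l.commute_of_coprime (fitCore_le_oCore t hg) hgc)
    obtain ⟨k, hk'⟩ := l.central.pGroup b l.hb l.hne l.hbt ⟨q, hq⟩
    have hqk : q ^ orderOf τ ^ k = 1 := congrArg Subtype.val hk'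
    set N := orderOf (i * q)
    have h1 : i ^ N * q ^ N = 1 := by rw [← (hQT q hq i hi).symm.mul_pow, pow_orderOf_eq_one]
    have hN : q ^ N = 1 := by
      refine CompInverted.eq_one_of_commute_inverted (a := b)
        (l.oddO (pow_mem (fitCore_le_oCore t hq.1) _)) ?_
        ((show Commute q b from mem_cent.1 hq.2).pow_left _)
      rw [eq_inv_of_mul_eq_one_right h1, ← conj_inv, ← conj_pow, ((hiff i).1 hi).2.2, inv_pow]
    have hq1 : q = 1 := orderOf_eq_one_iff.1 (Nat.eq_one_of_dvd_coprimes (hgc.pow_right k)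
      (orderOf_dvd_of_pow_eq_one hN) (orderOf_dvd_of_pow_eq_one hqk))
    rw [hq1, mul_one]
    exact hi
  have hfT := hin f hf hc
  haveI : IsCyclic ↥(zpowers f) := inferInstance
  refine commute_of_cyclic l.hyp l.central.cycle (A := zpowers f) (fun c hc' => ?_) ho (mem_zpowers f)
  have ho' : orderOf (c * f * c⁻¹) = orderOf f := by rw [← MulAut.conj_apply, MulEquiv.orderOf_eq]
  have hcT : c * f * c⁻¹ ∈ T :=
    hin _ ((mem_normalizer_iff.1 (cent_le_normalizer_fitCore t hc') f).1 hf) (by rw [ho']; exact hc)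
  have hzz : zpowers (⟨c * f * c⁻¹, hcT⟩ : T) = zpowers ⟨f, hfT⟩ :=
    eq_of_card_eq_of_cyclic (by rw [Nat.card_zpowers, Nat.card_zpowers, orderOf_mk, orderOf_mk, ho'])
  have hzz' := congrArg (Subgroup.map T.subtype) hzz
  rw [MonoidHom.map_zpowers, MonoidHom.map_zpowers] at hzz'
  rw [mem_normalizer_iff_map_conj_eq, MonoidHom.map_zpowers]
  exact hzz'

/-- `oCore t` is nilpotent. -/
theorem oCore_eq_fitCore (hk : ProperKnown G) (hM : IsCoatom (Cent t)) (hm : FixModel.{u}) :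
    oCore t = fitCore t := by
  haveI : Fact (orderOf τ).Prime := ⟨l.central.prime⟩
  have hr2 : orderOf τ ≠ 2 := fun e => by
    have := l.oddO l.pin.mem_τ
    rw [e] at this
    exact absurd this (by decide)
  haveI hOs : Group.IsSolvable (oCore t) := Cfsg.Agent.S0205.result (l.hyp.odd_oCore t)
  obtain ⟨T, hT, hiff, hQT, hdec⟩ := l.exists_torus_split hk hM hm
  haveI := hT
  set P := coreP (orderOf τ) (oCore t) with hP
  have hPF : P ≤ fitCore t := map_mono (Components.pCore_le_fittingSubgroup l.central.prime)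
  have hcent : ∀ g ∈ oCore t, (orderOf g).Coprime (orderOf τ) → ∀ o ∈ oCore t, Commute o g := by
    intro g hg hc
    have hgy := l.commute_of_coprime hg hc
    have hgτ : Commute g τ := l.central.comm g hg
    have hgC := Hyp.oCore_le_cent t hg
    set V := P ⊓ Cent y with hV
    have hVn : zpowers g ≤ normalizer (V : Set G) := zpowers_le.2 (inf_normalizer_le_normalizer_inf
      ⟨cent_le_normalizer_coreP _ t hgC, le_normalizer (mem_cent.2 hgy.eq)⟩)
    have hfixV : zpowers g ≤ centralizer (V : Set G) := by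
      refine Coprime.le_centralizer_of_fix_omega hr2 V ⊥ (zpowers g)
        ((isPGroup_coreP _ _).to_le inf_le_left) IsPGroup.of_bot (by rw [Nat.card_zpowers]; exact hc)
        bot_le hVn bot_le fun z hz hzr => mem_centralizer_iff.2 fun g' hg' => ?_
      obtain ⟨⟨hzP, hzy⟩, -⟩ := hz
      obtain ⟨s, hs, q, hq, -, rfl⟩ := hdec z (hPF hzP) (mem_cent.1 hzy)
      rw [(hQT q hq s hs).symm.mul_pow] at hzr
      have hsr : s ^ orderOf τ = 1 := by
        refine CompInverted.eq_one_of_commute_inverted (a := b)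
          (l.oddO (pow_mem ((hiff s).1 hs).1 _))
          (by rw [← conj_pow, ((hiff s).1 hs).2.2, inv_pow]) ?_
        rw [eq_inv_of_mul_eq_one_left hzr]
        exact ((show Commute q b from mem_cent.1 hq.2).pow_left _).inv_left
      rw [hsr, one_mul] at hzr
      obtain ⟨i, rfl⟩ := mem_zpowers_iff.1 (l.mem_zpowers_τ hiff hs hsr)
      obtain ⟨j, rfl⟩ := mem_zpowers_iff.1 (l.mem_zpowers_y hk hM hm hq hzr)
      obtain ⟨m, rfl⟩ := mem_zpowers_iff.1 hg'
      exact (((hgτ.zpow_right i).mul_right (hgy.zpow_right j)).zpow_left m).eq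
    have hgP : ∀ f ∈ P, Commute g f := by
      intro f hf
      set w := f⁻¹ * (g * f * g⁻¹) with hw
      have hwP : w ∈ P :=
        mul_mem (inv_mem hf) ((mem_normalizer_iff.1 (cent_le_normalizer_coreP _ t hgC) f).1 hf)
      obtain ⟨n, hn⟩ := l.exists_shift (fitCore_le_oCore t (hPF hf))
      have e1 : g * f * g⁻¹ * y * (g * f * g⁻¹)⁻¹ = f * y * f⁻¹ := by
        calc g * f * g⁻¹ * y * (g * f * g⁻¹)⁻¹ = g * (f * (g⁻¹ * y * g) * f⁻¹) * g⁻¹ := by group
          _ = g * (f * y * f⁻¹) * g⁻¹ := by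
              rw [hgy.inv_left.eq, inv_mul_cancel_right]
          _ = τ ^ n * y := by
              rw [hn, ((hgτ.zpow_right n).mul_right hgy).eq, mul_inv_cancel_right]
          _ = f * y * f⁻¹ := hn.symm
      have hwy : Commute w y := by
        refine mul_inv_eq_iff_eq_mul.1 ?_
        calc w * y * w⁻¹ = f⁻¹ * (g * f * g⁻¹ * y * (g * f * g⁻¹)⁻¹) * f := by rw [hw]; group
          _ = y := by rw [e1]; group
      have hgw : Commute g w :=
        (mem_centralizer_iff.1 (hfixV (mem_zpowers g)) w ⟨hwP, mem_cent.2 hwy.eq⟩).symm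
      have hstep : ∀ k : ℕ, g ^ k * f * (g ^ k)⁻¹ = f * w ^ k := by
        intro k
        induction k with
        | zero => simp
        | succ k ih =>
          calc g ^ (k + 1) * f * (g ^ (k + 1))⁻¹ = g * (g ^ k * f * (g ^ k)⁻¹) * g⁻¹ := by
                rw [pow_succ']; group
            _ = g * f * g⁻¹ * (g * w ^ k * g⁻¹) := by rw [ih]; group
            _ = f * w ^ (k + 1) := by
                rw [(hgw.pow_right k).eq, mul_inv_cancel_right, pow_succ', ← mul_assoc f w]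
                congr 1
                rw [hw, mul_inv_cancel_left]
      have hwk := hstep (orderOf g)
      rw [pow_orderOf_eq_one, one_mul, inv_one, mul_one] at hwk
      obtain ⟨i, hi⟩ := isPGroup_coreP _ _ ⟨w, hwP⟩
      have hw1 : w = 1 := orderOf_eq_one_iff.1 (Nat.eq_one_of_dvd_coprimes (hc.pow_right i)
        (orderOf_dvd_of_pow_eq_one (left_eq_mul.1 hwk)) (orderOf_dvd_of_pow_eq_one (congrArg Subtype.val hi)))
      rw [hw, inv_mul_eq_one] at hw1
      exact mul_inv_eq_iff_eq_mul.1 hw1.symm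
    have hgF : ∀ f ∈ fitCore t, Commute g f := by
      intro f hf
      obtain ⟨k, m, hm', hfo⟩ :=
        Nat.exists_eq_pow_mul_and_not_dvd (orderOf_pos f).ne' (orderOf τ) l.central.prime.ne_one
      refine commute_of_parts l.central.prime hm' hfo ?_ ?_
      · exact hgP _ (mem_coreP_of_pow (k := k) (pow_mem hf m) (by
          rw [← pow_mul, mul_comm, ← hfo, pow_orderOf_eq_one]))
      · refine l.commute_coprime_fit hk hM hm (pow_mem hf _) ?_ hg
        refine Nat.Coprime.coprime_dvd_left ?_ (l.central.prime.coprime_iff_not_dvd.2 hm').symm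
        exact orderOf_dvd_of_pow_eq_one (by rw [← pow_mul, ← hfo, pow_orderOf_eq_one])
    have hgmem : g ∈ fitCore t :=
      ⟨⟨g, hg⟩, Components.centralizer_fittingSubgroup_le (mem_centralizer_iff.2 fun f hf =>
        Subtype.ext (hgF f (mem_map_of_mem _ hf)).eq.symm), rfl⟩
    exact fun o ho => l.commute_coprime_fit hk hM hm hgmem hc ho
  haveI hnil : Group.IsNilpotent (oCore t) := by
    refine Group.of_quotient_center_nilpotent (IsPGroup.isNilpotent (p := orderOf τ) ?_)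
    intro q
    obtain ⟨g, rfl⟩ := QuotientGroup.mk'_surjective (center (oCore t)) q
    obtain ⟨k, m, hm', hgo⟩ :=
      Nat.exists_eq_pow_mul_and_not_dvd (orderOf_pos g).ne' (orderOf τ) l.central.prime.ne_one
    refine ⟨k, ?_⟩
    rw [← map_pow]
    refine (QuotientGroup.eq_one_iff _).2 (mem_center_iff.2 fun g' => Subtype.ext ?_)
    exact (hcent _ (pow_mem g.2 _) (Nat.Coprime.coprime_dvd_left (orderOf_dvd_of_pow_eq_one (by
      rw [← pow_mul, ← hgo, ← Subgroup.coe_pow, pow_orderOf_eq_one, Subgroup.coe_one]))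
      (l.central.prime.coprime_iff_not_dvd.2 hm').symm) g' g'.2).eq
  refine le_antisymm (fun g hg => ?_) (fitCore_le_oCore t)
  haveI : Group.IsNilpotent ↥(⊤ : Subgroup (oCore t)) := Group.nilpotent_of_mulEquiv topEquiv.symm
  exact ⟨⟨g, hg⟩, Components.le_fittingSubgroup (N := ⊤) inferInstance (mem_top _), rfl⟩

theorem dFix_eq (hk : ProperKnown G) (hM : IsCoatom (Cent t)) (hm : FixModel.{u}) (u : G) :
    dFix t u = qFix t u := by
  rw [dFix, qFix, l.oCore_eq_fitCore hk hM hm]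

/-- The fixed points are cyclic. -/
theorem isCyclic (hk : ProperKnown G) (hM : IsCoatom (Cent t)) (hm : FixModel.{u}) :
    IsCyclic ↥(qFix t b) := by
  haveI : Fact (orderOf τ).Prime := ⟨l.central.prime⟩
  refine Cfsg.Agent.PGroup.isCyclic_of_unique_of_isMulCommutative (l.central.pGroup b l.hb l.hne l.hbt) ?_
    ⟨⟨fun v w => Subtype.ext (l.abelian hk hM hm v v.2 w w.2).eq⟩⟩
  have key : ∀ H : Subgroup ↥(qFix t b), Nat.card H = orderOf τ →
      H.map (qFix t b).subtype = zpowers y := by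
    intro H hH
    refine Subgroup.eq_of_le_of_card_ge ?_ (le_of_eq ?_)
    · rintro _ ⟨h, hh, rfl⟩
      refine l.mem_zpowers_y hk hM hm h.2 ?_
      have h1 : h ^ orderOf τ = 1 := orderOf_dvd_iff_pow_eq_one.1 (hH ▸ H.orderOf_dvd_natCard hh)
      exact congrArg Subtype.val h1
    · rw [Nat.card_zpowers, l.hord, card_map_of_injective (qFix t b).subtype_injective, hH]
  intro H K hH hK
  exact map_injective (qFix t b).subtype_injective ((key H hH).trans (key K hK).symm)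

/-- The point `⟨y⟩` and its conjugates. -/
theorem exists_conj_line (j : ℕ) : ∃ o ∈ oCore t, o * y * o⁻¹ = τ ^ (j : ℤ) * y := by
  obtain ⟨o, ho, -, hoy⟩ := l.exists_inverted_shift
  have h : o * y * o⁻¹ = τ ^ (1 : ℤ) * y := by rw [hoy, zpow_one, l.pin.comm.eq]
  exact ⟨o ^ j, pow_mem ho j, by rw [l.shift_pow ho h j, one_mul]⟩

theorem line_inj {i j : ℕ} (hi : i < orderOf τ) (hj : j < orderOf τ)
    (h : zpowers (τ ^ (i : ℤ) * y) = zpowers (τ ^ (j : ℤ) * y)) : i = j := by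
  obtain ⟨k, hk⟩ := mem_zpowers_iff.1 (h ▸ mem_zpowers (τ ^ (i : ℤ) * y))
  rw [(show Commute (τ ^ (j : ℤ)) y from l.pin.comm.zpow_left _).mul_zpow, ← zpow_mul] at hk
  conv_rhs at hk => rw [← zpow_one y]
  obtain ⟨h1, h2⟩ := l.dvd_sub hk
  have h3 : (orderOf τ : ℤ) ∣ (j : ℤ) - i := by
    have := h1.sub (h2.mul_left (j : ℤ))
    rwa [show (j : ℤ) * k - i - (j : ℤ) * (k - 1) = j - i by ring] at this
  have h4 := Int.eq_zero_of_abs_lt_dvd h3 (abs_lt.2 ⟨by omega, by omega⟩)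
  omega

theorem nbrs_card : orderOf y - 1 ≤ (nbrs t y).ncard := by
  rw [l.hord]
  let f : Fin (orderOf τ - 1) → nbrs t y := fun j => ⟨zpowers (τ ^ ((j : ℕ) + 1 : ℕ) * y), by
    obtain ⟨o, ho, hoy⟩ := l.exists_conj_line ((j : ℕ) + 1)
    rw [zpow_natCast] at hoy
    refine ⟨⟨o, by rw [l.zpowers_conj, hoy], ?_⟩, fun e => ?_, fun a ha => ?_⟩
    · rw [(show Commute o t from mem_cent.1 (Hyp.oCore_le_cent t ho)).eq, mul_inv_cancel_right]
    · have := l.line_inj (i := (j : ℕ) + 1) (j := 0) (by omega) l.central.prime.pos (by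
        rw [zpow_natCast, e, Nat.cast_zero, zpow_zero, one_mul])
      omega
    · obtain ⟨k, rfl⟩ := mem_zpowers_iff.1 ha
      exact ((l.pin.comm.pow_left _).mul_left (Commute.refl y)).zpow_left k⟩
  have hf : Function.Injective f := fun i j h => by
    have := l.line_inj (i := (i : ℕ) + 1) (j := (j : ℕ) + 1) (by omega) (by omega)
      (by rw [zpow_natCast, zpow_natCast]; exact congrArg Subtype.val h)
    exact Fin.ext (by omega)
  have h := Nat.card_le_card_of_injective f hf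
  rwa [Nat.card_fin, Nat.card_coe_set_eq] at h

theorem relIndex_eq :
    (normalizer (zpowers y : Set G) ⊓ Cent t).relIndex (Cent t) = orderOf y := by
  rw [l.hord]
  haveI : Fact (orderOf τ).Prime := ⟨l.central.prime⟩
  choose o ho hoy using fun j : Fin (orderOf τ) => l.exists_conj_line (j : ℕ)
  set K := (normalizer (zpowers y : Set G) ⊓ Cent t).subgroupOf (Cent t) with hK
  let f : Fin (orderOf τ) → Cent t ⧸ K := fun j => QuotientGroup.mk ⟨o j, Hyp.oCore_le_cent t (ho j)⟩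
  have hiff : ∀ (c : G) (hc : c ∈ Cent t) (j : Fin (orderOf τ)),
      f j = QuotientGroup.mk ⟨c, hc⟩ ↔ zpowers (τ ^ ((j : ℕ) : ℤ) * y) = zpowers (c * y * c⁻¹) := by
    intro c hc j
    rw [QuotientGroup.eq, hK, mem_subgroupOf, Subgroup.mem_inf]
    simp only [Subgroup.coe_mul, InvMemClass.coe_inv]
    rw [and_iff_left (mul_mem (inv_mem (Hyp.oCore_le_cent t (ho j))) hc),
      mem_normalizer_iff_map_conj_eq, MonoidHom.map_zpowers]
    show zpowers ((o j)⁻¹ * c * y * ((o j)⁻¹ * c)⁻¹) = zpowers y ↔ _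
    rw [← hoy j]
    constructor <;> intro h
    · have h2 := congrArg (Subgroup.map (MulAut.conj (o j)).toMonoidHom) h
      rw [MonoidHom.map_zpowers, MonoidHom.map_zpowers] at h2
      rw [show c * y * c⁻¹ = o j * ((o j)⁻¹ * c * y * ((o j)⁻¹ * c)⁻¹) * (o j)⁻¹ by group]
      exact h2.symm
    · have h2 := congrArg (Subgroup.map (MulAut.conj (o j)⁻¹).toMonoidHom) h
      rw [MonoidHom.map_zpowers, MonoidHom.map_zpowers] at h2
      rw [show (o j)⁻¹ * c * y * ((o j)⁻¹ * c)⁻¹ = (o j)⁻¹ * (c * y * c⁻¹) * (o j)⁻¹⁻¹ by group]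
      refine h2.symm.trans ?_
      show zpowers ((o j)⁻¹ * (o j * y * (o j)⁻¹) * (o j)⁻¹⁻¹) = zpowers y
      rw [show (o j)⁻¹ * (o j * y * (o j)⁻¹) * (o j)⁻¹⁻¹ = y by group]
  have hinj : Function.Injective f := fun i j h => Fin.ext (by
    have h2 := (hiff (o j) (Hyp.oCore_le_cent t (ho j)) i).1 h
    rw [hoy j] at h2
    exact l.line_inj i.2 j.2 h2)
  have hsurj : Function.Surjective f := by
    intro x
    obtain ⟨⟨c, hc⟩, rfl⟩ := QuotientGroup.mk_surjective x
    obtain ⟨p, q, hcy, hq⟩ := l.exists_conj_ne hc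
    have hq' : (q : ZMod (orderOf τ)) ≠ 0 := by rwa [Ne, ZMod.intCast_zmod_eq_zero_iff_dvd]
    let j : ZMod (orderOf τ) := (p : ZMod (orderOf τ)) / (q : ZMod (orderOf τ))
    refine ⟨⟨j.val, ZMod.val_lt j⟩, (hiff c hc _).2 ?_⟩
    have e1 : (τ ^ ((j.val : ℕ) : ℤ) * y) ^ q = c * y * c⁻¹ := by
      rw [(show Commute (τ ^ ((j.val : ℕ) : ℤ)) y from l.pin.comm.zpow_left _).mul_zpow, ← zpow_mul, hcy]
      congr 1
      rw [zpow_eq_zpow_iff_modEq, ← ZMod.intCast_eq_intCast_iff, Int.cast_mul, Int.cast_natCast,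
        ZMod.natCast_zmod_val]
      exact div_mul_cancel₀ _ hq'
    refine (Subgroup.eq_of_le_of_card_ge (zpowers_le.2 (e1 ▸ zpow_mem (mem_zpowers _) q)) ?_).symm
    rw [Nat.card_zpowers, Nat.card_zpowers, ← MulAut.conj_apply, MulEquiv.orderOf_eq, l.hord]
    refine Nat.le_of_dvd l.central.prime.pos (orderOf_dvd_of_pow_eq_one ?_)
    rw [((show Commute (τ ^ ((j.val : ℕ) : ℤ)) y from l.pin.comm.zpow_left _)).mul_pow,
      ← zpow_natCast, ← zpow_mul, mul_comm ((j.val : ℕ) : ℤ), zpow_mul, zpow_natCast τ (orderOf τ), pow_orderOf_eq_one,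
      one_zpow, ← l.hord, pow_orderOf_eq_one, one_mul]
  have h := Nat.card_eq_of_bijective f ⟨hinj, hsurj⟩
  rw [Nat.card_fin] at h
  exact h.symm

end CentralLine

/-- **A normalised plane**: the extraspecial configuration, with `oCore t` nilpotent. -/
theorem Central.heis_of_line (hyp : Hyp S t) (hk : ProperKnown G) (hM : IsCoatom (Cent t))
    (hm : FixModel.{u}) {b y τ : G} (h : Central t τ) (hb : orderOf b = 2) (hne : b ≠ t)
    (hbt : Commute b t) (hy : y ∈ qFix t b) (hord : orderOf y = orderOf τ)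
    (hn : Cent t ≤ normalizer ((zpowers y ⊔ zpowers τ : Subgroup G) : Set G)) :
    Heis t b y τ ∧ oCore t = fitCore t ∧
      (normalizer (zpowers y : Set G) ⊓ Cent t).relIndex (Cent t) = orderOf y ∧
      orderOf y - 1 ≤ (nbrs t y).ncard := by
  have l : CentralLine S t b y τ := ⟨hyp, h, hb, hne, hbt, hy, hord, hn⟩
  have hconj : ∀ Y : Subgroup G, Inc t y Y t → ∃ c ∈ Cent t, Y = zpowers (c * y * c⁻¹) := by
    rintro Y ⟨g, rfl, hg⟩
    exact ⟨g, mem_cent.2 (mul_inv_eq_iff_eq_mul.1 hg.symm), l.zpowers_conj g⟩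
  obtain ⟨o, ho, hoinv, hoy⟩ := l.exists_inverted_shift
  have hheis : Plane t b y τ → Heis t b y τ := fun hp =>
    ⟨hp, h.cent, h.comm, ⟨o, ho, hoinv, hoy⟩, l.dFix_eq hk hM hm b, fun d hd => l.comm_dFix hd,
      by rw [l.dFix_eq hk hM hm b]; exact l.isCyclic hk hM hm,
      fun u hu hut huc => by rw [l.dFix_eq hk hM hm u, hord]; exact h.pGroup u hu hut huc⟩
  refine ⟨hheis ?_,
    l.oCore_eq_fitCore hk hM hm, l.relIndex_eq, l.nbrs_card⟩
  refine ⟨l.pin, hord ▸ h.prime, hord.symm, ?_, ?_, ?_⟩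
  · intro u hu hut huc _ huτ
    exact l.pin.ne_τ (CompInverted.eq_one_of_commute_inverted (a := u) (l.oddO l.pin.mem_τ)
      (h.inverts u hu hut huc) huτ.symm)
  · intro Y hY hne' x hxy hxY
    obtain ⟨c, hc, rfl⟩ := hconj Y hY
    obtain ⟨i, j, e, -⟩ := l.exists_conj_ne hc
    have h1 := hxY _ (mem_zpowers _)
    rw [e] at h1
    have h2 : Commute x (τ ^ i) := by
      have := h1.mul_right (hxy.zpow_right j).inv_right
      rwa [mul_inv_cancel_right] at this
    have hi : ¬ (orderOf τ : ℤ) ∣ i := fun hi => by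
      rw [orderOf_dvd_iff_zpow_eq_one] at hi
      rw [hi, one_mul] at e
      refine hne' (Subgroup.eq_of_le_of_card_ge (zpowers_le.2 (e ▸ zpow_mem (mem_zpowers y) j)) ?_)
      rw [Nat.card_zpowers, Nat.card_zpowers, ← MulAut.conj_apply, MulEquiv.orderOf_eq]
    haveI : Fact (orderOf τ).Prime := ⟨h.prime⟩
    have hi' : (i : ZMod (orderOf τ)) ≠ 0 := by rwa [Ne, ZMod.intCast_zmod_eq_zero_iff_dvd]
    have h3 : τ = (τ ^ i) ^ ((((i : ZMod (orderOf τ)))⁻¹).val : ℤ) := by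
      rw [← zpow_mul]
      conv_lhs => rw [← zpow_one τ]
      rw [zpow_eq_zpow_iff_modEq, ← ZMod.intCast_eq_intCast_iff, Int.cast_one, Int.cast_mul,
        Int.cast_natCast, ZMod.natCast_zmod_val, mul_inv_cancel₀ hi']
    have hxτ : Commute x τ := by rw [h3]; exact h2.zpow_right _
    exact ⟨h.cent (mem_cent.2 hxτ.eq), hxτ⟩
  · rintro Y ⟨hY, -, -⟩
    obtain ⟨c, hc, rfl⟩ := hconj Y hY
    exact zpowers_le.2 ((mem_normalizer_iff.1 (hn hc) y).1 (mem_sup_left (mem_zpowers y)))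

end Cfsg.Agent.GW
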