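import Cfsg.Agent.Lib.GW.PartII.CompFrame
import Cfsg.Agent.Lib.Schur.Basic
import Cfsg.Agent.S2117

/-!
# Component configuration: the local structure at a point

For `p : Pin t b y τ` with `Cent t` maximal:

* `Pin.layer_ne`, `Pin.mem_layer`: `N⟨y⟩` has a layer, containing `t` and `b`;
* `Pin.commute_layer`: the elements of `qFix t b` commuting with `y` centralise it;
* `Pin.exists_torus`: its torus at `t`, `b` is cyclic;
* `Pin.not_refl`: a reflection inverting `y` does not centralise `τ`;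
* `Pin.psl`: if no reflection centralises `y` and `τ`, the layer is `PSL₂(q)`, `q ≥ 11`.
-/

set_option autoImplicit false
set_option linter.unusedSectionVars false
set_option linter.style.haveILetI false
set_option linter.unusedVariables false

namespace Cfsg.Agent.GW

open Subgroup Cfsg.Agent.S1856 Cfsg.Agent.S1312
open BSW (mem_cent)
open scoped MatrixGroups

universe u

namespace CompLocal

/-- An element of prime power order centralising a four group and the rest of its torus is trivial. -/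
def FixModel : Prop :=
  ∀ (X : Type u) [Group X] [Finite X], SubDihedral X → ∀ (E : Subgroup X) [E.Normal] [IsSimpleGroup E],
    IsKnown E → centralizer (E : Set X) = ⊥ → ∀ (a b τ z : X), Pair a b → a ∈ E → b ∈ E →
    ∀ r : ℕ, r.Prime → r ≠ 2 → τ ∈ E → τ ≠ 1 → Odd (orderOf τ) → Commute τ a →
      b * τ * b⁻¹ = τ⁻¹ → (∃ k, z ^ r ^ k = 1) → Commute z a → Commute z b →
      (∀ x ∈ E, Odd (orderOf x) → (orderOf x).Coprime r → Commute x a → b * x * b⁻¹ = x⁻¹ →
        Commute z x) → z = 1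

/-- A perfect central extension of `PSL₂(q)`, `q ≠ 9`, with odd kernel is trivial. -/
theorem psl_central_injective {L : Type u} [Group L] [Finite L] [Group.IsPerfect L] {F : Type} [Field F]
    [Fintype F] (h4 : Fintype.card F ≠ 4) (h9 : Fintype.card F ≠ 9)
    (σ : L →* PSL(2, F)) (hσ : Function.Surjective σ) (hz : σ.ker ≤ center L)
    (hodd : Odd (Nat.card σ.ker)) : Function.Injective σ := by
  let Δ : Subgroup (L × SL(2, F)) :=
    (σ.comp (MonoidHom.fst L SL(2, F))).eqLocus (PSL2.mk.comp (MonoidHom.snd L SL(2, F)))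
  let π₂ : ↥Δ →* SL(2, F) := (MonoidHom.snd L SL(2, F)).comp Δ.subtype
  let π₁ : ↥Δ →* L := (MonoidHom.fst L SL(2, F)).comp Δ.subtype
  have h2 : Function.Surjective π₂ := fun s => by
    obtain ⟨g, hg⟩ := hσ (PSL2.mk s)
    exact ⟨⟨(g, s), hg⟩, rfl⟩
  have h1 : Function.Surjective π₁ := fun g => by
    obtain ⟨s, hs⟩ := PSL2.mk_surjective (σ g)
    exact ⟨⟨(g, s), hs.symm⟩, rfl⟩
  have hcent : π₂.ker ≤ center ↥Δ := by
    intro x hx
    have hx2 : (x : L × SL(2, F)).2 = 1 := hx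
    have hk : (x : L × SL(2, F)).1 ∈ σ.ker := by
      have h0 : σ (x : L × SL(2, F)).1 = PSL2.mk (x : L × SL(2, F)).2 := x.2
      rw [MonoidHom.mem_ker, h0, hx2, map_one]
    refine mem_center_iff.2 fun y => Subtype.ext (Prod.ext ?_ ?_)
    · exact mem_center_iff.1 (hz hk) _
    · show (y : L × SL(2, F)).2 * (x : L × SL(2, F)).2 = (x : L × SL(2, F)).2 * (y : L × SL(2, F)).2
      rw [hx2, one_mul, mul_one]
  have hbot := Schur.ker_inf_commutator_eq_bot (Cfsg.Agent.S2117.result h4 h9) π₂ h2 hcent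
  rw [injective_iff_map_eq_one]
  intro k hk
  obtain ⟨d, hd, hdk⟩ : k ∈ (_root_.commutator ↥Δ).map π₁ := by
    rw [_root_.commutator_def, map_commutator, map_top_of_surjective π₁ h1,
      ← _root_.commutator_def, Group.IsPerfect.commutator_eq_top]
    exact mem_top k
  have hd2 : π₂ (d * d) = 1 := by
    have h0 : σ (d : L × SL(2, F)).1 = PSL2.mk (d : L × SL(2, F)).2 := d.2
    have hd1 : (d : L × SL(2, F)).1 = k := hdk
    rw [hd1, hk] at h0
    rw [map_mul]
    rcases PSL2.mk_eq_one.1 h0.symm with e | e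
    · show (d : L × SL(2, F)).2 * (d : L × SL(2, F)).2 = 1
      rw [e, one_mul]
    · show (d : L × SL(2, F)).2 * (d : L × SL(2, F)).2 = 1
      rw [e, neg_mul_neg, one_mul]
  have hdd : d * d ∈ π₂.ker ⊓ _root_.commutator ↥Δ := ⟨hd2, mul_mem hd hd⟩
  rw [hbot, mem_bot] at hdd
  have hkk : k * k = 1 := by
    rw [← hdk, ← map_mul, hdd, map_one]
  have ho : orderOf k ∣ 2 := orderOf_dvd_of_pow_eq_one (by rw [pow_two, hkk])
  have hodd' : Odd (orderOf k) :=
    hodd.of_dvd_nat (Subgroup.orderOf_dvd_natCard _ (MonoidHom.mem_ker.2 hk))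
  exact orderOf_eq_one_iff.1 (Nat.eq_one_of_dvd_coprimes (Nat.coprime_two_right.2 hodd') dvd_rfl ho)

/-- In `A₇`, an involution other than `a` centralises `a` and its odd centraliser. -/
theorem alt_seven_refl {X : Type u} [Group X] [Finite X] [IsSimpleGroup X] (hd : SubDihedral X)
    (hk : IsKnown X) (e : X ≃* alternatingGroup (Fin 7)) {a τ : X} (ha : orderOf a = 2)
    (hτ : Odd (orderOf τ)) (hτa : Commute τ a) :
    ∃ u : X, orderOf u = 2 ∧ u ≠ a ∧ Commute u a ∧ Commute u τ := by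
  let t₀ : alternatingGroup (Fin 7) := ⟨Equiv.swap 0 1 * Equiv.swap 2 3,
    Equiv.Perm.mem_alternatingGroup.2 (by decide)⟩
  let u₀ : alternatingGroup (Fin 7) := ⟨Equiv.swap 0 2 * Equiv.swap 1 3,
    Equiv.Perm.mem_alternatingGroup.2 (by decide)⟩
  have hord : ∀ v : alternatingGroup (Fin 7), v * v = 1 → v ≠ 1 → orderOf (e.symm v) = 2 :=
    fun v hv hv1 => by
      rw [MulEquiv.orderOf_eq]
      exact orderOf_eq_prime (by rw [pow_two, hv]) hv1
  have ht : orderOf (e.symm t₀) = 2 := hord t₀ (Subtype.ext (by decide))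
    fun h => absurd (congrArg Subtype.val h) (by decide)
  obtain ⟨w, hw⟩ := isConj_iff.1 (isConj_invol_of_simple hd hk.not_comm hk.even_card ha ht)
  have hc : Commute (e (w * τ * w⁻¹)) t₀ := by
    have h1 := hτa.map (MulAut.conj w)
    rw [MulAut.conj_apply, MulAut.conj_apply, hw] at h1
    have h2 := h1.map e
    rwa [e.apply_symm_apply] at h2
  have ho : Odd (orderOf ((e (w * τ * w⁻¹) : alternatingGroup (Fin 7)) : Equiv.Perm (Fin 7))) := by
    rwa [orderOf_coe, MulEquiv.orderOf_eq, ← MulAut.conj_apply, MulEquiv.orderOf_eq]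
  obtain ⟨z, hz⟩ := mem_zpowers_iff.1 (alt_seven_odd ho (congrArg Subtype.val hc.eq))
  have hcu : Commute u₀ (e (w * τ * w⁻¹)) := Subtype.ext (by
    rw [Subgroup.coe_mul, Subgroup.coe_mul, ← hz]
    exact ((show Commute (u₀ : Equiv.Perm (Fin 7)) (Equiv.swap 4 5 * Equiv.swap 5 6) from
      by show _ = _; decide).zpow_right z).eq)
  set u := e.symm u₀ with hu
  have hcw : ∀ {x y : X}, Commute x y → Commute (w⁻¹ * x * w) (w⁻¹ * y * w) := fun {x y} h => by
    have := h.map (MulAut.conj w⁻¹)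
    rwa [MulAut.conj_apply, MulAut.conj_apply, inv_inv] at this
  refine ⟨w⁻¹ * u * w, ?_, fun h => ?_, ?_, ?_⟩
  · rw [show w⁻¹ * u * w = MulAut.conj w⁻¹ u by rw [MulAut.conj_apply, inv_inv], MulEquiv.orderOf_eq]
    exact hord u₀ (Subtype.ext (by decide)) fun h => absurd (congrArg Subtype.val h) (by decide)
  · have h1 : u = e.symm t₀ := by
      rw [← hw, ← h]; group
    exact absurd (congrArg Subtype.val (e.symm.injective h1)) (by decide)
  · have h1 := hcw (show Commute u (e.symm t₀) from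
      (show Commute u₀ t₀ from Subtype.ext (by decide)).map e.symm)
    rwa [← hw, show w⁻¹ * (w * a * w⁻¹) * w = a by group] at h1
  · have h1 := hcw (show Commute u (w * τ * w⁻¹) from by
      have h2 := hcu.map e.symm
      rwa [e.symm_apply_apply] at h2)
    rwa [show w⁻¹ * (w * τ * w⁻¹) * w = τ by group] at h1

theorem exists_pow_odd {Y : Type*} [Group Y] [Finite Y] (w : Y) :
    ∃ k : ℕ, Odd (orderOf w / 2 ^ k) ∧ 2 ^ k ∣ orderOf w := by
  obtain ⟨k, m, hm, hw⟩ := Nat.exists_eq_pow_mul_and_not_dvd (orderOf_pos w).ne' 2 (by norm_num)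
  refine ⟨k, ?_, ⟨m, hw⟩⟩
  rw [hw, Nat.mul_div_cancel_left _ (by positivity), ← Nat.not_even_iff_odd, even_iff_two_dvd]
  exact hm

namespace Frame

variable {G : Type u} [Group G] [Finite G] {S : Sylow 2 G} {t : G}
variable {H : Subgroup G} {E : Subgroup (↥H ⧸ Cfsg.oddCore ↥H)} {b : G}

/-- A fixed point of `b` on `F(O(C t))` in `H` centralises the layer of `H`. -/
theorem commute_fixed (hyp : Hyp S t) (hm : FixModel.{u}) (f : Frame H E t b) {τ : G}
    (hτH : τ ∈ H) (hτO : τ ∈ oCore t) (hτ1 : τ ≠ 1) (hτb : b * τ * b⁻¹ = τ⁻¹) {z : G}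
    (hz : z ∈ qFix t b) (hzH : z ∈ H) : ∀ l ∈ layerOf H, Commute z l := by
  haveI : Fact (Nat.Prime 2) := ⟨Nat.prime_two⟩
  haveI := f.normal
  haveI := f.simple
  let π := proj H
  let t' : H := ⟨t, f.a_mem⟩
  let b' : H := ⟨b, f.b_mem⟩
  let τ' : H := ⟨τ, hτH⟩
  suffices h : π ⟨z, hzH⟩ = 1 from fun l hl =>
    f.mem_oddCore_commute ((QuotientGroup.eq_one_iff (⟨z, hzH⟩ : H)).1 h) hl
  by_contra hne
  obtain ⟨r, hr, hrd⟩ := Nat.exists_prime_and_dvd (fun h => hne (orderOf_eq_one_iff.1 h))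
  haveI := Fact.mk hr
  have hzo : Odd (orderOf z) :=
    (hyp.odd_oCore t).of_dvd_nat (Subgroup.orderOf_dvd_natCard _ (fitCore_le_oCore t hz.1))
  have hdvd : orderOf (π ⟨z, hzH⟩) ∣ orderOf z :=
    (orderOf_map_dvd π (⟨z, hzH⟩ : H)).trans (by rw [orderOf_mk])
  have hr2 : r ≠ 2 := by
    rintro rfl
    exact Nat.not_even_iff_odd.2 hzo (even_iff_two_dvd.2 (hrd.trans hdvd))
  obtain ⟨k, m, hmd, hzk⟩ := Nat.exists_eq_pow_mul_and_not_dvd (orderOf_pos z).ne' r hr.ne_one
  set zr := z ^ m with hzr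
  have hzrH : zr ∈ H := pow_mem hzH m
  have hzrk : zr ^ r ^ k = 1 := by
    rw [hzr, ← pow_mul, mul_comm, ← hzk, pow_orderOf_eq_one]
  have hzrO : zr ∈ coreP r (oCore t) := mem_coreP_of_pow (pow_mem hz.1 m) hzrk
  have hzb : Commute z b := mem_cent.1 hz.2
  have hzt : Commute z t := commute_of_fitCore hz.1
  have hτt : Commute τ t := mem_cent.1 (Hyp.oCore_le_cent t hτO)
  have hτo : Odd (orderOf τ) := (hyp.odd_oCore t).of_dvd_nat (Subgroup.orderOf_dvd_natCard _ hτO)
  have hτo' : Odd (orderOf τ') := by rw [orderOf_mk]; exact hτo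
  have ht' : orderOf t' = 2 := by rw [orderOf_mk]; exact f.pair.ha
  have hb' : orderOf b' = 2 := by rw [orderOf_mk]; exact f.pair.hb
  have hbn : b ∈ normalizer (oCore t : Set G) :=
    Hyp.cent_le_normalizer t (mem_cent.2 f.pair.comm.symm)
  have hp : Pair (π t') (π b') := by
    refine ⟨mk_orderOf ht', mk_orderOf hb', ?_, fun e => ?_⟩
    · rw [← map_mul, ← map_mul]; exact congrArg _ (Subtype.ext f.pair.comm)
    · have h2 := mk_orderOf (show orderOf (t' * b') = 2 from by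
        rw [show t' * b' = ⟨t * b, mul_mem f.a_mem f.b_mem⟩ from rfl, orderOf_mk]
        exact f.pair.order_mul)
      rw [map_mul, show QuotientGroup.mk' _ t' = π b' from e, BSW.sq_of_order (mk_orderOf hb'),
        orderOf_one] at h2
      omega
  have hz1 : π ⟨zr, hzrH⟩ = 1 := by
    refine hm _ f.dih E f.known f.cent (π t') (π b') (π τ') _ hp (f.haE f.a_mem) (f.hbE f.b_mem)
      r hr hr2 (f.proj_mem hτo' hτb) (fun h => hτ1 (f.eq_one_of_proj h hτo' hτb))
      (hτo'.of_dvd_nat (orderOf_map_dvd _ _))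
      ((show Commute τ' t' from Subtype.ext hτt.eq).map π)
      (by rw [← map_inv, ← map_mul, ← map_mul, ← map_inv]; exact congrArg _ (Subtype.ext hτb))
      ⟨k, by rw [← map_pow, show (⟨zr, hzrH⟩ : H) ^ r ^ k = 1 from Subtype.ext hzrk, map_one]⟩
      ((show Commute (⟨zr, hzrH⟩ : H) t' from Subtype.ext (hzt.pow_left m).eq).map π)
      ((show Commute (⟨zr, hzrH⟩ : H) b' from Subtype.ext (hzb.pow_left m).eq).map π) ?_
    intro x hxE hxo hxr hxt hxb
    obtain ⟨x₀, rfl⟩ := QuotientGroup.mk'_surjective _ x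
    obtain ⟨w, hw, hwt⟩ := exists_lift_commute ht' hxt
    obtain ⟨i, hi, hid⟩ := exists_pow_odd w
    obtain ⟨j, hj⟩ := exists_pow_eq_self_of_coprime (x := π w) (n := 2 ^ i)
      ((Nat.coprime_two_left.2 (hw ▸ hxo)).pow_left i)
    set w₁ := (w ^ 2 ^ i) ^ j with hw₁
    have hw₁x : π w₁ = π x₀ := by rw [hw₁, map_pow, map_pow, hj, hw]
    have hw₁o : Odd (orderOf (w₁ : G)) := by
      rw [orderOf_coe, hw₁]
      refine hi.of_dvd_nat ((orderOf_pow_dvd _).trans ?_)
      rw [orderOf_pow_of_dvd (by positivity) hid]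
    have hw₁t : Commute (w₁ : G) t := congrArg Subtype.val ((hwt.pow_left _).pow_left j).eq
    have hw₁O : (w₁ : G) ∈ oCore t :=
      (hyp.mem_oCore_iff f.pair.ha).2 ⟨mem_cent.2 hw₁t.eq, hw₁o⟩
    set w₂ := w₁ * (b' * w₁⁻¹ * b'⁻¹) with hw₂
    have hw₂O : (w₂ : G) ∈ oCore t :=
      mul_mem hw₁O ((mem_normalizer_iff.1 hbn _).1 (inv_mem hw₁O))
    have hbb : (b' : H) * b' = 1 := Subtype.ext (BSW.sq_of_order f.pair.hb)
    have hw₂inv : b' * w₂ * b'⁻¹ = w₂⁻¹ := by
      have hbi : b'⁻¹ = b' := inv_eq_of_mul_eq_one_right hbb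
      rw [hw₂, show b' * (w₁ * (b' * w₁⁻¹ * b'⁻¹)) * b'⁻¹ =
        b' * w₁ * b' * w₁⁻¹ * (b'⁻¹ * b'⁻¹) by group]
      rw [hbi, hbb, mul_one, mul_inv_rev, mul_inv_rev, mul_inv_rev]
      simp only [inv_inv, hbi, mul_assoc]
    have hw₂x : π w₂ = π x₀ * π x₀ := by
      rw [hw₂, map_mul, map_mul, map_mul, map_inv, map_inv, hw₁x, ← map_inv π b', ← map_inv π x₀]
      congr 1
      have h1 := congrArg (fun v => v⁻¹) hxb
      simp only [inv_inv, mul_inv_rev] at h1
      rw [map_inv, map_inv]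
      rw [← mul_assoc] at h1
      exact h1
    have hxxr : (orderOf (π x₀ * π x₀)).Coprime r :=
      hxr.coprime_dvd_left (pow_two (π x₀) ▸ orderOf_pow_dvd 2)
    obtain ⟨i', m', hm', hi'⟩ := Nat.exists_eq_pow_mul_and_not_dvd (orderOf_pos w₂).ne' r hr.ne_one
    obtain ⟨j', hj'⟩ := exists_pow_eq_self_of_coprime (x := π x₀ * π x₀) (n := r ^ i')
      (hxxr.symm.pow_left i')
    set w₃ := (w₂ ^ r ^ i') ^ j' with hw₃
    have hw₃x : π w₃ = π x₀ * π x₀ := by rw [hw₃, map_pow, map_pow, hw₂x, hj']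
    have hw₃m : w₃ ^ m' = 1 := by
      rw [hw₃, ← pow_mul, ← pow_mul, show r ^ i' * (j' * m') = r ^ i' * m' * j' by ring, ← hi', pow_mul,
        pow_orderOf_eq_one, one_pow]
    have hw₃O : (w₃ : G) ∈ oCore t := by
      rw [hw₃]; simp only [Subgroup.coe_pow]; exact pow_mem (pow_mem hw₂O _) _
    have hw₃o : Odd (orderOf (w₃ : G)) :=
      (hyp.odd_oCore t).of_dvd_nat (Subgroup.orderOf_dvd_natCard _ hw₃O)
    have hw₃t : Commute (w₃ : G) t := mem_cent.1 (Hyp.oCore_le_cent t hw₃O)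
    have hw₃inv : b * (w₃ : G) * b⁻¹ = (w₃ : G)⁻¹ := by
      refine congrArg Subtype.val (show b' * w₃ * b'⁻¹ = w₃⁻¹ from ?_)
      rw [hw₃, ← conj_pow, ← conj_pow, hw₂inv, inv_pow, inv_pow]
    set v := zr * (w₃ : G)⁻¹ * zr⁻¹ with hv
    have hvH : v ∈ H := mul_mem (mul_mem hzrH (inv_mem w₃.2)) (inv_mem hzrH)
    have hzrb : Commute zr b := hzb.pow_left m
    have hzrt : Commute zr t := hzt.pow_left m
    have hvo : Odd (orderOf v) := by
      rw [hv, ← MulAut.conj_apply, MulEquiv.orderOf_eq, orderOf_inv]; exact hw₃o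
    have hvt : Commute v t := (hzrt.mul_left hw₃t.inv_left).mul_left hzrt.inv_left
    have hvinv : b * v * b⁻¹ = v⁻¹ := by
      rw [hv, show b * (zr * (w₃ : G)⁻¹ * zr⁻¹) * b⁻¹ =
          (b * zr * b⁻¹) * (b * (w₃ : G) * b⁻¹)⁻¹ * (b * zr * b⁻¹)⁻¹ by group, hw₃inv,
        ← hzrb.eq, mul_inv_cancel_right]
      group
    have hcomm := f.torus_comm w₃.2 hvH hw₃o hvo hw₃t hvt hw₃inv hvinv
    have hzn : (w₃ : G) ∈ normalizer (coreP r (oCore t) : Set G) :=
      cent_le_normalizer_coreP r t (Hyp.oCore_le_cent t hw₃O)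
    have hcP : (w₃ : G) * v ∈ coreP r (oCore t) := by
      rw [hv, show (w₃ : G) * (zr * (w₃ : G)⁻¹ * zr⁻¹) = (w₃ : G) * zr * (w₃ : G)⁻¹ * zr⁻¹ by group]
      exact mul_mem ((mem_normalizer_iff.1 hzn _).1 hzrO) (inv_mem hzrO)
    have hcm : ((w₃ : G) * v) ^ m' = 1 := by
      have h1 : (w₃ : G) ^ m' = 1 := by rw [← Subgroup.coe_pow, hw₃m, Subgroup.coe_one]
      rw [hcomm.mul_pow, h1, hv, ← MulAut.conj_apply, ← map_pow, inv_pow, h1, inv_one, map_one, one_mul]
    have hc1 : (w₃ : G) * v = 1 := by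
      obtain ⟨l, hl⟩ := isPGroup_coreP r (oCore t) ⟨_, hcP⟩
      obtain ⟨i₂, -, hi₂⟩ := (Nat.dvd_prime_pow hr).1
        (orderOf_dvd_of_pow_eq_one (congrArg Subtype.val hl : ((w₃ : G) * v) ^ r ^ l = 1))
      rcases i₂ with _ | i₂
      · exact orderOf_eq_one_iff.1 hi₂
      · exact absurd ((dvd_pow_self r i₂.succ_ne_zero).trans (hi₂ ▸ orderOf_dvd_of_pow_eq_one hcm)) hm'
    have hzw : Commute (⟨zr, hzrH⟩ : H) w₃ := Subtype.ext (by
      show zr * (w₃ : G) = (w₃ : G) * zr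
      calc zr * (w₃ : G) = ((w₃ : G) * v) * (zr * (w₃ : G)) := by rw [hc1, one_mul]
        _ = (w₃ : G) * zr := by rw [hv]; group)
    have h2 := hzw.map π
    rw [hw₃x] at h2
    exact (commute_of_sq hxo h2.symm).symm
  have h1 : (π ⟨z, hzH⟩) ^ m = 1 := by
    rw [← map_pow]; exact (congrArg π (Subtype.ext rfl : (⟨z, hzH⟩ : H) ^ m = ⟨zr, hzrH⟩)).trans hz1
  exact hmd (hrd.trans (orderOf_dvd_of_pow_eq_one h1))

/-- If `y` centralises the layer of `H`, it is the layer of `N⟨y⟩`. -/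
theorem layerN_eq (f : Frame H E t b) {y : G} (hle : normalizer (zpowers y : Set G) ≤ H)
    (hy : ∀ l ∈ layerOf H, Commute y l) :
    layerN y = layerOf H ∧ Cfsg.generalizedFittingSubgroup ↥(normalizer (zpowers y : Set G)) ≠
      Cfsg.fittingSubgroup ↥(normalizer (zpowers y : Set G)) := by
  have hLN : layerOf H ≤ normalizer (zpowers y : Set G) := fun l hl =>
    mem_normalizer_zpowers_of_commute (hy l hl).symm
  show layerOf (normalizer (zpowers y : Set G)) = layerOf H ∧ _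
  set N := normalizer (zpowers y : Set G)
  have h1 : layerOf H ≤ layerOf N := by
    have h2 : Cfsg.layer ↥H ≤ (Cfsg.layer ↥(N.subgroupOf H)).map (N.subgroupOf H).subtype :=
      Components.layer_le_map_layer_of_le fun l hl => hLN ⟨l, hl, rfl⟩
    rintro _ ⟨l, hl, rfl⟩
    obtain ⟨l', hl', e⟩ := h2 hl
    refine ⟨subgroupOfEquivOfLe hle l', ?_, ?_⟩
    · rw [← Components.map_layer (subgroupOfEquivOfLe hle)]
      exact mem_map_of_mem _ hl'
    · rw [← e]; rfl
  have hnorm : ((layerOf H).subgroupOf N).Normal := ⟨fun l hl x =>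
    layerOf_normal (hle x.2) hl⟩
  have h3 : layerOf N ≤ layerOf H := by
    show (Cfsg.layer ↥N).map N.subtype ≤ _
    rw [map_le_iff_le_comap]
    refine sSup_le fun K hK => ?_
    rcases Components.IsComponent.le_or_commutator_eq_bot_of_normal hK ((layerOf H).subgroupOf N)
      with h | h
    · exact h
    · exfalso
      haveI : Group.IsSolvable (Cfsg.oddCore ↥H) := Cfsg.Agent.S0205.result PCore.odd_card_oddCore
      have hK' : ∀ k ∈ K, (⟨(k : G), hle k.2⟩ : H) ∈ Cfsg.oddCore ↥H := fun k hk => (f.iff _).1 fun e he => by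
        refine Subtype.ext ?_
        have h4 := mem_centralizer_iff.1 (commutator_eq_bot_iff_le_centralizer.1 h hk)
          ⟨(e : G), hLN ⟨e, he, rfl⟩⟩ ⟨e, he, rfl⟩
        exact (congrArg Subtype.val h4).symm
      let φ : K →* Cfsg.oddCore ↥H :=
        ((inclusion hle).comp K.subtype).codRestrict _ fun k => hK' k k.2
      exact Components.IsComponent.not_isSolvable hK (Group.isSolvable_of_isSolvable_injective (f := φ)
        fun k k' e => Subtype.ext (inclusion_injective hle (congrArg Subtype.val e :)))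
  refine ⟨le_antisymm h3 h1, fun hF => ?_⟩
  have hbot : Cfsg.layer ↥N = ⊥ :=
    Components.layer_eq_bot_iff.2 (Components.generalizedFittingSubgroup_eq_fittingSubgroup_iff.1 hF)
  have htN : t ∈ layerOf N := h1 f.ha
  rw [layerOf, hbot, Subgroup.map_bot, mem_bot] at htN
  exact BSW.ne_one_of_order f.pair.ha htN

end Frame

end CompLocal

open CompLocal

namespace Pin

variable {G : Type u} [Group G] [Finite G] {S : Sylow 2 G} {t b y τ : G}

/-- The frame of a point. -/
theorem exists_local (hyp : Hyp S t) (hk : ProperKnown G) (hM : IsCoatom (Cent t)) (hm : FixModel.{u})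
    (p : Pin t b y τ) :
    ∃ (H : Subgroup G) (E : Subgroup (↥H ⧸ Cfsg.oddCore ↥H)),
      normalizer (zpowers y : Set G) ≤ H ∧ Frame H E t b ∧ layerN y = layerOf H ∧
      Cfsg.generalizedFittingSubgroup ↥(normalizer (zpowers y : Set G)) ≠
        Cfsg.fittingSubgroup ↥(normalizer (zpowers y : Set G)) ∧
      ∀ z ∈ qFix t b, Commute z y → ∀ l ∈ layerOf H, Commute z l := by
  obtain ⟨g, hg, hgd⟩ := p.cycle
  have hyb : Commute y b := mem_cent.1 p.mem_y.2
  obtain ⟨H, E, -, hle, f⟩ := exists_frame hyp hk hM p.pair hg p.mem_y.1 p.ne_y hyb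
    (hgd y ⟨fitCore_le_oCore t p.mem_y.1, p.mem_y.2⟩).symm
  have hmem : ∀ {x : G}, Commute x y → x ∈ H := fun hx => hle (mem_normalizer_zpowers_of_commute hx)
  have hfix : ∀ z ∈ qFix t b, Commute z y → ∀ l ∈ layerOf H, Commute z l := fun z hz hzy =>
    f.commute_fixed hyp hm (hmem p.comm) p.mem_τ p.ne_τ p.inv_τ hz (hmem hzy)
  obtain ⟨h1, h2⟩ := f.layerN_eq hle (hfix y p.mem_y (Commute.refl y))
  exact ⟨H, E, hle, f, h1, h2, hfix⟩

theorem layer_ne (hyp : Hyp S t) (hk : ProperKnown G) (hM : IsCoatom (Cent t)) (hm : FixModel.{u})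
    (p : Pin t b y τ) :
    Cfsg.generalizedFittingSubgroup ↥(normalizer (zpowers y : Set G)) ≠
      Cfsg.fittingSubgroup ↥(normalizer (zpowers y : Set G)) := by
  obtain ⟨H, E, -, -, -, h, -⟩ := p.exists_local hyp hk hM hm
  exact h

theorem mem_layer (hyp : Hyp S t) (hk : ProperKnown G) (hM : IsCoatom (Cent t)) (hm : FixModel.{u})
    (p : Pin t b y τ) : t ∈ layerN y ∧ b ∈ layerN y := by
  obtain ⟨H, E, -, f, h, -, -⟩ := p.exists_local hyp hk hM hm
  rw [h]
  exact ⟨f.ha, f.hb⟩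

theorem commute_layer (hyp : Hyp S t) (hk : ProperKnown G) (hM : IsCoatom (Cent t)) (hm : FixModel.{u})
    (p : Pin t b y τ) {z : G} (hz : z ∈ qFix t b) (hzy : Commute z y) :
    ∀ l ∈ layerN y, Commute z l := by
  obtain ⟨H, E, -, -, h, -, hfix⟩ := p.exists_local hyp hk hM hm
  rw [h]
  exact hfix z hz hzy

theorem exists_torus (hyp : Hyp S t) (hk : ProperKnown G) (hM : IsCoatom (Cent t)) (hm : FixModel.{u})
    (p : Pin t b y τ) :
    ∃ T : Subgroup G, IsCyclic T ∧ T ≤ layerN y ∧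
      ∀ x, x ∈ T ↔ (x ∈ oCore t ∧ Commute x y ∧ b * x * b⁻¹ = x⁻¹) := by
  obtain ⟨H, E, hle, f, h, -, -⟩ := p.exists_local hyp hk hM hm
  have hmem : ∀ {x : G}, Commute x y → x ∈ H := fun hx => hle (mem_normalizer_zpowers_of_commute hx)
  have hodd : ∀ {x : G}, x ∈ oCore t → Odd (orderOf x) := fun hx =>
    (hyp.odd_oCore t).of_dvd_nat (Subgroup.orderOf_dvd_natCard _ hx)
  have hct : ∀ {x : G}, x ∈ oCore t → Commute x t := fun hx => mem_cent.1 (Hyp.oCore_le_cent t hx)
  let T : Subgroup G :=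
    { carrier := {x | x ∈ oCore t ∧ Commute x y ∧ b * x * b⁻¹ = x⁻¹}
      one_mem' := ⟨one_mem _, Commute.one_left y, by group⟩
      mul_mem' := fun {x x'} ⟨h1, h2, h3⟩ ⟨h1', h2', h3'⟩ => ⟨mul_mem h1 h1', h2.mul_left h2', by
        rw [show b * (x * x') * b⁻¹ = b * x * b⁻¹ * (b * x' * b⁻¹) by group, h3, h3',
          (f.torus_comm (hmem h2) (hmem h2') (hodd h1) (hodd h1') (hct h1) (hct h1') h3 h3').inv_inv.eq,
          mul_inv_rev]⟩
      inv_mem' := fun {x} ⟨h1, h2, h3⟩ => ⟨inv_mem h1, h2.inv_left, by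
        rw [← conj_inv, h3]⟩ }
  obtain ⟨u, -, hu⟩ := f.exists_gen
  let φ : T →* zpowers u := ((proj H).comp
    (inclusion (show T ≤ H from fun x hx => hmem hx.2.1))).codRestrict (zpowers u) fun x =>
      hu _ (by rw [← orderOf_coe]; exact hodd x.2.1) (hct x.2.1) x.2.2.2
  have hφ : Function.Injective φ := by
    rw [injective_iff_map_eq_one]
    intro x hx
    exact Subtype.ext (f.eq_one_of_proj (congrArg Subtype.val hx :)
      (by rw [← orderOf_coe]; exact hodd x.2.1) x.2.2.2)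
  refine ⟨T, isCyclic_of_injective φ hφ, fun x hx => ?_, fun x => Iff.rfl⟩
  rw [h]
  exact f.inverted_mem (hmem hx.2.1) (hodd hx.1) hx.2.2

/-- A reflection inverting `y` does not centralise `τ`. -/
theorem not_refl (hyp : Hyp S t) (hk : ProperKnown G) (hM : IsCoatom (Cent t)) (hm : FixModel.{u})
    (p : Pin t b y τ) {u : G} (hu : orderOf u = 2) (hut : u ≠ t) (hc : Commute u t)
    (huy : u * y * u⁻¹ = y⁻¹) (huτ : Commute u τ) : False := by
  obtain ⟨H, E, hle, f, -, -, hfix⟩ := p.exists_local hyp hk hM hm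
  haveI := f.normal
  have huH : u ∈ H := hle (mem_normalizer_iff_map_conj_eq.2 (by
    rw [MonoidHom.map_zpowers]
    show zpowers (u * y * u⁻¹) = zpowers y
    rw [huy, zpowers_inv]))
  have hyH : y ∈ H := hle (mem_normalizer_zpowers_of_commute (Commute.refl y))
  have hτH : τ ∈ H := hle (mem_normalizer_zpowers_of_commute p.comm)
  have hτo : Odd (orderOf (⟨τ, hτH⟩ : H)) := by
    rw [orderOf_mk]; exact (hyp.odd_oCore t).of_dvd_nat (Subgroup.orderOf_dvd_natCard _ p.mem_τ)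
  have hyO : (⟨y, hyH⟩ : H) ∈ Cfsg.oddCore ↥H := (f.iff _).1 fun e he =>
    Subtype.ext (hfix y p.mem_y (Commute.refl y) e (mem_map_of_mem _ he)).eq
  have hout : proj H ⟨u, huH⟩ ∉ E := fun hx =>
    not_inner_of_inverts f.le_layer (fun z hz => (f.iff z).2 hz) hx hyO
      (fun e => p.ne_y (congrArg Subtype.val e)) (Subtype.ext huy)
  refine p.ne_τ (f.eq_one_of_proj (x := ⟨τ, hτH⟩) ?_ hτo p.inv_τ)
  refine eq_one_of_outer f.dih E f.known (mk_orderOf (by rw [orderOf_mk]; exact hu)) hout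
    (c := proj H ⟨t, f.a_mem⟩) (mk_orderOf (by rw [orderOf_mk]; exact f.pair.ha)) (f.haE f.a_mem)
    (f.proj_mem hτo p.inv_τ) (hτo.of_dvd_nat (orderOf_map_dvd _ _))
    ((show Commute (⟨τ, hτH⟩ : H) ⟨u, huH⟩ from Subtype.ext huτ.symm.eq).map _)
    ((show Commute (⟨τ, hτH⟩ : H) ⟨t, f.a_mem⟩ from
      Subtype.ext (mem_cent.1 (Hyp.oCore_le_cent t p.mem_τ))).map _)

/-- Without reflections centralising `y` and `τ` the layer is `PSL₂(q)`, `q ≥ 11`. -/
theorem psl (hyp : Hyp S t) (hk : ProperKnown G) (hM : IsCoatom (Cent t)) (hm : FixModel.{u})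
    (p : Pin t b y τ)
    (hinv : ∀ u : G, orderOf u = 2 → u ≠ t → Commute u t → Commute u y → ¬ Commute u τ) :
    ∃ (F : Type) (_ : Field F) (_ : Fintype F), Odd (Fintype.card F) ∧ 11 ≤ Fintype.card F ∧
      Nonempty (layerN y ≃* Matrix.ProjectiveSpecialLinearGroup (Fin 2) F) := by
  haveI : Fact (Nat.Prime 2) := ⟨Nat.prime_two⟩
  obtain ⟨H, E, hle, f, hlN, -, hfix⟩ := p.exists_local hyp hk hM hm
  haveI := f.normal
  haveI := f.simple
  have hτH : τ ∈ H := hle (mem_normalizer_zpowers_of_commute p.comm)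
  let τ' : H := ⟨τ, hτH⟩
  let t' : H := ⟨t, f.a_mem⟩
  have hτt : Commute τ t := mem_cent.1 (Hyp.oCore_le_cent t p.mem_τ)
  have hτo : Odd (orderOf τ') := by
    rw [orderOf_mk]; exact (hyp.odd_oCore t).of_dvd_nat (Subgroup.orderOf_dvd_natCard _ p.mem_τ)
  have ht' : orderOf t' = 2 := by rw [orderOf_mk]; exact f.pair.ha
  let a : E := ⟨proj H t', f.haE f.a_mem⟩
  let x : E := ⟨proj H τ', f.proj_mem hτo p.inv_τ⟩
  have ha : orderOf a = 2 := by rw [orderOf_mk]; exact mk_orderOf ht'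
  have hxo : Odd (orderOf x) := by rw [orderOf_mk]; exact hτo.of_dvd_nat (orderOf_map_dvd _ _)
  have hx1 : x ≠ 1 := fun e => p.ne_τ (f.eq_one_of_proj (congrArg Subtype.val e :) hτo p.inv_τ)
  have hxa : Commute x a :=
    Subtype.ext ((show Commute τ' t' from Subtype.ext hτt.eq).map (proj H)).eq
  rcases id f.known with ⟨F, iF, iF', hodd, -, ⟨e⟩⟩ | ⟨⟨e⟩⟩
  swap
  · exfalso
    obtain ⟨u, hu, hua, huc, hux⟩ := alt_seven_refl (f.dih.subgroup E) f.known e ha hxo hxa
    obtain ⟨x₀, hx₀⟩ := QuotientGroup.mk'_surjective (Cfsg.oddCore ↥H) (u : _)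
    obtain ⟨w, hw, hwt⟩ := exists_lift_commute (x := x₀) ht'
      (hx₀ ▸ congrArg Subtype.val huc.eq)
    rw [hx₀] at hw
    obtain ⟨k, m, hm', hwo⟩ := Nat.exists_eq_pow_mul_and_not_dvd (orderOf_pos w).ne' 2 (by norm_num)
    have hm2 : Odd m := Nat.not_even_iff_odd.1 fun h => hm' h.two_dvd
    obtain ⟨v, hv⟩ : ∃ v : H, v = w ^ m := ⟨_, rfl⟩
    have hu' : orderOf (u : ↥H ⧸ Cfsg.oddCore ↥H) = 2 := by rw [orderOf_coe]; exact hu
    have hvu : proj H v = u := by
      obtain ⟨j, hj⟩ := hm2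
      rw [hv, map_pow, hw, hj, pow_succ, pow_mul, pow_two, BSW.sq_of_order hu', one_pow, one_mul]
    have hvv : v * v = 1 := by
      have h1 : v * v ∈ Cfsg.oddCore ↥H := (QuotientGroup.eq_one_iff _).1 (by
        show proj H (v * v) = 1
        rw [map_mul, hvu, BSW.sq_of_order hu'])
      have h2 : orderOf (v * v) ∣ 2 ^ k := orderOf_dvd_of_pow_eq_one (by
        rw [hv, ← pow_add, ← pow_mul, show (m + m) * 2 ^ k = 2 ^ k * m * 2 by ring, ← hwo, pow_mul,
          pow_orderOf_eq_one, one_pow])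
      exact orderOf_eq_one_iff.1 (Nat.eq_one_of_dvd_coprimes ((Nat.coprime_two_right.2
        (PCore.odd_card_oddCore.of_dvd_nat (Subgroup.orderOf_dvd_natCard _ h1))).pow_right k) dvd_rfl h2)
    have hv1 : v ≠ 1 := fun e => by
      rw [← hvu, e, map_one, orderOf_one] at hu'
      omega
    have hvL : (v : G) ∈ layerOf H := mem_layerOf f.le_layer f.iff hvv (hvu ▸ u.2)
    set c := v * τ' * v⁻¹ * τ'⁻¹ with hc
    have hcO : c ∈ Cfsg.oddCore ↥H := (QuotientGroup.eq_one_iff _).1 (by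
      show proj H c = 1
      rw [hc, map_mul, map_mul, map_mul, map_inv, map_inv, hvu]
      have h1 := congrArg Subtype.val hux.eq
      change (u : ↥H ⧸ Cfsg.oddCore ↥H) * proj H τ' = proj H τ' * u at h1
      rw [h1]; group)
    have hvc : Commute c v := Subtype.ext (f.mem_oddCore_commute hcO hvL).eq
    have hτc : Commute c τ' := Subtype.ext
      (f.mem_oddCore_commute hcO (f.inverted_mem hτH (by rwa [orderOf_mk] at hτo) p.inv_τ)).eq
    have hcc : c * c = 1 := by
      have hvi : v⁻¹ = v := inv_eq_of_mul_eq_one_right hvv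
      have h3 : c = τ' * (v * τ'⁻¹ * v⁻¹) := by
        calc c = v * c * v⁻¹ := by rw [← hvc.eq, mul_inv_cancel_right]
          _ = v * v * τ' * (v⁻¹ * τ'⁻¹ * v⁻¹) := by rw [hc]; group
          _ = τ' * (v * τ'⁻¹ * v⁻¹) := by rw [hvv, one_mul, hvi]
      have h4 : c⁻¹ = τ' * (v * τ'⁻¹ * v⁻¹) := by rw [hc]; group
      exact inv_eq_iff_mul_eq_one.1 (h4.trans h3.symm)
    have hc1 : c = 1 := by
      have h5 : orderOf c ∣ 2 := orderOf_dvd_of_pow_eq_one (by rw [pow_two, hcc])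
      exact orderOf_eq_one_iff.1 (Nat.eq_one_of_dvd_coprimes (Nat.coprime_two_right.2
        (PCore.odd_card_oddCore.of_dvd_nat (Subgroup.orderOf_dvd_natCard _ hcO))) dvd_rfl h5)
    refine hinv v (by rw [orderOf_coe]; exact orderOf_eq_prime (by rw [pow_two, hvv]) hv1) (fun e => ?_)
      ?_ (hfix y p.mem_y (Commute.refl y) v hvL).symm ?_
    · exact hua (Subtype.ext (hvu.symm.trans (congrArg (proj H) (Subtype.ext e : v = t'))))
    · rw [hv, Subgroup.coe_pow]
      exact (show Commute (w : G) t from congrArg Subtype.val hwt.eq).pow_left m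
    · refine congrArg Subtype.val (show v * τ' = τ' * v from ?_)
      exact mul_inv_eq_iff_eq_mul.1 (mul_inv_eq_one.1 hc1)
  have h2 : (2 : F) ≠ 0 := PSL2.odd_card_iff.1 hodd
  have hea : orderOf (e a) = 2 := (MulEquiv.orderOf_eq e a).trans ha
  obtain ⟨n, hn, ⟨eC⟩⟩ := PSL2.dihedral_centralizer_involution h2 hea
  have hcardC : Nat.card (centralizer ({e a} : Set PSL(2, F))) = 2 * n := by
    rw [Nat.card_congr eC.toEquiv, DihedralGroup.nat_card]
  have hxn : orderOf x ∣ 2 * n := by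
    rw [← hcardC, ← MulEquiv.orderOf_eq e x]
    exact Subgroup.orderOf_dvd_natCard _ (mem_centralizer_singleton_iff.2 (hxa.map e).eq)
  have h4n : 4 ∣ 2 * n := by
    rw [← hcardC]
    let b₀ : E := ⟨proj H ⟨b, f.b_mem⟩, f.hbE f.b_mem⟩
    have hb : orderOf (e b₀) = 2 := by
      rw [MulEquiv.orderOf_eq, orderOf_mk]; exact mk_orderOf (by rw [orderOf_mk]; exact f.pair.hb)
    have hab : e a * e b₀ = e b₀ * e a := by
      rw [← map_mul, ← map_mul]
      refine congrArg e (Subtype.ext ?_)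
      exact ((show Commute t' (⟨b, f.b_mem⟩ : H) from Subtype.ext f.pair.comm).map (proj H)).eq
    have hne : e a ≠ e b₀ := fun h => by
      have h' : proj H t' = proj H ⟨b, f.b_mem⟩ := congrArg Subtype.val (e.injective h)
      have h2 := mk_orderOf (show orderOf (t' * (⟨b, f.b_mem⟩ : H)) = 2 from by
        rw [show t' * (⟨b, f.b_mem⟩ : H) = ⟨t * b, mul_mem f.a_mem f.b_mem⟩ from rfl, orderOf_mk]
        exact f.pair.order_mul)
      rw [map_mul, show QuotientGroup.mk' _ t' = proj H ⟨b, f.b_mem⟩ from h',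
        BSW.sq_of_order (mk_orderOf (show orderOf (⟨b, f.b_mem⟩ : H) = 2 by rw [orderOf_mk]; exact f.pair.hb)),
        orderOf_one] at h2
      omega
    obtain ⟨V, hV, hVle, -, -⟩ := exists_four_of_commute hea hb hab hne
      (L := centralizer ({e a} : Set PSL(2, F))) (mem_centralizer_singleton_iff.2 rfl)
      (mem_centralizer_singleton_iff.2 hab.symm)
    exact hV.card_four ▸ card_dvd_of_le hVle
  have h6 : 6 ≤ n := by
    have h3 : 3 ≤ orderOf x := by
      obtain ⟨j, hj⟩ := hxo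
      rcases j with _ | j
      · exact absurd (orderOf_eq_one_iff.1 (by simpa using hj)) hx1
      · omega
    have hn0 : 0 < n := by
      rcases Nat.eq_zero_or_pos n with rfl | h
      · have := hcardC; simp at this; exact absurd this (Nat.card_pos).ne'
      · exact h
    have h1 : orderOf x ∣ n := (Nat.coprime_two_right.2 hxo).dvd_of_dvd_mul_left hxn
    obtain ⟨n', rfl⟩ : 2 ∣ n := Nat.dvd_of_mul_dvd_mul_left two_pos (show 2 * 2 ∣ 2 * n from h4n)
    have := Nat.le_of_dvd (by omega) ((Nat.coprime_two_right.2 hxo).dvd_of_dvd_mul_left h1)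
    omega
  have h11 : 11 ≤ Fintype.card F := by omega
  refine ⟨F, iF, iF', hodd, h11, ?_⟩
  have hLE : ∀ l ∈ Cfsg.layer ↥H, proj H l ∈ E := by
    show Cfsg.layer ↥H ≤ E.comap (proj H)
    refine sSup_le fun K hK => ?_
    rw [← map_le_iff_le_comap]
    by_cases hb0 : K.map (proj H) = ⊥
    · rw [hb0]; exact bot_le
    rcases Components.IsComponent.le_or_commutator_eq_bot_of_normal
      (Components.IsComponent.map_of_surjective hK (QuotientGroup.mk'_surjective _) hb0) E with h | h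
    · exact h
    · exact absurd (le_bot_iff.1 (f.cent ▸ commutator_eq_bot_iff_le_centralizer.1 h)) hb0
  let σ : Cfsg.layer ↥H →* PSL(2, F) :=
    e.toMonoidHom.comp (((proj H).comp (Cfsg.layer ↥H).subtype).codRestrict E fun l => hLE l l.2)
  have hσ : Function.Surjective σ := fun s => by
    obtain ⟨l, hl, hle'⟩ := f.le_layer (e.symm s).2
    exact ⟨⟨l, hl⟩, (congrArg e (Subtype.ext hle' : _ = e.symm s)).trans (e.apply_symm_apply s)⟩
  have hker : ∀ l ∈ σ.ker, ((l : Cfsg.layer ↥H) : H) ∈ Cfsg.oddCore ↥H := fun l hl =>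
    (QuotientGroup.eq_one_iff _).1 (congrArg Subtype.val ((map_eq_one_iff e e.injective).1 hl) :)
  have hz : σ.ker ≤ center _ := fun l hl => mem_center_iff.2 fun m => Subtype.ext
    (((f.iff _).2 (hker l hl) m m.2).eq).symm
  have hodd' : Odd (Nat.card σ.ker) := PCore.odd_card_oddCore.of_dvd_nat
    (card_dvd_of_injective (((Cfsg.layer ↥H).subtype.comp σ.ker.subtype).codRestrict
      (Cfsg.oddCore ↥H) fun l => hker _ l.2)
      fun l l' h => Subtype.ext (Subtype.ext (congrArg Subtype.val h :)))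
  have hinj := psl_central_injective (by omega) (by omega) σ hσ hz hodd'
  rw [hlN]
  exact ⟨((Cfsg.layer ↥H).equivMapOfInjective H.subtype H.subtype_injective).symm.trans
    (MulEquiv.ofBijective σ ⟨hinj, hσ⟩)⟩

end Pin

end Cfsg.Agent.GW
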