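import Cfsg.Agent.Lib.GW.PartII.Setting
import Cfsg.Agent.Lib.GW.OuterCirc
import Cfsg.Agent.Lib.GW.TwoPrimes
import Cfsg.Agent.Lib.Components.GenFitting
import Cfsg.Agent.S0205

/-!
# Inverted elements over a component (case C of Part II)

* `inverted_commute_layer`: in a proper subgroup `H` with a layer, an element of odd order of `H ⊓ M` inverted by
  an involution `a` centralises the layer, if `M` has a normal 2-complement and contains `C_H(a)`.
* `commute_layer_of_tori`: two commuting involutions, one inner and one outer, do not share a prime in their tori.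
-/

set_option autoImplicit false
set_option linter.unusedSectionVars false
set_option linter.style.haveILetI false

namespace Cfsg.Agent.GW

open Subgroup
open scoped MatrixGroups
open Cfsg.Agent.AutPSL (conjP)

universe u

namespace CompInverted

variable {X : Type u} [Group X] [Finite X]

theorem eq_one_of_commute_inverted {a z : X} (hz : Odd (orderOf z)) (hinv : a * z * a⁻¹ = z⁻¹)
    (hc : Commute z a) : z = 1 := by
  rw [← hc.eq, mul_inv_cancel_right] at hinv
  obtain ⟨j, hj⟩ := hz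
  have h2 : z * z = 1 := by nth_rewrite 2 [hinv]; exact mul_inv_cancel z
  have := pow_orderOf_eq_one z
  rwa [hj, pow_succ, pow_mul, pow_two, h2, one_pow, one_mul] at this

theorem mem_of_sq_mem {E : Subgroup X} {z : X} (hz : Odd (orderOf z)) (h : z * z ∈ E) : z ∈ E := by
  obtain ⟨j, hj⟩ := hz
  have h1 : (z * z) ^ (j + 1) = z := by
    rw [← pow_two, ← pow_mul, show 2 * (j + 1) = orderOf z + 1 by omega, pow_succ, pow_orderOf_eq_one, one_mul]
  exact h1 ▸ pow_mem h _

theorem noFour_of_not_mem (hd : SubDihedral X) (E : Subgroup X) [E.Normal] {a : X} (ha : orderOf a = 2)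
    (haE : a ∉ E) : OuterPair.NoFour (OuterPair.fix (MulAut.conjNormal a : MulAut E)) := by
  intro x hx y hy hox hoy hxy
  by_contra hne
  have hmem : ∀ w : E, w ∈ OuterPair.fix (MulAut.conjNormal a : MulAut E) →
      (w : X) ∈ E ⊓ centralizer ({a} : Set X) := fun w hw => by
    refine ⟨w.2, mem_centralizer_singleton_iff.2 ?_⟩
    have h1 := congrArg Subtype.val (OuterPair.mem_fix.1 hw)
    rw [MulAut.conjNormal_apply] at h1
    exact (mul_inv_eq_iff_eq_mul.1 h1).symm
  obtain ⟨V, hV, hVle, -, -⟩ := exists_four_of_commute (a := (x : X)) (b := (y : X))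
    (by rw [orderOf_coe]; exact hox) (by rw [orderOf_coe]; exact hoy) (congrArg Subtype.val hxy)
    (fun h => hne (Subtype.ext h)) (hmem x hx) (hmem y hy)
  haveI := hV
  haveI : Fact (Nat.Prime 2) := ⟨Nat.prime_two⟩
  refine haE ((hVle (hd.mem_four V (IsPGroup.of_card (n := 1) (by rw [Nat.card_zpowers, ha, pow_one])) ?_)).1)
  exact mem_centralizer_iff.2 fun v hv => mem_centralizer_singleton_iff.1 (hVle hv).2

variable (E : Subgroup X) [E.Normal]

theorem congr_conjNormal {Y : Type*} [Group Y] (e : E ≃* Y) (s : E) :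
    MulAut.congr e (MulAut.conjNormal (s : X) : MulAut E) = MulAut.conj (e s) := by
  refine MulEquiv.ext fun w => ?_
  show e ((MulAut.conjNormal (s : X) : MulAut E) (e.symm w)) = e s * w * (e s)⁻¹
  have h : (MulAut.conjNormal (s : X) : MulAut E) (e.symm w) = s * e.symm w * s⁻¹ := Subtype.ext (by
    rw [MulAut.conjNormal_apply]; rfl)
  rw [h, map_mul, map_mul, map_inv, e.apply_symm_apply]

theorem mem_of_conj (hC : centralizer (E : Set X) = ⊥) {Y : Type*} [Group Y] (e : E ≃* Y) {y : X} {x : Y}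
    (h : MulAut.congr e (MulAut.conjNormal y : MulAut E) = MulAut.conj x) : y ∈ E := by
  rw [← e.apply_symm_apply x, ← congr_conjNormal E e] at h
  have h' := (MulAut.congr e).injective h
  set s := e.symm x
  have : (s : X)⁻¹ * y ∈ centralizer (E : Set X) := mem_centralizer_iff.2 fun w hw => by
    have h1 := congrArg Subtype.val (MulEquiv.congr_fun h' ⟨w, hw⟩)
    rw [MulAut.conjNormal_apply, MulAut.conjNormal_apply] at h1
    change y * w * y⁻¹ = (s : X) * w * (s : X)⁻¹ at h1
    calc w * ((s : X)⁻¹ * y) = (s : X)⁻¹ * ((s : X) * w * (s : X)⁻¹) * y := by group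
      _ = (s : X)⁻¹ * y * w := by rw [← h1]; group
  rw [hC, mem_bot, inv_mul_eq_one] at this
  exact this ▸ s.2

/-- The data of an outer involution. -/
theorem outer_form (hd : SubDihedral X) (hk : IsKnown E) {a : X} (ha : orderOf a = 2) (haE : a ∉ E) :
    ∃ (F : Type) (_ : Field F) (_ : Fintype F) (c : F) (g : GL (Fin 2) F)
      (e : E ≃* Matrix.ProjectiveSpecialLinearGroup (Fin 2) F),
      Odd (Fintype.card F) ∧ 3 < Fintype.card F ∧ g.val = OuterGen.gmat c ∧
      MulAut.congr e (MulAut.conjNormal a : MulAut E) = conjP g ∧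
      OuterPair.NoFour (OuterPair.fix (conjP g : MulAut (Matrix.ProjectiveSpecialLinearGroup (Fin 2) F))) := by
  have hsq : (MulAut.conjNormal a : MulAut E) * MulAut.conjNormal a = 1 := by
    rw [← map_mul, BSW.sq_of_order ha, map_one]
  have hN := noFour_of_not_mem hd E ha haE
  rcases hk with ⟨F, iF, iF', hodd, h3, ⟨e₀⟩⟩ | ⟨⟨e⟩⟩
  · have h2 : (2 : F) ≠ 0 := PSL2.odd_card_iff.1 hodd
    have hsq₀ : MulAut.congr e₀ (MulAut.conjNormal a : MulAut E) *
        MulAut.congr e₀ (MulAut.conjNormal a : MulAut E) = 1 := by rw [← map_mul, hsq, map_one]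
    obtain ⟨g, hg, htr⟩ := OuterPair.invol_form h2 hsq₀ (OuterPair.noFour_congr e₀ hN)
    obtain ⟨c, k, -, hk'⟩ := OuterPair.exists_conj_gmat h2 g htr
    set d : MulAut (Matrix.ProjectiveSpecialLinearGroup (Fin 2) F) := (conjP k)⁻¹
    have he : MulAut.congr (e₀.trans d) (MulAut.conjNormal a : MulAut E) = conjP (k⁻¹ * g * k) := by
      rw [map_mul, map_mul, map_inv, ← hg]
      exact MulEquiv.ext fun w => rfl
    exact ⟨F, iF, iF', c, k⁻¹ * g * k, e₀.trans d, hodd, h3, hk', he, he ▸ OuterPair.noFour_congr _ hN⟩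
  · exact absurd (OuterPair.noFour_congr e hN)
      (OuterPair.not_noFour_seven _ (by rw [← map_mul, hsq, map_one]))

variable [IsSimpleGroup E] (hd : SubDihedral X) (hk : IsKnown E) (hC : centralizer (E : Set X) = ⊥)

include hd hk hC

/-- Elements of odd order inverted by an involution lie in `E`. -/
theorem mem_of_inverted {a z : X} (ha : orderOf a = 2) (hz : Odd (orderOf z))
    (hinv : a * z * a⁻¹ = z⁻¹) : z ∈ E := by
  refine mem_of_sq_mem hz ?_
  by_cases haE : a ∈ E
  · have h1 : a * (z * a⁻¹ * z⁻¹) ∈ E :=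
      mul_mem haE (Subgroup.Normal.conj_mem ‹E.Normal› _ (inv_mem haE) z)
    rw [show a * (z * a⁻¹ * z⁻¹) = (a * z * a⁻¹) * z⁻¹ by group, hinv, ← mul_inv_rev] at h1
    exact inv_mem_iff.1 h1
  obtain ⟨F, _, _, c, g, e, hodd, h3, hg, he, hN⟩ := outer_form E hd hk ha haE
  let φ : X →* MulAut (Matrix.ProjectiveSpecialLinearGroup (Fin 2) F) :=
    (MulAut.congr e).toMonoidHom.comp MulAut.conjNormal
  have hφa : φ a = conjP g := he
  obtain ⟨x, hx⟩ := OuterCirc.semilinear_inverted (g := g) (β := φ z) (hz.of_dvd_nat (orderOf_map_dvd φ z)) (by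
    rw [← hφa, ← map_mul, ← map_mul, ← map_inv φ, ← hinv, BSW.inv_of_order ha])
  refine mem_of_conj E hC e (x := x) ?_
  rw [← hx, ← map_mul]
  rfl

/-- The product of two commuting outer involutions is inner. -/
theorem product_mem {a b : X} (ha : orderOf a = 2) (hb : orderOf b = 2) (haE : a ∉ E) (hbE : b ∉ E) :
    a * b ∈ E := by
  obtain ⟨F, _, _, c, g, e, hodd, h3, hg, he, hN⟩ := outer_form E hd hk ha haE
  have h2 : (2 : F) ≠ 0 := PSL2.odd_card_iff.1 hodd
  have hNb := OuterPair.noFour_congr e (noFour_of_not_mem hd E hb hbE)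
  obtain ⟨h, hh, htr⟩ := OuterPair.invol_form h2
    (by rw [← map_mul, ← map_mul, BSW.sq_of_order hb, map_one, map_one]) hNb
  rw [hh] at hNb
  have hd1 : ¬ IsSquare h.val.det := by
    obtain ⟨c', k, hc', hk'⟩ := OuterPair.exists_conj_gmat h2 h htr
    have hN' := OuterPair.noFour_congr
      (((conjP k : MulAut (Matrix.ProjectiveSpecialLinearGroup (Fin 2) F))⁻¹ :
        MulAut (Matrix.ProjectiveSpecialLinearGroup (Fin 2) F))) hNb
    rw [show MulAut.congr (((conjP k : MulAut (Matrix.ProjectiveSpecialLinearGroup (Fin 2) F))⁻¹ :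
        MulAut (Matrix.ProjectiveSpecialLinearGroup (Fin 2) F))) (conjP h) = conjP (k⁻¹ * h * k) by
      rw [map_mul, map_mul, map_inv]; exact MulEquiv.ext fun w => rfl] at hN'
    have := OuterPair.not_isSquare_of_gmat h2 hk' hN'
    rwa [hc', neg_neg] at this
  have hd0 : ¬ IsSquare g.val.det := by
    have := OuterPair.not_isSquare_of_gmat h2 hg hN
    rwa [hg, OuterGen.det_mat, OuterGen.norm_eq, OuterGen.norm_eq,
      show (⟨0, 1⟩ : QuadraticAlgebra F c 0).re * (⟨0, 1⟩ : QuadraticAlgebra F c 0).re -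
        c * (⟨0, 1⟩ : QuadraticAlgebra F c 0).im * (⟨0, 1⟩ : QuadraticAlgebra F c 0).im -
        ((0 : QuadraticAlgebra F c 0).re * (0 : QuadraticAlgebra F c 0).re -
        c * (0 : QuadraticAlgebra F c 0).im * (0 : QuadraticAlgebra F c 0).im) = -c by simp]
  have hsq : IsSquare (g * h).val.det := by
    classical
    rw [Units.val_mul, Matrix.det_mul]
    have hne : g.val.det * h.val.det ≠ 0 :=
      mul_ne_zero (fun e0 => hd0 (e0 ▸ IsSquare.zero)) (fun e0 => hd1 (e0 ▸ IsSquare.zero))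
    rw [← quadraticChar_one_iff_isSquare hne, map_mul, quadraticChar_neg_one_iff_not_isSquare.2 hd0,
      quadraticChar_neg_one_iff_not_isSquare.2 hd1]
    rfl
  obtain ⟨x, hx⟩ := OuterCirc.conjP_inner_of_sq (g * h) hsq
  refine mem_of_conj E hC e (x := x) ?_
  rw [map_mul, map_mul, he, hh, ← map_mul, hx]

/-- A subgroup with a normal 2-complement over `C(a)` has no odd element inverted by `a`. -/
theorem eq_one_of_complement {a : X} (ha : orderOf a = 2) {L : Subgroup X}
    (hle : centralizer ({a} : Set X) ≤ L) (hc : Cfsg.HasNormalPComplement 2 L) {z : X} (hzL : z ∈ L)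
    (hz : Odd (orderOf z)) (hinv : a * z * a⁻¹ = z⁻¹) : z = 1 := by
  refine eq_one_of_commute_inverted hz hinv ?_
  by_cases haE : a ∈ E
  · have h := cent_eq_of_complement hd E hk ha haE hle hc
    rw [h] at hzL
    exact mem_centralizer_singleton_iff.1 hzL
  have hzE := mem_of_inverted E hd hk hC ha hz hinv
  obtain ⟨F, _, _, c, g, e, hodd, h3, hg, he, hN⟩ := outer_form E hd hk ha haE
  obtain ⟨m, -, -, -, hL⟩ := OuterCirc.fix_spec (PSL2.odd_card_iff.1 hodd) h3 hg hN
  haveI : Fact (Nat.Prime 2) := ⟨Nat.prime_two⟩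
  set L' := (L.subgroupOf E).map e.toMonoidHom with hL'
  have hc' : Cfsg.HasNormalPComplement 2 L' := by
    refine Transfer.hasNormalPComplement_of_surjective
      ((L.subgroupOf E).equivMapOfInjective e.toMonoidHom e.injective).toMonoidHom
      (MulEquiv.surjective _) ?_
    exact Transfer.hasNormalPComplement_of_injective
      ((E.subtype.comp (L.subgroupOf E).subtype).codRestrict L fun w => w.2)
      (fun _ _ h => Subtype.ext (E.subtype_injective (congrArg Subtype.val h :))) hc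
  have hfix : OuterPair.fix (conjP g : MulAut _) ≤ L' := by
    intro w hw
    refine ⟨e.symm w, hle (mem_centralizer_singleton_iff.2 ?_), e.apply_symm_apply w⟩
    rw [← he, OuterPair.mem_fix] at hw
    have h1 : (MulAut.conjNormal a : MulAut E) (e.symm w) = e.symm w :=
      e.injective (hw.trans (e.apply_symm_apply w).symm)
    have h2 := congrArg Subtype.val h1
    rw [MulAut.conjNormal_apply] at h2
    exact (mul_inv_eq_iff_eq_mul.1 h2).symm
  have hzL' : e ⟨z, hzE⟩ ∈ L' := ⟨⟨z, hzE⟩, hzL, rfl⟩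
  rw [hL L' hfix hc', ← he, OuterPair.mem_fix] at hzL'
  have h1 : (MulAut.conjNormal a : MulAut E) ⟨z, hzE⟩ = ⟨z, hzE⟩ := by
    refine e.injective ?_
    conv_rhs => rw [← hzL']
    show e _ = e ((MulAut.conjNormal a : MulAut E) (e.symm (e ⟨z, hzE⟩)))
    rw [e.symm_apply_apply]
  have h2 := congrArg Subtype.val h1
  rw [MulAut.conjNormal_apply] at h2
  exact (mul_inv_eq_iff_eq_mul.1 h2).symm

/-- The tori of commuting inner and outer involutions have no odd prime in common. -/
theorem eq_one_of_tori {a b : X} (ha : orderOf a = 2) (hb : orderOf b = 2) (haE : a ∉ E) (hbE : b ∈ E)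
    {r : ℕ} (hr : r.Prime) (hr2 : r ≠ 2) {c g : X} (hc : ∃ k, c ^ r ^ k = 1) (hg : ∃ k, g ^ r ^ k = 1)
    (hca : Commute c a) (hcb : b * c * b⁻¹ = c⁻¹) (hgb : Commute g b) (hga : a * g * a⁻¹ = g⁻¹) :
    c = 1 ∨ g = 1 := by
  by_contra! hne
  obtain ⟨hc1, hg1⟩ := hne
  have hodd : ∀ x : X, (∃ k, x ^ r ^ k = 1) → x ≠ 1 → Odd (orderOf x) ∧ r ∣ orderOf x := by
    rintro x ⟨k, hk⟩ hx1
    obtain ⟨i, -, hi⟩ := (Nat.dvd_prime_pow hr).1 (orderOf_dvd_of_pow_eq_one hk)
    refine ⟨hi ▸ (hr.odd_of_ne_two hr2).pow, hi ▸ dvd_pow_self r ?_⟩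
    rintro rfl
    exact hx1 (orderOf_eq_one_iff.1 hi)
  obtain ⟨hco, hcr⟩ := hodd c hc hc1
  obtain ⟨hgo, hgr⟩ := hodd g hg hg1
  have hcE := mem_of_inverted E hd hk hC hb hco hcb
  have hgE := mem_of_inverted E hd hk hC ha hgo hga
  obtain ⟨F, _, _, c₀, g₀, e, hF, h3, hg₀, he, hN⟩ := outer_form E hd hk ha haE
  have h2 : (2 : F) ≠ 0 := PSL2.odd_card_iff.1 hF
  obtain ⟨m, -, hm, hcard, -⟩ := OuterCirc.fix_spec h2 h3 hg₀ hN
  have hcfix : e ⟨c, hcE⟩ ∈ OuterPair.fix (conjP g₀ : MulAut _) := by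
    rw [← he, OuterPair.mem_fix]
    show e ((MulAut.conjNormal a : MulAut E) (e.symm (e ⟨c, hcE⟩))) = e ⟨c, hcE⟩
    rw [e.symm_apply_apply]
    refine congrArg e (Subtype.ext ?_)
    rw [MulAut.conjNormal_apply]
    show a * c * a⁻¹ = c
    rw [← hca.eq, mul_inv_cancel_right]
  have hbo : orderOf (e ⟨b, hbE⟩) = 2 := by rw [MulEquiv.orderOf_eq, orderOf_mk, hb]
  have hgcent : e ⟨g, hgE⟩ ∈ centralizer ({e ⟨b, hbE⟩} : Set _) :=
    mem_centralizer_singleton_iff.2 (by rw [← map_mul, ← map_mul]; exact congrArg e (Subtype.ext hgb.eq))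
  have r1 : r ∣ 2 * m := by
    rw [← hcard]
    refine hcr.trans ?_
    rw [show orderOf c = orderOf (e ⟨c, hcE⟩) by rw [MulEquiv.orderOf_eq, orderOf_mk]]
    exact Subgroup.orderOf_dvd_natCard _ hcfix
  obtain ⟨hn1, hn3⟩ := PSL2.card_centralizer_involution h2 hbo
  have r2 : r ∣ Nat.card (centralizer ({e ⟨b, hbE⟩} : Set _)) := by
    refine hgr.trans ?_
    rw [show orderOf g = orderOf (e ⟨g, hgE⟩) by rw [MulEquiv.orderOf_eq, orderOf_mk]]
    exact Subgroup.orderOf_dvd_natCard _ hgcent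
  have hdiv : r ∣ 2 := by
    rcases hm with ⟨h4, hm⟩ | ⟨h4, hm⟩
    · rw [hn1 h4] at r2
      have := Nat.dvd_sub r1 r2
      rwa [hm, show Fintype.card F + 1 - (Fintype.card F - 1) = 2 by omega] at this
    · rw [hn3 h4] at r2
      have := Nat.dvd_sub r2 r1
      rwa [show Fintype.card F + 1 - 2 * m = 2 by omega] at this
  exact hr2 ((Nat.prime_dvd_prime_iff_eq hr Nat.prime_two).1 hdiv)

end CompInverted

section Layer

variable {H : Type u} [Group H] [Finite H]

/-- The quotient by the odd core of a group with a layer. -/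
theorem structure_of_layer (hd : SubDihedral H) (hk : KnownSections H)
    (hL : Cfsg.generalizedFittingSubgroup H ≠ Cfsg.fittingSubgroup H) :
    ∃ E : Subgroup (H ⧸ Cfsg.oddCore H), E.Normal ∧ IsSimpleGroup E ∧ IsKnown E ∧
      centralizer (E : Set (H ⧸ Cfsg.oddCore H)) = ⊥ ∧
      E ≤ (Cfsg.layer H).map (QuotientGroup.mk' (Cfsg.oddCore H)) ∧
      ∀ z : H, (∀ e ∈ Cfsg.layer H, Commute z e) ↔ z ∈ Cfsg.oddCore H := by
  haveI hOs : Group.IsSolvable (Cfsg.oddCore H) := Cfsg.Agent.S0205.result PCore.odd_card_oddCore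
  have hnsol : ¬ Group.IsSolvable (H ⧸ Cfsg.oddCore H) := fun hs => hL (by
    haveI := hs
    haveI : Group.IsSolvable H := Group.isSolvable_of_ker_le_range (Cfsg.oddCore H).subtype
      (QuotientGroup.mk' (Cfsg.oddCore H)) (by rw [QuotientGroup.ker_mk', range_subtype])
    exact Components.generalizedFittingSubgroup_eq_of_isSolvable)
  rcases structure_mod_oddCore hd hk with h | ⟨⟨f⟩⟩ | ⟨⟨f⟩⟩ | ⟨E, hE, hEs, hEk, hC⟩
  · exact absurd (by haveI := h.isNilpotent; infer_instance) hnsol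
  · refine absurd (CharInt.isSolvable_of_card_eq (a := 2) (b := 1) Nat.prime_two Nat.prime_three ?_) hnsol
    rw [Nat.card_congr f.toEquiv, nat_card_alternatingGroup, Nat.card_fin]; rfl
  · refine absurd (CharInt.isSolvable_of_card_eq (a := 3) (b := 1) Nat.prime_two Nat.prime_three ?_) hnsol
    rw [Nat.card_congr f.toEquiv, Nat.card_perm, Nat.card_fin]; rfl
  haveI := hE
  set π := QuotientGroup.mk' (Cfsg.oddCore H) with hπ
  set L := (Cfsg.layer H).map π with hLdef
  haveI : L.Normal := (inferInstance : (Cfsg.layer H).Normal).map _ (QuotientGroup.mk'_surjective _)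
  have hEL : E ≤ L := by
    haveI := hEs
    rcases hEs.eq_bot_or_eq_top_of_normal (L.subgroupOf E) inferInstance with h | h
    · exfalso
      have hdis : L ⊓ E = ⊥ := (Subgroup.subgroupOf_eq_bot.1 h).eq_bot
      have hcom : ⁅L, E⁆ = ⊥ := le_bot_iff.1 (hdis ▸ Subgroup.commutator_le_inf L E)
      have hLbot : L = ⊥ := le_bot_iff.1 (hC ▸ commutator_eq_bot_iff_le_centralizer.1 hcom)
      rw [hLdef, Subgroup.map_eq_bot_iff, hπ, QuotientGroup.ker_mk'] at hLbot
      haveI : Group.IsSolvable (Cfsg.layer H) :=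
        Group.isSolvable_of_isSolvable_injective (f := inclusion hLbot) (inclusion_injective hLbot)
      have hbot : Cfsg.layer H = ⊥ := by
        by_contra hne
        haveI := (nontrivial_iff_ne_bot (Cfsg.layer H)).2 hne
        exact (Group.IsSolvable.commutator_lt_top_of_nontrivial (Cfsg.layer H)).ne
          Group.IsPerfect.commutator_eq_top
      exact hL (by rw [Cfsg.generalizedFittingSubgroup, hbot, bot_sup_eq])
    · exact Subgroup.subgroupOf_eq_top.1 h
  refine ⟨E, hE, hEs, hEk, hC, hEL, fun z => ⟨fun hz => ?_, fun hz e he => ?_⟩⟩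
  · have h1 : π z ∈ centralizer (E : Set (H ⧸ Cfsg.oddCore H)) := mem_centralizer_iff.2 fun x hx => by
      obtain ⟨l, hl, rfl⟩ := hEL hx
      rw [← map_mul, ← map_mul, (hz l hl).eq]
    rw [hC, mem_bot] at h1
    exact (QuotientGroup.eq_one_iff z).1 h1
  · have h1 := commutator_eq_bot_iff_le_centralizer.1
      (Components.commutator_layer_eq_bot_of_isSolvable (G := H)
        (U := Cfsg.oddCore H) (inferInstance : (Cfsg.oddCore H).Normal).isSubnormal) he
    exact mem_centralizer_iff.1 h1 z hz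

/-- Centralisers of involutions lift modulo the odd core. -/
theorem exists_lift_commute {a x : H} (ha : orderOf a = 2)
    (h : Commute (QuotientGroup.mk' (Cfsg.oddCore H) x) (QuotientGroup.mk' (Cfsg.oddCore H) a)) :
    ∃ w, QuotientGroup.mk' (Cfsg.oddCore H) w = QuotientGroup.mk' (Cfsg.oddCore H) x ∧ Commute w a := by
  set O := Cfsg.oddCore H
  set o := x * a * x⁻¹ * a⁻¹ with ho
  have hoO : o ∈ O := by
    refine (QuotientGroup.eq_one_iff o).1 ?_
    show QuotientGroup.mk' (Cfsg.oddCore H) o = 1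
    rw [ho, map_mul, map_mul, map_mul, map_inv, map_inv, h.eq]
    group
  have ha2 : a * a = 1 := BSW.sq_of_order ha
  have hai : a⁻¹ = a := BSW.inv_of_order ha
  have hoinv : a * o * a⁻¹ = o⁻¹ := by
    simp only [ho, hai, _root_.mul_inv_rev, inv_inv, mul_assoc, ha2, mul_one]
  obtain ⟨j, hj⟩ : Odd (orderOf o) :=
    PCore.odd_card_oddCore.of_dvd_nat (Subgroup.orderOf_dvd_natCard O hoO)
  set u := o ^ (j + 1) with hu
  have huu : u * u = o := by
    rw [hu, ← pow_add, show j + 1 + (j + 1) = orderOf o + 1 by omega, pow_succ, pow_orderOf_eq_one, one_mul]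
  have hua : a * u * a⁻¹ = u⁻¹ := by
    rw [hu, ← conj_pow, hoinv, inv_pow]
  refine ⟨u⁻¹ * x, ?_, ?_⟩
  · rw [map_mul, map_inv, show QuotientGroup.mk' O u = 1 from
      (QuotientGroup.eq_one_iff u).2 (pow_mem hoO _), inv_one, one_mul]
  · have h1 : u⁻¹ * x * a = a * (u⁻¹ * x) := by
      have hxa : x * a = o * a * x := by rw [ho]; group
      have hau : a * u⁻¹ = u * a := by
        have h' : a * u = u⁻¹ * a := mul_inv_eq_iff_eq_mul.1 hua
        calc a * u⁻¹ = (u * u⁻¹) * a * u⁻¹ := by group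
          _ = u * (u⁻¹ * a) * u⁻¹ := by group
          _ = u * (a * u) * u⁻¹ := by rw [h']
          _ = u * a := by group
      calc u⁻¹ * x * a = u⁻¹ * (x * a) := mul_assoc _ _ _
        _ = u⁻¹ * (u * u * a * x) := by rw [hxa, huu]
        _ = u * a * x := by group
        _ = a * (u⁻¹ * x) := by rw [← hau, mul_assoc]
    exact h1

theorem mk_orderOf {a : H} (ha : orderOf a = 2) : orderOf (QuotientGroup.mk' (Cfsg.oddCore H) a) = 2 := by
  refine orderOf_eq_prime (by rw [← map_pow, ← ha, pow_orderOf_eq_one, map_one]) fun h => ?_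
  have hd := Subgroup.orderOf_dvd_natCard _ ((QuotientGroup.eq_one_iff a).1 h)
  rw [ha] at hd
  exact Nat.not_even_iff_odd.2 PCore.odd_card_oddCore (even_iff_two_dvd.2 hd)

/-- An involution inner on the layer does not invert a nontrivial element centralising it. -/
theorem not_inner_of_inverts {E : Subgroup (H ⧸ Cfsg.oddCore H)}
    (hE : E ≤ (Cfsg.layer H).map (QuotientGroup.mk' (Cfsg.oddCore H)))
    (hLO : ∀ y ∈ Cfsg.oddCore H, ∀ e ∈ Cfsg.layer H, Commute y e) {x z : H}
    (hx : QuotientGroup.mk' (Cfsg.oddCore H) x ∈ E) (hz : z ∈ Cfsg.oddCore H) (hz1 : z ≠ 1)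
    (hinv : x * z * x⁻¹ = z⁻¹) : False := by
  set O := Cfsg.oddCore H
  obtain ⟨l, hl, hlx⟩ := hE hx
  have ho : l⁻¹ * x ∈ O := QuotientGroup.eq.1 hlx
  set o := l⁻¹ * x with hodef
  have hxo : x = l * o := by rw [hodef]; group
  have hoz : o * z * o⁻¹ ∈ O := mul_mem (mul_mem ho hz) (inv_mem ho)
  have h1 : o * z * o⁻¹ = z⁻¹ := by
    rw [← hinv, hxo, show l * o * z * (l * o)⁻¹ = l * (o * z * o⁻¹) * l⁻¹ by group,
      ← (hLO _ hoz l hl).eq, mul_inv_cancel_right]
  have hoo : Odd (orderOf o) := PCore.odd_card_oddCore.of_dvd_nat (Subgroup.orderOf_dvd_natCard O ho)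
  have hzo : Odd (orderOf z) := PCore.odd_card_oddCore.of_dvd_nat (Subgroup.orderOf_dvd_natCard O hz)
  obtain ⟨j, hj⟩ := hoo
  have h2 : Commute (o ^ 2) z := by
    have h' : o ^ 2 * z * (o ^ 2)⁻¹ = z := by
      rw [pow_two, show o * o * z * (o * o)⁻¹ = o * (o * z * o⁻¹) * o⁻¹ by group, h1,
        ← conj_inv, h1, inv_inv]
    exact mul_inv_eq_iff_eq_mul.1 h'
  have hc : Commute o z := by
    have h' := h2.pow_left (j + 1)
    rwa [← pow_mul, show 2 * (j + 1) = orderOf o + 1 by omega, pow_succ, pow_orderOf_eq_one, one_mul] at h'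
  exact hz1 (CompInverted.eq_one_of_commute_inverted hzo h1 hc.symm)

end Layer

section Main

variable {G : Type u} [Group G] [Finite G] {S : Sylow 2 G} {t : G}

/-- **CC**: an element inverted by an involution `a` in a 2-nilpotent subgroup over `C_H(a)` centralises the
layer of `H`. -/
theorem inverted_commute_layer (hyp : Hyp S t) (hk : ProperKnown G) {H : Subgroup G} (hH : H ≠ ⊤)
    (hL : Cfsg.generalizedFittingSubgroup ↥H ≠ Cfsg.fittingSubgroup ↥H) {a : G} (ha : orderOf a = 2)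
    (haH : a ∈ H) {M : Subgroup G} (hcM : Cfsg.HasNormalPComplement 2 M) (hle : H ⊓ Cent a ≤ M) {z : G}
    (hz : z ∈ H ⊓ M) (hodd : Odd (orderOf z)) (hinv : a * z * a⁻¹ = z⁻¹) :
    ∀ e ∈ (Cfsg.layer ↥H).map H.subtype, Commute z e := by
  haveI : Fact (Nat.Prime 2) := ⟨Nat.prime_two⟩
  obtain ⟨E, hE, hEs, hEk, hC, -, hiff⟩ := structure_of_layer (hyp.subDihedral H) (hk H hH) hL
  haveI := hE
  haveI := hEs
  let a' : H := ⟨a, haH⟩
  let z' : H := ⟨z, hz.1⟩
  set π := QuotientGroup.mk' (Cfsg.oddCore ↥H) with hπ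
  have ha' : orderOf a' = 2 := by rw [orderOf_mk]; exact ha
  set L := (M.subgroupOf H).map π
  have hcL : Cfsg.HasNormalPComplement 2 L :=
    Transfer.hasNormalPComplement_of_surjective (π.subgroupMap (M.subgroupOf H))
      (MonoidHom.subgroupMap_surjective _ _)
      (Transfer.hasNormalPComplement_of_injective
        ((H.subtype.comp (M.subgroupOf H).subtype).codRestrict M fun w => w.2)
        (fun _ _ h => Subtype.ext (H.subtype_injective (congrArg Subtype.val h :))) hcM)
  have hleL : centralizer ({π a'} : Set _) ≤ L := by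
    intro x hx
    obtain ⟨x, rfl⟩ := QuotientGroup.mk'_surjective _ x
    obtain ⟨w, hw, hwa⟩ := exists_lift_commute ha' (mem_centralizer_singleton_iff.1 hx)
    exact ⟨w, hle ⟨w.2, mem_centralizer_singleton_iff.2 (congrArg Subtype.val hwa.eq)⟩, hw⟩
  have hone : π z' = 1 := by
    refine CompInverted.eq_one_of_complement E (hyp.subDihedral H).quotient_oddCore hEk hC
      (mk_orderOf ha') hleL hcL (mem_map_of_mem _ hz.2) ?_ ?_
    · refine (show Odd (orderOf z') by rw [orderOf_mk]; exact hodd).of_dvd_nat (orderOf_map_dvd π z')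
    · rw [← map_inv, ← map_mul, ← map_mul, ← map_inv]
      exact congrArg π (Subtype.ext hinv)
  intro e he
  obtain ⟨e, he', rfl⟩ := he
  exact congrArg Subtype.val (((hiff z').2 ((QuotientGroup.eq_one_iff z').1 hone)) e he').eq

/-- **SameTorus**. -/
theorem commute_layer_of_tori (hyp : Hyp S t) (hk : ProperKnown G) {H : Subgroup G} (hH : H ≠ ⊤)
    (hL : Cfsg.generalizedFittingSubgroup ↥H ≠ Cfsg.fittingSubgroup ↥H) {a b : G} (h : Pair a b)
    (haH : a ∈ H) (hbH : b ∈ H) {r : ℕ} (hr : r.Prime) (hr2 : r ≠ 2) {c g z : G} (hcH : c ∈ H)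
    (hgH : g ∈ H) (hzH : z ∈ H) (hc : ∃ k, c ^ r ^ k = 1) (hg : ∃ k, g ^ r ^ k = 1)
    (hca : Commute c a) (hcb : b * c * b⁻¹ = c⁻¹) (hgb : Commute g b) (hga : a * g * a⁻¹ = g⁻¹)
    (hz1 : z ≠ 1) (hzb : Commute z b) (hza : a * z * a⁻¹ = z⁻¹)
    (hzL : ∀ e ∈ (Cfsg.layer ↥H).map H.subtype, Commute z e) :
    (∀ e ∈ (Cfsg.layer ↥H).map H.subtype, Commute c e) ∨
      (∀ e ∈ (Cfsg.layer ↥H).map H.subtype, Commute g e) := by
  haveI : Fact (Nat.Prime 2) := ⟨Nat.prime_two⟩
  obtain ⟨E, hE, hEs, hEk, hC, hEL, hiff⟩ := structure_of_layer (hyp.subDihedral H) (hk H hH) hL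
  haveI := hE
  haveI := hEs
  have hd := (hyp.subDihedral H).quotient_oddCore
  let a' : H := ⟨a, haH⟩
  let b' : H := ⟨b, hbH⟩
  let c' : H := ⟨c, hcH⟩
  let g' : H := ⟨g, hgH⟩
  let z' : H := ⟨z, hzH⟩
  set π := QuotientGroup.mk' (Cfsg.oddCore ↥H) with hπ
  have hzO : z' ∈ Cfsg.oddCore ↥H := (hiff z').1 fun e he => Subtype.ext
    (hzL e (mem_map_of_mem _ he)).eq
  have hz1' : z' ≠ 1 := fun h => hz1 (congrArg Subtype.val h)
  have hout : ∀ x : H, x * z' * x⁻¹ = z'⁻¹ → π x ∉ E := fun x hx hxE =>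
    not_inner_of_inverts hEL (fun y hy => (hiff y).2 hy) hxE hzO hz1' hx
  have haE : π a' ∉ E := hout a' (Subtype.ext hza)
  have ha' : orderOf a' = 2 := by rw [orderOf_mk]; exact h.ha
  have hb' : orderOf b' = 2 := by rw [orderOf_mk]; exact h.hb
  have hbE : π b' ∈ E := by
    by_contra hbE
    refine hout (a' * b') (Subtype.ext ?_)
      (map_mul π a' b' ▸ CompInverted.product_mem E hd hEk hC (mk_orderOf ha') (mk_orderOf hb') haE hbE)
    show a * b * z * (a * b)⁻¹ = z⁻¹
    rw [show a * b * z * (a * b)⁻¹ = a * (b * z * b⁻¹) * a⁻¹ by group, ← hzb.eq, mul_inv_cancel_right, hza]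
  have key : ∀ w : H, π w = 1 → ∀ e ∈ (Cfsg.layer ↥H).map H.subtype, Commute (w : G) e := by
    rintro w hw _ ⟨e, he, rfl⟩
    exact congrArg Subtype.val ((hiff w).2 ((QuotientGroup.eq_one_iff w).1 hw) e he).eq
  rcases CompInverted.eq_one_of_tori E hd hEk hC (mk_orderOf ha') (mk_orderOf hb') haE hbE hr hr2
    (c := π c') (g := π g')
    (hc.imp fun k hk' => by rw [← map_pow, show c' ^ r ^ k = 1 from Subtype.ext hk', map_one])
    (hg.imp fun k hk' => by rw [← map_pow, show g' ^ r ^ k = 1 from Subtype.ext hk', map_one])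
    ((show Commute c' a' from Subtype.ext hca.eq).map π)
    (by rw [← map_inv, ← map_mul, ← map_mul, ← map_inv]; exact congrArg π (Subtype.ext hcb))
    ((show Commute g' b' from Subtype.ext hgb.eq).map π)
    (by rw [← map_inv, ← map_mul, ← map_mul, ← map_inv]; exact congrArg π (Subtype.ext hga)) with h1 | h1
  · exact Or.inl (key c' h1)
  · exact Or.inr (key g' h1)

end Main

end Cfsg.Agent.GW
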