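import Cfsg.Agent.Lib.PSL2.Dickson
import Cfsg.Agent.Lib.PSL2.DicksonOrders
import Cfsg.Agent.Lib.GW.PartII.CompInverted

/-!
# The component configuration: tori and unipotent groups of `PSL₂(q)`

For an element of odd order commuting with an involution: the involution is unique, there are at most `q`
such tori in a subgroup of odd order, and two of them with odd product generate elements of the unipotent
group of a Borel subgroup over both.
-/

set_option autoImplicit false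
set_option linter.unusedSectionVars false
set_option linter.style.haveILetI false

namespace Cfsg.Agent.GW.CompQuad

open Subgroup
open scoped MatrixGroups

universe u

/-- In a finite cyclic group, elements of equal order generate the same subgroup. -/
theorem zpowers_eq_of_cyclic {C : Type u} [Group C] [Finite C] [IsCyclic C] {a b : C}
    (h : orderOf a = orderOf b) : zpowers a = zpowers b := by
  letI : CommGroup C := IsCyclic.commGroup
  have key : ∀ c : C, zpowers c = (powMonoidHom (orderOf c) : C →* C).ker := fun c =>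
    eq_of_le_of_card_ge (zpowers_le.2 (pow_orderOf_eq_one c)) (by
      rw [IsCyclic.card_powMonoidHom_ker, Nat.card_zpowers]
      exact Nat.le_of_dvd (orderOf_pos c) (Nat.gcd_dvd_right _ _))
  rw [key a, key b, h]

section Projective

variable {F : Type} [Field F] [Fintype F]

section Borel

variable (p : ℕ) [Fact p.Prime] [CharP F p]

theorem char_ne_two (h2 : (2 : F) ≠ 0) : p ≠ 2 := fun e => by
  subst e
  exact h2 (CharP.cast_eq_zero F 2)

theorem exists_q_eq : ∃ n : ℕ, Fintype.card F = p ^ n := by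
  obtain ⟨n, -, h⟩ := FiniteField.card F p
  exact ⟨n, h⟩

theorem not_isPGroup_comp_of_invol (h2 : (2 : F) ≠ 0) {x s : PSL(2, F)} (hx : x ≠ 1)
    (hs : orderOf s = 2) (hc : Commute s x) : ¬ IsPGroup p ((PSL2.pslPartition F p).comp x) := fun h => by
  obtain ⟨k, hk⟩ := h ⟨s, ((PSL2.pslPartition F p).centralizer_p x s hx h).2 hc.eq⟩
  have h' : orderOf s ∣ p ^ k := orderOf_dvd_of_pow_eq_one (congrArg Subtype.val hk :)
  rw [hs] at h'
  exact char_ne_two p h2 ((Nat.prime_dvd_prime_iff_eq Nat.prime_two Fact.out).1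
    (Nat.prime_two.dvd_of_dvd_pow h')).symm

/-- The elements commuting with an element of odd order of a torus lie in the torus. -/
theorem mem_comp_of_commute {x v : PSL(2, F)} (hx : x ≠ 1) (hxo : Odd (orderOf x))
    (hT : ¬ IsPGroup p ((PSL2.pslPartition F p).comp x)) (hv : Commute v x) :
    v ∈ (PSL2.pslPartition F p).comp x := by
  by_contra hne
  set P := PSL2.pslPartition F p
  have hconj : v * x * v⁻¹ = x := by rw [hv.eq, mul_inv_cancel_right]
  have hn := P.mem_normalizer_of_conj_mem hx (k := v) (by rw [hconj]; exact P.mem_self x hx)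
  exact hx (CompInverted.eq_one_of_commute_inverted hxo
    ((P.inverting x v hx hT hn hne).2 x (P.mem_self x hx)) hv.symm)

theorem orderOf_dvd_q {u : PSL(2, F)} (hu : u ≠ 1)
    (h : IsPGroup p ((PSL2.pslPartition F p).comp u)) : orderOf u = p := by
  obtain ⟨g, rfl⟩ := PSL2.mk_surjective u
  rw [PSL2.pslPartition_comp] at h
  have h4 := (PSL2.isPGroup_comp_iff p (PSL2.mk_ne_one_iff.1 hu)).1 h
  rcases PSL2.trichotomy (PSL2.mk_ne_one_iff.1 hu) with ⟨k, a, ha, rfl⟩ | ⟨k, s, hs, rfl | rfl⟩ | ht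
  · exact absurd (by rwa [PSL2.tr_conj] at h4) (PSL2.tr_dd_sq_ne_four ha)
  · rw [PSL2.orderOf_mk_conj, PSL2.orderOf_mk_uu p hs]
  · rw [PSL2.mk_neg, PSL2.orderOf_mk_conj, PSL2.orderOf_mk_uu p hs]
  · exact absurd h4 ht.sq_ne_four

/-- A Sylow subgroup for the characteristic is a component of order `q`. -/
theorem exists_comp_eq_sylow (P : Sylow p PSL(2, F)) :
    (∃ w, w ≠ 1 ∧ IsPGroup p ((PSL2.pslPartition F p).comp w) ∧
      (PSL2.pslPartition F p).comp w = (P : Subgroup PSL(2, F))) ∧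
    Nat.card P = Fintype.card F := by
  set Q := PSL2.pslPartition F p
  set w : PSL(2, F) := PSL2.mk (PSL2.uu 1)
  have hw : w ≠ 1 := PSL2.mk_uu_ne_one one_ne_zero
  have hwP : IsPGroup p (Q.comp w) :=
    (Q.isPGroup_iff_orderOf hw).2 ⟨1, by rw [pow_one]; exact PSL2.orderOf_mk_uu p one_ne_zero⟩
  obtain ⟨c, hc⟩ := MulAction.exists_smul_eq PSL(2, F) (Q.toSylow hw hwP) P
  have hP : Q.comp (c * w * c⁻¹) = (P : Subgroup PSL(2, F)) := by
    rw [Q.conj w c hw, ← hc]; rfl
  refine ⟨⟨c * w * c⁻¹, fun e => hw (conj_eq_one_iff.1 e), by rw [hP]; exact P.2, hP⟩, ?_⟩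
  show Nat.card (P : Subgroup PSL(2, F)) = _
  rw [← hP, Q.conj w c hw, PSL2.Part.Partition.card_map_conj, PSL2.pslPartition_comp,
    PSL2.cent_uu one_ne_zero, ← PSL2.unip_map_eq_pmUnip_map, PSL2.card_map_unip]

/-- The normaliser of a Sylow subgroup for the characteristic is the product with a torus in it. -/
theorem borel_product (h2 : (2 : F) ≠ 0) (P : Sylow p PSL(2, F)) {x : PSL(2, F)} (hx1 : x ≠ 1)
    (hxN : x ∈ normalizer ((P : Subgroup PSL(2, F)) : Set PSL(2, F)))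
    (hT : ¬ IsPGroup p ((PSL2.pslPartition F p).comp x)) :
    (PSL2.pslPartition F p).comp x ≤ normalizer ((P : Subgroup PSL(2, F)) : Set PSL(2, F)) ∧
    (∀ n ∈ normalizer ((P : Subgroup PSL(2, F)) : Set PSL(2, F)),
      ∃ u ∈ (P : Subgroup PSL(2, F)), ∃ c ∈ (PSL2.pslPartition F p).comp x, n = u * c) ∧
    (((PSL2.pslPartition F p).comp x).subgroupOf
      (normalizer ((P : Subgroup PSL(2, F)) : Set PSL(2, F)))).index ≤ Fintype.card F := by
  classical
  set Q := PSL2.pslPartition F p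
  set N := normalizer ((P : Subgroup PSL(2, F)) : Set PSL(2, F)) with hNdef
  obtain ⟨⟨w, hw1, hw, hP'⟩, hPcard⟩ := exists_comp_eq_sylow p P
  have hCN : Q.comp x ≤ N := by
    have := (Q.borel w x hw1 hx1 hw hT (by rw [hP']; exact hxN)).1
    rwa [hP'] at this
  have hdisj : ∀ u, u ∈ (P : Subgroup PSL(2, F)) → u ∈ Q.comp x → u = 1 := by
    intro u hu hu'
    by_contra h1
    rw [← hP'] at hu
    exact hT (by rw [← Q.eq_of_mem x u hx1 hu' h1, Q.eq_of_mem w u hw1 hu h1]; exact hw)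
  let f : ↥(P : Subgroup PSL(2, F)) × ↥(Q.comp x) → N := fun a =>
    ⟨(a.1 : PSL(2, F)) * a.2, N.mul_mem (le_normalizer a.1.2) (hCN a.2.2)⟩
  have hf : Function.Injective f := by
    rintro ⟨u, c⟩ ⟨u', c'⟩ h
    have h' : (u : PSL(2, F)) * c = u' * c' := congrArg Subtype.val h
    have h1 : (u' : PSL(2, F))⁻¹ * u = c' * (c : PSL(2, F))⁻¹ := by
      rw [eq_mul_inv_iff_mul_eq, mul_assoc, h', inv_mul_cancel_left]
    have h2 := hdisj _ (mul_mem (inv_mem u'.2) u.2) (h1 ▸ mul_mem c'.2 (inv_mem c.2))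
    rw [inv_mul_eq_one] at h2
    refine Prod.ext (Subtype.ext h2.symm) (Subtype.ext ?_)
    rw [h2] at h'
    exact mul_left_cancel h'
  have hcardN := PSL2.card_normalizer_sylow p P
  have hgcd : Nat.gcd 2 (Fintype.card F - 1) = 2 := by
    obtain ⟨j, hj⟩ := PSL2.odd_card_iff.2 h2
    exact Nat.gcd_eq_left ⟨j, by omega⟩
  rw [hgcd] at hcardN
  have hCcard : Fintype.card F - 1 ≤ 2 * Nat.card (Q.comp x) := by
    obtain ⟨g, hg⟩ := PSL2.mk_surjective x
    rw [← hg, PSL2.pslPartition_comp] at hT ⊢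
    have h4 : PSL2.tr g ^ 2 ≠ 4 := fun h =>
      hT ((PSL2.isPGroup_comp_iff p (PSL2.mk_ne_one_iff.1 (hg ▸ hx1))).2 h)
    have hmc := PSL2.card_map_cent g
    rw [hgcd] at hmc
    rcases PSL2.card_cent_of_tr h4 with e | e <;> omega
  have hle : Nat.card N ≤ Nat.card (↥(P : Subgroup PSL(2, F)) × ↥(Q.comp x)) := by
    have h1 : (Fintype.card F - 1) * Fintype.card F ≤ 2 * Nat.card (Q.comp x) * Fintype.card F :=
      Nat.mul_le_mul_right _ hCcard
    rw [Nat.card_prod, hPcard]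
    rw [← hcardN] at h1
    calc Nat.card N = Nat.card (normalizer ((P : Subgroup PSL(2, F)) : Set PSL(2, F))) := rfl
      _ ≤ Nat.card (Q.comp x) * Fintype.card F := by
        rw [mul_assoc] at h1; exact Nat.le_of_mul_le_mul_left h1 two_pos
      _ = _ := mul_comm _ _
  have hbij := hf.bijective_of_nat_card_le hle
  refine ⟨hCN, fun n hn => ?_, ?_⟩
  · obtain ⟨⟨u, c⟩, huc⟩ := hbij.2 ⟨n, hn⟩
    exact ⟨u, u.2, c, c.2, (congrArg Subtype.val huc).symm⟩
  · have h1 := ((Q.comp x).subgroupOf N).index_mul_card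
    rw [Nat.card_congr (subgroupOfEquivOfLe hCN).toEquiv, ← Nat.card_eq_of_bijective f hbij,
      Nat.card_prod, hPcard] at h1
    exact (Nat.eq_of_mul_eq_mul_right Nat.card_pos h1).le

/-- Elements of the same prime order in a Borel subgroup generate conjugate subgroups. -/
theorem borel_conj (P : Sylow p PSL(2, F)) {r : ℕ} [Fact r.Prime] (hr2 : r ≠ 2) (hrp : r ≠ p)
    {x x' : PSL(2, F)} (hxN : x ∈ normalizer ((P : Subgroup PSL(2, F)) : Set PSL(2, F)))
    (hx'N : x' ∈ normalizer ((P : Subgroup PSL(2, F)) : Set PSL(2, F))) (hxo : orderOf x = r)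
    (hxo' : orderOf x' = r) :
    ∃ n ∈ normalizer ((P : Subgroup PSL(2, F)) : Set PSL(2, F)),
      zpowers x' = zpowers (n * x * n⁻¹) := by
  set N := normalizer ((P : Subgroup PSL(2, F)) : Set PSL(2, F))
  have hA : ∀ v : N, orderOf v = r → IsPGroup r (zpowers v) := fun v hv =>
    IsPGroup.of_card (n := 1) (by rw [Nat.card_zpowers, hv, pow_one])
  let v : N := ⟨x, hxN⟩
  let v' : N := ⟨x', hx'N⟩
  obtain ⟨A, hA'⟩ := (hA v (by rw [orderOf_mk]; exact hxo)).exists_le_sylow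
  obtain ⟨A', hA''⟩ := (hA v' (by rw [orderOf_mk]; exact hxo')).exists_le_sylow
  obtain ⟨n, hn⟩ := MulAction.exists_smul_eq N A A'
  haveI : IsCyclic A' := by
    obtain ⟨B, hB⟩ := (A'.2.map N.subtype).exists_le_sylow
    haveI := PSL2.isCyclic_sylow_odd_psl (F := F) p r hr2 hrp B
    let φ : A' →* B := (N.subtype.comp (A' : Subgroup N).subtype).codRestrict _ fun a =>
      hB (mem_map_of_mem _ a.2)
    exact isCyclic_of_injective φ fun a a' h =>
      Subtype.ext (Subtype.ext (congrArg Subtype.val h :))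
  refine ⟨n, n.2, ?_⟩
  have hvn : n * v * n⁻¹ ∈ (A' : Subgroup N) := by
    rw [← hn]
    exact ⟨v, hA' (mem_zpowers v), rfl⟩
  have h1 : zpowers (⟨v', hA'' (mem_zpowers v')⟩ : A') = zpowers ⟨_, hvn⟩ :=
    zpowers_eq_of_cyclic (by
      rw [orderOf_mk, orderOf_mk, orderOf_mk, hxo',
        ← MulAut.conj_apply, MulEquiv.orderOf_eq, orderOf_mk, hxo])
  have := congrArg (Subgroup.map (N.subtype.comp (A' : Subgroup N).subtype)) h1
  rw [MonoidHom.map_zpowers, MonoidHom.map_zpowers] at this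
  exact this

end Borel

/-- A nontrivial element of odd order commutes with at most one involution of `PSL₂(q)`, `q` odd, and
that one commutes with everything commuting with the element. -/
theorem psl_commute_of_commute (h2 : (2 : F) ≠ 0) {x s v : PSL(2, F)} (hx : x ≠ 1)
    (hxo : Odd (orderOf x)) (hs : orderOf s = 2) (hc : Commute s x) (hv : Commute v x) :
    Commute s v := by
  obtain ⟨p, hp⟩ := CharP.exists F
  haveI : Fact p.Prime := ⟨CharP.char_is_prime F p⟩
  have hT := not_isPGroup_comp_of_invol p h2 hx hs hc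
  haveI := ((PSL2.pslPartition F p).cyclic x hx hT).1
  letI : CommGroup ((PSL2.pslPartition F p).comp x) := IsCyclic.commGroup
  exact congrArg Subtype.val (mul_comm (⟨s, mem_comp_of_commute p hx hxo hT hc⟩ :
    (PSL2.pslPartition F p).comp x) ⟨v, mem_comp_of_commute p hx hxo hT hv⟩)

theorem psl_unique_involution (h2 : (2 : F) ≠ 0) {x s s' : PSL(2, F)} (hx : x ≠ 1)
    (hxo : Odd (orderOf x)) (hs : orderOf s = 2) (hs' : orderOf s' = 2) (hc : Commute s x)
    (hc' : Commute s' x) : s = s' := by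
  obtain ⟨p, hp⟩ := CharP.exists F
  haveI : Fact p.Prime := ⟨CharP.char_is_prime F p⟩
  set P := PSL2.pslPartition F p
  have hT := not_isPGroup_comp_of_invol p h2 hx hs hc
  haveI := (P.cyclic x hx hT).1
  have h1 : zpowers (⟨s, mem_comp_of_commute p hx hxo hT hc⟩ : P.comp x) =
      zpowers ⟨s', mem_comp_of_commute p hx hxo hT hc'⟩ :=
    zpowers_eq_of_cyclic (by rw [orderOf_mk, orderOf_mk, hs, hs'])
  have hmem := mem_zpowers (⟨s, mem_comp_of_commute p hx hxo hT hc⟩ : P.comp x)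
  rw [h1] at hmem
  obtain ⟨k, hk⟩ := mem_zpowers_iff.1 hmem
  have hk' : s' ^ k = s := congrArg Subtype.val hk
  rcases Int.even_or_odd k with ⟨j, rfl⟩ | ⟨j, rfl⟩
  · rw [← two_mul, zpow_mul, zpow_ofNat, pow_two, BSW.sq_of_order hs', one_zpow] at hk'
    rw [← hk', orderOf_one] at hs
    omega
  · rw [zpow_add, zpow_mul, zpow_ofNat, pow_two, BSW.sq_of_order hs', one_zpow, one_mul, zpow_one] at hk'
    exact hk'.symm

theorem heven {K : Subgroup PSL(2, F)} (hK : Odd (Nat.card K)) {Y : Type} [Group Y]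
    (e : Nonempty (K ≃* Y)) (h : 2 ∣ Nat.card Y) : False :=
  e.elim fun e => Nat.not_even_iff_odd.2 hK (even_iff_two_dvd.2 (Nat.card_congr e.toEquiv ▸ h))

/-- A subgroup of odd order of `PSL₂(q)` is cyclic or in a Borel subgroup. -/
theorem psl_odd_cases (p : ℕ) [Fact p.Prime] [CharP F p] {K : Subgroup PSL(2, F)}
    (hK : Odd (Nat.card K)) : IsCyclic K ∨
      ∃ P : Sylow p PSL(2, F), K ≤ normalizer ((P : Subgroup PSL(2, F)) : Set PSL(2, F)) := by
  rcases PSL2.dickson p K with ⟨k, -, hk⟩ | h | h | h | h | ⟨E, iE, iE', m, hm, hE⟩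
  · rcases hk with ⟨hc, -⟩ | h
    · exact Or.inl hc
    · exact (heven hK h (by rw [DihedralGroup.nat_card]; exact dvd_mul_right 2 k)).elim
  · exact Or.inr h
  · exact (heven hK h (by rw [nat_card_alternatingGroup, Nat.card_fin]; decide)).elim
  · exact (heven hK h (by rw [Nat.card_perm, Nat.card_fin]; decide)).elim
  · exact (heven hK h (by rw [nat_card_alternatingGroup, Nat.card_fin]; decide)).elim
  · exfalso
    rcases hE with hE | hE
    · refine heven hK hE ?_
      rcases Nat.even_or_odd (Fintype.card E) with h | h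
      · rw [PSL2.card_PSL_of_two_eq_zero (PSL2.even_card_iff.1 h)]
        exact (even_iff_two_dvd.1 h).mul_right _
      · have h4 : 4 ∣ 2 * Nat.card PSL(2, E) := by
          rw [PSL2.two_mul_card_PSL (PSL2.odd_card_iff.1 h)]
          exact ((show 4 ∣ 8 by norm_num).trans (Nat.eight_dvd_sq_sub_one_of_odd h)).mul_left _
        omega
    · refine heven hK hE ?_
      rw [GL.card_PGL, PSL2.card_SL']
      refine even_iff_two_dvd.1 ?_
      rcases Nat.even_or_odd (Fintype.card E) with h | h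
      · exact (h.mul_right _).mul_right _
      · exact (Odd.add_one h).mul_left _

/-- In a subgroup of odd order of `PSL₂(q)` the tori meeting it in elements of prime order `r` are at
most `q`. -/
theorem psl_ncard_tori_le (h2 : (2 : F) ≠ 0) {K : Subgroup PSL(2, F)} (hK : Odd (Nat.card K)) {r : ℕ}
    (hr : r.Prime) :
    {s : PSL(2, F) | orderOf s = 2 ∧ ∃ x ∈ K, orderOf x = r ∧ Commute s x}.ncard ≤ Fintype.card F := by
  classical
  haveI := Fact.mk hr
  set S := {s : PSL(2, F) | orderOf s = 2 ∧ ∃ x ∈ K, orderOf x = r ∧ Commute s x}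
  set R := {X : Subgroup PSL(2, F) | ∃ x ∈ K, orderOf x = r ∧ (∃ s, orderOf s = 2 ∧ Commute s x) ∧
    X = zpowers x}
  by_cases hr2 : r = 2
  · subst hr2
    have hS : S = ∅ := Set.eq_empty_iff_forall_notMem.2 fun s ⟨_, x, hx, hxo, _⟩ => by
      have := hxo ▸ hK.of_dvd_nat (Subgroup.orderOf_dvd_natCard _ hx)
      exact absurd this (by decide)
    simp [hS]
  have hxodd : ∀ x : PSL(2, F), orderOf x = r → x ≠ 1 ∧ Odd (orderOf x) := fun x hx =>
    ⟨fun e => hr.ne_one (by rw [← hx, e, orderOf_one]), hx ▸ hr.odd_of_ne_two hr2⟩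
  have hSR : S.ncard ≤ R.ncard := by
    choose f hf using fun s : S => s.2.2
    let φ : S → R := fun s => ⟨zpowers (f s), f s, (hf s).1, (hf s).2.1, ⟨s, s.2.1, (hf s).2.2⟩, rfl⟩
    refine Nat.card_le_card_of_injective φ fun s s' he => Subtype.ext ?_
    have he' : zpowers (f s) = zpowers (f s') := congrArg Subtype.val he
    obtain ⟨k, hk⟩ := mem_zpowers_iff.1 (he' ▸ mem_zpowers (f s))
    refine psl_unique_involution h2 (hxodd _ (hf s).2.1).1 (hxodd _ (hf s).2.1).2 s.2.1 s'.2.1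
      (hf s).2.2 ?_
    rw [← hk]
    exact (hf s').2.2.zpow_right k
  refine hSR.trans ?_
  obtain ⟨p, hp⟩ := CharP.exists F
  haveI : Fact p.Prime := ⟨CharP.char_is_prime F p⟩
  rcases psl_odd_cases p hK with hc | ⟨P, hP⟩
  · haveI := hc
    refine le_trans ((Set.ncard_le_one (Set.toFinite _)).2 ?_) Fintype.card_pos
    rintro _ ⟨x, hx, hxo, -, rfl⟩ _ ⟨x', hx', hxo', -, rfl⟩
    have h1 : zpowers (⟨x, hx⟩ : K) = zpowers ⟨x', hx'⟩ :=
      zpowers_eq_of_cyclic (by rw [orderOf_mk, orderOf_mk, hxo, hxo'])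
    have := congrArg (Subgroup.map K.subtype) h1
    rwa [MonoidHom.map_zpowers, MonoidHom.map_zpowers] at this
  · set Q := PSL2.pslPartition F p
    set N := normalizer ((P : Subgroup PSL(2, F)) : Set PSL(2, F))
    by_cases hR : R = ∅
    · simp [hR]
    obtain ⟨X₀, x, hx, hxo, ⟨s, hs, hsx⟩, -⟩ := Set.nonempty_iff_ne_empty.2 hR
    obtain ⟨hx1, -⟩ := hxodd x hxo
    have hT : ¬ IsPGroup p (Q.comp x) := not_isPGroup_comp_of_invol p h2 hx1 hs hsx
    have hrp : r ≠ p := fun e => hT ((Q.isPGroup_iff_orderOf hx1).2 ⟨1, by rw [pow_one, hxo, e]⟩)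
    obtain ⟨-, -, hidx⟩ := borel_product p h2 P hx1 (hP hx) hT
    set C := (Q.comp x).subgroupOf N
    let f : N ⧸ C → Subgroup PSL(2, F) := fun n =>
      zpowers ((n.out : PSL(2, F)) * x * (n.out : PSL(2, F))⁻¹)
    have hsub : R ⊆ Set.range f := by
      rintro _ ⟨x', hx', hxo', -, rfl⟩
      obtain ⟨n, hn, hxn⟩ := borel_conj p P hr2 hrp (hP hx) (hP hx') hxo hxo'
      refine ⟨QuotientGroup.mk (⟨n, hn⟩ : N), ?_⟩
      obtain ⟨c', hc'⟩ := QuotientGroup.mk_out_eq_mul C ⟨n, hn⟩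
      rw [hxn]
      simp only [f, hc', Subgroup.coe_mul]
      congr 1
      haveI := (Q.cyclic x hx1 hT).1
      have hcx : Commute ((c' : N) : PSL(2, F)) x := by
        letI : CommGroup (Q.comp x) := IsCyclic.commGroup
        exact congrArg Subtype.val (mul_comm (⟨_, c'.2⟩ : Q.comp x) ⟨x, Q.mem_self x hx1⟩)
      rw [mul_inv_rev, mul_assoc n, hcx.eq]
      simp [mul_assoc]
    calc R.ncard ≤ (Set.range f).ncard := Set.ncard_le_ncard hsub (Set.finite_range f)
      _ ≤ Nat.card (N ⧸ C) := by rw [← Nat.card_coe_set_eq]; exact Finite.card_range_le f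
      _ ≤ _ := hidx

/-- The centraliser of an element of order dividing `q`. -/
theorem psl_uni (h2 : (2 : F) ≠ 0) {v : PSL(2, F)} (hv : v ≠ 1) (hd : orderOf v ∣ Fintype.card F) :
    Nat.card (centralizer ({v} : Set PSL(2, F))) = Fintype.card F ∧
    (∀ u, Commute u v → orderOf u ∣ Fintype.card F) ∧
    (∀ u u', u ≠ 1 → Commute u v → (Commute u' u ↔ Commute u' v)) ∧
    (∀ u, orderOf u = 2 → ¬ Commute u v) := by
  obtain ⟨p, hp⟩ := CharP.exists F
  haveI : Fact p.Prime := ⟨CharP.char_is_prime F p⟩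
  obtain ⟨n, hn⟩ := exists_q_eq (F := F) p
  set Q := PSL2.pslPartition F p
  obtain ⟨i, -, hi⟩ := (Nat.dvd_prime_pow (Fact.out : p.Prime)).1 (hn ▸ hd)
  have hP : IsPGroup p (Q.comp v) := (Q.isPGroup_iff_orderOf hv).2 ⟨i, hi⟩
  have hmem : ∀ u, u ∈ Q.comp v ↔ Commute u v := fun u => Q.centralizer_p v u hv hP
  have hcard := (exists_comp_eq_sylow p (Q.toSylow hv hP)).2
  change Nat.card (Q.comp v) = _ at hcard
  have hdvd : ∀ u, Commute u v → orderOf u ∣ Fintype.card F := fun u hu =>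
    hcard ▸ Subgroup.orderOf_dvd_natCard _ ((hmem u).2 hu)
  refine ⟨?_, hdvd, fun u u' hu huv => ?_, fun u hu huv => ?_⟩
  · rw [show centralizer ({v} : Set PSL(2, F)) = Q.comp v from ext fun u => by
      rw [mem_centralizer_singleton_iff, hmem]; rfl]
    exact hcard
  · have e := Q.eq_of_mem v u hv ((hmem u).2 huv) hu
    rw [← hmem u', ← e]
    exact (Q.centralizer_p u u' hu (e ▸ hP)).symm
  · have h := hdvd u huv
    rw [hu] at h
    exact Nat.not_even_iff_odd.2 (PSL2.odd_card_iff.2 h2) (even_iff_two_dvd.2 h)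

/-- Two elements of odd prime order in a subgroup of odd order, not commuting, give an element of the
unipotent group; the involution centralising one of them inverts it and their torus normalises its
centraliser. -/
theorem psl_commutator (h2 : (2 : F) ≠ 0) {K : Subgroup PSL(2, F)} (hK : Odd (Nat.card K))
    {x x' s : PSL(2, F)} (hxK : x ∈ K) (hx'K : x' ∈ K) (hs : orderOf s = 2) (hsx : Commute s x)
    (hne : ¬ Commute x x') :
    orderOf (x * x' * x⁻¹ * x'⁻¹) ∣ Fintype.card F ∧ x * x' * x⁻¹ * x'⁻¹ ≠ 1 ∧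
    s * (x * x' * x⁻¹ * x'⁻¹) * s⁻¹ = (x * x' * x⁻¹ * x'⁻¹)⁻¹ ∧
    ∀ g, Odd (orderOf g) → Commute g s → ∀ u, Commute u (x * x' * x⁻¹ * x'⁻¹) →
      Commute (g * u * g⁻¹) (x * x' * x⁻¹ * x'⁻¹) := by
  obtain ⟨p, hp⟩ := CharP.exists F
  haveI : Fact p.Prime := ⟨CharP.char_is_prime F p⟩
  set Q := PSL2.pslPartition F p
  have hx1 : x ≠ 1 := fun e => hne (e ▸ Commute.one_left x')
  have hxo : Odd (orderOf x) := hK.of_dvd_nat (Subgroup.orderOf_dvd_natCard _ hxK)
  rcases psl_odd_cases p hK with hc | ⟨P, hP⟩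
  · haveI := hc
    letI : CommGroup K := IsCyclic.commGroup
    exact absurd (congrArg Subtype.val (mul_comm (⟨x, hxK⟩ : K) ⟨x', hx'K⟩)) hne
  have hT := not_isPGroup_comp_of_invol p h2 hx1 hs hsx
  obtain ⟨hCN, hprod, -⟩ := borel_product p h2 P hx1 (hP hxK) hT
  obtain ⟨⟨w, hw1, hw, hPw⟩, hPcard⟩ := exists_comp_eq_sylow p P
  set v := x * x' * x⁻¹ * x'⁻¹ with hvdef
  have hv1 : v ≠ 1 := fun e => hne (by
    rw [hvdef, mul_inv_eq_one, mul_inv_eq_iff_eq_mul] at e; exact e)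
  have hn : ∀ n ∈ normalizer ((P : Subgroup PSL(2, F)) : Set PSL(2, F)), ∀ u ∈ (P : Subgroup PSL(2, F)),
      n * u * n⁻¹ ∈ (P : Subgroup PSL(2, F)) := fun n hn u hu => (mem_normalizer_iff.1 hn u).1 hu
  have hvP : v ∈ (P : Subgroup PSL(2, F)) := by
    obtain ⟨u, hu, c, hc, huc⟩ := hprod x' (hP hx'K)
    haveI := (Q.cyclic x hx1 hT).1
    have hcx : Commute c x := by
      letI : CommGroup (Q.comp x) := IsCyclic.commGroup
      exact congrArg Subtype.val (mul_comm (⟨c, hc⟩ : Q.comp x) ⟨x, Q.mem_self x hx1⟩)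
    rw [hvdef, huc, show x * (u * c) * x⁻¹ * (u * c)⁻¹ = (x * u * x⁻¹) * (x * c * x⁻¹ * c⁻¹) * u⁻¹ by
      group, ← hcx.eq, show c * x * x⁻¹ * c⁻¹ = 1 by group, mul_one]
    exact mul_mem (hn x (hP hxK) u hu) (inv_mem hu)
  have hvd : orderOf v ∣ Fintype.card F := hPcard ▸ Subgroup.orderOf_dvd_natCard _ hvP
  obtain ⟨-, hdvd, hiff, hno⟩ := psl_uni h2 hv1 hvd
  have hcomm : ∀ u, u ∈ (P : Subgroup PSL(2, F)) ↔ Commute u v := fun u => by
    rw [← hPw, ← Q.eq_of_mem w v hw1 (hPw ▸ hvP) hv1]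
    refine Q.centralizer_p v u hv1 ?_
    rw [Q.eq_of_mem w v hw1 (hPw ▸ hvP) hv1]
    exact hw
  have hsC : s ∈ Q.comp x := mem_comp_of_commute p hx1 hxo hT hsx
  have hsN := hCN hsC
  refine ⟨hvd, hv1, ?_, fun g hgo hgs u hu => ?_⟩
  · -- `s` acts on `P` without fixed points
    have hmem := hn s hsN v hvP
    set z := s * v * s⁻¹ * v with hz
    have hzv : Commute (s * v * s⁻¹) v := (hcomm _).1 hmem
    have hsi := BSW.inv_of_order hs
    have hzs : Commute z s := by
      have hss := BSW.sq_of_order hs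
      have h1 : s * (s * v * s⁻¹) * s⁻¹ = v := by
        rw [show s * (s * v * s⁻¹) * s⁻¹ = s * s * v * (s * s)⁻¹ by group, hss, one_mul, inv_one, mul_one]
      have : s * z * s⁻¹ = z := by
        rw [hz, show s * (s * v * s⁻¹ * v) * s⁻¹ = s * (s * v * s⁻¹) * s⁻¹ * (s * v * s⁻¹) by group, h1,
          hzv.eq]
      exact (mul_inv_eq_iff_eq_mul.1 this).symm
    by_contra hne'
    have hz1 : z ≠ 1 := fun e => hne' (eq_inv_of_mul_eq_one_left (hz ▸ e))
    have hzP : z ∈ (P : Subgroup PSL(2, F)) := mul_mem hmem hvP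
    refine hno s hs ((hiff z s hz1 ((hcomm z).1 hzP)).1 hzs.symm)
  · have hgC : g ∈ Q.comp x := by
      by_cases hg1 : g = 1
      · rw [hg1]; exact one_mem _
      have hs1 : s ≠ 1 := BSW.ne_one_of_order hs
      have he := Q.eq_of_mem x s hx1 hsC hs1
      have hconj : g * s * g⁻¹ = s := by rw [hgs.eq, mul_inv_cancel_right]
      have hgn := Q.mem_normalizer_of_conj_mem hs1 (k := g) (by rw [hconj]; exact Q.mem_self s hs1)
      rw [he] at hgn
      by_contra hg
      have hg2 := (Q.inverting x g hx1 hT hgn hg).1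
      obtain ⟨j, hj⟩ := hgo
      have := pow_orderOf_eq_one g
      rw [hj, pow_succ, pow_mul, pow_two, hg2, one_pow, one_mul] at this
      exact hg1 this
    exact (hcomm _).1 (hn g (hCN hgC) u ((hcomm u).2 hu))

/-- Two unipotent groups normalised by the same torus are conjugate by an involution inverting it. -/
theorem psl_uni_pair (h2 : (2 : F) ≠ 0) {τ b v v' : PSL(2, F)} (hτ : (orderOf τ).Prime)
    (hτ2 : orderOf τ ≠ 2) (hb : orderOf b = 2) (hinv : b * τ * b⁻¹ = τ⁻¹) {s : PSL(2, F)}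
    (hs : orderOf s = 2) (hsτ : Commute s τ) (hv : v ≠ 1) (hvd : orderOf v ∣ Fintype.card F)
    (hvτ : Commute (τ * v * τ⁻¹) v) (hv' : v' ≠ 1) (hv'd : orderOf v' ∣ Fintype.card F)
    (hv'τ : Commute (τ * v' * τ⁻¹) v') :
    (∀ u, Commute u v' ↔ Commute u v) ∨ ∀ u, Commute u v' ↔ Commute u (b * v * b⁻¹) := by
  obtain ⟨p, hp⟩ := CharP.exists F
  haveI : Fact p.Prime := ⟨CharP.char_is_prime F p⟩
  haveI := Fact.mk hτ
  set Q := PSL2.pslPartition F p
  obtain ⟨n, hn⟩ := exists_q_eq (F := F) p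
  have hP : ∀ v : PSL(2, F), v ≠ 1 → orderOf v ∣ Fintype.card F → IsPGroup p (Q.comp v) :=
    fun v hv hd => (Q.isPGroup_iff_orderOf hv).2 (by
      obtain ⟨i, -, hi⟩ := (Nat.dvd_prime_pow (Fact.out : p.Prime)).1 (hn ▸ hd); exact ⟨i, hi⟩)
  have hmem : ∀ (v : PSL(2, F)) (hv : v ≠ 1) (hd : orderOf v ∣ Fintype.card F) u,
      u ∈ Q.comp v ↔ Commute u v := fun v hv hd u => Q.centralizer_p v u hv (hP v hv hd)
  have hN : ∀ (v : PSL(2, F)) (hv : v ≠ 1) (hd : orderOf v ∣ Fintype.card F),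
      Commute (τ * v * τ⁻¹) v → τ ∈ normalizer (Q.comp v : Set PSL(2, F)) := fun v hv hd h =>
    Q.mem_normalizer_of_conj_mem hv ((hmem v hv hd _).2 h)
  have hτ1 : τ ≠ 1 := fun e => hτ.ne_one (by rw [e, orderOf_one])
  have hT := not_isPGroup_comp_of_invol p h2 hτ1 hs hsτ
  have hrp : orderOf τ ≠ p := fun e => hT ((Q.isPGroup_iff_orderOf hτ1).2 ⟨1, by rw [pow_one, e]⟩)
  set P := Q.toSylow hv (hP v hv hvd)
  set P' := Q.toSylow hv' (hP v' hv' hv'd)
  obtain ⟨g, hg⟩ := MulAction.exists_smul_eq PSL(2, F) P P'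
  have hg' : (Q.comp v).map (MulAut.conj g).toMonoidHom = Q.comp v' := congrArg Sylow.toSubgroup hg
  have hτg : g⁻¹ * τ * g ∈ normalizer ((P : Subgroup PSL(2, F)) : Set PSL(2, F)) := by
    have h1 := hN v' hv' hv'd hv'τ
    rw [← hg', ← map_equiv_normalizer_eq (Q.comp v) (MulAut.conj g)] at h1
    exact PSL2.Part.Partition.mem_map_conj.1 h1
  obtain ⟨k, hk, hkτ⟩ := borel_conj p P hτ2 hrp (x := τ) (x' := g⁻¹ * τ * g) (hN v hv hvd hvτ) hτg rfl
    (by rw [show g⁻¹ * τ * g = MulAut.conj g⁻¹ τ by rw [MulAut.conj_apply, inv_inv], MulEquiv.orderOf_eq])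
  -- `g * k` normalises the torus of `τ`
  set h := g * k with hh
  have hhn : h ∈ normalizer (Q.comp τ : Set PSL(2, F)) := by
    have h1 : k * τ * k⁻¹ ∈ zpowers (g⁻¹ * τ * g) := hkτ ▸ mem_zpowers _
    obtain ⟨i, hi⟩ := mem_zpowers_iff.1 h1
    refine Q.mem_normalizer_of_conj_mem hτ1 (k := h) ?_
    rw [hh, show g * k * τ * (g * k)⁻¹ = g * (k * τ * k⁻¹) * g⁻¹ by group, ← hi, ← conj_zpow,
      show g * (g⁻¹ * τ * g) * g⁻¹ = τ by group]
    exact zpow_mem (Q.mem_self τ hτ1) i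
  have hCN := (borel_product p h2 P hτ1 (hN v hv hvd hvτ) hT).1
  have hfix : ∀ m ∈ normalizer ((P : Subgroup PSL(2, F)) : Set PSL(2, F)), ∀ u,
      m * u * m⁻¹ ∈ Q.comp v ↔ u ∈ Q.comp v := fun m hm u => (mem_normalizer_iff.1 hm u).symm
  have hg'' : ∀ u, Commute u v' ↔ h⁻¹ * u * h ∈ Q.comp v := fun u => by
    rw [← hmem v' hv' hv'd u, ← hg', PSL2.Part.Partition.mem_map_conj, ← hfix k hk (h⁻¹ * u * h), hh,
      show k * ((g * k)⁻¹ * u * (g * k)) * k⁻¹ = g⁻¹ * u * g by group]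
  by_cases hhC : h ∈ Q.comp τ
  · refine Or.inl fun u => (hg'' u).trans ?_
    rw [← hfix h (hCN hhC) (h⁻¹ * u * h), show h * (h⁻¹ * u * h) * h⁻¹ = u by group, hmem v hv hvd]
  · refine Or.inr fun u => (hg'' u).trans ?_
    have hbn : b ∈ normalizer (Q.comp τ : Set PSL(2, F)) := Q.mem_normalizer_of_conj_mem hτ1
      (by rw [hinv]; exact inv_mem (Q.mem_self τ hτ1))
    have hbC : b ∉ Q.comp τ := fun hb' => by
      haveI := (Q.cyclic τ hτ1 hT).1
      letI : CommGroup (Q.comp τ) := IsCyclic.commGroup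
      refine hτ1 (CompInverted.eq_one_of_commute_inverted (hτ.odd_of_ne_two hτ2) hinv ?_)
      exact (congrArg Subtype.val (mul_comm (⟨b, hb'⟩ : Q.comp τ) ⟨τ, Q.mem_self τ hτ1⟩)).symm
    have hbi := BSW.inv_of_order hb
    have hc := Q.two τ b h hτ1 hT hbn hhn hbC hhC
    rw [← hfix (b * h) (hCN hc) (h⁻¹ * u * h),
      show b * h * (h⁻¹ * u * h) * (b * h)⁻¹ = b * u * b⁻¹ by group, hmem v hv hvd]
    constructor <;> intro hc'
    · have := hc'.map (MulAut.conj b)
      rwa [MulAut.conj_apply, MulAut.conj_apply, show b * (b * u * b⁻¹) * b⁻¹ = (b * b) * u * (b * b)⁻¹ by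
        group, BSW.sq_of_order hb, one_mul, inv_one, mul_one] at this
    · have := hc'.map (MulAut.conj b)
      rwa [MulAut.conj_apply, MulAut.conj_apply, show b * (b * v * b⁻¹) * b⁻¹ = (b * b) * v * (b * b)⁻¹ by
        group, BSW.sq_of_order hb, one_mul, inv_one, mul_one] at this

/-- An element of odd order inverted by the involution of a torus and commuting with its conjugate under
the torus is unipotent. -/
theorem psl_uni_of_inverted (h2 : (2 : F) ≠ 0) {a s τ : PSL(2, F)} (ha : a ≠ 1) (hao : Odd (orderOf a))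
    (hs : orderOf s = 2) (hinv : s * a * s⁻¹ = a⁻¹) (hτ : τ ≠ 1) (hτo : Odd (orderOf τ))
    (hsτ : Commute s τ) (hc : Commute (τ * a * τ⁻¹) a) : orderOf a ∣ Fintype.card F := by
  obtain ⟨p, hp⟩ := CharP.exists F
  haveI : Fact p.Prime := ⟨CharP.char_is_prime F p⟩
  set Q := PSL2.pslPartition F p
  by_cases hP : IsPGroup p (Q.comp a)
  · obtain ⟨n, hn, hq⟩ := FiniteField.card F p
    rw [orderOf_dvd_q p ha hP, hq]
    exact dvd_pow_self p n.ne_zero
  exfalso
  have hτn : τ ∈ normalizer (Q.comp a : Set PSL(2, F)) :=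
    Q.mem_normalizer_of_conj_mem ha (mem_comp_of_commute p ha hao hP hc)
  have hτC : τ ∈ Q.comp a := by
    by_contra h
    obtain ⟨j, hj⟩ := hτo
    have := pow_orderOf_eq_one τ
    rw [hj, pow_succ, pow_mul, pow_two, (Q.inverting a τ ha hP hτn h).1, one_pow, one_mul] at this
    exact hτ this
  haveI := (Q.cyclic a ha hP).1
  letI : CommGroup (Q.comp a) := IsCyclic.commGroup
  have haτ : Commute a τ :=
    congrArg Subtype.val (mul_comm (⟨a, Q.mem_self a ha⟩ : Q.comp a) ⟨τ, hτC⟩)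
  exact ha (CompInverted.eq_one_of_commute_inverted hao hinv
    (psl_commute_of_commute h2 hτ hτo hs hsτ haτ).symm)

end Projective

end Cfsg.Agent.GW.CompQuad
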