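import Cfsg.Agent.Lib.GW.PartII.CompPlane
import Cfsg.Agent.Lib.GW.PartII.CompLocal
import Cfsg.Agent.Lib.GW.PartII.CompQuadModel

/-!
# The component configuration: two neighbours over one point

* `Plane.mult_le`: the common neighbours of `⟨y⟩` and a point sharing no block with it lie on at most `q`
  blocks through `⟨y⟩`, as the projections of their generators to the layer `PSL₂(q)` generate a subgroup
  of odd order, so a torus or a subgroup of a Borel subgroup.
-/

set_option autoImplicit false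
set_option linter.unusedSectionVars false
set_option linter.style.haveILetI false

namespace Cfsg.Agent.GW

open Subgroup
open BSW (mem_cent)
open scoped MatrixGroups

universe u

namespace CompQuad

variable {G : Type u} [Group G] [Finite G] {F : Type} [Field F] [Fintype F]

section Layer

variable {L : Subgroup G} (e : L ≃* PSL(2, F))

include e

/-- The order of the image of an element of `L`. -/
theorem orderOf_image {x : G} (hx : x ∈ L) : orderOf (e ⟨x, hx⟩) = orderOf x := by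
  rw [MulEquiv.orderOf_eq, orderOf_mk]

/-- An element of odd order of `L` other than `1` commutes with at most one involution of `L`. -/
theorem unique_involution (h2 : (2 : F) ≠ 0) {x s s' : G} (hx : x ∈ L) (hx1 : x ≠ 1)
    (hxo : Odd (orderOf x)) (hsL : s ∈ L) (hs'L : s' ∈ L) (hs : orderOf s = 2) (hs' : orderOf s' = 2)
    (hc : Commute s x) (hc' : Commute s' x) : s = s' := by
  refine congrArg Subtype.val (e.injective (psl_unique_involution h2 (x := e ⟨x, hx⟩)
    (s := e ⟨s, hsL⟩) (s' := e ⟨s', hs'L⟩) (fun h => hx1 ?_) (by rwa [orderOf_image e])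
    (by rwa [orderOf_image e]) (by rwa [orderOf_image e])
    ((show Commute (⟨s, hsL⟩ : L) ⟨x, hx⟩ from Subtype.ext hc.eq).map e)
    ((show Commute (⟨s', hs'L⟩ : L) ⟨x, hx⟩ from Subtype.ext hc'.eq).map e)))
  exact congrArg Subtype.val ((map_eq_one_iff e e.injective).1 h)

/-- The involutions of `L` are conjugate in `L`. -/
theorem exists_conj_involution (h4 : 4 ≤ Fintype.card F) {s s' : G} (hsL : s ∈ L) (hs'L : s' ∈ L)
    (hs : orderOf s = 2) (hs' : orderOf s' = 2) : ∃ l ∈ L, l * s * l⁻¹ = s' := by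
  obtain ⟨c, hc⟩ := isConj_iff.1 (PSL2.psl_involutions_isConj (x := e ⟨s, hsL⟩) (y := e ⟨s', hs'L⟩)
    (by rwa [orderOf_image e]) (by rwa [orderOf_image e]))
  refine ⟨e.symm c, (e.symm c).2, congrArg Subtype.val
    (show e.symm c * ⟨s, hsL⟩ * (e.symm c)⁻¹ = (⟨s', hs'L⟩ : L) from e.injective ?_)⟩
  rwa [map_mul, map_mul, map_inv, e.apply_symm_apply]

/-- In a subgroup of odd order of `L` the tori meeting it in elements of prime order `r` are at most
`q`. -/
theorem ncard_tori_le (h2 : (2 : F) ≠ 0) {K : Subgroup G} (hKL : K ≤ L) (hK : Odd (Nat.card K)) {r : ℕ}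
    (hr : r.Prime) :
    {s : G | s ∈ L ∧ orderOf s = 2 ∧ ∃ x ∈ K, orderOf x = r ∧ Commute s x}.ncard ≤ Fintype.card F := by
  set K' := (K.subgroupOf L).map e.toMonoidHom
  have hK' : Odd (Nat.card K') := by
    rw [card_map_of_injective e.injective, Nat.card_congr (subgroupOfEquivOfLe hKL).toEquiv]
    exact hK
  refine le_trans ?_ (psl_ncard_tori_le h2 hK' hr)
  classical
  set f : G → PSL(2, F) := fun s => if h : s ∈ L then e ⟨s, h⟩ else 1 with hf
  refine Set.ncard_le_ncard_of_injOn f ?_ ?_ (Set.toFinite _)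
  · rintro s ⟨hsL, hs, x, hxK, hxr, hsx⟩
    simp only [hf, dif_pos hsL]
    refine ⟨by rwa [orderOf_image e], e ⟨x, hKL hxK⟩, ⟨⟨x, hKL hxK⟩, hxK, rfl⟩,
      by rwa [orderOf_image e], ?_⟩
    exact (show Commute (⟨s, hsL⟩ : L) ⟨x, hKL hxK⟩ from Subtype.ext hsx.eq).map e
  · rintro s ⟨hsL, -, -⟩ s' ⟨hs'L, -, -⟩ h
    simp only [hf, dif_pos hsL, dif_pos hs'L] at h
    exact congrArg Subtype.val (e.injective h)

end Layer

/-- The conjugate of a subgroup. -/
abbrev cj (g : G) (A : Subgroup G) : Subgroup G := A.map (MulAut.conj g).toMonoidHom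

theorem mem_cj {g x : G} {A : Subgroup G} : x ∈ cj g A ↔ g⁻¹ * x * g ∈ A :=
  PSL2.Part.Partition.mem_map_conj

theorem conj_mem_cj {g a : G} {A : Subgroup G} (ha : a ∈ A) : g * a * g⁻¹ ∈ cj g A := ⟨a, ha, rfl⟩

theorem cj_cj (g h : G) (A : Subgroup G) : cj g (cj h A) = cj (g * h) A :=
  PSL2.Part.Partition.map_conj_conj A h g

theorem cj_one (A : Subgroup G) : cj 1 A = A := PSL2.Part.Partition.map_conj_one A

theorem cj_inv (g : G) (A : Subgroup G) : cj g⁻¹ (cj g A) = A := by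
  rw [cj_cj, inv_mul_cancel, cj_one]

theorem cj_inv' (g : G) (A : Subgroup G) : cj g (cj g⁻¹ A) = A := by
  rw [cj_cj, mul_inv_cancel, cj_one]

theorem cj_zpowers (g a : G) : cj g (zpowers a) = zpowers (g * a * g⁻¹) := MonoidHom.map_zpowers _ a

theorem mem_sup_of_commute {A B : Subgroup G} (h : ∀ a ∈ A, ∀ b ∈ B, Commute a b) {x : G}
    (hx : x ∈ A ⊔ B) : ∃ a ∈ A, ∃ b ∈ B, x = a * b := by
  have hr : (MonoidHom.noncommCoprod A.subtype B.subtype fun a b => h a a.2 b b.2).range = A ⊔ B :=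
    (MonoidHom.noncommCoprod_range _ _ _).trans (by rw [range_subtype, range_subtype])
  rw [← hr] at hx
  obtain ⟨⟨a, b⟩, rfl⟩ := hx
  exact ⟨a, a.2, b, b.2, rfl⟩

variable {t b y τ : G}

theorem inc_conj {Y : Subgroup G} {s : G} (g : G) (h : Inc t y Y s) :
    Inc t y (cj g Y) (g * s * g⁻¹) := by
  obtain ⟨k, rfl, rfl⟩ := h
  exact ⟨g * k, cj_cj g k _, by group⟩

theorem layerN_conj {g l : G} (hg : g ∈ normalizer (zpowers y : Set G)) (hl : l ∈ layerN y) :
    g * l * g⁻¹ ∈ layerN y :=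
  CompLocal.layerOf_normal hg hl

/-- What `⟨y⟩` and the blocks through it need. -/
structure Loc (t y τ : G) (F : Type) [Field F] [Fintype F] : Prop where
  prime : (orderOf y).Prime
  odd : Odd (orderOf y)
  order_t : orderOf t = 2
  order_τ : orderOf τ = orderOf y
  comm_τ : Commute τ t
  mem_t : t ∈ layerN y
  mem_τ : τ ∈ layerN y
  comm_layer : ∀ l ∈ layerN y, Commute y l
  two : (2 : F) ≠ 0
  four : 4 ≤ Fintype.card F
  span : ∀ Y ∈ nbrs t y, Y ≤ zpowers y ⊔ zpowers τ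

namespace Loc

variable (c : Loc t y τ F) (e : layerN y ≃* PSL(2, F))

include c

theorem zpowers_eq_of_mem {a z : G} (hz : orderOf z = orderOf y) (ha : a ∈ zpowers z) (h1 : a ≠ 1) :
    zpowers a = zpowers z := by
  haveI : Fact (Nat.card (zpowers z)).Prime := ⟨by rw [Nat.card_zpowers, hz]; exact c.prime⟩
  have h := (Nat.dvd_prime Fact.out).1 (card_dvd_of_le (zpowers_le.2 ha))
  rcases h with h | h
  · rw [Nat.card_zpowers, orderOf_eq_one_iff] at h
    exact absurd h h1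
  · exact eq_of_le_of_card_ge (zpowers_le.2 ha) h.ge

include e

/-- The blocks through `⟨y⟩` are the involutions of its layer. -/
theorem inc_self {s : G} : Inc t y (zpowers y) s ↔ s ∈ layerN y ∧ orderOf s = 2 := by
  constructor
  · rintro ⟨g, hg, rfl⟩
    refine ⟨layerN_conj (mem_normalizer_iff_map_conj_eq.2 hg.symm) c.mem_t, ?_⟩
    rw [← MulAut.conj_apply, MulEquiv.orderOf_eq, c.order_t]
  · rintro ⟨hsL, hs⟩
    obtain ⟨l, hl, hls⟩ := exists_conj_involution e c.four c.mem_t hsL c.order_t hs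
    refine ⟨l, ?_, hls.symm⟩
    show zpowers y = cj l (zpowers y)
    rw [cj_zpowers, ← (c.comm_layer l hl).eq, mul_inv_cancel_right]

/-- A block through `⟨y⟩` comes from the block `t` by an element normalising `⟨y⟩`. -/
theorem exists_move {s : G} (hs : Inc t y (zpowers y) s) :
    ∃ g, g ∈ normalizer (zpowers y : Set G) ∧ s = g * t * g⁻¹ := by
  obtain ⟨g, hg, rfl⟩ := hs
  exact ⟨g, mem_normalizer_iff_map_conj_eq.2 hg.symm, rfl⟩

/-- Commuting neighbours on the block `g t g⁻¹` are moved from the block `t`. -/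
theorem move_nbrs {g : G} (hg : g ∈ normalizer (zpowers y : Set G)) {Y : Subgroup G}
    (hne : zpowers y ≠ Y) (hc : ∀ a ∈ zpowers y, ∀ w ∈ Y, Commute a w)
    (hY : Inc t y Y (g * t * g⁻¹)) : cj g⁻¹ Y ∈ nbrs t y := by
  have hfix : cj g (zpowers y) = zpowers y := mem_normalizer_iff_map_conj_eq.1 hg
  refine ⟨?_, fun h => hne ?_, fun a ha => ?_⟩
  · have := inc_conj g⁻¹ hY
    rwa [show g⁻¹ * (g * t * g⁻¹) * g⁻¹⁻¹ = t by group] at this
  · rw [← cj_inv' g Y, h, hfix]
  · rw [mem_cj, inv_inv] at ha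
    have h1 : g * y * g⁻¹ ∈ zpowers y := hfix ▸ conj_mem_cj (mem_zpowers y)
    have := ((hc _ h1 _ ha).symm).map (MulAut.conj g⁻¹)
    rwa [MulAut.conj_apply, MulAut.conj_apply, show g⁻¹ * (g * a * g⁻¹) * g⁻¹⁻¹ = a by group,
      show g⁻¹ * (g * y * g⁻¹) * g⁻¹⁻¹ = y by group] at this

/-- A generator of a commuting neighbour has a projection to the torus of the block. -/
theorem exists_proj {Y : Subgroup G} {s : G} (hne : zpowers y ≠ Y)
    (hc : ∀ a ∈ zpowers y, ∀ w ∈ Y, Commute a w) (hs : Inc t y (zpowers y) s) (hY : Inc t y Y s) :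
    ∃ w a x, w ∈ Y ∧ zpowers w = Y ∧ a ∈ zpowers y ∧ x ∈ layerN y ∧ orderOf x = orderOf y ∧
      Commute s x ∧ w = a * x := by
  obtain ⟨g, hg, rfl⟩ := c.exists_move e hs
  have hnb := c.move_nbrs e hg hne hc hY
  obtain ⟨k, hk, -⟩ := hnb.1
  set w' := k * y * k⁻¹
  have hw' : cj g⁻¹ Y = zpowers w' := hk.trans (cj_zpowers k y)
  have hYw : Y = zpowers (g * w' * g⁻¹) := by rw [← cj_inv' g Y, hw', cj_zpowers]
  have hord : orderOf w' = orderOf y := MulEquiv.orderOf_eq (MulAut.conj k) y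
  have hcomm : ∀ a ∈ zpowers y, ∀ x ∈ zpowers τ, Commute a x := by
    intro a ha x hx
    obtain ⟨i, rfl⟩ := mem_zpowers_iff.1 ha
    obtain ⟨j, rfl⟩ := mem_zpowers_iff.1 hx
    exact ((c.comm_layer τ c.mem_τ).zpow_left i).zpow_right j
  obtain ⟨a, ha, x, hx, hax⟩ := mem_sup_of_commute hcomm (c.span _ hnb (hw' ▸ mem_zpowers w'))
  have hfix : cj g (zpowers y) = zpowers y := mem_normalizer_iff_map_conj_eq.1 hg
  have hx1 : x ≠ 1 := by
    intro h
    apply hnb.2.1
    rw [hw']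
    refine c.zpowers_eq_of_mem rfl ?_ (fun h' => ?_)
    · rw [hax, h, mul_one]; exact ha
    · rw [h', orderOf_one] at hord
      exact c.prime.ne_one hord.symm
  have hxo : orderOf x = orderOf y := by
    rw [← Nat.card_zpowers, c.zpowers_eq_of_mem c.order_τ hx hx1, Nat.card_zpowers, c.order_τ]
  refine ⟨g * w' * g⁻¹, g * a * g⁻¹, g * x * g⁻¹, by rw [hYw]; exact mem_zpowers _, hYw.symm,
    hfix ▸ conj_mem_cj ha, layerN_conj hg (zpowers_le.2 c.mem_τ hx),
    by rw [← MulAut.conj_apply, MulEquiv.orderOf_eq, hxo], ?_, by rw [hax]; group⟩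
  obtain ⟨j, rfl⟩ := mem_zpowers_iff.1 hx
  exact ((c.comm_τ.zpow_left j).symm).map (MulAut.conj g)

/-- A commuting neighbour lies in `⟨y⟩` times the layer. -/
theorem le_sup {Y : Subgroup G} (hY : Adj t y (zpowers y) Y) : Y ≤ zpowers y ⊔ layerN y := by
  obtain ⟨hne, hc, s, hs, hsY⟩ := hY
  obtain ⟨w, a, x, -, hw, ha, hx, -, -, hwax⟩ := c.exists_proj e hne hc hs hsY
  rw [← hw, zpowers_le, hwax]
  exact mul_mem (mem_sup_left ha) (mem_sup_right hx)

/-- A point adjacent to a conjugate of `⟨y⟩` lies in it times its layer. -/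
theorem le_sup_conj {h : G} {Y : Subgroup G} (hY : Adj t y Y (cj h (zpowers y))) :
    Y ≤ cj h (zpowers y) ⊔ cj h (layerN y) := by
  obtain ⟨hne, hc, s, hs, hs'⟩ := hY
  have h1 : Adj t y (zpowers y) (cj h⁻¹ Y) := by
    refine ⟨fun h0 => hne ?_, ?_, h⁻¹ * s * h⁻¹⁻¹, ?_, inc_conj h⁻¹ hs⟩
    · rw [h0, cj_inv']
    · rintro a ha w ⟨w', hw', rfl⟩
      have := ((hc w' hw' _ (conj_mem_cj (g := h) ha)).symm).map (MulAut.conj h⁻¹)
      rwa [MulAut.conj_apply, show h⁻¹ * (h * a * h⁻¹) * h⁻¹⁻¹ = a by group] at this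
    · have := inc_conj h⁻¹ hs'
      rwa [cj_inv] at this
  have h2 := map_mono (f := (MulAut.conj h).toMonoidHom) (c.le_sup e h1)
  rw [Subgroup.map_sup] at h2
  change cj h (cj h⁻¹ Y) ≤ cj h (zpowers y) ⊔ cj h (layerN y) at h2
  rwa [cj_inv'] at h2

theorem commute_sup {h : G} : ∀ a ∈ cj h (zpowers y), ∀ l ∈ cj h (layerN y), Commute a l := by
  rintro _ ⟨a, ha, rfl⟩ _ ⟨l, hl, rfl⟩
  obtain ⟨i, rfl⟩ := mem_zpowers_iff.1 ha
  exact ((c.comm_layer l hl).zpow_left i).map (MulAut.conj h)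

/-- An involution of a point times its layer lies in the layer. -/
theorem invol_mem {h v : G} (hv : orderOf v = 2) (hmem : v ∈ cj h (zpowers y) ⊔ cj h (layerN y)) :
    v ∈ cj h (layerN y) := by
  obtain ⟨a, ha, l, hl, hvl⟩ := mem_sup_of_commute (c.commute_sup e) hmem
  obtain ⟨j, hj⟩ := c.odd
  have ha' : a ^ orderOf y = 1 := by
    obtain ⟨a', ha', rfl⟩ := ha
    obtain ⟨i, rfl⟩ := mem_zpowers_iff.1 ha'
    rw [← map_pow, ← zpow_natCast (y ^ i), ← zpow_mul, mul_comm, zpow_mul, zpow_natCast,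
      pow_orderOf_eq_one, one_zpow, map_one]
  have : v ^ orderOf y = v := by
    rw [hj, pow_succ, pow_mul, pow_two, BSW.sq_of_order hv, one_pow, one_mul]
  rw [← this, hvl, ((c.commute_sup e) a ha l hl).mul_pow, ha', one_mul]
  exact pow_mem hl _

/-- The common part of two points sharing no block, projected to the layer, has odd order. -/
theorem odd_K {h : G} (hno : ∀ s, Inc t y (zpowers y) s → ¬ Inc t y (cj h (zpowers y)) s) :
    Odd (Nat.card ↥(((zpowers y ⊔ layerN y) ⊓ (cj h (zpowers y) ⊔ cj h (layerN y)) ⊔ zpowers y) ⊓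
      layerN y)) := by
  set W := (zpowers y ⊔ layerN y) ⊓ (cj h (zpowers y) ⊔ cj h (layerN y))
  set K := (W ⊔ zpowers y) ⊓ layerN y
  by_contra hev
  rw [Nat.not_odd_iff_even, even_iff_two_dvd] at hev
  haveI : Fact (Nat.Prime 2) := ⟨Nat.prime_two⟩
  obtain ⟨v, hv⟩ := exists_prime_orderOf_dvd_card' 2 hev
  have hv' : orderOf (v : G) = 2 := by rw [orderOf_coe, hv]
  have hWc : ∀ w ∈ W, ∀ a ∈ zpowers y, Commute w a := by
    intro w hw a ha
    have hcent : zpowers y ⊔ layerN y ≤ Cent y := sup_le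
      (zpowers_le.2 (mem_cent.2 (Commute.refl y).eq))
      fun l hl => mem_cent.2 (c.comm_layer l hl).symm.eq
    obtain ⟨i, rfl⟩ := mem_zpowers_iff.1 ha
    exact (show Commute w y from mem_cent.1 (hcent hw.1)).zpow_right i
  obtain ⟨w, hw, a, ha, hva⟩ := mem_sup_of_commute hWc v.2.1
  obtain ⟨j, hj⟩ := c.odd
  have hvW : (v : G) ∈ W := by
    have ha' : a ^ orderOf y = 1 := by
      obtain ⟨i, rfl⟩ := mem_zpowers_iff.1 ha
      rw [← zpow_natCast (y ^ i), ← zpow_mul, mul_comm, zpow_mul, zpow_natCast, pow_orderOf_eq_one,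
        one_zpow]
    have : (v : G) ^ orderOf y = v := by
      rw [hj, pow_succ, pow_mul, pow_two, BSW.sq_of_order hv', one_pow, one_mul]
    rw [← this, hva, (hWc w hw a ha).mul_pow, ha', mul_one]
    exact pow_mem hw _
  refine hno v ((c.inc_self e).2 ⟨v.2.2, hv'⟩) ?_
  have hv₂ := c.invol_mem e hv' hvW.2
  rw [mem_cj] at hv₂
  have := inc_conj h ((c.inc_self e).2 ⟨hv₂, by
    rw [show h⁻¹ * (v : G) * h = MulAut.conj h⁻¹ v by rw [MulAut.conj_apply, inv_inv],
      MulEquiv.orderOf_eq, hv']⟩)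
  rw [show h * (h⁻¹ * (v : G) * h) * h⁻¹ = v by group] at this
  exact this

/-- The common neighbours of `⟨y⟩` and a point sharing no block with it are on at most `q` blocks. -/
theorem ncard_le {Y₂ : Subgroup G} (hY₂ : ∃ s, Inc t y Y₂ s)
    (hno : ∀ s, Inc t y (zpowers y) s → ¬ Inc t y Y₂ s) :
    {Y₁ | Adj t y (zpowers y) Y₁ ∧ Adj t y Y₁ Y₂}.ncard ≤ Fintype.card F * (nbrs t y).ncard := by
  classical
  obtain ⟨s₂, h, hh, -⟩ := hY₂
  set M := {Y₁ | Adj t y (zpowers y) Y₁ ∧ Adj t y Y₁ Y₂}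
  set W := (zpowers y ⊔ layerN y) ⊓ (cj h (zpowers y) ⊔ cj h (layerN y))
  set K := (W ⊔ zpowers y) ⊓ layerN y
  have hK : Odd (Nat.card K) := c.odd_K e (h := h) fun s hs => by
    have := hno s hs
    rwa [hh] at this
  set S := {s : G | Inc t y (zpowers y) s ∧ ∃ Y₁ ∈ M, Inc t y Y₁ s}
  have hS : S.ncard ≤ Fintype.card F := by
    refine le_trans (Set.ncard_le_ncard ?_ (Set.toFinite _))
      (ncard_tori_le e c.two (K := K) inf_le_right hK c.prime)
    rintro s ⟨hs, Y₁, hM, hs₁⟩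
    obtain ⟨hsL, hs2⟩ := (c.inc_self e).1 hs
    obtain ⟨w, a, x, hw, -, ha, hx, hxo, hsx, hwax⟩ := c.exists_proj e hM.1.1 hM.1.2.1 hs hs₁
    refine ⟨hsL, hs2, x, ⟨?_, hx⟩, hxo, hsx⟩
    have hadj : Adj t y Y₁ (cj h (zpowers y)) := by rw [← show Y₂ = cj h (zpowers y) from hh]; exact hM.2
    have hwW : w ∈ W := ⟨c.le_sup e hM.1 hw, c.le_sup_conj e hadj hw⟩
    rw [show x = a⁻¹ * w by rw [hwax, inv_mul_cancel_left]]
    exact mul_mem (mem_sup_right (inv_mem ha)) (mem_sup_left hwW)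
  choose! g hg using fun s (hs : Inc t y (zpowers y) s) => c.exists_move e hs
  have hMS : M ⊆ ⋃ s ∈ S.toFinite.toFinset, cj (g s) '' nbrs t y := by
    intro Y₁ hM
    obtain ⟨s, hs, hs₁⟩ := hM.1.2.2
    simp only [Set.Finite.mem_toFinset, Set.mem_iUnion]
    refine ⟨s, ⟨hs, Y₁, hM, hs₁⟩, cj (g s)⁻¹ Y₁, ?_, cj_inv' _ _⟩
    exact c.move_nbrs e (hg s hs).1 hM.1.1 hM.1.2.1 (by rw [← (hg s hs).2]; exact hs₁)
  calc M.ncard ≤ (⋃ s ∈ S.toFinite.toFinset, cj (g s) '' nbrs t y).ncard :=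
        Set.ncard_le_ncard hMS (Set.toFinite _)
    _ ≤ ∑ s ∈ S.toFinite.toFinset, (cj (g s) '' nbrs t y).ncard :=
        Finset.set_ncard_biUnion_le _ _
    _ ≤ S.toFinite.toFinset.card • (nbrs t y).ncard :=
        Finset.sum_le_card_nsmul _ _ _ fun s _ => Set.ncard_image_le (Set.toFinite _)
    _ ≤ Fintype.card F * (nbrs t y).ncard := by
        rw [smul_eq_mul, ← Set.ncard_eq_toFinset_card S]
        exact Nat.mul_le_mul_right _ hS

end Loc

end CompQuad

section Main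

open CompQuad

variable {G : Type u} [Group G] [Finite G] {S : Sylow 2 G} {t b y τ : G}

theorem Plane.loc (hyp : Hyp S t) (hk : ProperKnown G) (hM : IsCoatom (Cent t))
    (hm : CompLocal.FixModel.{u}) (p : Plane t b y τ) {F : Type} [Field F] [Fintype F]
    (hodd : Odd (Fintype.card F)) (h11 : 11 ≤ Fintype.card F) : CompQuad.Loc t y τ F where
  prime := p.prime
  odd := (hyp.odd_oCore t).of_dvd_nat
    (Subgroup.orderOf_dvd_natCard _ (fitCore_le_oCore t p.pin.mem_y.1))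
  order_t := hyp.orderT
  order_τ := p.order_τ
  comm_τ := mem_cent.1 (Hyp.oCore_le_cent t p.pin.mem_τ)
  mem_t := (p.pin.mem_layer hyp hk hM hm).1
  mem_τ := by
    obtain ⟨T, -, hTL, hT⟩ := p.pin.exists_torus hyp hk hM hm
    exact hTL ((hT τ).2 ⟨p.pin.mem_τ, p.pin.comm, p.pin.inv_τ⟩)
  comm_layer := fun l hl => p.pin.commute_layer hyp hk hM hm p.pin.mem_y (Commute.refl y) l hl
  two := PSL2.odd_card_iff.1 hodd
  four := by omega
  span := p.span

/-- The common neighbours of `⟨y⟩` and a point sharing no block with it. -/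
theorem Plane.mult_le (hyp : Hyp S t) (hk : ProperKnown G) (hM : IsCoatom (Cent t))
    (hm : CompLocal.FixModel.{u}) (p : Plane t b y τ) {F : Type} [Field F] [Fintype F]
    (hodd : Odd (Fintype.card F)) (h11 : 11 ≤ Fintype.card F) (e : layerN y ≃* PSL(2, F))
    {Y₂ : Subgroup G} (hY₂ : ∃ s, Inc t y Y₂ s) (_hne : Y₂ ≠ zpowers y)
    (hno : ∀ s, Inc t y (zpowers y) s → ¬ Inc t y Y₂ s) :
    {Y₁ | Adj t y (zpowers y) Y₁ ∧ Adj t y Y₁ Y₂}.ncard ≤
      2 * Fintype.card F * (nbrs t y).ncard := by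
  refine ((p.loc hyp hk hM hm hodd h11).ncard_le e hY₂ hno).trans ?_
  exact Nat.mul_le_mul_right _ (Nat.le_mul_of_pos_left _ two_pos)

end Main

end Cfsg.Agent.GW
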