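import Cfsg.Agent.Lib.GW.PartII.CompCentral
import Cfsg.Agent.Lib.GW.PartII.CompLocal
import Cfsg.Agent.Lib.GW.PartII.CompQuad
import Cfsg.Agent.Lib.GW.NoFixedPairs
import Cfsg.Agent.Lib.RankOne.Inverted
import Cfsg.Agent.Lib.PGroup.Class2
import Cfsg.Agent.Lib.PGroup.UniqueOrderP
import Cfsg.Agent.Lib.Solvable.Basic

/-!
# The component configuration with inverted centre: the shape of `fitCore t`

In the configuration `Central t τ`, with `r` the order of `τ`: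

* `Central.line_or_heisenberg`: some point `y` spans with `τ` a subgroup normalised by `Cent t`, or
  a nonabelian subgroup of order `r ^ 3` and exponent `r` containing no such subgroup does.
-/

set_option autoImplicit false
set_option linter.unusedSectionVars false
set_option linter.style.haveILetI false

namespace Cfsg.Agent.GW

open Subgroup
open BSW (mem_cent sq_of_order inv_of_order)
open scoped commutatorElement

universe u

variable {G : Type u} [Group G] [Finite G] {S : Sylow 2 G} {t τ : G}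

namespace CompShape

/-- An involution of `Cent t` other than `t`. -/
structure Refl (t u : G) : Prop where
  ord : orderOf u = 2
  ne : u ≠ t
  comm : Commute u t

/-- The hypotheses of this file. -/
structure Ctx (S : Sylow 2 G) (t τ : G) : Prop where
  hyp : Hyp S t
  hk : ProperKnown G
  hM : IsCoatom (Cent t)
  hm : CompLocal.FixModel.{u}
  h : Central t τ

/-- The centre of `fitCore t`, in `G`. -/
noncomputable def fitCenter (t : G) : Subgroup G := fitCore t ⊓ centralizer (fitCore t : Set G)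

theorem le_normalizer_of_conj {C A : Subgroup G} (h : ∀ g ∈ C, ∀ x ∈ A, g * x * g⁻¹ ∈ A) :
    C ≤ normalizer (A : Set G) := fun g hg =>
  mem_normalizer_iff.2 fun x => ⟨h g hg x, fun hx => by
    simpa [mul_assoc] using h g⁻¹ (inv_mem hg) _ hx⟩

theorem Refl.cent {u : G} (hu : Refl t u) : u ∈ Cent t := mem_cent.2 hu.comm.eq

theorem qfix_conj {u x : G} (hx : x ∈ qFix t u) : u * x * u⁻¹ = x :=
  mul_inv_eq_iff_eq_mul.2 (mem_cent.1 hx.2).symm

theorem mem_qfix {u x : G} (hx : x ∈ fitCore t) (h : u * x * u⁻¹ = x) : x ∈ qFix t u :=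
  ⟨hx, mem_cent.2 (mul_inv_eq_iff_eq_mul.1 h).symm⟩

theorem conj_O {g o : G} (hg : g ∈ Cent t) (ho : o ∈ oCore t) : g * o * g⁻¹ ∈ oCore t :=
  (mem_normalizer_iff.1 (Hyp.cent_le_normalizer t hg) o).1 ho

theorem conj_F {g o : G} (hg : g ∈ Cent t) (ho : o ∈ fitCore t) : g * o * g⁻¹ ∈ fitCore t :=
  (mem_normalizer_iff.1 (cent_le_normalizer_fitCore t hg) o).1 ho

namespace Ctx

variable (X : Ctx S t τ)
include X

theorem odd : Odd (Nat.card (oCore t)) := X.hyp.odd_oCore t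

theorem fact : Fact (orderOf τ).Prime := ⟨X.h.prime⟩

theorem r_ne_two : orderOf τ ≠ 2 := fun e => by
  have := X.odd.of_dvd_nat (Subgroup.orderOf_dvd_natCard _ (fitCore_le_oCore t X.h.mem))
  rw [e] at this
  exact absurd this (by decide)

theorem ne_one : τ ≠ 1 := fun e => X.h.prime.ne_one (e ▸ orderOf_one)

theorem exists_refl : ∃ u, Refl t u := by
  obtain ⟨b, hb⟩ := X.hyp.exists_pair X.hyp.orderT
  exact ⟨b, hb.hb, hb.ne.symm, hb.symm.comm⟩

theorem z_mem {c : G} (hc : c ∈ zpowers τ) : c ∈ fitCore t := zpowers_le.2 X.h.mem hc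

theorem z_memO {c : G} (hc : c ∈ zpowers τ) : c ∈ oCore t := fitCore_le_oCore t (X.z_mem hc)

theorem comm_z {c o : G} (hc : c ∈ zpowers τ) (ho : o ∈ oCore t) : Commute o c := by
  obtain ⟨k, rfl⟩ := mem_zpowers_iff.1 hc
  exact (X.h.comm o ho).zpow_right k

theorem pow_z {c : G} (hc : c ∈ zpowers τ) : c ^ orderOf τ = 1 := by
  obtain ⟨k, rfl⟩ := mem_zpowers_iff.1 hc
  rw [← zpow_natCast, ← zpow_mul, mul_comm, zpow_mul, zpow_natCast, pow_orderOf_eq_one, one_zpow]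

theorem inv_z {u : G} (hu : Refl t u) {c : G} (hc : c ∈ zpowers τ) : u * c * u⁻¹ = c⁻¹ :=
  RankOne.conj_zpowers_inv (X.h.inverts u hu.ord hu.ne hu.comm) hc

theorem fix_inv {u c : G} (hc : c ∈ oCore t) (h1 : u * c * u⁻¹ = c) (h2 : u * c * u⁻¹ = c⁻¹) :
    c = 1 :=
  RankOne.eq_one_of_sq_eq_one X.odd hc (mul_eq_one_iff_eq_inv.2 (h1.symm.trans h2))

/-- `x = c * p` with `c` fixed and `p` inverted, inside a subgroup normalised by `Cent t`. -/
theorem decomp {A : Subgroup G} (hA : A ≤ oCore t) (hn : Cent t ≤ normalizer (A : Set G)) {u : G}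
    (hu : Refl t u) {x : G} (hx : x ∈ A) :
    ∃ c p : G, c ∈ A ∧ u * c * u⁻¹ = c ∧ p ∈ A ∧ u * p * u⁻¹ = p⁻¹ ∧ x = c * p :=
  RankOne.exists_fix_mul_inverted (X.odd.of_dvd_nat (card_dvd_of_le hA)) (sq_of_order hu.ord)
    (fun y hy => (mem_normalizer_iff.1 (hn hu.cent) y).1 hy) hx

theorem pin {u y : G} (hu : Refl t u) (hy : y ∈ qFix t u) (hy1 : y ≠ 1) : Pin t u y τ :=
  X.h.pin X.hyp hu.ord hu.ne hu.comm hy hy1

/-- Fixed points commuting with `y` commute with the inverted elements commuting with `y`. -/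
theorem commute_inverted {u y q i : G} (hu : Refl t u) (hy : y ∈ qFix t u) (hy1 : y ≠ 1)
    (hq : q ∈ qFix t u) (hqy : Commute q y) (hi : i ∈ oCore t) (hinv : u * i * u⁻¹ = i⁻¹)
    (hiy : Commute i y) : Commute q i := by
  obtain ⟨T, -, hTle, hT⟩ := (X.pin hu hy hy1).exists_torus X.hyp X.hk X.hM X.hm
  exact (X.pin hu hy hy1).commute_layer X.hyp X.hk X.hM X.hm hq hqy i
    (hTle ((hT i).2 ⟨hi, hiy, hinv⟩))

/-- The inverted elements commuting with a point and of order dividing `r` lie in `⟨τ⟩`. -/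
theorem mem_z_of_torus {u y x : G} (hu : Refl t u) (hy : y ∈ qFix t u) (hy1 : y ≠ 1)
    (hx : x ∈ oCore t) (hxy : Commute x y) (hinv : u * x * u⁻¹ = x⁻¹) (hr : x ^ orderOf τ = 1) :
    x ∈ zpowers τ := by
  haveI := X.fact
  rcases eq_or_ne x 1 with rfl | hx1
  · exact one_mem _
  obtain ⟨T, hTc, -, hT⟩ := (X.pin hu hy hy1).exists_torus X.hyp X.hk X.hM X.hm
  have hτT : τ ∈ T := (hT τ).2 ⟨fitCore_le_oCore t X.h.mem,
    (X.h.comm y (fitCore_le_oCore t hy.1)).symm, X.h.inverts u hu.ord hu.ne hu.comm⟩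
  have hxT : x ∈ T := (hT x).2 ⟨hx, hxy, hinv⟩
  haveI := hTc
  have e : zpowers (⟨x, hxT⟩ : T) = zpowers ⟨τ, hτT⟩ := CompQuad.zpowers_eq_of_cyclic (by
    rw [orderOf_mk, orderOf_mk, orderOf_eq_prime hr hx1])
  obtain ⟨k, hk⟩ := mem_zpowers_iff.1 (e ▸ mem_zpowers (⟨x, hxT⟩ : T))
  exact mem_zpowers_iff.2 ⟨k, congrArg Subtype.val hk⟩

theorem exists_point {u : G} (hu : Refl t u) :
    ∃ y ∈ qFix t u, y ≠ 1 ∧ ∃ k : ℕ, y ^ orderOf τ ^ k = 1 := by
  obtain ⟨y, hy⟩ := ne_bot_iff_exists_ne_one.1 (X.h.fixed_ne u hu.ord hu.ne hu.comm)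
  obtain ⟨k, hk⟩ := X.h.pGroup u hu.ord hu.ne hu.comm y
  exact ⟨y, y.2, fun e => hy (Subtype.ext e), k, congrArg Subtype.val hk⟩

theorem fitCenter_normal : Cent t ≤ normalizer (fitCenter t : Set G) := by
  refine le_normalizer_of_conj fun g hg z hz => ⟨conj_F hg hz.1, mem_centralizer_iff.2 fun f hf => ?_⟩
  have h1 : g⁻¹ * f * g⁻¹⁻¹ ∈ fitCore t := conj_F (inv_mem hg) hf
  rw [inv_inv] at h1
  have h2 := mem_centralizer_iff.1 hz.2 _ h1
  calc f * (g * z * g⁻¹) = g * ((g⁻¹ * f * g) * z) * g⁻¹ := by group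
    _ = g * (z * (g⁻¹ * f * g)) * g⁻¹ := by rw [h2]
    _ = g * z * g⁻¹ * f := by group

theorem center_inverted {u : G} (hu : Refl t u) : ∀ z ∈ fitCenter t, u * z * u⁻¹ = z⁻¹ :=
  inverts_of_inf_eq_bot hu.ord (X.fitCenter_normal hu.cent) (eq_bot_iff.2 fun z hz =>
    mem_bot.2 (X.h.fixed_center u hu.ord hu.ne hu.comm z ⟨hz.1.1, hz.2⟩ fun f hf =>
      (mem_centralizer_iff.1 hz.1.2 f hf).symm))

theorem mem_z_of_center {z : G} (hz : z ∈ fitCenter t) (hr : z ^ orderOf τ = 1) : z ∈ zpowers τ := by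
  obtain ⟨u, hu⟩ := X.exists_refl
  obtain ⟨y, hy, hy1, -⟩ := X.exists_point hu
  exact X.mem_z_of_torus hu hy hy1 (fitCore_le_oCore t hz.1)
    (mem_centralizer_iff.1 hz.2 y hy.1).symm (X.center_inverted hu z hz) hr

theorem τ_center : τ ∈ fitCenter t :=
  ⟨X.h.mem, mem_centralizer_iff.2 fun f hf => (X.h.comm f (fitCore_le_oCore t hf)).eq⟩

theorem z_normal : Cent t ≤ normalizer (zpowers τ : Set G) := by
  refine le_normalizer_of_conj fun g hg c hc => X.mem_z_of_center ?_ ?_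
  · exact (mem_normalizer_iff.1 (X.fitCenter_normal hg) c).1 (zpowers_le.2 X.τ_center hc)
  · rw [conj_pow, X.pow_z hc, mul_one, mul_inv_cancel]

/-! ### Brackets in `⟨τ⟩` -/

theorem br_mul {a b q : G} (ha : a ∈ oCore t) (hb : b * q * b⁻¹ * q⁻¹ ∈ zpowers τ) :
    a * b * q * (a * b)⁻¹ * q⁻¹ = b * q * b⁻¹ * q⁻¹ * (a * q * a⁻¹ * q⁻¹) := by
  calc a * b * q * (a * b)⁻¹ * q⁻¹ = a * (b * q * b⁻¹ * q⁻¹) * q * a⁻¹ * q⁻¹ := by group
    _ = b * q * b⁻¹ * q⁻¹ * a * q * a⁻¹ * q⁻¹ := by rw [(X.comm_z hb ha).eq]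
    _ = _ := by group

theorem mul_pow_eq_one {a b : G} (ha : a ∈ oCore t) (hb : b ∈ oCore t)
    (hc : b * a * b⁻¹ * a⁻¹ ∈ zpowers τ) (ha1 : a ^ orderOf τ = 1) (hb1 : b ^ orderOf τ = 1) :
    (a * b) ^ orderOf τ = 1 := by
  have h := PGroup.mul_pow_prime (G := oCore t) X.h.prime X.r_ne_two (x := ⟨a, ha⟩) (y := ⟨b, hb⟩)
    (mem_center_iff.2 fun o => Subtype.ext (X.comm_z hc o.2).eq) (Subtype.ext (X.pow_z hc))
  have h' := congrArg Subtype.val h
  simp only [Subgroup.coe_pow, Subgroup.coe_mul] at h'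
  rw [h', ha1, hb1, one_mul]

theorem commute_inv_pair {u a b : G} (hu : Refl t u) (ha : a ∈ oCore t) (hb : b ∈ oCore t)
    (hc : a * b * a⁻¹ * b⁻¹ ∈ zpowers τ) (hia : u * a * u⁻¹ = a⁻¹) (hib : u * b * u⁻¹ = b⁻¹) :
    Commute a b := by
  have h1 : u * (a * b * a⁻¹ * b⁻¹) * u⁻¹ = a * b * a⁻¹ * b⁻¹ := by
    calc u * (a * b * a⁻¹ * b⁻¹) * u⁻¹
        = (u * a * u⁻¹) * (u * b * u⁻¹) * (u * a * u⁻¹)⁻¹ * (u * b * u⁻¹)⁻¹ := by group
      _ = a⁻¹ * b⁻¹ * (a * b * a⁻¹ * b⁻¹ * (b * a)) := by rw [hia, hib]; group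
      _ = a * b * a⁻¹ * b⁻¹ := by rw [← (X.comm_z hc (mul_mem hb ha)).eq]; group
  have h2 := X.fix_inv (X.z_memO hc) h1 (X.inv_z hu hc)
  exact mul_inv_eq_iff_eq_mul.1 (mul_inv_eq_one.1 h2)

theorem commute_fix_pair {u a b : G} (hu : Refl t u) (hc : a * b * a⁻¹ * b⁻¹ ∈ zpowers τ)
    (hia : u * a * u⁻¹ = a) (hib : u * b * u⁻¹ = b) : Commute a b := by
  have h1 : u * (a * b * a⁻¹ * b⁻¹) * u⁻¹ = a * b * a⁻¹ * b⁻¹ := by
    calc u * (a * b * a⁻¹ * b⁻¹) * u⁻¹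
        = (u * a * u⁻¹) * (u * b * u⁻¹) * (u * a * u⁻¹)⁻¹ * (u * b * u⁻¹)⁻¹ := by group
      _ = a * b * a⁻¹ * b⁻¹ := by rw [hia, hib]
  have h2 := X.fix_inv (X.z_memO hc) h1 (X.inv_z hu hc)
  exact mul_inv_eq_iff_eq_mul.1 (mul_inv_eq_one.1 h2)

omit X

/-- The elements whose brackets with `q` lie in `⟨τ⟩`. -/
def brSub (X : Ctx S t τ) (q : G) : Subgroup G where
  carrier := {v | v ∈ oCore t ∧ v * q * v⁻¹ * q⁻¹ ∈ zpowers τ}
  one_mem' := ⟨one_mem _, by simp⟩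
  mul_mem' := fun {a b} ha hb => ⟨mul_mem ha.1 hb.1, by
    rw [X.br_mul ha.1 hb.2]; exact mul_mem hb.2 ha.2⟩
  inv_mem' := fun {a} ha => ⟨inv_mem ha.1, by
    have e : a⁻¹ * q * a⁻¹⁻¹ * q⁻¹ = (a * q * a⁻¹ * q⁻¹)⁻¹ := by
      have e1 : a * ((a * q * a⁻¹ * q⁻¹)⁻¹) = (a * q * a⁻¹ * q⁻¹)⁻¹ * a :=
        (X.comm_z (inv_mem ha.2) ha.1).eq
      calc a⁻¹ * q * a⁻¹⁻¹ * q⁻¹
          = a⁻¹ * ((a * q * a⁻¹ * q⁻¹)⁻¹ * a) * (q * q⁻¹) := by group
        _ = (a * q * a⁻¹ * q⁻¹)⁻¹ := by rw [← e1]; group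
    rw [e]; exact inv_mem ha.2⟩

/-- `v ↦ [v, q]` on a subgroup with brackets in `⟨τ⟩`. -/
def brHom (X : Ctx S t τ) {D : Subgroup G} {q : G} (hD : D ≤ X.brSub q) : D →* zpowers τ where
  toFun v := ⟨(v : G) * q * (v : G)⁻¹ * q⁻¹, (hD v.2).2⟩
  map_one' := Subtype.ext (by simp)
  map_mul' a b := Subtype.ext (by
    show (a : G) * b * q * ((a : G) * b)⁻¹ * q⁻¹ = _
    rw [X.br_mul (hD a.2).1 (hD b.2).2]
    exact (X.comm_z (hD a.2).2 (X.z_memO (hD b.2).2)).eq)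

/-- The elements of `fitCore t` central in it modulo `⟨τ⟩`. -/
def brCent (X : Ctx S t τ) : Subgroup G where
  carrier := {w | w ∈ fitCore t ∧ ∀ f ∈ fitCore t, f * w * f⁻¹ * w⁻¹ ∈ zpowers τ}
  one_mem' := ⟨one_mem _, fun f _ => by simp⟩
  mul_mem' := fun {a b} ha hb => ⟨mul_mem ha.1 hb.1, fun f hf => by
    rw [show f * (a * b) * f⁻¹ * (a * b)⁻¹ =
      f * a * f⁻¹ * a⁻¹ * (a * (f * b * f⁻¹ * b⁻¹) * a⁻¹) by group,
      (X.comm_z (hb.2 f hf) (fitCore_le_oCore t ha.1)).eq, mul_inv_cancel_right]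
    exact mul_mem (ha.2 f hf) (hb.2 f hf)⟩
  inv_mem' := fun {a} ha => ⟨inv_mem ha.1, fun f hf => by
    rw [show f * a⁻¹ * f⁻¹ * a⁻¹⁻¹ = a⁻¹ * (f * a * f⁻¹ * a⁻¹)⁻¹ * a by group, mul_assoc,
      ← (X.comm_z (inv_mem (ha.2 f hf)) (fitCore_le_oCore t ha.1)).eq, inv_mul_cancel_left]
    exact inv_mem (ha.2 f hf)⟩

/-- Its elements of order dividing `r`. -/
def brW (X : Ctx S t τ) : Subgroup G where
  carrier := {w | w ∈ X.brCent ∧ w ^ orderOf τ = 1}
  one_mem' := ⟨one_mem _, one_pow _⟩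
  mul_mem' := fun {a b} ha hb => ⟨mul_mem ha.1 hb.1,
    X.mul_pow_eq_one (fitCore_le_oCore t ha.1.1) (fitCore_le_oCore t hb.1.1) (ha.1.2 b hb.1.1)
      ha.2 hb.2⟩
  inv_mem' := fun {a} ha => ⟨inv_mem ha.1, by rw [inv_pow, ha.2, inv_one]⟩

theorem brW_le (X : Ctx S t τ) : X.brW ≤ fitCore t := fun _ hw => hw.1.1

theorem br_brW (X : Ctx S t τ) {w f : G} (hw : w ∈ X.brW) (hf : f ∈ fitCore t) :
    w * f * w⁻¹ * f⁻¹ ∈ zpowers τ := by
  rw [show w * f * w⁻¹ * f⁻¹ = (f * w * f⁻¹ * w⁻¹)⁻¹ by group]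
  exact inv_mem (hw.1.2 f hf)

/-- The elements of `brW` inverted by a reflection. -/
def brInv (X : Ctx S t τ) {u : G} (hu : Refl t u) : Subgroup G where
  carrier := {w | w ∈ X.brW ∧ u * w * u⁻¹ = w⁻¹}
  one_mem' := ⟨one_mem _, by simp⟩
  mul_mem' := fun {a b} ha hb => ⟨mul_mem ha.1 hb.1, by
    rw [show u * (a * b) * u⁻¹ = u * a * u⁻¹ * (u * b * u⁻¹) by group, ha.2, hb.2, mul_inv_rev]
    exact ((X.commute_inv_pair hu (fitCore_le_oCore t (X.brW_le ha.1))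
      (fitCore_le_oCore t (X.brW_le hb.1)) (X.br_brW ha.1 (X.brW_le hb.1)) ha.2 hb.2).inv_inv).eq⟩
  inv_mem' := fun {a} ha => ⟨inv_mem ha.1, by rw [← conj_inv, ha.2]⟩

include X

theorem brCent_normal : Cent t ≤ normalizer (X.brCent : Set G) := by
  refine le_normalizer_of_conj fun g hg w hw => ⟨conj_F hg hw.1, fun f hf => ?_⟩
  have h1 := hw.2 _ (conj_F (inv_mem hg) hf)
  have h2 := (mem_normalizer_iff.1 (X.z_normal hg) _).1 h1
  have e : g * (g⁻¹ * f * g⁻¹⁻¹ * w * (g⁻¹ * f * g⁻¹⁻¹)⁻¹ * w⁻¹) * g⁻¹ =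
      f * (g * w * g⁻¹) * f⁻¹ * (g * w * g⁻¹)⁻¹ := by group
  exact e ▸ h2

theorem brW_normal : Cent t ≤ normalizer (X.brW : Set G) :=
  le_normalizer_of_conj fun g hg w hw =>
    ⟨(mem_normalizer_iff.1 (X.brCent_normal hg) w).1 hw.1,
      by rw [conj_pow, hw.2, mul_one, mul_inv_cancel]⟩

theorem τ_brW : τ ∈ X.brW := by
  refine ⟨⟨X.h.mem, fun f hf => ?_⟩, pow_orderOf_eq_one τ⟩
  rw [(X.h.comm f (fitCore_le_oCore t hf)).eq, mul_inv_cancel_right, mul_inv_cancel]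
  exact one_mem _

/-- Two points with brackets in `⟨τ⟩` against the inverted elements are dependent. -/
theorem key {u y z : G} (hu : Refl t u) (hy : y ∈ qFix t u) (hy1 : y ≠ 1) (hz : z ∈ qFix t u)
    (hcy : ∀ q ∈ qFix t u, Commute y q)
    (hby : ∀ i ∈ fitCore t, u * i * u⁻¹ = i⁻¹ → i * y * i⁻¹ * y⁻¹ ∈ zpowers τ)
    (hbz : ∀ i ∈ fitCore t, u * i * u⁻¹ = i⁻¹ → i * z * i⁻¹ * z⁻¹ ∈ zpowers τ) :
    z ∈ zpowers y := by
  haveI := X.fact
  by_contra hzy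
  have hi : ∀ i ∈ fitCore t, u * i * u⁻¹ = i⁻¹ → Commute i y := by
    intro i hiF hinv
    set w := i * y * i⁻¹ * y⁻¹ with hw
    rcases eq_or_ne w 1 with e | e
    · exact mul_inv_eq_iff_eq_mul.1 (mul_inv_eq_one.1 e)
    set v := i * z * i⁻¹ * z⁻¹ with hv
    have how : zpowers w = zpowers τ := eq_of_le_of_card_ge (zpowers_le.2 (hby i hiF hinv)) (by
      rw [Nat.card_zpowers, Nat.card_zpowers, orderOf_eq_prime (X.pow_z (hby i hiF hinv)) e])
    obtain ⟨k, hk⟩ := mem_zpowers_iff.1 (how.ge (inv_mem (hbz i hiF hinv)))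
    have hyw : Commute w y := (X.comm_z (hby i hiF hinv) (fitCore_le_oCore t hy.1)).symm
    have hzw : Commute z (w ^ k) :=
      (X.comm_z (hby i hiF hinv) (fitCore_le_oCore t hz.1)).zpow_right k
    have hq : Commute i (z * y ^ k) := by
      refine mul_inv_eq_iff_eq_mul.1 ?_
      calc i * (z * y ^ k) * i⁻¹ = (i * z * i⁻¹ * z⁻¹ * z) * (i * y * i⁻¹ * y⁻¹ * y) ^ k := by
            rw [inv_mul_cancel_right, inv_mul_cancel_right, conj_zpow]; group
        _ = v * z * (w ^ k * y ^ k) := by rw [← hw, ← hv, hyw.mul_zpow]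
        _ = v * (z * w ^ k) * y ^ k := by group
        _ = z * y ^ k := by rw [hzw.eq, hk, hv]; group
    have hqQ : z * y ^ k ∈ qFix t u := mul_mem hz (zpow_mem hy k)
    have hq1 : z * y ^ k ≠ 1 := fun e1 => hzy (by
      rw [mul_eq_one_iff_eq_inv.1 e1]
      exact inv_mem (zpow_mem (mem_zpowers y) k))
    exact (X.commute_inverted hu hqQ hq1 hy
      ((hcy z hz).mul_right ((Commute.refl y).zpow_right k)) (fitCore_le_oCore t hiF) hinv hq).symm
  refine hy1 (X.h.fixed_center u hu.ord hu.ne hu.comm y hy fun f hf => ?_)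
  obtain ⟨c, p, hc, hcu, hp, hpu, rfl⟩ :=
    X.decomp (fitCore_le_oCore t) (cent_le_normalizer_fitCore t) hu hf
  exact (hcy c (mem_qfix hc hcu)).mul_right (hi p hp hpu).symm

omit X

theorem mem_fitCenter_of_center {z : fitCore t} (hz : z ∈ center (fitCore t)) :
    (z : G) ∈ fitCenter t :=
  ⟨z.2, mem_centralizer_iff.2 fun f hf => congrArg Subtype.val (mem_center_iff.1 hz ⟨f, hf⟩)⟩

include X

theorem exists_brCent :
    ∃ x ∈ X.brCent, x ∈ S1312.coreP (orderOf τ) (oCore t) ∧ x ∉ fitCenter t := by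
  haveI := X.fact
  obtain ⟨u, hu⟩ := X.exists_refl
  obtain ⟨y, hy, hy1, k, hk⟩ := X.exists_point hu
  haveI : Group.IsNilpotent (fitCore t) :=
    Group.nilpotent_of_mulEquiv ((Cfsg.fittingSubgroup ↥(oCore t)).equivMapOfInjective
      (oCore t).subtype (oCore t).subtype_injective)
  set π := QuotientGroup.mk' (center (fitCore t)) with hπ
  set R := (S1312.coreP (orderOf τ) (oCore t)).subgroupOf (fitCore t) with hR
  haveI : R.Normal := normal_subgroupOf_of_le_normalizer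
    (((fitCore_le_oCore t).trans (Hyp.oCore_le_cent t)).trans (cent_le_normalizer_coreP _ t))
  haveI : (R.map π).Normal := Subgroup.Normal.map inferInstance π (QuotientGroup.mk'_surjective _)
  have hyR : (⟨y, hy.1⟩ : fitCore t) ∈ R := S1856.mem_coreP_of_pow hy.1 hk
  have hne : R.map π ≠ ⊥ := fun e => by
    have h1 : π ⟨y, hy.1⟩ = 1 := mem_bot.1 (e ▸ mem_map_of_mem π hyR)
    have h2 := mem_fitCenter_of_center ((QuotientGroup.eq_one_iff _).1 h1)
    exact hy1 (X.h.fixed_center u hu.ord hu.ne hu.comm y hy fun f hf =>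
      (mem_centralizer_iff.1 h2.2 f hf).symm)
  set N := R.map π ⊓ center (fitCore t ⧸ center (fitCore t))
  have hNp : IsPGroup (orderOf τ) N :=
    ((((S1312.isPGroup_coreP _ (oCore t)).comap_subtype).map π)).to_le inf_le_left
  have hdvd : orderOf τ ∣ Nat.card N := by
    obtain ⟨j, hj⟩ := IsPGroup.iff_card.1 hNp
    rw [hj]
    refine dvd_pow_self _ fun e => Solvable.inf_center_ne_bot hne (Subgroup.card_eq_one.1 ?_)
    rw [hj, e, pow_zero]
  obtain ⟨⟨n, hn⟩, hno⟩ := exists_prime_orderOf_dvd_card' (G := N) (orderOf τ) hdvd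
  obtain ⟨x, hxR, rfl⟩ := hn.1
  have hxr : x ^ orderOf τ ∈ center (fitCore t) := by
    refine (QuotientGroup.eq_one_iff _).1 ?_
    show π (x ^ orderOf τ) = 1
    rw [orderOf_mk] at hno
    rw [map_pow]
    calc π x ^ orderOf τ = π x ^ orderOf (π x) := by rw [hno]
      _ = 1 := pow_orderOf_eq_one _
  have hxnc : x ∉ center (fitCore t) := fun hc => by
    rw [orderOf_mk, show π x = 1 from (QuotientGroup.eq_one_iff _).2 hc, orderOf_one] at hno
    exact X.h.prime.ne_one hno.symm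
  refine ⟨x, ⟨x.2, fun f hf => ?_⟩, hxR, fun hc => hxnc ?_⟩
  · have hcz : ⁅x, (⟨f, hf⟩ : fitCore t)⁆ ∈ center (fitCore t) := by
      refine (QuotientGroup.eq_one_iff _).1 ?_
      show π ⁅x, (⟨f, hf⟩ : fitCore t)⁆ = 1
      rw [map_commutatorElement]
      exact commutatorElement_eq_one_iff_commute.2 (mem_center_iff.1 hn.2 _).symm
    have hcr : ⁅x, (⟨f, hf⟩ : fitCore t)⁆ ^ orderOf τ = 1 := by
      rw [← PGroup.commutator_pow_left hcz]
      exact commutatorElement_eq_one_iff_commute.2 (mem_center_iff.1 hxr _).symm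
    have h1 := X.mem_z_of_center (mem_fitCenter_of_center hcz) (by
      rw [← Subgroup.coe_pow, hcr, Subgroup.coe_one])
    have h2 := inv_mem h1
    rw [show ((⁅x, (⟨f, hf⟩ : fitCore t)⁆ : fitCore t) : G) = (x : G) * f * (x : G)⁻¹ * f⁻¹ from rfl,
      show ((x : G) * f * (x : G)⁻¹ * f⁻¹)⁻¹ = f * x * f⁻¹ * (x : G)⁻¹ by group] at h2
    exact h2
  · exact mem_center_iff.2 fun f => Subtype.ext (mem_centralizer_iff.1 hc.2 f f.2)

theorem exists_brW : ∃ w ∈ X.brW, w ∉ zpowers τ := by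
  by_contra hcon
  push Not at hcon
  haveI := X.fact
  obtain ⟨x, hxC, hxP, hxn⟩ := X.exists_brCent
  set R := X.brCent ⊓ S1312.coreP (orderOf τ) (oCore t) with hR
  have hp : IsPGroup (orderOf τ) R := (S1312.isPGroup_coreP _ _).to_le inf_le_right
  have huniq : ∀ H K : Subgroup R, Nat.card H = orderOf τ → Nat.card K = orderOf τ → H = K := by
    have key : ∀ H : Subgroup R, Nat.card H = orderOf τ → H.map R.subtype = zpowers τ := by
      intro H hH
      refine eq_of_le_of_card_ge ?_ ?_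
      · rintro _ ⟨a, ha, rfl⟩
        refine hcon _ ⟨a.2.1, ?_⟩
        have h0 : (⟨a, ha⟩ : H) ^ Nat.card H = 1 := pow_card_eq_one'
        rw [hH] at h0
        have := congrArg (fun z : H => (((z : R) : G))) h0
        simpa using this
      · rw [card_map_of_injective R.subtype_injective, hH, Nat.card_zpowers]
    exact fun H K hH hK => map_injective R.subtype_injective ((key H hH).trans (key K hK).symm)
  haveI : IsCyclic R := (PGroup.cyclic_or_quaternion_of_unique hp huniq).resolve_right fun e =>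
    X.r_ne_two e.1
  refine hxn ⟨hxC.1, mem_centralizer_iff.2 fun f hf => ?_⟩
  exact (commute_of_cyclic X.hyp X.h.cycle (A := R)
    ((le_inf X.brCent_normal (cent_le_normalizer_coreP _ t)).trans inf_normalizer_le_normalizer_inf)
    (fitCore_le_oCore t hf) ⟨hxC, hxP⟩).eq

theorem brW_fix_commute {u w q : G} (hu : Refl t u) (hw : w ∈ X.brW) (hwu : u * w * u⁻¹ = w)
    (hq : q ∈ qFix t u) : Commute w q :=
  X.commute_fix_pair hu (X.br_brW hw hq.1) hwu (qfix_conj hq)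

theorem card_fix_le {u : G} (hu : Refl t u) :
    Nat.card ↥(X.brW ⊓ Cent u) ≤ orderOf τ := by
  haveI := X.fact
  have hmem : ∀ {w}, w ∈ X.brW ⊓ Cent u → w ∈ qFix t u := fun hw => ⟨X.brW_le hw.1, hw.2⟩
  by_cases hb : X.brW ⊓ Cent u = ⊥
  · rw [hb, Subgroup.card_bot]; exact X.h.prime.pos
  obtain ⟨⟨y, hy⟩, hy1⟩ := ne_bot_iff_exists_ne_one.1 hb
  have hy1' : y ≠ 1 := fun e => hy1 (Subtype.ext e)
  refine le_trans (card_le_of_le (K := zpowers y) fun z hz => ?_) ?_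
  · exact X.key hu (hmem hy) hy1' (hmem hz)
      (fun q hq => X.brW_fix_commute hu hy.1 (qfix_conj (hmem hy)) hq)
      (fun i hi _ => hy.1.1.2 i hi) (fun i hi _ => hz.1.1.2 i hi)
  · rw [Nat.card_zpowers]
    exact Nat.le_of_dvd X.h.prime.pos (orderOf_dvd_of_pow_eq_one hy.1.2)

theorem inv_commute_le {u y w : G} (hu : Refl t u) (hy : y ∈ qFix t u) (hy1 : y ≠ 1)
    (hw : w ∈ X.brInv hu) (hc : Commute w y) : w ∈ zpowers τ :=
  X.mem_z_of_torus hu hy hy1 (fitCore_le_oCore t (X.brW_le hw.1)) hc hw.2 hw.1.2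

theorem card_inv_le {u : G} (hu : Refl t u) :
    Nat.card ↥(X.brInv hu) ≤ orderOf τ ^ 2 := by
  obtain ⟨y, hy, hy1, -⟩ := X.exists_point hu
  have hD : X.brInv hu ≤ X.brSub y := fun w hw =>
    ⟨fitCore_le_oCore t (X.brW_le hw.1), X.br_brW hw.1 hy.1⟩
  set φ := X.brHom hD
  have hker : ∀ w : φ.ker, ((w : X.brInv hu) : G) ∈ zpowers τ := fun w =>
    X.inv_commute_le hu hy hy1 w.1.2
      (mul_inv_eq_iff_eq_mul.1 (mul_inv_eq_one.1 (congrArg Subtype.val (MonoidHom.mem_ker.1 w.2))))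
  have h1 : Nat.card φ.ker ≤ orderOf τ := by
    rw [← Nat.card_zpowers]
    exact Nat.card_le_card_of_injective (fun w => (⟨_, hker w⟩ : zpowers τ)) fun a b e =>
      Subtype.ext (Subtype.ext (congrArg (fun z : zpowers τ => (z : G)) e))
  have h2 : φ.ker.index ≤ orderOf τ := by
    rw [index_ker, ← Nat.card_zpowers]
    exact Subgroup.card_le_card_group _
  calc Nat.card ↥(X.brInv hu) = Nat.card φ.ker * φ.ker.index := (φ.ker.card_mul_index).symm
    _ ≤ orderOf τ * orderOf τ := Nat.mul_le_mul h1 h2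
    _ = orderOf τ ^ 2 := (pow_two _).symm

theorem card_brW_le {u : G} (hu : Refl t u) :
    Nat.card ↥X.brW ≤ Nat.card ↥(X.brW ⊓ Cent u) * Nat.card ↥(X.brInv hu) := by
  rw [← Nat.card_prod]
  refine Nat.card_le_card_of_surjective
    (fun p => (⟨(p.1 : G) * p.2, mul_mem p.1.2.1 p.2.2.1⟩ : X.brW)) fun w => ?_
  obtain ⟨c, p, hc, hcu, hp, hpu, e⟩ :=
    X.decomp (X.brW_le.trans (fitCore_le_oCore t)) X.brW_normal hu w.2
  exact ⟨(⟨c, hc, mem_cent.2 (mul_inv_eq_iff_eq_mul.1 hcu).symm⟩, ⟨p, hp, hpu⟩), Subtype.ext e.symm⟩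

theorem card_brW : Nat.card ↥X.brW = orderOf τ ^ 2 ∨ Nat.card ↥X.brW = orderOf τ ^ 3 := by
  haveI := X.fact
  obtain ⟨n, hn⟩ := IsPGroup.iff_card.1 (show IsPGroup (orderOf τ) X.brW from fun w =>
    ⟨1, Subtype.ext (by rw [pow_one, Subgroup.coe_pow, w.2.2, Subgroup.coe_one])⟩)
  obtain ⟨u, hu⟩ := X.exists_refl
  have h3 : orderOf τ ^ n ≤ orderOf τ ^ 3 := by
    rw [← hn, pow_succ' (orderOf τ) 2]
    exact (X.card_brW_le hu).trans (Nat.mul_le_mul (X.card_fix_le hu) (X.card_inv_le hu))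
  obtain ⟨w, hw, hwz⟩ := X.exists_brW
  have h1 : orderOf τ ^ 1 < orderOf τ ^ n := by
    rw [← hn, pow_one, ← Nat.card_zpowers]
    by_contra hge
    exact hwz ((eq_of_le_of_card_ge (zpowers_le.2 X.τ_brW) (not_lt.1 hge)).ge hw)
  have := (Nat.pow_le_pow_iff_right X.h.prime.one_lt).1 h3
  have := (Nat.pow_lt_pow_iff_right X.h.prime.one_lt).1 h1
  rcases (by omega : n = 2 ∨ n = 3) with rfl | rfl
  · exact Or.inl hn
  · exact Or.inr hn

/-- `Cent t` scales a normal subgroup of order `r ^ 2` modulo `⟨τ⟩`, hence `oCore t` fixes it. -/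
theorem scalar {A : Subgroup G} (hn : Cent t ≤ normalizer (A : Set G)) (hτA : τ ∈ A)
    (hA : Nat.card A = orderOf τ ^ 2) {v x : G} (hv : v ∈ oCore t) (hx : x ∈ A) :
    v * x * v⁻¹ * x⁻¹ ∈ zpowers τ := by
  haveI := X.fact
  have hc : IsMulCommutative A := IsPGroup.isMulCommutative_of_card_eq_prime_sq hA
  set Z := (zpowers τ).subgroupOf A with hZ
  haveI : Z.Normal := ⟨fun z hz a => by rwa [hc.is_comm.comm a z, mul_inv_cancel_right]⟩
  have hQ : Nat.card (A ⧸ Z) = orderOf τ := by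
    have h1 := card_eq_card_quotient_mul_card_subgroup Z
    rw [hA, hZ, Nat.card_congr (subgroupOfEquivOfLe (zpowers_le.2 hτA)).toEquiv, Nat.card_zpowers,
      pow_two] at h1
    exact (Nat.eq_of_mul_eq_mul_right X.h.prime.pos h1).symm
  haveI : IsCyclic (A ⧸ Z) := isCyclic_of_prime_card hQ
  haveI : NeZero (Nat.card (A ⧸ Z)) := ⟨Nat.card_pos.ne'⟩
  have hmap : ∀ g : Cent t, Z.map (A.normalizerMonoidHom (inclusion hn g)).toMonoidHom = Z := by
    intro g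
    refine eq_of_le_of_card_ge ?_ (card_map_of_injective
      (A.normalizerMonoidHom (inclusion hn g)).injective).ge
    rintro _ ⟨a, ha, rfl⟩
    exact (mem_normalizer_iff.1 (X.z_normal g.2) (a : G)).1 ha
  let Φ : Cent t →* MulAut (A ⧸ Z) :=
    { toFun := fun g => QuotientGroup.congr Z Z (A.normalizerMonoidHom (inclusion hn g)) (hmap g)
      map_one' := MulEquiv.ext fun q => by
        obtain ⟨a, rfl⟩ := QuotientGroup.mk'_surjective Z q
        show QuotientGroup.mk' Z (A.normalizerMonoidHom (inclusion hn 1) a) = _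
        rw [map_one, map_one]; rfl
      map_mul' := fun g g' => MulEquiv.ext fun q => by
        obtain ⟨a, rfl⟩ := QuotientGroup.mk'_surjective Z q
        show QuotientGroup.mk' Z (A.normalizerMonoidHom (inclusion hn (g * g')) a) = _
        rw [map_mul, map_mul]; rfl }
  let Ψ : Cent t →* (ZMod (Nat.card (A ⧸ Z)))ˣ :=
    (IsCyclic.mulAutMulEquiv (A ⧸ Z)).toMonoidHom.comp Φ
  let θ := Ψ.comp (inclusion (Hyp.oCore_le_cent t : oCore t ≤ Cent t))
  have hθ : θ = 1 := no_char X.hyp X.h.cycle θ fun c hc' a b hab => by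
    show Ψ ⟨b, _⟩ = Ψ ⟨a, _⟩
    rw [show (⟨b, Hyp.oCore_le_cent t b.2⟩ : Cent t) =
      ⟨c, hc'⟩ * ⟨a, Hyp.oCore_le_cent t a.2⟩ * ⟨c, hc'⟩⁻¹ from Subtype.ext hab, map_mul, map_mul,
      map_inv, mul_inv_cancel_comm]
  have h0 : θ ⟨v, hv⟩ = 1 := by rw [hθ, MonoidHom.one_apply]
  have h1 : Φ ⟨v, Hyp.oCore_le_cent t hv⟩ = 1 :=
    (MulEquiv.map_eq_one_iff (IsCyclic.mulAutMulEquiv (A ⧸ Z))).1 h0
  have h2 : QuotientGroup.mk' Z
      (A.normalizerMonoidHom (inclusion hn ⟨v, Hyp.oCore_le_cent t hv⟩) ⟨x, hx⟩) =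
      QuotientGroup.mk' Z ⟨x, hx⟩ := DFunLike.congr_fun h1 (QuotientGroup.mk' Z ⟨x, hx⟩)
  have h2' : ((⟨v * x * v⁻¹, (mem_normalizer_iff.1 (hn (Hyp.oCore_le_cent t hv)) x).1 hx⟩ : A) : A ⧸ Z)
      = ((⟨x, hx⟩ : A) : A ⧸ Z) := h2
  have h3' := QuotientGroup.eq.1 h2'
  have h3 : (v * x * v⁻¹)⁻¹ * x ∈ zpowers τ := h3'
  have h4 := inv_mem h3
  have h5 : x * ((v * x * v⁻¹)⁻¹ * x)⁻¹ = ((v * x * v⁻¹)⁻¹ * x)⁻¹ * x :=
    congrArg Subtype.val (hc.is_comm.comm (⟨x, hx⟩ : A) ⟨_, zpowers_le.2 hτA h4⟩)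
  rw [show v * x * v⁻¹ * x⁻¹ = x * ((v * x * v⁻¹)⁻¹ * x)⁻¹ * x⁻¹ by group, h5, mul_inv_cancel_right]
  exact h4

/-- Some reflection fixes a nontrivial element of a normal subgroup of order `r ^ 2` in `brW`. -/
theorem exists_fixed {A : Subgroup G} (hn : Cent t ≤ normalizer (A : Set G)) (hτA : τ ∈ A)
    (hA : Nat.card A = orderOf τ ^ 2) (hAW : A ≤ X.brW) :
    ∃ u, Refl t u ∧ A ⊓ Cent u ≠ ⊥ := by
  by_contra hcon
  push Not at hcon
  have hinv : ∀ u, Refl t u → ∀ x ∈ A, u * x * u⁻¹ = x⁻¹ := fun u hu =>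
    inverts_of_inf_eq_bot hu.ord (hn hu.cent) (hcon u hu)
  obtain ⟨g⟩ := X.hyp.exists_gens
  have hcen : ∀ x ∈ A, x ∈ zpowers τ := by
    intro x hx
    have hsub : oCore t ≤ X.brSub x := fun v hv => ⟨hv, X.scalar hn hτA hA hv hx⟩
    let θ := X.brHom hsub
    let K : Subgroup G :=
      { carrier := {c | c ∈ Cent t ∧ ∀ v ∈ oCore t,
          (c * v * c⁻¹) * x * (c * v * c⁻¹)⁻¹ * x⁻¹ = v * x * v⁻¹ * x⁻¹}
        one_mem' := ⟨one_mem _, fun v _ => by simp⟩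
        mul_mem' := fun {a b} ha hb => ⟨mul_mem ha.1 hb.1, fun v hv => by
          rw [show a * b * v * (a * b)⁻¹ = a * (b * v * b⁻¹) * a⁻¹ by group,
            ha.2 _ (conj_O hb.1 hv), hb.2 v hv]⟩
        inv_mem' := fun {a} ha => ⟨inv_mem ha.1, fun v hv => by
          have h1 := ha.2 _ (conj_O (inv_mem ha.1) hv)
          rw [show a * (a⁻¹ * v * a⁻¹⁻¹) * a⁻¹ = v by group] at h1
          exact h1.symm⟩ }
    have hO : oCore t ≤ K := fun o ho => ⟨Hyp.oCore_le_cent t ho, fun v hv => by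
      letI := IsCyclic.commGroup (α := zpowers τ)
      have h1 := congrArg Subtype.val (show θ (⟨o, ho⟩ * ⟨v, hv⟩ * ⟨o, ho⟩⁻¹) = θ ⟨v, hv⟩ by
        rw [map_mul, map_mul, map_inv, mul_inv_cancel_comm])
      exact h1⟩
    have hR : ∀ u, Refl t u → u ∈ K := fun u hu => ⟨hu.cent, fun v hv => by
      have hux : u⁻¹ * x * u = x⁻¹ := by
        have := hinv u hu x hx
        rwa [inv_of_order hu.ord] at this ⊢
      have hc := X.scalar hn hτA hA hv hx
      calc u * v * u⁻¹ * x * (u * v * u⁻¹)⁻¹ * x⁻¹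
          = u * (v * (u⁻¹ * x * u) * v⁻¹ * (u⁻¹ * x * u)⁻¹) * u⁻¹ := by group
        _ = u * (x⁻¹ * ((v * x * v⁻¹ * x⁻¹)⁻¹ * x)) * u⁻¹ := by rw [hux]; group
        _ = u * (x⁻¹ * (x * (v * x * v⁻¹ * x⁻¹)⁻¹)) * u⁻¹ := by
          rw [← (X.comm_z (inv_mem hc) (fitCore_le_oCore t (X.brW_le (hAW hx)))).eq]
        _ = (u * (v * x * v⁻¹ * x⁻¹) * u⁻¹)⁻¹ := by group
        _ = v * x * v⁻¹ * x⁻¹ := by rw [X.inv_z hu hc, inv_inv]⟩
    have hcen : Cent t ≤ K := by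
      refine (X.hyp.cent_le_sup X.hyp.orderT X.hyp).trans (sup_le hO fun s hs => ?_)
      have hr : ∀ i : ℤ, g.σ ^ i * g.τ ∈ K := fun i => hR _ ⟨refl_order g i, refl_ne g i,
        (mem_cent.1 (X.hyp.sylow_le_cent (mul_mem (zpow_mem g.hσ i) g.hτ)))⟩
      obtain ⟨i, rfl | rfl⟩ := g.hform s hs
      · have h := mul_mem (hr i) (hr 0)
        rwa [refl_mul, sub_zero] at h
      · exact hr i
    have hθ : θ = 1 := by
      letI := IsCyclic.commGroup (α := zpowers τ)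
      exact no_char X.hyp X.h.cycle θ fun c hc v w hw => Subtype.ext (by
        show (w : G) * x * (w : G)⁻¹ * x⁻¹ = (v : G) * x * (v : G)⁻¹ * x⁻¹
        rw [hw]; exact (hcen hc).2 v v.2)
    refine X.mem_z_of_center ⟨X.brW_le (hAW hx), mem_centralizer_iff.2 fun f hf => ?_⟩ (hAW hx).2
    have h1 : f * x * f⁻¹ * x⁻¹ = 1 :=
      congrArg Subtype.val (DFunLike.congr_fun hθ (⟨f, fitCore_le_oCore t hf⟩ : oCore t))
    exact mul_inv_eq_iff_eq_mul.1 (mul_inv_eq_one.1 h1)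
  have := card_le_of_le (K := zpowers τ) hcen
  rw [hA, Nat.card_zpowers, pow_two] at this
  exact absurd ((Nat.mul_le_mul_left_iff X.h.prime.pos).1 (this.trans (mul_one _).ge))
    (not_le.2 X.h.prime.one_lt)

end Ctx

end CompShape

open CompShape in
/-- **The line or the Heisenberg group**: a point spans with `τ` a subgroup normalised by `Cent t`,
or a nonabelian subgroup of order `r ^ 3` of exponent `r`, central in `fitCore t` modulo `⟨τ⟩` and
normalised by `Cent t`, contains no such subgroup of order `r ^ 2`. -/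
theorem Central.line_or_heisenberg (hyp : Hyp S t) (hk : ProperKnown G) (hM : IsCoatom (Cent t))
    (hm : CompLocal.FixModel.{u}) (h : Central t τ) :
    (∃ b y : G, orderOf b = 2 ∧ b ≠ t ∧ Commute b t ∧ y ∈ qFix t b ∧ orderOf y = orderOf τ ∧
      Cent t ≤ normalizer ((zpowers y ⊔ zpowers τ : Subgroup G) : Set G)) ∨
    (∃ W : Subgroup G, W ≤ fitCore t ∧ τ ∈ W ∧ Nat.card W = orderOf τ ^ 3 ∧
      (∀ w ∈ W, w ^ orderOf τ = 1) ∧
      (∀ w ∈ W, ∀ f ∈ fitCore t, w * f * w⁻¹ * f⁻¹ ∈ zpowers τ) ∧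
      Cent t ≤ normalizer (W : Set G) ∧ ¬ IsMulCommutative W ∧
      ¬ ∃ A : Subgroup G, τ ∈ A ∧ A ≤ W ∧ Nat.card A = orderOf τ ^ 2 ∧
        Cent t ≤ normalizer (A : Set G)) := by
  have X : Ctx S t τ := ⟨hyp, hk, hM, hm, h⟩
  haveI := X.fact
  by_cases hA : ∃ A : Subgroup G, τ ∈ A ∧ A ≤ X.brW ∧ Nat.card A = orderOf τ ^ 2 ∧
      Cent t ≤ normalizer (A : Set G)
  · obtain ⟨A, hτA, hAW, hcard, hn⟩ := hA
    obtain ⟨u, hu, hne⟩ := X.exists_fixed hn hτA hcard hAW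
    obtain ⟨⟨y, hy⟩, hy1⟩ := ne_bot_iff_exists_ne_one.1 hne
    have hy1' : y ≠ 1 := fun e => hy1 (Subtype.ext e)
    have hyQ : y ∈ qFix t u := ⟨X.brW_le (hAW hy.1), hy.2⟩
    refine Or.inl ⟨u, y, hu.ord, hu.ne, hu.comm, hyQ, orderOf_eq_prime (hAW hy.1).2 hy1', ?_⟩
    suffices e : zpowers y ⊔ zpowers τ = A by rw [e]; exact hn
    have hle : zpowers y ⊔ zpowers τ ≤ A := sup_le (zpowers_le.2 hy.1) (zpowers_le.2 hτA)
    have hdvd := card_dvd_of_le hle
    rw [hcard] at hdvd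
    obtain ⟨i, hi2, hi⟩ := (Nat.dvd_prime_pow h.prime).1 hdvd
    refine eq_of_le_of_card_ge hle ?_
    rw [hcard, hi]
    have h2 : 2 ≤ i := by
      by_contra hlt
      have hge : Nat.card ↥(zpowers y ⊔ zpowers τ) ≤ Nat.card (zpowers τ) := by
        rw [hi, Nat.card_zpowers]
        exact (Nat.pow_le_pow_right h.prime.pos (show i ≤ 1 by omega)).trans (pow_one _).le
      have hyz : y ∈ zpowers τ :=
        (eq_of_le_of_card_ge le_sup_right hge).ge (mem_sup_left (mem_zpowers y))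
      exact hy1' (X.fix_inv (X.z_memO hyz) (qfix_conj hyQ) (X.inv_z hu hyz))
    exact Nat.pow_le_pow_right h.prime.pos h2
  · refine Or.inr ⟨X.brW, X.brW_le, X.τ_brW, ?_, fun w hw => hw.2, fun w hw f hf => X.br_brW hw hf,
      X.brW_normal, fun hc => ?_, hA⟩
    · exact X.card_brW.resolve_left fun e => hA ⟨X.brW, X.τ_brW, le_rfl, e, X.brW_normal⟩
    · have h3 := X.card_brW.resolve_left fun e => hA ⟨X.brW, X.τ_brW, le_rfl, e, X.brW_normal⟩
      obtain ⟨u, hu⟩ := X.exists_refl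
      have h1 := X.card_fix_le hu
      have h2 := (X.card_brW_le hu).trans (Nat.mul_le_mul_right _ h1)
      rw [h3, pow_succ'] at h2
      have h4 := Nat.le_of_mul_le_mul_left h2 h.prime.pos
      have hne : X.brW ⊓ Cent u ≠ ⊥ := fun e => by
        have h5 := X.card_brW_le hu
        rw [e, Subgroup.card_bot, one_mul, h3] at h5
        have h6 := (Nat.pow_le_pow_iff_right h.prime.one_lt).1 (h5.trans (X.card_inv_le hu))
        omega
      obtain ⟨⟨y, hy⟩, hy1⟩ := ne_bot_iff_exists_ne_one.1 hne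
      have hyQ : y ∈ qFix t u := ⟨X.brW_le hy.1, hy.2⟩
      have h5 : Nat.card ↥(X.brInv hu) ≤ Nat.card (zpowers τ) := card_le_of_le fun w hw =>
        X.inv_commute_le hu hyQ (fun e => hy1 (Subtype.ext e)) hw
          (congrArg Subtype.val (hc.is_comm.comm ⟨w, hw.1⟩ ⟨y, hy.1⟩))
      rw [Nat.card_zpowers] at h5
      have h6 := (Nat.pow_le_pow_iff_right h.prime.one_lt).1
        ((h4.trans h5).trans (pow_one (orderOf τ)).ge)
      omega

end Cfsg.Agent.GW
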