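import Cfsg.Agent.Lib.GW.PartII.CompShapeOf
import Cfsg.Agent.Lib.GW.PartII.CompShape
import Cfsg.Agent.Lib.GW.PartII.CompLine
import Cfsg.Agent.Lib.GW.PartII.CompHeisenberg

/-!
# No component configuration

`not_compConfig`: section D of Part II of Gorenstein-Walter.
-/

set_option autoImplicit false

namespace Cfsg.Agent.GW

open Subgroup CompLocal

universe u

variable {G : Type u} [Group G] [Finite G] {S : Sylow 2 G} {t : G}

/-- With `Cent t` maximal there is no component configuration. -/
theorem not_compConfig (hyp : Hyp S t) (hk : ProperKnown G) (hM : IsCoatom (Cent t)) : ¬ CompConfig G := by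
  refine not_compConfig_of_shapes hyp hk hM fun τ h => ?_
  rcases h.line_or_heisenberg hyp hk hM CompModel.fixModel with
    ⟨b, y, hb, hne, hc, hy, hord, hn⟩ | ⟨W, hle, hτW, hcard, hexp, hbr, hnorm, hnc, hnoA⟩
  · exact Or.inl ⟨b, y, h.heis_of_line hyp hk hM CompModel.fixModel hb hne hc hy hord hn⟩
  · obtain ⟨b, y, -, hh, hc, hMr, hrel, hD, hr3⟩ :=
      h.heis_of_extraspecial hyp hk hM CompModel.fixModel hle hτW hcard hexp hbr hnorm hnc hnoA
    rw [hh.plane.order_τ] at hc hMr hrel hD hr3
    exact Or.inr ⟨b, y, hh, hc, hMr, hrel, hD, hr3⟩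

end Cfsg.Agent.GW
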