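import Cfsg.Agent.Lib.GW.PartII.PartTwo
import Cfsg.Agent.Lib.GW.PartII.CompFinalMain

/-!
# Gorenstein-Walter Part II
-/

set_option autoImplicit false

namespace Cfsg.Agent.GW

universe u

/-- **Gorenstein-Walter, Part II**: a group satisfying the hypotheses with a fixed-point-free configuration
excluded is known. -/
theorem partTwo : PartTwo.{u} :=
  partTwo_of_comp fun _ _ _ _ _ hyp hk hM => not_compConfig hyp hk hM

end Cfsg.Agent.GW
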