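import Cfsg.Agent.Lib.GW.PartII.Setting
import Cfsg.Agent.Lib.GW.PartII.BigCentral.Arith
import Cfsg.Agent.Lib.GW.PartII.BigCentral.Weights
import Cfsg.Agent.Lib.GW.PartII.BigCentral.OneClass
import Cfsg.Agent.Lib.GW.PartII.BigCentral.TwoClass.Ratio
import Cfsg.Agent.Lib.DihedralBlock.SevenLocal
import Cfsg.Agent.Lib.PSL2.SmallIso

/-!
# A maximal subgroup containing the centraliser of an involution without normal 2-complement

`bigCentral`: outside `NoFixed` the group is known.  One class of involutions in `M`: the index is at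
most 2, or at most 5 for `|S| = 4`.  Two classes: the ratio of the pair centralisers is at least 3
for `|S| ≥ 16`, impossible with degrees at least 8; for `|S| = 8` it is 3 and the group is `A₇`.
-/

set_option autoImplicit false
set_option linter.style.haveILetI false
set_option linter.unusedSectionVars false

namespace Cfsg.Agent.GW

open Subgroup Cfsg

universe u

variable {G : Type u} [Group G] [Finite G] {S : Sylow 2 G} {t : G}

namespace BigCentral

/-- A simple group with a proper subgroup of index at most 5. -/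
theorem isKnown_of_index_le_five [IsSimpleGroup G] (hG : ¬ IsMulCommutative G) {M : Subgroup G}
    (hM : M ≠ ⊤) (hi : M.index ≤ 5) : IsKnown G := by
  classical
  haveI : Fintype (G ⧸ M) := Fintype.ofFinite _
  set f : G →* Equiv.Perm (G ⧸ M) := MulAction.toPermHom G (G ⧸ M) with hf
  have hinj : Function.Injective f :=
    SmallSimple.injective_of_simple f (SmallSimple.toPermHom_ne_one_of_index M hM)
  have h2 : 2 ≤ Nat.card (G ⧸ M) := by
    rw [← Subgroup.index_eq_card]
    have := Subgroup.index_ne_zero_of_finite (H := M)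
    have : M.index ≠ 1 := fun h => hM (index_eq_one.1 h)
    omega
  haveI : Nontrivial (G ⧸ M) := Finite.one_lt_card_iff_nontrivial.1 (by omega)
  have hle : Nat.card G ≤ Nat.card (alternatingGroup (G ⧸ M)) :=
    Nat.card_le_card_of_injective
      (f.codRestrict (alternatingGroup (G ⧸ M)) fun x => SmallSimple.mem_alternating_of_simple hG f x)
      fun x y h => hinj (congrArg Subtype.val h)
  rw [nat_card_alternatingGroup, ← Subgroup.index_eq_card] at hle
  have h60 : Nat.card G ≤ 100 := by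
    refine hle.trans ((Nat.div_le_div_right (Nat.factorial_le hi)).trans ?_)
    decide
  obtain ⟨e⟩ := SmallSimple.iso_alternating_five hG (SmallSimple.card_eq_sixty hG h60)
  haveI : Fact (Nat.Prime 5) := ⟨by norm_num⟩
  obtain ⟨e'⟩ := PSL2.psl_four_five_iso (F := ZMod 5) (Or.inr (ZMod.card 5))
  exact Or.inl ⟨ZMod 5, inferInstance, inferInstance, by rw [ZMod.card]; decide,
    by rw [ZMod.card]; norm_num, ⟨e.trans e'.symm⟩⟩

/-- A group without `NoFixed`: two commuting involutions centralising an element of odd order. -/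
theorem exists_fixed (hyp : Hyp S t) (nf : ¬ NoFixed G) :
    ∃ a b y : G, Pair a b ∧ Commute y a ∧ Commute y b ∧ Odd (orderOf y) ∧ y ≠ 1 := by
  unfold NoFixed at nf
  push Not at nf
  obtain ⟨a, b, ha, hb, hab, hne, hy⟩ := nf
  obtain ⟨y, hy, hy1⟩ := (Subgroup.bot_or_exists_ne_one _).resolve_left hy
  obtain ⟨h1, h2⟩ := (hyp.mem_oCore_iff ha).1 hy.1
  exact ⟨a, b, y, ⟨ha, hb, hab, hne⟩, BSW.mem_cent.1 h1, BSW.mem_cent.1 hy.2, h2, hy1⟩

/-- The signed degree `a` times the degree: no small values. -/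
theorem eight_le (hyp : Hyp S t) {I : Ideal AlgInt} (hI : IsPModular 2 I) {χ : IrrCharacter G}
    (hχ : χ ∈ principalBlock I G) (hne : χ ≠ Char.trivialChar G) (nf : ¬ NoFixed G) {δ x : ℤ}
    (hδ : δ = 1 ∨ δ = -1) (hval : χ.1 t = δ) (hx : x = δ * charDegree χ.1) (h1 : x ≠ 1)
    (h4 : x % 4 = 1) : 8 ≤ |x| := by
  obtain ⟨a, b, y, hP, hya, hyb, ho, hy1⟩ := exists_fixed hyp nf
  have h := degree_ne_small hyp hI hχ hne hP hya hyb ho hy1
  rcases hδ with rfl | rfl
  · rw [abs_of_nonneg (by omega)]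
    by_contra hlt
    exact h (Or.inr (Or.inl ⟨by omega, by rw [hval, Int.cast_one]⟩))
  · rw [abs_of_nonpos (by omega)]
    by_contra hlt
    have hv : χ.1 t = -1 := by rw [hval]; norm_num
    rcases (show charDegree χ.1 = 3 ∨ charDegree χ.1 = 7 by omega) with e | e
    · exact h (Or.inl ⟨e, hv⟩)
    · exact h (Or.inr (Or.inr ⟨e, hv⟩))

/-- Degree 15: the odd part of the centraliser of a four group has order dividing 3. -/
theorem card_dvd_three (hyp : Hyp S t) {I : Ideal AlgInt} (hI : IsPModular 2 I) {χ : IrrCharacter G}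
    (hχ : χ ∈ principalBlock I G) (hne : χ ≠ Char.trivialChar G) (hdeg : charDegree χ.1 = 15)
    (hval : χ.1 t = -1) (hfix : ∀ (g : G) (k : ℕ), k.Coprime (orderOf g) → χ.1 (g ^ k) = χ.1 g)
    {a b : G} (hP : Pair a b) (H : Subgroup G) (hH : Odd (Nat.card H))
    (hHa : ∀ z ∈ H, Commute a z) (hHb : ∀ z ∈ H, Commute b z) : Nat.card H ∣ 3 := by
  haveI := hyp.simple
  haveI := Fintype.ofFinite G
  have hc := Char.irr_isCharacter χ
  have hψ : IsCharacter H fun z => (χ.1 (z : G) - 3) / 4 := by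
    have h := isCharacter_four hc hP H hHa hHb
    have e : (fun z : H => (χ.1 (z : G) - 3) / 4) = fun z : H =>
        (χ.1 (z : G) + χ.1 (a * z) + χ.1 (b * z) + χ.1 (a * b * z)) / 4 := by
      funext z
      have hz : Odd (orderOf (z : G)) := hH.of_dvd_nat (Subgroup.orderOf_dvd_natCard _ z.2)
      rw [apply_invol_mul hyp hI hχ hP.ha (hHa z z.2) hz, apply_invol_mul hyp hI hχ hP.hb (hHb z z.2) hz,
        apply_invol_mul hyp hI hχ hP.order_mul ((hHa z z.2).mul_left (hHb z z.2)) hz, hval]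
      ring
    rw [e]
    exact h
  have h15 : χ.1 (1 : G) = 15 := by rw [← Char.charDegree_cast, hdeg]; norm_num
  refine (Nat.dvd_iff_prime_pow_dvd_dvd _ _).2 fun p k hp hpk => ?_
  haveI : Fact p.Prime := ⟨hp⟩
  rcases Nat.eq_zero_or_pos k with rfl | hk0
  · simp
  obtain ⟨Q, hQ⟩ := Sylow.exists_subgroup_card_pow_prime p hpk
  have hch := Char.IsCharacter.restrict hψ Q
  have hb := Char.card_dvd_of_rational hp (IsPGroup.of_card hQ) hch (d := 3) (n := 3)
    (by show (χ.1 (((1 : Q) : H) : G) - 3) / 4 = _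
        rw [Subgroup.coe_one, Subgroup.coe_one, h15]; norm_num) le_rfl
    (fun g => Char.exists_int_of_forall_pow hch g fun j hj => by
      show (χ.1 (((g ^ j : Q) : H) : G) - 3) / 4 = (χ.1 ((g : H) : G) - 3) / 4
      rw [Subgroup.coe_pow, Subgroup.coe_pow,
        hfix _ j (by rwa [Subgroup.orderOf_coe, Subgroup.orderOf_coe])])
  have hker : CharInt.charKernel hch = ⊥ := by
    rw [Subgroup.eq_bot_iff_forall]
    intro g hg
    have h0 : (χ.1 ((g : H) : G) - 3) / 4 = (χ.1 (((1 : Q) : H) : G) - 3) / 4 := hg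
    rw [Subgroup.coe_one, Subgroup.coe_one] at h0
    exact Subtype.ext (Subtype.ext (SmallCofactor.eq_one_of_apply_eq hyp.not_comm hne
      (by linear_combination 4 * h0)))
  rw [hker, Subgroup.card_bot, one_mul, hQ] at hb
  have hodd : p ≠ 2 := by
    rintro rfl
    exact Nat.not_even_iff_odd.2 hH (even_iff_two_dvd.2 ((dvd_pow_self 2 hk0.ne').trans hpk))
  rcases eq_or_ne p 3 with rfl | h3
  · norm_num at hb
    exact hb
  · have h5 : 5 ≤ p := hp.five_le_of_ne_two_of_ne_three hodd h3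
    rw [Nat.div_eq_of_lt (show 3 < p - 1 by omega)] at hb
    simp only [pow_zero, Nat.factorial_zero, mul_one] at hb
    exact hb.trans (one_dvd _)

set_option maxHeartbeats 1000000 in
/-- Two classes of involutions in `M`. -/
theorem isKnown_of_two (nf : ¬ NoFixed G) {M : Subgroup G} {σ τ : G} {k : ℕ}
    (b : Two S t M σ τ k) : IsKnown G := by
  classical
  haveI := Fintype.ofFinite G
  have hyp := b.hyp
  haveI := hyp.simple
  have hb := b.toBase
  obtain ⟨d, hform⟩ := DihedralBlock.exists_data (n := k + 2) (by have := b.hk; omega) S b.hσ b.hτ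
    (by rw [show k + 2 - 1 = k + 1 by omega]; exact b.hσo) b.hτo b.hrel b.hgen
    (by rw [Nat.add_sub_cancel, b.hJ]
        exact ⟨hyp.isConj_invol hb.torder b.hτo,
          hyp.isConj_invol hb.torder (by simpa using hb.refl_order 1)⟩)
  obtain ⟨j, hj⟩ : ∃ j : ℕ, 2 ^ (k + 2 - 2) = 2 * j :=
    ⟨2 ^ (k - 1), by rw [← pow_succ', Nat.add_sub_cancel, show k - 1 + 1 = k by have := b.hk; omega]⟩
  have hM₀ : 2 ^ (k + 2 - 2) = 2 ^ k := by rw [Nat.add_sub_cancel]
  have hJ' : σ ^ 2 ^ (k + 2 - 2) = t := by rw [hM₀, b.hJ]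
  obtain ⟨I, hI⟩ := ZStar.exists_isPModular_two
  obtain ⟨χ₁, χ₂, χ₃, δ₁, δ₂, δ₃, a, b', c', h1, h2, h3, m1, m2, m3, n1, n2, n3, n12, n13, n23, hval,
    ha, hb', hc', ha1, hrel, hca, hcb, hcc, heq⟩ := d.signed_degrees S b.hσ b.hτ hform hI
  have hord := order_int_eq d hI m1 n1 h1 (fun l h0 hl => (hval l h0 hl).1) ha
  have hpd := d.card_centralizer_pair
  have hqd := d.toCore.shift.card_centralizer_pair
  have hshiftV : d.toCore.shift.V = d.V := rfl
  rw [hshiftV] at hqd
  have hM₀pos : 0 < 2 ^ (k + 2 - 2) := d.hM0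
  obtain ⟨e1, e2, e3⟩ := hval (2 ^ (k + 2 - 2)) hM₀pos
    ((Nat.lt_mul_iff_one_lt_left hM₀pos).2 (by norm_num))
  have hEven : ((-1 : ℂ) ^ (2 ^ (k + 2 - 2) + 1)) = -1 := by
    rw [pow_succ, Even.neg_one_pow d.hM, one_mul]
  rw [hJ'] at e1
  rw [hEven, mul_neg, mul_one] at e2 e3
  rw [hJ'] at e2 e3
  have ha8 : a % 8 = 1 := by
    have : (8 : ℤ) ∣ a - 1 := (Dvd.intro (j : ℤ) (by rw [hj]; push_cast; ring)).trans hca
    omega
  have hmod : ∀ x : ℤ, (4 * (2 ^ (k + 2 - 2) : ℕ) : ℤ) ∣ x - (1 + 2 * (2 ^ (k + 2 - 2) : ℕ)) →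
      x % 4 = 1 ∧ x ≠ 1 ∧ (k = 1 → x % 8 = 5) ∧ (2 ≤ k → x % 8 = 1) := by
    intro x hx
    have h8 : (8 * (j : ℤ)) ∣ x - (1 + 4 * j) := by
      rw [hj] at hx; push_cast at hx; ring_nf at hx ⊢; exact hx
    obtain ⟨z, hz⟩ := h8
    have hk1 : k = 1 → j = 1 := by
      rintro rfl; norm_num at hj; omega
    have hk2 : 2 ≤ k → j % 2 = 0 := by
      intro hk
      rw [hM₀, show 2 ^ k = 2 * (2 * 2 ^ (k - 2)) by
        rw [← pow_succ', ← pow_succ']; congr 1; omega] at hj
      omega
    have hj0 : 0 < j := by omega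
    refine ⟨?_, ?_, fun hk => ?_, fun hk => ?_⟩
    · have e : x = 4 * (2 * j * z + j) + 1 := by linear_combination hz
      omega
    · intro e
      have e0 : (4 * (j : ℤ)) * (2 * z + 1) = 0 := by rw [e] at hz; linear_combination -hz
      rcases mul_eq_zero.1 e0 with h | h <;> omega
    · rw [hk1 hk] at hz; push_cast at hz; omega
    · obtain ⟨i, rfl⟩ : ∃ i, j = 2 * i := ⟨j / 2, by have := hk2 hk; omega⟩
      have e : x = 8 * (2 * i * z + i) + 1 := by push_cast at hz; linear_combination hz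
      omega
  obtain ⟨hb4, hb1, hb5, hb81⟩ := hmod b' hcb
  obtain ⟨hc4, hc1, hc5, hc81⟩ := hmod c' hcc
  have ha_ge : 8 ≤ |a| := eight_le hyp hI m1 n1 nf h1 e1 ha ha1 (by omega)
  have hb_ge : 8 ≤ |b'| := eight_le hyp hI m2 n2 nf (δ := -δ₂) (by omega)
    (by rw [e2]; push_cast; ring) hb' hb1 hb4
  have hc_ge : 8 ≤ |c'| := eight_le hyp hI m3 n3 nf (δ := -δ₃) (by omega)
    (by rw [e3]; push_cast; ring) hc' hc1 hc4
  rw [hJ'] at heq hord hpd hqd
  obtain ⟨y, hy, hy2, hy3⟩ := b.exists_y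
  have hp0 : (0 : ℤ) < Nat.card (centralizer ({t, τ} : Set G)) := Int.natCast_pos.2 Nat.card_pos
  rcases Nat.lt_or_ge k 2 with hk | hk
  swap
  · exfalso
    obtain ⟨-, -, h21⟩ := ratio_ge_three (d := (Nat.card (centralizer ({t, σ * τ} : Set G)) : ℤ))
      hp0 (by exact_mod_cast b.ratio_large hk) ha8 hb4 hc4 ha_ge hb_ge hc_ge hrel
      (by linear_combination heq)
    have := hb81 hk
    have := hc81 hk
    omega
  have hk1 : k = 1 := by have := b.hk; omega
  obtain ⟨ι, rfl⟩ : ∃ ι, y = 2 * ι := by rw [hk1, pow_one] at hy2; exact hy2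
  have hιodd : Odd ι := Nat.odd_iff.2 (by
    by_contra h
    rw [hk1] at hy3
    exact hy3 (Dvd.intro (ι / 2) (by omega)))
  have hratio := b.ratio_small hk1 hy
  set D := Nat.card (d.V ⊓ centralizer ({τ} : Set G) : Subgroup G)
  set D' := Nat.card (d.V ⊓ centralizer ({σ * τ} : Set G) : Subgroup G) with hD'def
  have hDo : Odd D := d.oddV.of_dvd_nat (card_dvd_of_le inf_le_left)
  have hD'o : Odd D' := d.oddV.of_dvd_nat (card_dvd_of_le inf_le_left)
  rw [hpd, hqd] at heq hord hratio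
  have hth := b.thompson
  rw [hpd, hqd] at hth
  push_cast at heq hord hth
  have heq' : 4 * ((D' : ℤ) * D) * (b' * c') * (a - 1) ^ 2 =
      ((D' : ℤ) + D) ^ 2 * ((b' - 1) * (c' - 1)) * (a + 1) ^ 2 := by
    apply mul_left_cancel₀ (show (16 : ℤ) ≠ 0 by norm_num)
    linear_combination heq
  have main : a = -15 ∧ D' = 3 * D := by
    rcases (show ι = 1 ∨ 3 ≤ ι by rcases hιodd with ⟨i, rfl⟩; omega) with rfl | hι3
    swap
    · obtain ⟨h15, h3D, -⟩ := ratio_ge_three (d := (D' : ℤ)) (e := (D : ℤ))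
        (by exact_mod_cast hDo.pos)
        (by have h3 := Nat.mul_le_mul_right (4 * D) hι3
            exact_mod_cast (show 3 * D ≤ D' by omega))
        ha8 hb4 hc4 ha_ge hb_ge hc_ge hrel heq'
      exact ⟨h15, by exact_mod_cast h3D⟩
    have hN : Odd M.index := by
      haveI : Fact (Nat.Prime 2) := ⟨Nat.prime_two⟩
      exact Nat.odd_iff.2 (Nat.two_dvd_ne_zero.1 fun h =>
        S.not_dvd_index (h.trans (index_dvd_of_le hb.hSM)))
    have hm : (Nat.card M : ℤ) * M.index = Nat.card G := by exact_mod_cast M.card_mul_index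
    set C := Nat.card (Cent t)
    set C' := Nat.card (M ⊓ Cent τ : Subgroup G)
    change (Nat.card G : ℤ) * (a - 1) ^ 2 * _ = _ * (C : ℤ) ^ 3 * _ at hord
    have hy' : (C : ℤ) = C' * 2 := by exact_mod_cast hy
    have hC' : (0 : ℤ) < C' := Int.natCast_pos.2 Nat.card_pos
    have hidx : (M.index : ℤ) * ((D' : ℤ) * ((D' : ℤ) + 2 * D)) * (a - 1) ^ 2 =
        8 * (a * (a + 1)) * ((D' : ℤ) + D) ^ 2 := by
      apply mul_left_cancel₀ (show (128 : ℤ) * (C' : ℤ) ^ 3 ≠ 0 by positivity)
      rw [← hm, hy'] at hord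
      rw [hy'] at hth
      linear_combination 4 * hord - (M.index : ℤ) * (a - 1) ^ 2 * 16 * (D' : ℤ) * hth
    rcases index_ratio hN hD'o hDo (by omega) ha8 ha_ge hidx with h | ⟨h9, hDD⟩
    · exact h
    · exfalso
      rw [hDD] at heq'
      have hbc := degrees_eq_of_eq (d := (D : ℤ)) (by exact_mod_cast hDo.pos) (by omega) hrel heq'
      rw [show b' = 5 by omega] at hb_ge
      norm_num at hb_ge
  obtain ⟨h15, h3D⟩ := main
  -- the rational character of degree 15
  have hδ1 : δ₁ = -1 := by rcases h1 with rfl | rfl <;> omega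
  subst hδ1
  have hd15 : charDegree χ₁.1 = 15 := by omega
  have hb15 := hb5 hk1
  have hc15 := hc5 hk1
  have hfix : ∀ (g : G) (l : ℕ), l.Coprime (orderOf g) → χ₁.1 (g ^ l) = χ₁.1 g := by
    intro g l hl
    obtain ⟨m, hm, hml⟩ := CharInt.exists_coprime_pow_eq g hl
    obtain ⟨f, hf⟩ := CharInt.exists_ringHom_pow Nat.card_pos.ne' hm
    rw [← hml, ← CharInt.map_char_eq_pow (Char.irr_isCharacter χ₁) hf g]
    exact d.map_eq_self S b.hσ b.hτ hform hI (Or.inr rfl) h2 h3 m1 m2 m3 n1 n2 n3 n12 n13 n23 hval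
      (by omega) (by rcases h2 with rfl | rfl <;> omega) (by rcases h3 with rfl | rfl <;> omega) f g
  have hστ2 : orderOf (σ * τ) = 2 := by simpa using hb.refl_order 1
  have hP : Pair t (σ * τ) := ⟨hb.torder, hστ2,
    ((BSW.mem_cent.1 (b.hSC (mul_mem b.hσ b.hτ))).symm), fun e => by
      have := hb.refl_ne 1; rw [pow_one] at this; exact this e.symm⟩
  have hdvd := card_dvd_three hyp hI m1 n1 hd15 (by rw [e1]; norm_num) hfix hP
    (d.V ⊓ centralizer ({σ * τ} : Set G)) hD'o
    (fun z hz => by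
      have := d.commute_J hz.1
      rwa [hJ'] at this)
    (fun z hz => (mem_centralizer_singleton_iff.1 hz.2).symm)
  rw [← hD'def, h3D] at hdvd
  have hD1 : D = 1 := by
    have := Nat.le_of_dvd (by norm_num) hdvd
    have := hDo.pos
    omega
  let d' : DihedralBlock.Data σ (σ * τ) (2 ^ (k + 2 - 2)) :=
    { d.toCore.shift with conjAll := d.conjAll }
  refine Or.inr (d'.iso_alternating_seven S b.hσ (mul_mem b.hσ b.hτ) hb.shift.hform ?_ ?_)
  · show (d.V ⊓ centralizer ({σ * τ} : Set G) : Subgroup G) ≠ ⊥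
    intro h
    rw [hD'def, h, card_bot] at h3D
    omega
  · show (d.V ⊓ centralizer ({σ * (σ * τ)} : Set G) : Subgroup G) = ⊥
    have hbot : (d.V ⊓ centralizer ({τ} : Set G) : Subgroup G) = ⊥ := card_eq_one.1 hD1
    rw [Subgroup.eq_bot_iff_forall]
    rintro v ⟨hv, hvc⟩
    have h0 : σ⁻¹ * v * σ⁻¹⁻¹ ∈ (d.V ⊓ centralizer ({τ} : Set G) : Subgroup G) := by
      refine ⟨d.normV _ (Commute.pow_self σ _).inv_right _ hv, mem_centralizer_singleton_iff.2 ?_⟩
      have hc := commute_conj (show Commute v (σ * (σ * τ)) from mem_centralizer_singleton_iff.1 hvc) σ⁻¹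
      rwa [show σ⁻¹ * (σ * (σ * τ)) * σ⁻¹⁻¹ = τ by
        rw [show σ⁻¹ * (σ * (σ * τ)) * σ⁻¹⁻¹ = σ * τ * σ by group, mul_assoc]
        rw [show τ * σ = σ⁻¹ * τ by rw [← b.hrel]; group, mul_inv_cancel_left]] at hc
    rw [hbot, mem_bot] at h0
    exact conj_eq_one_iff.1 h0

end BigCentral

open BigCentral in
/-- A maximal subgroup containing the centraliser of an involution that has no normal 2-complement
forces a known group. -/
theorem bigCentral (hyp : Hyp S t) (_hk : ProperKnown G) (nf : ¬ NoFixed G) {M : Subgroup G}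
    (hM : IsCoatom M) (hCM : Cent t ≤ M) (hbig : ¬ Cfsg.HasNormalPComplement 2 M) : IsKnown G := by
  haveI := hyp.simple
  obtain ⟨g⟩ := hyp.exists_gens
  rcases Nat.eq_zero_or_pos g.k with h0 | h1
  · have hord : orderOf g.σ = 2 := by rw [g.hord, g.hn, h0]; norm_num
    haveI hK : IsKleinFour (S : Subgroup G) := by
      haveI : Nontrivial (S : Subgroup G) :=
        Finite.one_lt_card_iff_nontrivial.mp (by rw [g.hcard, g.hn, h0]; norm_num)
      refine ⟨by rw [g.hcard, g.hn, h0]; norm_num,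
        (Monoid.exponent_eq_prime_iff Nat.prime_two).mpr fun v hv => ?_⟩
      refine orderOf_eq_prime (Subtype.ext ?_) hv
      rw [SubgroupClass.coe_pow, pow_two, Subgroup.coe_one]
      obtain ⟨i, e | e⟩ := g.hform v v.2 <;> rw [e]
      · rw [← zpow_add, ← two_mul, zpow_mul, zpow_two, BSW.sq_of_order hord, one_zpow]
      · exact refl_sq g i
    exact isKnown_of_index_le_five hyp.not_comm hM.1
      (index_le_five hyp hCM hbig (oneClass_klein (sylow_le hyp hCM) hbig))
  · have b := exists_base hyp g h1 hCM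
    by_cases ht : ConjIn M t g.τ
    · by_cases hs : ConjIn M t (g.σ * g.τ)
      · exact (false_of_oneClass_large hyp g h1 hM.1 hCM (b.oneClass ht hs)).elim
      · refine isKnown_of_two nf (τ := g.σ * g.τ) { b.shift with hyp := hyp, hone := ?_, hnot := hs }
        refine ht.trans ?_
        have h := (b.even_refl 1).mono b.hSM
        rwa [Nat.mul_one, pow_two, mul_assoc] at h
    · by_cases hs : ConjIn M t (g.σ * g.τ)
      · exact isKnown_of_two nf { b with hyp := hyp, hone := hs, hnot := ht }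
      · exact (hbig (b.hasNormalPComplement ht hs)).elim

end Cfsg.Agent.GW
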