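import Cfsg.Agent.Lib.GW.PartII.FitCore

/-!
# Layers of type `3·A₇`

In a triple cover of `A₇` the lifts of `(123)` and `(567)` do not commute, so an element over
`(567)` centralises a four group without centralising an element that permutes its involutions.
`AltLayer H a b` records what the arguments use in this case; `AltData.exists_fitCore` shows that it
leads to a component configuration.
-/

set_option autoImplicit false
set_option linter.style.haveILetI false

namespace Cfsg.Agent.GW

open Subgroup Cfsg.Agent.S1856 Cfsg.Agent.S1312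
open BSW (sq_of_order inv_of_order ne_one_of_order order_of_sq mem_cent)

universe u

variable {G : Type u} [Group G] [Finite G] {S : Sylow 2 G} {t : G}

/-- The data of a layer of type `3·A₇` at the four group of `a`, `b`: `N` is the odd core, `w` an
element of order 3 in the centre of the layer, `g` a cycle. -/
structure AltData (H N : Subgroup G) (g w a b : G) : Prop where
  gH : g ∈ H
  cyc : Cycles g a b
  fix : ∀ x ∈ N, Commute x a ∧ Commute x b ∧ Commute x g
  wN : w ∈ N
  wL : w ∈ layOf H
  w_ne : w ≠ 1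
  w_pow : w ^ 3 = 1
  cube : ∀ x ∈ H, Odd (orderOf x) → Commute x a → x ^ 3 ∈ N
  comm : ∀ x ∈ H, Odd (orderOf x) → Commute x a → Commute x w
  small : ∀ x ∈ H, ∀ y ∈ H, Odd (orderOf x) → Odd (orderOf y) → Commute x a → Commute y a →
    Commute x y → y ∉ N → ∃ i : ℤ, x * y ^ i ∈ N
  commB : ∀ x ∈ H, Odd (orderOf x) → Commute x a → Commute x b

/-- The layer is of type `3·A₇` at the four group of `a`, `b`. -/
def AltLayer (H : Subgroup G) (a b : G) : Prop :=
  ∃ (N : Subgroup G) (g w : G), AltData H N g w a b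

/-- With the centraliser of some element of `fitCore a` inside, the odd core meets `fitCore a`. -/
theorem AltData.exists_fitCore (hyp : Hyp S t) {H N : Subgroup G} {g w a b : G}
    (d : AltData H N g w a b) (ha : orderOf a = 2) {y : G} (hy : y ∈ fitCore a) (hy1 : y ≠ 1)
    (hyH : Cent y ≤ H) : ∃ x ∈ fitCore a, x ≠ 1 ∧ x ∈ N := by
  by_contra hno
  push Not at hno
  have htriv : ∀ x ∈ fitCore a, x ∈ N → x = 1 := fun x hx hxN => by_contra fun h => hno x hx h hxN
  have hodd : ∀ x ∈ fitCore a, Odd (orderOf x) := fun x hx =>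
    ((hyp.mem_oCore_iff ha).1 (fitCore_le_oCore a hx)).2
  have hca : ∀ x ∈ fitCore a, Commute x a := fun x hx =>
    mem_cent.1 (Hyp.oCore_le_cent a (fitCore_le_oCore a hx))
  have hyN : y ∉ N := fun h => hy1 (htriv y hy h)
  have hy3 : y ^ 3 = 1 :=
    htriv _ (pow_mem hy 3) (d.cube y (hyH (mem_cent.2 rfl)) (hodd y hy) (hca y hy))
  have hcy : ∀ x ∈ fitCore a, Commute x y → x ∈ zpowers y := by
    intro x hx hxy
    obtain ⟨i, hi⟩ := d.small x (hyH (mem_cent.2 hxy.eq)) y (hyH (mem_cent.2 rfl)) (hodd x hx)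
      (hodd y hy) (hca x hx) (hca y hy) hxy hyN
    have := htriv _ (mul_mem hx (zpow_mem hy i)) hi
    rw [mul_eq_one_iff_eq_inv, ← zpow_neg] at this
    exact this ▸ zpow_mem (mem_zpowers y) _
  -- `fitCore a` is generated by `y`
  haveI : Fact (Nat.Prime 3) := ⟨Nat.prime_three⟩
  have hoy : orderOf y = 3 := orderOf_eq_prime hy3 hy1
  haveI : Group.IsNilpotent (fitCore a) := Group.nilpotent_of_surjective
    ((Cfsg.fittingSubgroup ↥(oCore a)).equivMapOfInjective (oCore a).subtype
      (oCore a).subtype_injective).toMonoidHom (MulEquiv.surjective _)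
  haveI : Nontrivial (fitCore a) := (nontrivial_iff_ne_bot _).2 fun h => hy1 (mem_bot.1 (h ▸ hy))
  obtain ⟨c, hc, hc1⟩ : ∃ c ∈ center (fitCore a), c ≠ 1 := by
    have hz : center (fitCore a) ≠ ⊥ := fun e =>
      Solvable.inf_center_ne_bot (G := fitCore a) (N := ⊤) top_ne_bot (by rw [e, inf_bot_eq])
    by_contra h
    push Not at h
    exact hz ((Subgroup.eq_bot_iff_forall _).2 h)
  have hle : fitCore a ≤ zpowers y := by
    have hcz : (c : G) ∈ zpowers y :=
      hcy c c.2 (congrArg Subtype.val (mem_center_iff.1 hc ⟨y, hy⟩)).symm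
    have hgen : zpowers (c : G) = zpowers y := by
      refine eq_of_le_of_card_ge (zpowers_le.2 hcz) ?_
      rw [Nat.card_zpowers, Nat.card_zpowers, hoy]
      have h3 : orderOf (c : G) ∣ 3 := by
        have := Subgroup.orderOf_dvd_natCard _ hcz
        rwa [Nat.card_zpowers, hoy] at this
      rcases (Nat.dvd_prime Nat.prime_three).1 h3 with h | h
      · exact absurd (Subtype.ext (orderOf_eq_one_iff.1 h)) hc1
      · exact h.ge
    intro x hx
    refine hcy x hx ?_
    obtain ⟨i, hi⟩ := mem_zpowers_iff.1 (hgen.ge (mem_zpowers y))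
    rw [← hi]
    exact (show Commute x (c : G) from congrArg Subtype.val (mem_center_iff.1 hc ⟨x, hx⟩)).zpow_right i
  -- so is `oCore a`
  haveI : Group.IsSolvable (oCore a) := S0205.result (hyp.odd_oCore a)
  have hO : oCore a ≤ zpowers y := by
    intro o ho
    have hoc : Commute o y := by
      have hn : o * y * o⁻¹ ∈ zpowers y := hle
        ((mem_normalizer_iff.1 (cent_le_normalizer_fitCore a (Hyp.oCore_le_cent a ho)) y).1 hy)
      have h3 : ∀ z ∈ zpowers y, z = 1 ∨ z = y ∨ z = y⁻¹ := by
        intro z hz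
        obtain ⟨i, rfl⟩ := mem_zpowers_iff.1 hz
        rw [← zpow_mod_orderOf, hoy]
        have : i % 3 = 0 ∨ i % 3 = 1 ∨ i % 3 = 2 := by omega
        rcases this with e | e | e <;> rw [show ((3 : ℕ) : ℤ) = 3 from rfl, e]
        · exact Or.inl (zpow_zero y)
        · exact Or.inr (Or.inl (zpow_one y))
        · refine Or.inr (Or.inr (eq_inv_of_mul_eq_one_left ?_))
          rw [← zpow_add_one]
          exact_mod_cast hy3
      rcases h3 _ hn with e | e | e
      · exact absurd (conj_eq_one_iff.1 e) hy1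
      · exact mul_inv_eq_iff_eq_mul.1 e
      · exfalso
        have h2 : Commute (o ^ 2) y := by
          refine mul_inv_eq_iff_eq_mul.1 ?_
          calc o ^ 2 * y * (o ^ 2)⁻¹ = o * (o * y * o⁻¹) * o⁻¹ := by simp [pow_two, mul_assoc]
            _ = (o * y * o⁻¹)⁻¹ := by conv_lhs => rw [e]
                                      group
            _ = y := by rw [e, inv_inv]
        obtain ⟨j, hj⟩ := (hyp.odd_oCore a).of_dvd_nat (Subgroup.orderOf_dvd_natCard _ ho)
        have h1 : Commute o y := by
          have := h2.pow_left (j + 1)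
          rwa [← pow_mul, show 2 * (j + 1) = orderOf o + 1 by omega, pow_succ, pow_orderOf_eq_one,
            one_mul] at this
        rw [h1.eq, mul_inv_cancel_right, ← mul_eq_one_iff_eq_inv] at e
        have := pow_orderOf_eq_one y
        rw [hoy, pow_succ, pow_two, e, one_mul] at this
        exact hy1 this
    obtain ⟨f, hf, rfl⟩ : ∃ f ∈ Cfsg.fittingSubgroup ↥(oCore a), (f : G) = o := by
      refine ⟨⟨o, ho⟩, Components.centralizer_fittingSubgroup_le ?_, rfl⟩
      refine mem_centralizer_iff.2 fun f hf => Subtype.ext ?_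
      obtain ⟨i, hi⟩ := mem_zpowers_iff.1 (hle ⟨f, hf, rfl⟩)
      show (f : G) * o = o * (f : G)
      rw [show (f : G) = y ^ i from hi.symm]
      exact (hoc.zpow_right i).symm.eq
    exact hle ⟨f, hf, rfl⟩
  have hwo : Odd (orderOf w) :=
    Odd.of_dvd_nat (by decide : Odd 3) (orderOf_dvd_of_pow_eq_one d.w_pow)
  obtain ⟨i, hi⟩ := mem_zpowers_iff.1
    (hO ((hyp.mem_oCore_iff ha).2 ⟨mem_cent.2 (d.fix w d.wN).1.eq, hwo⟩))
  have hgen : zpowers w = zpowers y := by
    refine eq_of_le_of_card_ge (zpowers_le.2 (hi ▸ zpow_mem (mem_zpowers y) i)) ?_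
    rw [Nat.card_zpowers, Nat.card_zpowers, hoy, orderOf_eq_prime d.w_pow d.w_ne]
  exact hyN (zpowers_le.2 d.wN (hgen.ge (mem_zpowers y)))

/-- A layer of type `3·A₇` over the centraliser of an element of `fitCore a` gives a component
configuration. -/
theorem compConfig_of_altLayer (hyp : Hyp S t) {H : Subgroup G} {a b : G} (h : Pair a b)
    (hA : AltLayer H a b) {y : G} (hy : y ∈ fitCore a) (hy1 : y ≠ 1) (hyH : Cent y ≤ H) :
    CompConfig G := by
  obtain ⟨N, g, w, d⟩ := hA
  obtain ⟨x, hx, hx1, hxN⟩ := d.exists_fitCore hyp h.ha hy hy1 hyH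
  exact ⟨a, b, g, x, h, d.cyc, hx, hx1, (d.fix x hxN).2.1.eq, (d.fix x hxN).2.2.eq⟩

end Cfsg.Agent.GW
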