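import Cfsg.Agent.Lib.GW.PartII.FitCore
import Cfsg.Agent.Lib.GW.PartII.AltLayer
import Cfsg.Agent.Lib.Components.GenFitting

/-!
# Part II of Gorenstein-Walter: maximal involution centralisers

Assume that the centralisers of involutions are maximal and that there is no component
configuration.  For commuting involutions `a ≠ b`:

* `inf_fitCore_eq_bot`: `fitCore a ⊓ fitCore b = ⊥`;
* `cent_le_of_fixed`: `Cent y ≤ Cent a` for `y ∈ fitCore a` nontrivial, fixed by `b`;
* `splits`: `Splits a b`.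

The statement about subgroups with a layer is the hypothesis `CycleFixed G`.
-/

set_option autoImplicit false
set_option linter.style.haveILetI false
set_option linter.unusedSectionVars false

namespace Cfsg.Agent.GW

open Subgroup Cfsg.Agent.S1856 Cfsg.Agent.S1312
open BSW (sq_of_order inv_of_order ne_one_of_order order_of_sq mem_cent)
open scoped commutatorElement

universe u

variable {G : Type u} [Group G] [Finite G] {S : Sylow 2 G} {t : G}

/-- A proper subgroup with a layer containing a four group and an odd group `Y` centralised by it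
has a cycle on a four group meeting it, centralised by `Y`, unless the layer is of type `3·A₇`
(`exists_cycle_fixed` in `CompFixed`). -/
def CycleFixed (G : Type u) [Group G] [Finite G] : Prop :=
  ∀ H : Subgroup G, H ≠ ⊤ →
    Cfsg.generalizedFittingSubgroup ↥H ≠ Cfsg.fittingSubgroup ↥H →
    ∀ (a b : G) (h : Pair a b), a ∈ H → b ∈ H →
    ∀ Y : Subgroup G, Odd (Nat.card Y) → Y ≤ H → Y ≤ Cent a ⊓ Cent b →
      (∃ z c g : G, z ∈ h.four ∧ z ≠ 1 ∧ Pair z c ∧ g ∈ H ∧ Cycles g z c ∧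
        ∀ y ∈ Y, y * c = c * y ∧ y * g = g * y) ∨ AltLayer H a b

theorem isCoatom_cent (hyp : Hyp S t) (hM : IsCoatom (Cent t)) {x : G} (hx : orderOf x = 2) :
    IsCoatom (Cent x) := by
  obtain ⟨g, rfl⟩ := isConj_iff.1 (hyp.isConj_t hx).symm
  rw [← map_conj_cent]
  exact ((MulAut.conj g).mapSubgroup.isCoatom_iff (Cent t)).2 hM

theorem card_fitting_cent (hyp : Hyp S t) {a b : G} (ha : orderOf a = 2) (hb : orderOf b = 2) :
    Nat.card ↥(fittingSubgroup ↥(Cent b)) = Nat.card ↥(fittingSubgroup ↥(Cent a)) := by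
  obtain ⟨g, rfl⟩ := isConj_iff.1 (hyp.isConj_invol ha hb)
  rw [← map_conj_cent, card_fitting_map_conj]

theorem mem_normalizer_zpowers_of_commute {y i : G} (h : Commute i y) :
    i ∈ normalizer (zpowers y : Set G) := by
  refine centralizer_le_normalizer _ (mem_centralizer_iff.2 fun w hw => ?_)
  obtain ⟨n, rfl⟩ := mem_zpowers_iff.1 hw
  exact (h.zpow_right n).symm.eq

theorem odd_orderOf_fitCore (hyp : Hyp S t) {x y : G} (hy : y ∈ fitCore x) : Odd (orderOf y) :=
  (hyp.odd_oCore x).of_dvd_nat (Subgroup.orderOf_dvd_natCard _ (fitCore_le_oCore x hy))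

theorem commute_of_fitCore {x y : G} (hy : y ∈ fitCore x) : Commute y x :=
  mem_cent.1 (Hyp.oCore_le_cent x (fitCore_le_oCore x hy))

theorem exists_odd_prime_dvd (hyp : Hyp S t) {x y : G} (hy : y ∈ fitCore x) (hy1 : y ≠ 1) :
    ∃ r : ℕ, r.Prime ∧ r ≠ 2 ∧ r ∣ Nat.card ↥(fittingSubgroup ↥(Cent x)) := by
  obtain ⟨r, hr, hrd⟩ := Nat.exists_prime_and_dvd (fun h => hy1 (orderOf_eq_one_iff.1 h))
  refine ⟨r, hr, fun h2 => ?_,
    dvd_card_fitting_cent (hrd.trans (Subgroup.orderOf_dvd_natCard _ hy))⟩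
  subst h2
  exact Nat.not_even_iff_odd.2 (odd_orderOf_fitCore hyp hy) (even_iff_two_dvd.2 hrd)

theorem exists_max (hyp : Hyp S t) {x y : G} (hy : y ∈ fitCore x) (hy1 : y ≠ 1) :
    ∃ M : Subgroup G, IsCoatom M ∧ normalizer (zpowers y : Set G) ≤ M := by
  haveI := hyp.simple
  rcases eq_top_or_exists_le_coatom (normalizer (zpowers y : Set G)) with h | h
  · exfalso
    rcases (normalizer_eq_top_iff.1 h).eq_bot_or_eq_top with e | e
    · exact hy1 (zpowers_eq_bot.1 e)
    · have hcyc : IsCyclic G := isCyclic_iff_exists_zpowers_eq_top.2 ⟨y, e⟩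
      exact hyp.not_comm ⟨⟨fun u v => by let := IsCyclic.commGroup (α := G); exact mul_comm u v⟩⟩
  · exact h

theorem leadsTo_cent {a y : G} {M : Subgroup G} (hy : y ∈ fitCore a) (hy1 : y ≠ 1)
    (hM : normalizer (zpowers y : Set G) ≤ M) : LeadsTo (Cent a) M (zpowers y) :=
  ⟨zpowers_ne_bot.2 hy1, zpowers_le.2 (fitCore_le_fitOf a hy), inf_le_right.trans hM⟩

theorem coreP_le_cent (hyp : Hyp S t) (hM : IsCoatom (Cent t)) {a y : G} (ha : orderOf a = 2)
    {M : Subgroup G} (hy : y ∈ fitCore a) (hy1 : y ≠ 1)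
    (hle : normalizer (zpowers y : Set G) ≤ M) {q : ℕ} [Fact q.Prime]
    (hq : q ∣ Nat.card ↥(fittingSubgroup ↥(Cent a))) : coreP q M ≤ Cent a := by
  haveI := hyp.simple
  obtain ⟨r, hr, hr2, hrd⟩ := exists_odd_prime_dvd hyp hy hy1
  by_cases h2 : 2 = q
  · haveI := Fact.mk hr
    exact (leadsTo_cent hy hy1 hle).coreP_le (p := r) (isCoatom_cent hyp hM ha)
      (fun e => hr2 (e.trans h2.symm)) hrd hq
  · haveI : Fact (Nat.Prime 2) := ⟨Nat.prime_two⟩
    exact (leadsTo_cent hy hy1 hle).coreP_le (p := 2) (isCoatom_cent hyp hM ha) h2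
      (two_dvd_card_fitting_cent ha) hq

theorem coreP_inverted {a y : G} (ha : orderOf a = 2) {M : Subgroup G} (hy : y ∈ fitCore a)
    (hy1 : y ≠ 1) (hle : normalizer (zpowers y : Set G) ≤ M) {q : ℕ} [Fact q.Prime]
    (hq : ¬ q ∣ Nat.card ↥(fittingSubgroup ↥(Cent a))) :
    ∀ x ∈ coreP q M, a * x * a⁻¹ = x⁻¹ :=
  inverts_of_inf_eq_bot ha
    (le_normalizer_coreP q M (hle (mem_normalizer_zpowers_of_commute (commute_of_fitCore hy).symm)))
    ((leadsTo_cent hy hy1 hle).coreP_inf_eq_bot hq)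

theorem cent_eq_of_fit_le (hyp : Hyp S t) (hM : IsCoatom (Cent t)) {a y : G} (ha : orderOf a = 2)
    {M : Subgroup G} (hMm : IsCoatom M) (hy : y ∈ fitCore a) (hy1 : y ≠ 1)
    (hle : normalizer (zpowers y : Set G) ≤ M)
    (hMF : generalizedFittingSubgroup ↥M = fittingSubgroup ↥M) (hF : fitOf M ≤ Cent a) :
    Cent a = M := by
  haveI := hyp.simple
  obtain ⟨r, hr, hr2, hrd⟩ := exists_odd_prime_dvd hyp hy hy1
  haveI := Fact.mk hr
  haveI : Fact (Nat.Prime 2) := ⟨Nat.prime_two⟩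
  exact eq_of_leadsTo_of_fitOf_le hyp.not_comm (isCoatom_cent hyp hM ha) hMm
    ⟨zpowers y, zpowers_ne_bot.2 hy1, zpowers_le.2 (fitCore_le_fitOf a hy),
      inf_le_right.trans hle⟩ hr2 hrd (two_dvd_card_fitting_cent ha) hMF hF

theorem mem_oCore_of_commute (hyp : Hyp S t) {a x y : G} (ha : orderOf a = 2) (hy : y ∈ fitCore x)
    (hya : Commute y a) : y ∈ oCore a :=
  (hyp.mem_oCore_iff ha).2 ⟨mem_cent.2 hya.eq, odd_orderOf_fitCore hyp hy⟩

/-- A layer in a maximal subgroup yields a component configuration. -/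
theorem compConfig_of_layer (hyp : Hyp S t) (hcf : CycleFixed G) {H : Subgroup G} (hH : H ≠ ⊤)
    (hL : generalizedFittingSubgroup ↥H ≠ fittingSubgroup ↥H) {a b : G} (h : Pair a b)
    (ha : a ∈ H) (hb : b ∈ H) {ya yb yc : G}
    (hya : ya ∈ fitCore a) (hyb : yb ∈ fitCore b) (hyc : yc ∈ fitCore (a * b))
    (h1a : ya ≠ 1) (h1b : yb ≠ 1) (h1c : yc ≠ 1)
    (hab : Commute ya b) (hba : Commute yb a) (hca : Commute yc a)
    (hHa : ya ∈ H) (hHb : yb ∈ H) (hHc : yc ∈ H) (hCa : Cent ya ≤ H) : CompConfig G := by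
  have hcb : Commute yc b := by
    have h1 := hca.mul_right (commute_of_fitCore hyc)
    rwa [← mul_assoc, sq_of_order h.ha, one_mul] at h1
  set Y := closure ({ya, yb, yc} : Set G) with hY
  have hYD : Y ≤ oCore a ⊓ Cent b := by
    rw [hY, closure_le]
    rintro x (rfl | rfl | rfl)
    · exact ⟨fitCore_le_oCore a hya, mem_cent.2 hab.eq⟩
    · exact ⟨mem_oCore_of_commute hyp h.ha hyb hba, mem_cent.2 (commute_of_fitCore hyb).eq⟩
    · exact ⟨mem_oCore_of_commute hyp h.ha hyc hca, mem_cent.2 hcb.eq⟩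
  rcases hcf H hH hL a b h ha hb Y
    ((hyp.odd_oCore a).of_dvd_nat (card_dvd_of_le (hYD.trans inf_le_left)))
    ((closure_le H).2 (by rintro x (rfl | rfl | rfl) <;> assumption))
    (hYD.trans (inf_le_inf_right _ (Hyp.oCore_le_cent a))) with
    ⟨z, c, g, hz, hz1, hp, -, hg, hfix⟩ | hA
  swap
  · exact compConfig_of_altLayer hyp h hA hya h1a hCa
  rcases hz with rfl | rfl | rfl | rfl
  · exact absurd rfl hz1
  · exact ⟨_, c, g, ya, hp, hg, hya, h1a, hfix ya (subset_closure (by simp))⟩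
  · exact ⟨_, c, g, yb, hp, hg, hyb, h1b, hfix yb (subset_closure (by simp))⟩
  · exact ⟨_, c, g, yc, hp, hg, hyc, h1c, hfix yc (subset_closure (by simp))⟩

/-- Distinct commuting involutions have disjoint `fitCore`s. -/
theorem inf_fitCore_eq_bot (hyp : Hyp S t) (hcf : CycleFixed G) (hM : IsCoatom (Cent t))
    (hc : ¬ CompConfig G) {a b : G} (h : Pair a b) : fitCore a ⊓ fitCore b = ⊥ := by
  classical
  haveI : Fact (Nat.Prime 2) := ⟨Nat.prime_two⟩
  haveI := hyp.simple
  refine (Subgroup.eq_bot_iff_forall _).2 fun y₀ hy₀ => by_contra fun hy₀1 => ?_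
  obtain ⟨g, hg⟩ := exists_cycles hyp h
  obtain ⟨y, y₂, hy1, hy21, hya, hyb, hy2a, hy2c, hcomm⟩ :
      ∃ y y₂ : G, y ≠ 1 ∧ y₂ ≠ 1 ∧ y ∈ fitCore a ∧ y ∈ fitCore b ∧ y₂ ∈ fitCore a ∧
        y₂ ∈ fitCore (a * b) ∧ Commute y y₂ := by
    by_cases hAB : ∃ y, y ≠ 1 ∧ y ∈ fitCore a ∧ y ∈ fitCore b ∧ y ∈ fitCore (a * b)
    · obtain ⟨y, h1, h2, h3, h4⟩ := hAB
      exact ⟨y, y, h1, h1, h2, h3, h2, h4, Commute.refl y⟩
    have h1 := conj_mem_fitCore (conj_mem_fitCore hy₀.1 g) g
    have h2 := conj_mem_fitCore (conj_mem_fitCore hy₀.2 g) g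
    rw [hg.left, hg.right] at h1
    rw [hg.right, hg.third h] at h2
    refine ⟨y₀, _, hy₀1, fun e => hy₀1 (conj_eq_one_iff.1 (conj_eq_one_iff.1 e)),
      hy₀.1, hy₀.2, h2, h1, ?_⟩
    set y₂ := g * (g * y₀ * g⁻¹) * g⁻¹
    by_contra hne
    refine hAB ⟨y₀ * y₂ * y₀⁻¹ * y₂⁻¹, fun e => hne (mul_inv_eq_iff_eq_mul.1 (mul_inv_eq_one.1 e)),
      mul_mem (mul_mem (mul_mem hy₀.1 h2) (inv_mem hy₀.1)) (inv_mem h2), ?_, ?_⟩
    · have hy2b : Commute y₂ b := by
        have := (commute_of_fitCore h2).mul_right (commute_of_fitCore h1)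
        rwa [← mul_assoc, sq_of_order h.ha, one_mul] at this
      rw [show y₀ * y₂ * y₀⁻¹ * y₂⁻¹ = y₀ * (y₂ * y₀⁻¹ * y₂⁻¹) by group]
      exact mul_mem hy₀.2
        ((mem_normalizer_iff.1 (cent_le_normalizer_fitCore b (mem_cent.2 hy2b.eq)) _).1 (inv_mem hy₀.2))
    · exact mul_mem ((mem_normalizer_iff.1 (cent_le_normalizer_fitCore (a * b)
        (mem_cent.2 ((commute_of_fitCore hy₀.1).mul_right (commute_of_fitCore hy₀.2)).eq)) _).1 h1)
        (inv_mem h1)
  obtain ⟨M, hMm, hle⟩ := exists_max hyp hya hy1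
  have haM : a ∈ M := hle (mem_normalizer_zpowers_of_commute (commute_of_fitCore hya).symm)
  have hbM : b ∈ M := hle (mem_normalizer_zpowers_of_commute (commute_of_fitCore hyb).symm)
  have hy2M : y₂ ∈ M := hle (mem_normalizer_zpowers_of_commute hcomm.symm)
  by_cases hMF : generalizedFittingSubgroup ↥M = fittingSubgroup ↥M
  swap
  · exact hc (compConfig_of_layer hyp hcf hMm.1 hMF h haM hbM hya hyb hy2c hy1 hy1 hy21
      (commute_of_fitCore hyb) (commute_of_fitCore hya) (commute_of_fitCore hy2a)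
      (hle (le_normalizer (mem_zpowers y))) (hle (le_normalizer (mem_zpowers y))) hy2M
      fun x hx => hle (mem_normalizer_zpowers_of_commute (mem_cent.1 hx)))
  have hπ := card_fitting_cent hyp h.ha h.hb
  by_cases hall : ∀ q : ℕ, q.Prime → q ∣ Nat.card ↥(fittingSubgroup ↥M) →
      q ∣ Nat.card ↥(fittingSubgroup ↥(Cent a))
  · have hFa : fitOf M ≤ Cent a := (fit_le_iff M _).2 fun q hq hd => by
      haveI := Fact.mk hq
      exact coreP_le_cent hyp hM h.ha hya hy1 hle (hall q hq hd)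
    have hFb : fitOf M ≤ Cent b := (fit_le_iff M _).2 fun q hq hd => by
      haveI := Fact.mk hq
      exact coreP_le_cent hyp hM h.hb hyb hy1 hle (hπ ▸ hall q hq hd)
    have ea := cent_eq_of_fit_le hyp hM h.ha hMm hya hy1 hle hMF hFa
    have eb := cent_eq_of_fit_le hyp hM h.hb hMm hyb hy1 hle hMF hFb
    have hgN : g ∈ normalizer (Cent a : Set G) := by
      rw [mem_normalizer_iff_map_conj_eq]
      exact (map_conj_cent a g).trans (by rw [hg.left, eb, ea])
    rw [normalizer_eq_of_le (isCoatom_cent hyp hM h.ha) le_rfl le_normalizer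
      (fun e => ne_one_of_order h.ha (mem_bot.1 (e ▸ (mem_cent.2 rfl : a ∈ Cent a))))] at hgN
    have := hg.left
    rw [mem_cent.1 hgN, mul_inv_cancel_right] at this
    exact h.ne this
  push Not at hall
  obtain ⟨q, hq, hqd, hqn⟩ := hall
  haveI := Fact.mk hq
  have hK1 : coreP q M ≠ ⊥ := (dvd_card_fit_iff M).1 hqd
  have hinv : ∀ r : ℕ, r.Prime → ¬ r ∣ Nat.card ↥(fittingSubgroup ↥(Cent a)) →
      ∀ x ∈ coreP r M, a * x * a⁻¹ = x⁻¹ ∧ b * x * b⁻¹ = x⁻¹ := fun r hr hn x hx => by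
    haveI := Fact.mk hr
    exact ⟨coreP_inverted h.ha hya hy1 hle hn x hx,
      coreP_inverted h.hb hyb hy1 hle (by rwa [hπ]) x hx⟩
  have hcen : fitOf M ≤ Cent (a * b) := (fit_le_iff M _).2 fun r hr _ x hx => by
    haveI := Fact.mk hr
    by_cases hd : r ∣ Nat.card ↥(fittingSubgroup ↥(Cent a))
    · exact mem_cent.2 ((show Commute x a from
          mem_cent.1 (coreP_le_cent hyp hM h.ha hya hy1 hle hd hx)).mul_right
        (show Commute x b from mem_cent.1 (coreP_le_cent hyp hM h.hb hyb hy1 hle (hπ ▸ hd) hx))).eq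
    · obtain ⟨e1, e2⟩ := hinv r hr hd x hx
      refine mem_cent.2 (mul_inv_eq_iff_eq_mul.1 ?_).symm
      rw [show a * b * x * (a * b)⁻¹ = a * (b * x * b⁻¹) * a⁻¹ by group, e2,
        show a * x⁻¹ * a⁻¹ = (a * x * a⁻¹)⁻¹ by group, e1, inv_inv]
  have habM : a * b ∈ M := mul_mem haM hbM
  have habF : a * b ∈ fitOf M := by
    refine ⟨⟨a * b, habM⟩, ?_, rfl⟩
    rw [← hMF]
    refine Components.centralizer_generalizedFittingSubgroup_le (mem_centralizer_iff.2 fun z hz => ?_)
    exact Subtype.ext (mem_cent.1 (hcen ⟨z, hMF ▸ hz, rfl⟩))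
  have hab2 : a * b ∈ coreP 2 M := mem_coreP_of_pow (k := 1) habF (by rw [pow_one, pow_two]; exact h.mul_sq)
  have h2a := coreP_le_cent hyp hM h.ha hya hy1 hle (two_dvd_card_fitting_cent h.ha)
  have h2b := coreP_le_cent hyp hM h.hb hyb hy1 hle (two_dvd_card_fitting_cent h.hb)
  have hMab : M ≤ Cent (a * b) := by
    intro m hm
    have hi := (mem_normalizer_iff.1 (le_normalizer_coreP 2 M hm) _).1 hab2
    have hio : orderOf (m * (a * b) * m⁻¹) = 2 :=
      (MulEquiv.orderOf_eq (MulAut.conj m) _).trans h.order_mul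
    have hnot : ∀ v : G, (∀ x ∈ coreP q M, v * x * v⁻¹ = x⁻¹) → m * (a * b) * m⁻¹ ≠ v := by
      intro v hv e
      refine hK1 ((Subgroup.eq_bot_iff_forall _).2 fun x hx => ?_)
      have hx' : m⁻¹ * x * m ∈ coreP q M := by
        have := (mem_normalizer_iff.1 (le_normalizer_coreP q M (inv_mem hm)) x).1 hx
        rwa [inv_inv] at this
      have e1 : m * (a * b) * m⁻¹ * x * (m * (a * b) * m⁻¹)⁻¹ = x := by
        have e3 : m⁻¹ * x * m * (a * b) = a * b * (m⁻¹ * x * m) :=
          mem_cent.1 (hcen (map_mono (Components.pCore_le_fittingSubgroup hq) hx'))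
        calc m * (a * b) * m⁻¹ * x * (m * (a * b) * m⁻¹)⁻¹
            = m * (a * b * (m⁻¹ * x * m)) * (a * b)⁻¹ * m⁻¹ := by group
          _ = m * (m⁻¹ * x * m * (a * b)) * (a * b)⁻¹ * m⁻¹ := by rw [e3]
          _ = x := by group
      rw [e, hv x hx] at e1
      have hq2 : q ≠ 2 := fun e2 => hqn (e2 ▸ two_dvd_card_fitting_cent h.ha)
      obtain ⟨j, hj⟩ := (isPGroup_coreP q M) ⟨x, hx⟩
      have hd : orderOf x ∣ q ^ j := orderOf_dvd_of_pow_eq_one (by simpa using congrArg Subtype.val hj)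
      refine orderOf_eq_one_iff.1 (Nat.eq_one_of_dvd_coprimes
        (((Nat.coprime_primes Nat.prime_two hq).2 (Ne.symm hq2)).pow_right j) ?_ hd)
      refine orderOf_dvd_of_pow_eq_one ?_
      rw [pow_two]
      nth_rewrite 1 [← e1]
      exact inv_mul_cancel x
    rcases hyp.mem_four_of_commute h hio (mem_cent.1 (h2a hi)) (mem_cent.1 (h2b hi)) with e | e | e | e
    · exact absurd e (ne_one_of_order hio)
    · exact absurd e (hnot a fun x hx => (hinv q hq hqn x hx).1)
    · exact absurd e (hnot b fun x hx => (hinv q hq hqn x hx).2)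
    · exact mem_cent.2 (mul_inv_eq_iff_eq_mul.1 e)
  have heq : M = Cent (a * b) :=
    ((hMm.le_iff.1 hMab).resolve_left (isCoatom_cent hyp hM h.order_mul).1).symm
  rw [heq, card_fitting_cent hyp h.ha h.order_mul] at hqd
  exact hqn hqd

/-- The fixed points of `b` on `fitCore a` and of `a` on `fitCore b` commute. -/
theorem commute_fixed_fitCore (hyp : Hyp S t) (hcf : CycleFixed G) (hM : IsCoatom (Cent t))
    (hc : ¬ CompConfig G) {a b : G} (h : Pair a b) {y f : G} (hy : y ∈ fitCore a) (hyb : Commute y b)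
    (hf : f ∈ fitCore b) (hfa : Commute f a) : Commute y f := by
  have h1 : y * f * y⁻¹ * f⁻¹ ∈ fitCore a ⊓ fitCore b := by
    refine mem_inf.2 ⟨?_, mul_mem ((mem_normalizer_iff.1 (cent_le_normalizer_fitCore b (mem_cent.2 hyb.eq)) _).1 hf)
      (inv_mem hf)⟩
    rw [show y * f * y⁻¹ * f⁻¹ = y * (f * y⁻¹ * f⁻¹) by group]
    exact mul_mem hy
      ((mem_normalizer_iff.1 (cent_le_normalizer_fitCore a (mem_cent.2 hfa.eq)) _).1 (inv_mem hy))
  rw [inf_fitCore_eq_bot hyp hcf hM hc h, mem_bot, mul_inv_eq_one, mul_inv_eq_iff_eq_mul] at h1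
  exact h1

/-- The centraliser of a nontrivial fixed point of `b` on `fitCore a` lies in `Cent a`. -/
theorem cent_le_of_fixed (hyp : Hyp S t) (hcf : CycleFixed G) (hM : IsCoatom (Cent t))
    (hc : ¬ CompConfig G) {a b : G} (h : Pair a b) {y : G} (hy : y ∈ fitCore a) (hyb : Commute y b)
    (hy1 : y ≠ 1) : Cent y ≤ Cent a := by
  classical
  haveI : Fact (Nat.Prime 2) := ⟨Nat.prime_two⟩
  haveI := hyp.simple
  obtain ⟨g, hg⟩ := exists_cycles hyp h
  obtain ⟨M, hMm, hle⟩ := exists_max hyp hy hy1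
  have hCyM : ∀ i : G, Commute i y → i ∈ M := fun i hi => hle (mem_normalizer_zpowers_of_commute hi)
  have haM : a ∈ M := hCyM a (commute_of_fitCore hy).symm
  have hbM : b ∈ M := hCyM b hyb.symm
  set yb := g * y * g⁻¹ with hybdef
  set yc := g * yb * g⁻¹ with hycdef
  have hyb' : yb ∈ fitCore b := hg.left ▸ conj_mem_fitCore hy g
  have hyc' : yc ∈ fitCore (a * b) := hg.right ▸ conj_mem_fitCore hyb' g
  have hyba : Commute yb a := by
    have h1 : Commute yb (a * b) := by
      rw [← hg.right, hybdef]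
      exact (Commute.map hyb (MulAut.conj g))
    have := h1.mul_right (commute_of_fitCore hyb')
    rwa [mul_assoc, sq_of_order h.hb, mul_one] at this
  have hyca : Commute yc a := by
    rw [hycdef, show a = g * (a * b) * g⁻¹ from (hg.third h).symm]
    have h1 : Commute yb (a * b) := hyba.mul_right (commute_of_fitCore hyb')
    exact Commute.map h1 (MulAut.conj g)
  have hcomb : Commute y yb := commute_fixed_fitCore hyp hcf hM hc h hy hyb hyb' hyba
  have hcomc : Commute y yc := commute_fixed_fitCore hyp hcf hM hc h.left hy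
    ((commute_of_fitCore hy).mul_right hyb) hyc' hyca
  by_cases hMF : generalizedFittingSubgroup ↥M = fittingSubgroup ↥M
  swap
  · exact absurd (compConfig_of_layer hyp hcf hMm.1 hMF h haM hbM hy hyb' hyc' hy1
      (fun e => hy1 (conj_eq_one_iff.1 e))
      (fun e => hy1 (conj_eq_one_iff.1 (conj_eq_one_iff.1 e)))
      hyb hyba hyca (hCyM y (Commute.refl y)) (hCyM _ hcomb.symm) (hCyM _ hcomc.symm)
      fun x hx => hCyM x (mem_cent.1 hx)) hc
  have hfix : ∀ i : G, Pair a i → Commute y i → ∀ q : ℕ, q.Prime →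
      ¬ q ∣ Nat.card ↥(fittingSubgroup ↥(Cent a)) → coreP q M ⊓ Cent i = ⊥ := by
    intro i hi hyi q hq hqn
    haveI := Fact.mk hq
    refine (Subgroup.eq_bot_iff_forall _).2 fun x ⟨hxK, hxi⟩ => ?_
    have hxinv := coreP_inverted hi.ha hy hy1 hle hqn x hxK
    have hqR : ¬ q ∣ Nat.card (fitCore i) := fun hd =>
      hqn (card_fitting_cent hyp hi.ha hi.hb ▸ dvd_card_fitting_cent hd)
    have hq2 : q ≠ 2 := fun e => hqn (e ▸ two_dvd_card_fitting_cent hi.ha)
    obtain ⟨j, hj⟩ := (isPGroup_coreP q M) ⟨x, hxK⟩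
    have hxd : orderOf x ∣ q ^ j := orderOf_dvd_of_pow_eq_one (by simpa using congrArg Subtype.val hj)
    have hxodd : Odd (orderOf x) := (hq.odd_of_ne_two hq2).pow.of_dvd_nat hxd
    have hcop : (orderOf x).Coprime (Nat.card (fitCore i)) :=
      Nat.Coprime.coprime_dvd_left hxd ((hq.coprime_iff_not_dvd.2 hqR).pow_left j)
    have hR : fitCore i ≤ Cent x := by
      refine commute_of_inverted ((hyp.odd_oCore i).of_dvd_nat (card_dvd_of_le (fitCore_le_oCore i)))
        hi.ha (cent_le_normalizer_fitCore i (mem_cent.2 hi.comm))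
        (cent_le_normalizer_fitCore i hxi) hxodd hcop hxinv fun f hf => ?_
      have hfy := commute_fixed_fitCore hyp hcf hM hc hi hy hyi hf.1 (mem_cent.1 hf.2)
      have hfM := hCyM f hfy.symm
      have h1 : f * x * f⁻¹ * x⁻¹ ∈ coreP q M :=
        mul_mem ((mem_normalizer_iff.1 (le_normalizer_coreP q M hfM) x).1 hxK) (inv_mem hxK)
      have h2 : f * x * f⁻¹ * x⁻¹ ∈ fitCore i := by
        rw [show f * x * f⁻¹ * x⁻¹ = f * (x * f⁻¹ * x⁻¹) by group]
        exact mul_mem hf.1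
          ((mem_normalizer_iff.1 (cent_le_normalizer_fitCore i hxi) _).1 (inv_mem hf.1))
      have h3 := eq_one_of_two_groups (isPGroup_coreP q M) (hq.coprime_iff_not_dvd.2 hqR).symm h1 h2
      rw [mul_inv_eq_one, mul_inv_eq_iff_eq_mul] at h3
      exact mem_cent.2 h3
    have hxO : x ∈ oCore i := (hyp.mem_oCore_iff hi.hb).2 ⟨hxi, hxodd⟩
    haveI : Group.IsSolvable (oCore i) := S0205.result (hyp.odd_oCore i)
    have hxF : x ∈ fitCore i := ⟨⟨x, hxO⟩, Components.centralizer_fittingSubgroup_le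
      (mem_centralizer_iff.2 fun z hz =>
        Subtype.ext (mem_cent.1 (hR (mem_map_of_mem (oCore i).subtype hz)))), rfl⟩
    exact orderOf_eq_one_iff.1
      (Nat.eq_one_of_dvd_coprimes hcop dvd_rfl (Subgroup.orderOf_dvd_natCard _ hxF))
  have hF : fitOf M ≤ Cent a := (fit_le_iff M _).2 fun q hq _ => by
    haveI := Fact.mk hq
    by_cases hd : q ∣ Nat.card ↥(fittingSubgroup ↥(Cent a))
    · exact coreP_le_cent hyp hM h.ha hy hy1 hle hd
    intro x hx
    have hbot : coreP q M ⊓ Cent (a * b) = ⊥ :=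
      hfix (a * b) h.left ((commute_of_fitCore hy).mul_right hyb) q hq hd
    have hib := inverts_of_inf_eq_bot h.hb (le_normalizer_coreP q M hbM) (hfix b h hyb q hq hd) x hx
    have hia := coreP_inverted h.ha hy hy1 hle hd x hx
    have hx1 : x ∈ coreP q M ⊓ Cent (a * b) := ⟨hx, mem_cent.2 (by
      refine (mul_inv_eq_iff_eq_mul.1 ?_).symm
      rw [show a * b * x * (a * b)⁻¹ = a * (b * x * b⁻¹) * a⁻¹ by group, hib,
        show a * x⁻¹ * a⁻¹ = (a * x * a⁻¹)⁻¹ by group, hia, inv_inv])⟩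
    rw [hbot, mem_bot] at hx1
    rw [hx1]
    exact one_mem _
  rw [cent_eq_of_fit_le hyp hM h.ha hMm hy hy1 hle hMF hF]
  exact fun i hi => hCyM i (mem_cent.1 hi)

/-- On every primary part of `fitCore a` the involution `b` centralises or inverts. -/
theorem coreP_fixed_or_inverted (hyp : Hyp S t) (hcf : CycleFixed G) (hM : IsCoatom (Cent t))
    (hc : ¬ CompConfig G) {a b : G} (h : Pair a b) {r : ℕ} (hr : r.Prime) :
    coreP r (oCore a) ≤ Cent b ∨ ∀ f ∈ coreP r (oCore a), b * f * b⁻¹ = f⁻¹ := by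
  classical
  obtain ⟨g, hg⟩ := exists_cycles hyp h
  set O := oCore a with hO
  have hbO : b ∈ normalizer (O : Set G) := Hyp.cent_le_normalizer a (mem_cent.2 h.comm.symm)
  haveI := Fact.mk hr
  have hbR : b ∈ normalizer (coreP r O : Set G) :=
    cent_le_normalizer_coreP r a (mem_cent.2 h.comm.symm)
  by_cases hne : coreP r O ⊓ Cent b = ⊥
  · exact Or.inr (inverts_of_inf_eq_bot h.hb hbR hne)
  refine Or.inl ?_
  obtain ⟨y0, hy0, hy01⟩ : ∃ y0, y0 ∈ coreP r O ⊓ Cent b ∧ y0 ≠ 1 := by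
    by_contra hno
    push Not at hno
    exact hne ((Subgroup.eq_bot_iff_forall _).2 hno)
  have hy0F : y0 ∈ fitCore a := map_mono (Components.pCore_le_fittingSubgroup hr) hy0.1
  set y := g * y0 * g⁻¹ with hydef
  have hyF : y ∈ fitCore b := hg.left ▸ conj_mem_fitCore hy0F g
  have hya : Commute y a := by
    have h1 : Commute y (a * b) := by
      rw [← hg.right, hydef]
      exact Commute.map (mem_cent.1 hy0.2) (MulAut.conj g)
    have := h1.mul_right (commute_of_fitCore hyF)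
    rwa [mul_assoc, sq_of_order h.hb, mul_one] at this
  have hy1 : y ≠ 1 := fun e => hy01 (conj_eq_one_iff.1 e)
  have hcy := cent_le_of_fixed hyp hcf hM hc h.symm hyF hya hy1
  have hyp' : IsPGroup r (zpowers y) := by
    obtain ⟨j, hj⟩ := (isPGroup_coreP r O) ⟨y0, hy0.1⟩
    have hd : orderOf y ∣ r ^ j := by
      rw [hydef, show g * y0 * g⁻¹ = MulAut.conj g y0 from rfl, MulEquiv.orderOf_eq]
      exact orderOf_dvd_of_pow_eq_one (by simpa using congrArg Subtype.val hj)
    obtain ⟨i, -, hi⟩ := (Nat.dvd_prime_pow hr).1 hd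
    exact IsPGroup.of_card (n := i) (by rw [Nat.card_zpowers, hi])
  have hr2 : r ≠ 2 := by
    rintro rfl
    have h2 : 2 ∣ Nat.card O :=
      ((dvd_card_fit_iff O).2 fun e => hne (by rw [e, bot_inf_eq])).trans (card_subgroup_dvd_card _)
    exact Nat.not_even_iff_odd.2 (hyp.odd_oCore a) (even_iff_two_dvd.2 h2)
  intro c hcR
  refine mem_cent.2 ((Balance.commute_of_commute_fixed (x := b) (isPGroup_coreP r O) hyp'
    (zpowers_le.2 (cent_le_normalizer_coreP r a (mem_cent.2 hya.eq))) hbR ?_ ?_ ?_ c hcR).eq).symm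
  · rw [h.hb]; exact (Nat.coprime_primes Nat.prime_two hr).2 hr2.symm
  · intro w hw
    obtain ⟨n, rfl⟩ := mem_zpowers_iff.1 hw
    exact ((commute_of_fitCore hyF).symm).zpow_right n
  · intro c' _ hc'
    exact (mem_cent.1 (hcy (mem_cent.2 (hc' y (mem_zpowers y)).eq.symm))).symm

/-- `oCore a` splits over the fixed points of `b`. -/
theorem splits (hyp : Hyp S t) (hcf : CycleFixed G) (hM : IsCoatom (Cent t))
    (hc : ¬ CompConfig G) {a b : G} (h : Pair a b) : Splits a b := by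
  classical
  set O := oCore a with hO
  have hbO : b ∈ normalizer (O : Set G) := Hyp.cent_le_normalizer a (mem_cent.2 h.comm.symm)
  -- on every primary part `b` centralises or inverts
  have hdich : ∀ r : ℕ, r.Prime → coreP r O ≤ Cent b ∨ ∀ f ∈ coreP r O, b * f * b⁻¹ = f⁻¹ :=
    fun r hr => coreP_fixed_or_inverted hyp hcf hM hc h hr
  set B := zpowers b with hB
  set A := ⁅O, B⁆ with hA
  have hBO : B ≤ normalizer (O : Set G) := zpowers_le.2 hbO
  have hAO : A ≤ O := Coprime.commutator_le_left_of_le_normalizer hBO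
  have hcop : (Nat.card B).Coprime (Nat.card O) := by
    rw [hB, Nat.card_zpowers, h.hb]; exact Nat.coprime_two_left.2 (hyp.odd_oCore a)
  have hBs : Group.IsSolvable B := Group.isSolvable_of_comm fun u v => mul_comm' u v
  -- `A` centralises `F(O)`
  have hAF : A ≤ centralizer (fitCore a : Set G) := by
    refine commutator_le.2 fun o ho c hc' => ?_
    obtain ⟨i, rfl⟩ := mem_zpowers_iff.1 hc'
    refine mem_centralizer_iff.2 fun f hf => ?_
    have hle : fitOf O ≤ Cent ⁅o, b ^ i⁆ := (fit_le_iff O _).2 fun r hr _ f hf => by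
      have hoR := cent_le_normalizer_coreP r a (Hyp.oCore_le_cent a ho)
      have hf' : o⁻¹ * f * o ∈ coreP r O := by
        have := (mem_normalizer_iff.1 (inv_mem hoR) f).1 hf
        rwa [inv_inv] at this
      rw [← zpow_mod_orderOf, h.hb]
      rcases Int.emod_two_eq_zero_or_one i with e | e <;> rw [show ((2 : ℕ) : ℤ) = 2 from rfl, e]
      · rw [zpow_zero, commutatorElement_one_right]; exact mem_cent.2 (by rw [mul_one, one_mul])
      rw [zpow_one, commutatorElement_def]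
      refine mem_cent.2 (mul_inv_eq_iff_eq_mul.1 ?_).symm
      rcases hdich r hr with hd | hd
      · have e1 : b⁻¹ * f * b = f := by
          rw [mul_assoc, mem_cent.1 (hd hf)]; group
        have e2 : b * (o⁻¹ * f * o) * b⁻¹ = o⁻¹ * f * o := by
          rw [← mem_cent.1 (hd hf')]; group
        calc o * b * o⁻¹ * b⁻¹ * f * (o * b * o⁻¹ * b⁻¹)⁻¹
            = o * (b * (o⁻¹ * (b⁻¹ * f * b) * o) * b⁻¹) * o⁻¹ := by group
          _ = f := by rw [e1, e2]; group
      · have e1 : b⁻¹ * f * b = f⁻¹ := by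
          have := hd f hf
          rw [inv_of_order h.hb] at this ⊢
          exact this
        have e2 : b * (o⁻¹ * f⁻¹ * o) * b⁻¹ = o⁻¹ * f * o := by
          have hd' := hd _ hf'
          calc b * (o⁻¹ * f⁻¹ * o) * b⁻¹ = (b * (o⁻¹ * f * o) * b⁻¹)⁻¹ := by group
            _ = o⁻¹ * f * o := by rw [hd', inv_inv]
        calc o * b * o⁻¹ * b⁻¹ * f * (o * b * o⁻¹ * b⁻¹)⁻¹
            = o * (b * (o⁻¹ * (b⁻¹ * f * b) * o) * b⁻¹) * o⁻¹ := by group
          _ = f := by rw [e1, e2]; group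
    exact mem_cent.1 (hle hf)
  haveI : Group.IsSolvable O := S0205.result (hyp.odd_oCore a)
  have hAle : A ≤ fitCore a := fun x hx => ⟨⟨x, hAO hx⟩, Components.centralizer_fittingSubgroup_le
    (mem_centralizer_iff.2 fun z hz => Subtype.ext
      (mem_centralizer_iff.1 (hAF hx) (z : G) (mem_map_of_mem O.subtype hz))), rfl⟩
  haveI : IsMulCommutative A :=
    ⟨⟨fun u v => Subtype.ext ((mem_centralizer_iff.1 (hAF u.2) v (hAle v.2)).symm)⟩⟩
  have hBA : B ≤ normalizer (A : Set G) := normalizer_commutator_ge_right O B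
  have hfixed : A ⊓ Cent b = ⊥ := by
    have h1 := Coprime.inf_centralizer_inf_commutator_eq_bot (A := B) (V := A) hBA
      (hcop.coprime_dvd_right (card_dvd_of_le hAO))
    rw [hA, Coprime.commutator_commutator_eq hBO hcop (Or.inl hBs)] at h1
    refine le_bot_iff.1 fun x hx => h1.le ⟨⟨hx.1, ?_⟩, hx.1⟩
    refine mem_centralizer_iff.2 fun w hw => ?_
    obtain ⟨n, rfl⟩ := mem_zpowers_iff.1 hw
    exact ((show Commute x b from mem_cent.1 hx.2).zpow_right n).symm.eq
  refine ⟨A, hAle, normalizer_commutator_ge_left O B,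
    inverts_of_inf_eq_bot h.hb (hBA (mem_zpowers b)) hfixed,
    le_bot_iff.1 fun x hx => hfixed.le ⟨hx.1, hx.2.2⟩, le_antisymm (sup_le hAO inf_le_left) ?_⟩
  intro x hx
  have hmem : x ∈ A ⊔ (O ⊓ centralizer (B : Set G)) := by
    rw [hA, Coprime.commutator_sup_centralizer hBO hcop (Or.inl hBs)]; exact hx
  refine (sup_le_sup_left (inf_le_inf_left O ?_) A) hmem
  exact centralizer_le (Set.singleton_subset_iff.2 (mem_zpowers b))

end Cfsg.Agent.GW
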