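import Cfsg.Agent.Lib.GW.PartII.CompQuot
import Cfsg.Agent.Lib.GW.PartII.AltLayer
import Cfsg.Agent.Lib.GW.PartII.MaxCentral
import Cfsg.Agent.S2086
import Cfsg.Agent.S4203

/-!
# Cycles fixed by odd groups centralising a four group of a component

`exists_cycle_fixed`: in a proper subgroup `H` with a layer, a group of odd order centralising the
four group of `a`, `b` centralises a cycle on a four group meeting it, unless the layer is of type
`3·A₇` at that four group (`AltLayer`).  `exists_cycle_fixed_same`: if `a`, `b` lie in the layer the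
cycle is on their four group.
-/

set_option autoImplicit false
set_option linter.style.haveILetI false
set_option linter.unusedSectionVars false

namespace Cfsg.Agent.GW

open Subgroup CompAut Cfsg.Agent.S1856
open BSW (sq_of_order inv_of_order ne_one_of_order order_of_sq mem_cent)
open scoped commutatorElement

universe u

section Layer

variable {X : Type u} [Group X] [Finite X]

/-- The structure modulo the odd core of a group with a layer. -/
theorem exists_simple_quotient (hd : SubDihedral X) (hk : KnownSections X)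
    (hL : Cfsg.layer X ≠ ⊥) :
    ∃ E : Subgroup (X ⧸ Cfsg.oddCore X), E.Normal ∧ IsSimpleGroup E ∧ IsKnown E ∧
      centralizer (E : Set (X ⧸ Cfsg.oddCore X)) = ⊥ := by
  haveI : Fact (Nat.Prime 2) := ⟨Nat.prime_two⟩
  have hsol : ∀ _ : Group.IsSolvable (X ⧸ Cfsg.oddCore X), False := by
    intro hs
    refine hL ?_
    haveI := hs
    haveI : Group.IsSolvable (Cfsg.oddCore X) := S0205.result PCore.odd_card_oddCore
    haveI : Group.IsSolvable X := Group.isSolvable_of_ker_le_range (Cfsg.oddCore X).subtype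
      (QuotientGroup.mk' (Cfsg.oddCore X)) (by rw [QuotientGroup.ker_mk', range_subtype])
    exact Components.layer_eq_bot_of_isSolvable
  have h24 : ∀ (Z : Type) [Group Z] [Finite Z], Group.IsSolvable Z →
      (X ⧸ Cfsg.oddCore X ≃* Z) → False := fun Z _ _ hZ e =>
    hsol (haveI := hZ; Group.isSolvable_of_isSolvable_injective (f := e.toMonoidHom) e.injective)
  rcases structure_mod_oddCore hd hk with h2 | ⟨⟨e⟩⟩ | ⟨⟨e⟩⟩ | hE
  · haveI := h2.isNilpotent
    exact (hsol inferInstance).elim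
  · haveI : Group.IsSolvable (Equiv.Perm (Fin 4)) := Cfsg.Agent.S4203.solvable_perm_four
    exact (h24 _ inferInstance e).elim
  · exact (h24 _ Cfsg.Agent.S4203.solvable_perm_four e).elim
  · exact hE

variable {E : Subgroup (X ⧸ Cfsg.oddCore X)}

local notation "π" => QuotientGroup.mk' (Cfsg.oddCore X)

/-- The layer maps into `E`. -/
theorem map_layer_le_simple [hEn : E.Normal] (hC : centralizer (E : Set (X ⧸ Cfsg.oddCore X)) = ⊥) :
    (Cfsg.layer X).map π ≤ E := by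
  haveI : (Cfsg.oddCore X).Normal := PCore.pPrimeCore_normal
  rw [map_le_iff_le_comap]
  refine sSup_le fun K hK => map_le_iff_le_comap.1 ?_
  by_cases hne : K.map π = ⊥
  · rw [hne]; exact bot_le
  rcases Components.IsComponent.le_or_commutator_eq_bot_of_normal
    (Components.IsComponent.map_of_surjective hK (QuotientGroup.mk'_surjective _) hne) E with h | h
  · exact h
  · refine absurd (le_bot_iff.1 ?_) hne
    exact hC ▸ Components.le_centralizer_of_commutator_eq_bot h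

/-- A perfect normal subgroup over `E`, centralising the odd core. -/
theorem exists_cover [hEn : E.Normal] [hEs : IsSimpleGroup E] (hk : IsKnown E)
    (hC : centralizer (E : Set (X ⧸ Cfsg.oddCore X)) = ⊥) (hL : Cfsg.layer X ≠ ⊥) :
    ∃ L₀ : Subgroup X, L₀.Normal ∧ L₀ ≤ Cfsg.layer X ∧
      (∀ x ∈ L₀, ∀ o ∈ Cfsg.oddCore X, Commute x o) ∧ L₀.map π = E ∧ (⁅L₀, L₀⁆).map π = E := by
  haveI : (Cfsg.oddCore X).Normal := PCore.pPrimeCore_normal
  haveI : (Cfsg.layer X).Normal := inferInstance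
  haveI : Group.IsSolvable (Cfsg.oddCore X) := S0205.result PCore.odd_card_oddCore
  have hOsub : (Cfsg.oddCore X).IsSubnormal := Subgroup.Normal.isSubnormal inferInstance
  have hcom := Components.commutator_layer_eq_bot_of_isSolvable hOsub
  have hnle : ¬ Cfsg.layer X ≤ Cfsg.oddCore X := by
    intro hle
    refine hL (le_bot_iff.1 ?_)
    calc Cfsg.layer X = ⁅Cfsg.layer X, Cfsg.layer X⁆ := Components.commutator_layer_self.symm
      _ ≤ ⁅Cfsg.layer X, Cfsg.oddCore X⁆ := commutator_mono le_rfl hle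
      _ = ⊥ := hcom
  have hE' : E ≤ (Cfsg.layer X).map π := by
    haveI : ((Cfsg.layer X).map π).Normal :=
      (inferInstance : (Cfsg.layer X).Normal).map _ (QuotientGroup.mk'_surjective _)
    rcases hEs.eq_bot_or_eq_top_of_normal (((Cfsg.layer X).map π).subgroupOf E) inferInstance with h | h
    · exfalso
      rw [subgroupOf_eq_bot, disjoint_iff] at h
      refine hnle fun x hx => ?_
      have h1 : π x ∈ centralizer (E : Set (X ⧸ Cfsg.oddCore X)) := by
        refine mem_centralizer_iff.2 fun e he => ?_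
        have hmem : e * π x * e⁻¹ * (π x)⁻¹ ∈ (Cfsg.layer X).map π ⊓ E := by
          refine mem_inf.2 ⟨mul_mem ((inferInstance : ((Cfsg.layer X).map π).Normal).conj_mem _
            (mem_map_of_mem (π) hx) e) (inv_mem (mem_map_of_mem (π) hx)), ?_⟩
          rw [mul_assoc, mul_assoc]
          refine mul_mem he ?_
          rw [← mul_assoc]
          exact hEn.conj_mem _ (inv_mem he) _
        rw [h, mem_bot] at hmem
        exact mul_inv_eq_iff_eq_mul.1 (mul_inv_eq_one.1 hmem)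
      rw [hC, mem_bot] at h1
      rwa [QuotientGroup.mk'_apply, QuotientGroup.eq_one_iff] at h1
    · exact subgroupOf_eq_top.1 h
  set L₀ := Cfsg.layer X ⊓ E.comap π with hL₀
  have hmap : L₀.map π = E := by
    refine le_antisymm (map_le_iff_le_comap.2 inf_le_right) fun e he => ?_
    obtain ⟨l, hl, rfl⟩ := hE' he
    exact ⟨l, ⟨hl, he⟩, rfl⟩
  refine ⟨L₀, inferInstance, inf_le_left, fun x hx o ho => ?_, hmap, ?_⟩
  · exact commutatorElement_eq_one_iff_commute.1 (mem_bot.1 (hcom ▸ commutator_mem_commutator hx.1 ho))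
  · rw [Subgroup.map_commutator, hmap]
    rcases hEs.eq_bot_or_eq_top_of_normal (_root_.commutator E) inferInstance with h | h
    · exact absurd ⟨⟨fun u v => commutatorElement_eq_one_iff_commute.1
        (mem_bot.1 (h ▸ commutator_mem_commutator (mem_top u) (mem_top v)))⟩⟩ hk.not_comm
    · have := map_subtype_commutator E
      rw [h, ← MonoidHom.range_eq_map, range_subtype] at this
      exact this.symm

/-- The commutator kernel over `PSL₂(q)`, `q ≠ 9`, is trivial. -/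
theorem eq_one_of_kernel {q : ℕ} (hq : IsPSLTwo E q) (h9 : q ≠ 9) {L₀ : Subgroup X}
    (hLO : ∀ x ∈ L₀, ∀ o ∈ Cfsg.oddCore X, Commute x o) (hmap : L₀.map π = E) {d : X}
    (hd : d ∈ ⁅L₀, L₀⁆) (hdO : d ∈ Cfsg.oddCore X) : d = 1 := by
  obtain ⟨F, iF, iF', hodd, h3, hcard, ⟨e⟩⟩ := hq
  have hM := Cfsg.Agent.S2086.result (F := F) hcard 2 le_rfl (fun _ => by omega) (by
    simp only [Set.mem_insert_iff, Set.mem_singleton_iff, Prod.mk.injEq]
    obtain ⟨j, hj⟩ := hodd
    omega)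
  have hg : Nat.gcd 2 (q - 1) = 2 := Nat.gcd_eq_left (by obtain ⟨j, hj⟩ := hodd; omega)
  rw [hg] at hM
  let σ : L₀ →* Matrix.ProjectiveSpecialLinearGroup (Fin 2) F :=
    e.toMonoidHom.comp (((π).comp L₀.subtype).codRestrict E fun x => hmap ▸ ⟨x, x.2, rfl⟩)
  have hσ : Function.Surjective σ := fun w => by
    obtain ⟨l, hl, he⟩ : ((e.symm w : E) : X ⧸ Cfsg.oddCore X) ∈ L₀.map π := hmap.symm ▸ (e.symm w).2
    refine ⟨⟨l, hl⟩, ?_⟩
    show e _ = w
    rw [← e.eq_symm_apply]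
    exact Subtype.ext he
  have hker : ∀ x : L₀, x ∈ σ.ker → (x : X) ∈ Cfsg.oddCore X := fun x hx => by
    have h1 := congrArg Subtype.val (e.map_eq_one_iff.1 hx)
    exact (QuotientGroup.eq_one_iff _).1 h1
  have hz : σ.ker ≤ center L₀ := fun x hx => mem_center_iff.2 fun y =>
    Subtype.ext (hLO y y.2 x (hker x hx)).eq
  obtain ⟨f, hf⟩ := Cfsg.Agent.Schur.exists_surjective_of_central hM σ hσ hz
  have hdL : d ∈ L₀ := commutator_le_self L₀ hd
  have hmem : (⟨d, hdL⟩ : L₀) ∈ σ.ker ⊓ _root_.commutator L₀ := by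
    refine ⟨e.map_eq_one_iff.2 (Subtype.ext ((QuotientGroup.eq_one_iff _).2 hdO)), ?_⟩
    rw [← map_subtype_commutator] at hd
    obtain ⟨w, hw, hwd⟩ := hd
    exact (show w = ⟨d, hdL⟩ from Subtype.ext hwd) ▸ hw
  obtain ⟨m, hm⟩ := hf ⟨_, hmem⟩
  have hm2 : m * m = 1 := by
    have key : ∀ n : Multiplicative (ZMod 2), n * n = 1 := by decide
    exact key m
  have h2 : d * d = 1 := by
    have := congrArg (fun w : ↥(σ.ker ⊓ _root_.commutator L₀) => ((w : L₀) : X)) (congrArg f hm2)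
    simpa [hm] using this
  exact eq_one_of_sq (PCore.odd_card_oddCore.of_dvd_nat (Subgroup.orderOf_dvd_natCard _ hdO)) h2

/-- Involutions over `E` lift uniquely. -/
theorem exists_lift_invol {L : Subgroup X} (hmap : L.map π = E) {c : X ⧸ Cfsg.oddCore X}
    (hc : orderOf c = 2) (hcE : c ∈ E) : ∃ l ∈ L, orderOf l = 2 ∧ π l = c := by
  obtain ⟨l, hl, rfl⟩ := hmap.ge hcE
  obtain ⟨j, hj⟩ := PCore.odd_card_oddCore (G := X)
  have h1 : l * l ∈ Cfsg.oddCore X :=
    (QuotientGroup.eq_one_iff _).1 ((map_mul π l l).trans (sq_of_order hc))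
  refine ⟨l ^ Nat.card (Cfsg.oddCore X), pow_mem hl _, order_of_sq ?_ ?_, ?_⟩
  · rw [← pow_add, ← two_mul, pow_mul, pow_two]
    exact congrArg Subtype.val (pow_card_eq_one' (x := (⟨l * l, h1⟩ : Cfsg.oddCore X)))
  · intro h
    apply ne_one_of_order hc
    have h2 := congrArg π h
    rw [map_pow, map_one, hj, pow_succ, pow_mul, pow_two, sq_of_order hc, one_pow, one_mul] at h2
    exact h2
  · rw [map_pow, hj, pow_succ, pow_mul, pow_two, sq_of_order hc, one_pow, one_mul]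

theorem eq_of_invol {l l' : X} (hl : orderOf l = 2) (hl' : orderOf l' = 2)
    (hcom : ∀ o ∈ Cfsg.oddCore X, Commute l o) (he : π l = π l') : l' = l := by
  have ho : l⁻¹ * l' ∈ Cfsg.oddCore X := QuotientGroup.eq.1 he
  have hc := hcom _ ho
  have h2 : (l⁻¹ * l') * (l⁻¹ * l') = 1 := by
    calc (l⁻¹ * l') * (l⁻¹ * l') = l⁻¹ * (l⁻¹ * l' * l) * (l⁻¹ * l') := by
          rw [show l⁻¹ * l' * l = l * (l⁻¹ * l') from hc.symm.eq]; group
      _ = l⁻¹ * l⁻¹ * (l' * l') := by group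
      _ = 1 := by rw [inv_of_order hl, sq_of_order hl, sq_of_order hl', one_mul]
  exact (inv_mul_eq_one.1 (eq_one_of_sq
    (PCore.odd_card_oddCore.of_dvd_nat (Subgroup.orderOf_dvd_natCard _ ho)) h2)).symm

end Layer

variable {G : Type u} [Group G] [Finite G] {S : Sylow 2 G} {t : G}

/-- **Cycles fixed by `Y`**, with the location of the four group. -/
theorem exists_cycle_fixed_aux (hyp : Hyp S t) (hk : ProperKnown G) {H : Subgroup G} (hH : H ≠ ⊤)
    (hL : Cfsg.generalizedFittingSubgroup ↥H ≠ Cfsg.fittingSubgroup ↥H) {a b : G} (h : Pair a b)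
    (ha : a ∈ H) (hb : b ∈ H) {Y : Subgroup G} (hY : Odd (Nat.card Y)) (hYH : Y ≤ H)
    (hYc : Y ≤ Cent a ⊓ Cent b) :
    (∃ z c g : G, z ∈ h.four ∧ z ≠ 1 ∧ Pair z c ∧ g ∈ H ∧ Cycles g z c ∧
      (∀ y ∈ Y, y * c = c * y ∧ y * g = g * y) ∧ (a ∈ layOf H → b ∈ layOf H → z = a ∧ c = b)) ∨
    AltLayer H a b := by
  classical
  haveI : Fact (Nat.Prime 2) := ⟨Nat.prime_two⟩
  haveI : (Cfsg.oddCore H).Normal := PCore.pPrimeCore_normal
  set O := Cfsg.oddCore H with hO
  set π := QuotientGroup.mk' O with hπ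
  have hd := hyp.subDihedral H
  have hlay : Cfsg.layer ↥H ≠ ⊥ := fun e => hL (by
    rw [Cfsg.generalizedFittingSubgroup, e, bot_sup_eq])
  obtain ⟨E, hEn, hEs, hEk, hC⟩ := exists_simple_quotient hd (hk H hH) hlay
  haveI := hEn
  haveI := hEs
  obtain ⟨L₀, hL₀n, hL₀L, hLO, hmap₀, hmap₁⟩ := exists_cover hEk hC hlay
  haveI := hL₀n
  set L₁ := ⁅L₀, L₀⁆ with hL₁
  have hL₁₀ : L₁ ≤ L₀ := commutator_le_self L₀
  have hodd' : ∀ o ∈ O, Odd (orderOf o) := fun o ho =>
    PCore.odd_card_oddCore.of_dvd_nat (Subgroup.orderOf_dvd_natCard _ ho)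
  set a' : H := ⟨a, ha⟩
  set b' : H := ⟨b, hb⟩
  have ha' : orderOf a' = 2 := by rw [Subgroup.orderOf_mk]; exact h.ha
  have hb' : orderOf b' = 2 := by rw [Subgroup.orderOf_mk]; exact h.hb
  have hπo : ∀ v : H, orderOf v = 2 → orderOf (π v) = 2 := fun v hv =>
    order_of_sq (by rw [← map_mul, sq_of_order hv, map_one]) fun e => by
      have := hodd' v ((QuotientGroup.eq_one_iff v).1 e)
      rw [hv] at this
      exact absurd this (by decide)
  have hp : Pair (π a') (π b') := by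
    refine ⟨hπo a' ha', hπo b' hb', by rw [← map_mul, ← map_mul]; exact congrArg π (Subtype.ext h.comm),
      fun e => ?_⟩
    have h1 : a'⁻¹ * b' ∈ O := QuotientGroup.eq.1 e
    have h2 : a'⁻¹ * b' = 1 := eq_one_of_sq (hodd' _ h1) (Subtype.ext (by
      show a⁻¹ * b * (a⁻¹ * b) = 1
      rw [inv_of_order h.ha]
      exact h.mul_sq))
    exact h.ne (congrArg Subtype.val (inv_mul_eq_one.1 h2))
  set Y' := (Y.subgroupOf H).map π with hY'
  have hY'o : Odd (Nat.card Y') :=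
    hY.of_dvd_nat ((card_map_dvd _ _).trans (Nat.card_congr (subgroupOfEquivOfLe hYH).toEquiv).dvd)
  have hY'c : Y' ≤ Cent (π a') ⊓ Cent (π b') := by
    rintro _ ⟨y, hy, rfl⟩
    refine ⟨mem_cent.2 ?_, mem_cent.2 ?_⟩ <;> rw [← map_mul, ← map_mul]
    · exact congrArg π (Subtype.ext (mem_cent.1 (hYc hy).1))
    · exact congrArg π (Subtype.ext (mem_cent.1 (hYc hy).2))
  obtain ⟨zq, cq, gq, hz4, hzE, hcE, hgE, hpq, hcycq, hfixq, hsame⟩ :=
    quotient_cycle E hd.quotient_oddCore hEk hC hp hY'o hY'c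
  -- involutions over `E` lie in `L₁`
  have hlift : ∀ v : H, orderOf v = 2 → π v ∈ E → v ∈ L₁ := fun v hv hvE => by
    obtain ⟨l, hl, hlo, hle⟩ := exists_lift_invol hmap₁ (hπo v hv) hvE
    exact eq_of_invol hlo hv (hLO l (hL₁₀ hl)) hle ▸ hl
  have huniq : ∀ l l' : H, l ∈ L₁ → orderOf l = 2 → orderOf l' = 2 → π l = π l' → l' = l :=
    fun l l' hl hlo hlo' e => eq_of_invol hlo hlo' (hLO l (hL₁₀ hl)) e
  obtain ⟨z, hz, hzπ⟩ : ∃ z : G, z ∈ h.four ∧ ∃ hzH : z ∈ H, π ⟨z, hzH⟩ = zq := by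
    rcases hz4 with e | e | e | e
    · exact absurd e (ne_one_of_order hpq.ha)
    · exact ⟨a, h.left_mem, ha, e.symm⟩
    · exact ⟨b, h.right_mem, hb, e.symm⟩
    · exact ⟨a * b, h.four.mul_mem h.left_mem h.right_mem, mul_mem ha hb,
        (show π (a' * b') = zq by rw [map_mul]; exact e.symm)⟩
  obtain ⟨hzH, hzπ⟩ := hzπ
  set z' : H := ⟨z, hzH⟩
  have hz1 : z ≠ 1 := fun e => ne_one_of_order hpq.ha (by
    rw [← hzπ, show z' = 1 from Subtype.ext e, map_one])
  have hzo : orderOf z' = 2 := by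
    rw [Subgroup.orderOf_mk]
    rcases hz with e | e | e | e <;> rw [e]
    · exact absurd e hz1
    · exact h.ha
    · exact h.hb
    · exact h.order_mul
  have hzL : z' ∈ L₁ := hlift z' hzo (hzπ ▸ hzE)
  obtain ⟨c, hcL, hco, hcπ⟩ := exists_lift_invol hmap₁ hpq.hb hcE
  obtain ⟨g, hgL, hgπ⟩ := hmap₁.ge hgE
  have hconj2 : ∀ v w : H, orderOf v = 2 → orderOf (w * v * w⁻¹) = 2 := fun v w hv =>
    (MulEquiv.orderOf_eq (MulAut.conj w) v).trans hv
  haveI : L₁.Normal := inferInstance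
  have hpz : Pair z' c := by
    refine ⟨hzo, hco, ?_, fun e => hpq.ne (by rw [← hzπ, ← hcπ, e])⟩
    refine mul_inv_eq_iff_eq_mul.1 (huniq c (z' * c * z'⁻¹) hcL hco (hconj2 c z' hco) ?_)
    rw [map_mul, map_mul, map_inv, hzπ, hcπ, hpq.comm, mul_inv_cancel_right]
  have hcyc : Cycles g z' c := by
    refine ⟨huniq c _ hcL hco (hconj2 z' g hzo) ?_,
      huniq (z' * c) _ (mul_mem hzL hcL) hpz.order_mul (hconj2 c g hco) ?_⟩
    · rw [map_mul, map_mul, map_inv, hgπ, hzπ, hcπ, hcycq.left]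
    · rw [map_mul, map_mul, map_mul, map_inv, hgπ, hzπ, hcπ, hcycq.right]
  have hpG : Pair z (c : G) := ⟨by rw [← Subgroup.orderOf_mk z hzH]; exact hzo,
    by rw [Subgroup.orderOf_coe]; exact hco, congrArg Subtype.val hpz.comm,
    fun e => hpz.ne (Subtype.ext e)⟩
  have hcycG : Cycles (g : G) z (c : G) :=
    ⟨congrArg Subtype.val hcyc.left, congrArg Subtype.val hcyc.right⟩
  have hfix : ∀ y : H, (y : G) ∈ Y →
      Commute (π y) zq ∧ Commute (π y) cq ∧ Commute (π y) gq := fun y hy => hfixq _ ⟨y, hy, rfl⟩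
  have hyc : ∀ y : H, (y : G) ∈ Y → Commute y c := by
    intro y hy
    refine mul_inv_eq_iff_eq_mul.1 (huniq c _ hcL hco (hconj2 c y hco) ?_)
    rw [map_mul, map_mul, map_inv, hcπ, (hfix y hy).2.1.eq, mul_inv_cancel_right]
  -- the commutator with the cycle
  have hker : ∀ y : H, (y : G) ∈ Y → g * y * g⁻¹ * y⁻¹ ∈ L₁ ∧ g * y * g⁻¹ * y⁻¹ ∈ O := by
    intro y hy
    refine ⟨?_, (QuotientGroup.eq_one_iff _).1 ?_⟩
    · rw [show g * y * g⁻¹ * y⁻¹ = g * (y * g⁻¹ * y⁻¹) by group]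
      exact mul_mem hgL ((inferInstance : L₁.Normal).conj_mem _ (inv_mem hgL) y)
    · show π (g * y * g⁻¹ * y⁻¹) = 1
      rw [map_mul, map_mul, map_mul, map_inv, map_inv, hgπ, ← (hfix y hy).2.2.eq,
        mul_inv_cancel_right, mul_inv_cancel]
  have hsameG : a ∈ layOf H → b ∈ layOf H → π a' ∈ E → π b' ∈ E → z = a ∧ (c : G) = b := by
    intro _ _ h1 h2
    obtain ⟨e1, e2⟩ := hsame h1 h2
    refine ⟨?_, ?_⟩
    · exact congrArg Subtype.val (huniq a' z' (hlift a' ha' h1) ha' hzo (by rw [hzπ, e1]))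
    · exact congrArg Subtype.val (huniq b' c (hlift b' hb' h2) hb' hco (by rw [hcπ, e2]))
  -- involutions of the layer map into `E`
  have hlayE : ∀ v : H, orderOf v = 2 → (v : G) ∈ layOf H → π v ∈ E := by
    intro v hv hvl
    obtain ⟨v₀, hv₀, hv₀'⟩ := hvl
    rw [show v₀ = v from Subtype.ext hv₀'] at hv₀
    exact map_layer_le_simple hC ⟨v, hv₀, rfl⟩
  by_cases hgood : ∀ y : H, (y : G) ∈ Y → Commute y g
  · refine Or.inl ⟨z, c, g, hz, hz1, hpG, g.2, hcycG, fun y hy => ⟨?_, ?_⟩, fun h1 h2 =>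
      hsameG h1 h2 (hlayE a' ha' h1) (hlayE b' hb' h2)⟩
    · exact congrArg Subtype.val (hyc ⟨y, hYH hy⟩ hy).eq
    · exact congrArg Subtype.val (hgood ⟨y, hYH hy⟩ hy).eq
  -- so the layer is of type `3·A₇`
  push Not at hgood
  obtain ⟨y₀, hy₀, hy₀g⟩ := hgood
  obtain ⟨hwL₁, hwO⟩ := hker y₀ hy₀
  set w := g * y₀ * g⁻¹ * y₀⁻¹ with hw
  have hw1 : w ≠ 1 := fun e =>
    hy₀g ((mul_inv_eq_iff_eq_mul.1 (mul_inv_eq_one.1 e)) : Commute g y₀).symm
  rcases known_cases hEk with ⟨q, hq⟩ | ⟨⟨e⟩⟩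
  · exfalso
    by_cases h9 : q = 9
    · subst h9
      set y' := π y₀ with hy'
      have hyE : conjE E y' = 1 := by
        refine hq.eq_one_of_nine (n := orderOf y₀) ?_ (by rw [← map_pow, hy', ← map_pow, pow_orderOf_eq_one, map_one, map_one])
          (z := ⟨zq, hzE⟩) (x := ⟨cq, hcE⟩) ?_ ((conjE_fix_iff E y' _).2 (hfix y₀ hy₀).1)
          ((conjE_fix_iff E y' _).2 (hfix y₀ hy₀).2.1)
        · rw [← Subgroup.orderOf_coe]
          exact hY.of_dvd_nat (Subgroup.orderOf_dvd_natCard Y hy₀)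
        · exact ⟨by rw [Subgroup.orderOf_mk]; exact hpq.ha, by rw [Subgroup.orderOf_mk]; exact hpq.hb,
            Subtype.ext hpq.comm, fun e => hpq.ne (congrArg Subtype.val e)⟩
      have hyC : y' ∈ centralizer (E : Set (H ⧸ O)) := mem_centralizer_iff.2 fun v hv => by
        have h1 : conjE E y' ⟨v, hv⟩ = ⟨v, hv⟩ := by rw [hyE]; rfl
        exact ((conjE_fix_iff E y' ⟨v, hv⟩).1 h1).symm.eq
      rw [hC, mem_bot, hy', hπ, QuotientGroup.mk'_apply, QuotientGroup.eq_one_iff] at hyC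
      exact hy₀g (hLO g (hL₁₀ hgL) y₀ hyC).symm
    · exact hw1 (eq_one_of_kernel hq h9 hLO hmap₀ hwL₁ hwO)
  -- degree seven
  have hEinv : ∀ v : H, orderOf v = 2 → π v ∈ E := fun v hv =>
    mem_of_seven E hd.quotient_oddCore e (hπo v hv)
  obtain ⟨e1, e2⟩ := hsame (hEinv a' ha') (hEinv b' hb')
  have eza : z' = a' := huniq a' z' (hlift a' ha' (hEinv a' ha')) ha' hzo (by rw [hzπ, e1])
  have ecb : c = b' := huniq b' c (hlift b' hb' (hEinv b' hb')) hb' hco (by rw [hcπ, e2])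
  have hEodd : ∀ x : H, Odd (orderOf x) → π x ∈ E := fun x hx =>
    mem_of_seven_odd E e hC (hx.of_dvd_nat (orderOf_map_dvd π x))
  have hπodd : ∀ x : H, Odd (orderOf x) → Odd (orderOf (π x)) := fun x hx =>
    hx.of_dvd_nat (orderOf_map_dvd π x)
  have hca : ∀ x : H, Commute x a' → π x ∈ Cent (π a') := fun x hx =>
    mem_cent.2 (by rw [← map_mul, ← map_mul, hx.eq])
  have hthree : ∀ x : H, Odd (orderOf x) → Commute x a' → x ^ 3 ∈ O := by
    intro x hx hxa
    have h3 := card_dvd_three_of_seven E hd.quotient_oddCore e hC hp.ha (R := zpowers (π x))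
      (by rw [Nat.card_zpowers]; exact hπodd x hx) (zpowers_le.2 (hca x hxa))
    rw [Nat.card_zpowers] at h3
    exact (QuotientGroup.eq_one_iff _).1 (show π (x ^ 3) = 1 by
      rw [map_pow]; exact orderOf_dvd_iff_pow_eq_one.1 h3)
  have hcw : ∀ x : H, Odd (orderOf x) → Commute x w := by
    intro x hx
    obtain ⟨l, hl, hle⟩ := hmap₁.ge (hEodd x hx)
    have ho : l⁻¹ * x ∈ O := QuotientGroup.eq.1 hle
    have h1 : Commute w (l⁻¹ * x) := hLO w (hL₁₀ hwL₁) _ ho
    have h2 : Commute w l := (hLO l (hL₁₀ hl) w hwO).symm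
    have h3 := h2.mul_right h1
    rw [mul_inv_cancel_left] at h3
    exact h3.symm
  have hy₀o : Odd (orderOf y₀) := by
    rw [← Subgroup.orderOf_coe]
    exact hY.of_dvd_nat (Subgroup.orderOf_dvd_natCard Y hy₀)
  have hy₀a : Commute y₀ a' := Subtype.ext (mem_cent.1 (hYc hy₀).1)
  have hw3 : w ^ 3 = 1 := by
    have h1 : g * y₀ * g⁻¹ = w * y₀ := by rw [hw]; group
    have h2 : g * y₀ ^ 3 * g⁻¹ = w ^ 3 * y₀ ^ 3 := by
      rw [← conj_pow, h1, (hcw y₀ hy₀o).symm.mul_pow]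
    rw [(hLO g (hL₁₀ hgL) _ (hthree y₀ hy₀o hy₀a)).eq, mul_inv_cancel_right] at h2
    exact mul_eq_right.1 h2.symm
  have hy₀1 : π y₀ ≠ 1 := fun h1 =>
    hy₀g (hLO g (hL₁₀ hgL) y₀ ((QuotientGroup.eq_one_iff _).1 h1)).symm
  have hcb : ∀ x : H, Odd (orderOf x) → Commute x a' → Commute x b' := by
    intro x hx hxa
    have hy₀b : Commute (π y₀) (π b') := mem_cent.1 (hY'c ⟨y₀, hy₀, rfl⟩).2
    have h1 := commute_of_seven E hd.quotient_oddCore e hC hp.ha (hπodd y₀ hy₀o)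
      (mem_cent.1 (hca y₀ hy₀a)) hy₀1 (hπodd x hx) (mem_cent.1 (hca x hxa)) hy₀b
    refine mul_inv_eq_iff_eq_mul.1 (huniq b' _ (hlift b' hb' (hEinv b' hb')) hb' (hconj2 b' x hb') ?_)
    rw [map_mul, map_mul, map_inv, h1.eq, mul_inv_cancel_right]
  refine Or.inr ⟨O.map H.subtype, (g : G), (w : G), ⟨g.2, ?_, ?_, ⟨w, hwO, rfl⟩,
    ⟨w, hL₀L (hL₁₀ hwL₁), rfl⟩, fun e => hw1 (Subtype.ext e),
    (congrArg Subtype.val hw3 :), ?_, ?_, ?_, fun x hx hxo hxa => congrArg Subtype.val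
      (hcb ⟨x, hx⟩ (by rwa [Subgroup.orderOf_mk]) (Subtype.ext hxa.eq)).eq⟩⟩
  · have := hcycG
    rw [show z = a from congrArg Subtype.val eza, show (c : G) = b from congrArg Subtype.val ecb] at this
    exact this
  · rintro _ ⟨o, ho, rfl⟩
    exact ⟨congrArg Subtype.val (hLO a' (hL₁₀ (eza ▸ hzL)) o ho).symm.eq,
      congrArg Subtype.val (hLO b' (hL₁₀ (ecb ▸ hcL)) o ho).symm.eq,
      congrArg Subtype.val (hLO g (hL₁₀ hgL) o ho).symm.eq⟩
  · intro x hx hxo hxa
    refine ⟨_, hthree ⟨x, hx⟩ (by rwa [Subgroup.orderOf_mk]) (Subtype.ext hxa.eq), ?_⟩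
    simp
  · intro x hx hxo _
    exact congrArg Subtype.val (hcw ⟨x, hx⟩ (by rwa [Subgroup.orderOf_mk])).eq
  · intro x hx y hy hxo hyo hxa hya hxy hyN
    set x' : H := ⟨x, hx⟩
    set y' : H := ⟨y, hy⟩
    have hxo' : Odd (orderOf x') := by rwa [Subgroup.orderOf_mk]
    have hyo' : Odd (orderOf y') := by rwa [Subgroup.orderOf_mk]
    have hxa' : Commute x' a' := Subtype.ext hxa.eq
    have hya' : Commute y' a' := Subtype.ext hya.eq
    haveI : Fact (Nat.Prime 3) := ⟨Nat.prime_three⟩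
    set K := zpowers (π x') ⊔ zpowers (π y') with hK
    have h3 : ∀ v : H, Odd (orderOf v) → Commute v a' → IsPGroup 3 (zpowers (π v)) := by
      intro v hv hva
      obtain ⟨k, -, hk⟩ := (Nat.dvd_prime_pow Nat.prime_three (m := 1)).1 (orderOf_dvd_of_pow_eq_one
        (show π v ^ 3 ^ 1 = 1 by
          rw [pow_one, ← map_pow]; exact (QuotientGroup.eq_one_iff _).2 (hthree v hv hva)))
      exact IsPGroup.of_card (n := k) (by rw [Nat.card_zpowers, hk])
    have hnorm : zpowers (π x') ≤ normalizer (zpowers (π y') : Set (H ⧸ O)) := by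
      refine zpowers_le.2 (centralizer_le_normalizer _ (mem_centralizer_iff.2 fun v hv => ?_))
      obtain ⟨k, rfl⟩ := mem_zpowers_iff.1 hv
      have h1 : Commute (π x') (π y') := by
        show π x' * π y' = π y' * π x'
        rw [← map_mul, ← map_mul, show x' * y' = y' * x' from Subtype.ext hxy.eq]
      exact (h1.zpow_right k).symm.eq
    have hK3 : IsPGroup 3 K := (h3 x' hxo' hxa').to_sup_of_normal_right' (h3 y' hyo' hya') hnorm
    have hKo : Odd (Nat.card K) := by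
      obtain ⟨k, hk⟩ := IsPGroup.iff_card.1 hK3
      rw [hk]
      exact (by decide : Odd 3).pow
    have hKd := card_dvd_three_of_seven E hd.quotient_oddCore e hC hp.ha hKo
      (sup_le (zpowers_le.2 (hca x' hxa')) (zpowers_le.2 (hca y' hya')))
    have hyK : zpowers (π y') = K := by
      refine eq_of_le_of_card_ge le_sup_right ?_
      rcases (Nat.dvd_prime Nat.prime_three).1 hKd with e1 | e1
      · rw [e1]; exact Nat.card_pos
      · rw [e1, Nat.card_zpowers]
        rcases (Nat.dvd_prime Nat.prime_three).1 ((Subgroup.orderOf_dvd_natCard K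
          (mem_sup_right (mem_zpowers (π y')))).trans hKd) with e2 | e2
        · exact absurd ⟨y', (QuotientGroup.eq_one_iff y').1 (orderOf_eq_one_iff.1 e2), rfl⟩ hyN
        · exact e2.ge
    obtain ⟨i, hi⟩ := mem_zpowers_iff.1 (hyK.ge (mem_sup_left (mem_zpowers (π x'))))
    refine ⟨-i, x' * y' ^ (-i), (QuotientGroup.eq_one_iff _).1 ?_, by simp [x', y']⟩
    show π (x' * y' ^ (-i)) = 1
    rw [map_mul, map_zpow, ← hi, _root_.zpow_neg, mul_inv_cancel]

/-- **Cycles fixed by `Y`**. -/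
theorem exists_cycle_fixed (hyp : Hyp S t) (hk : ProperKnown G) {H : Subgroup G} (hH : H ≠ ⊤)
    (hL : Cfsg.generalizedFittingSubgroup ↥H ≠ Cfsg.fittingSubgroup ↥H) {a b : G} (h : Pair a b)
    (ha : a ∈ H) (hb : b ∈ H) {Y : Subgroup G} (hY : Odd (Nat.card Y)) (hYH : Y ≤ H)
    (hYc : Y ≤ Cent a ⊓ Cent b) :
    (∃ z c g : G, z ∈ h.four ∧ z ≠ 1 ∧ Pair z c ∧ g ∈ H ∧ Cycles g z c ∧
      ∀ y ∈ Y, y * c = c * y ∧ y * g = g * y) ∨ AltLayer H a b :=
  (exists_cycle_fixed_aux hyp hk hH hL h ha hb hY hYH hYc).imp_left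
    fun ⟨z, c, g, h1, h2, h3, h4, h5, h6, _⟩ => ⟨z, c, g, h1, h2, h3, h4, h5, h6⟩

/-- The hypothesis `CycleFixed` of the local arguments holds. -/
theorem cycleFixed (hyp : Hyp S t) (hk : ProperKnown G) : CycleFixed G :=
  fun _ hH hL _ _ h ha hb _ hY hYH hYc => exists_cycle_fixed hyp hk hH hL h ha hb hY hYH hYc

/-- If the four group lies in the layer the fixed cycle is on it. -/
theorem exists_cycle_fixed_same (hyp : Hyp S t) (hk : ProperKnown G) {H : Subgroup G} (hH : H ≠ ⊤)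
    (hL : Cfsg.generalizedFittingSubgroup ↥H ≠ Cfsg.fittingSubgroup ↥H) {a b : G} (h : Pair a b)
    (ha : a ∈ layOf H) (hb : b ∈ layOf H) {Y : Subgroup G} (hY : Odd (Nat.card Y)) (hYH : Y ≤ H)
    (hYc : Y ≤ Cent a ⊓ Cent b) :
    (∃ g ∈ H, Cycles g a b ∧ ∀ y ∈ Y, y * g = g * y) ∨ AltLayer H a b := by
  refine (exists_cycle_fixed_aux hyp hk hH hL h (map_subtype_le _ ha) (map_subtype_le _ hb) hY hYH
    hYc).imp_left fun ⟨z, c, g, _, _, _, hg, hc, hfix, hsame⟩ => ?_
  obtain ⟨rfl, rfl⟩ := hsame ha hb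
  exact ⟨g, hg, hc, fun y hy => (hfix y hy).2⟩

end Cfsg.Agent.GW

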