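import Cfsg.Agent.Lib.GW.PartII.Main
import Cfsg.Agent.Lib.GW.PartII.BigCentral
import Cfsg.Agent.Lib.GW.PartII.CompFixed

/-!
# Gorenstein-Walter Part II from the absence of component configurations
-/

set_option autoImplicit false

namespace Cfsg.Agent.GW

universe u

/-- Part II of the dihedral classification, given that no component configuration occurs when the
centraliser of an involution is maximal. -/
theorem partTwo_of_comp
    (hcomp : ∀ (G : Type u) [Group G] [Finite G] (S : Sylow 2 G) (t : G), Hyp S t → ProperKnown G →
      IsCoatom (Cent t) → ¬ CompConfig G) : PartTwo.{u} :=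
  partTwo_of (fun _ _ _ _ _ hyp hk => cycleFixed hyp hk)
    (fun _ _ _ _ _ hyp hk nf _ hM hCM hb => bigCentral hyp hk nf hM hCM hb) hcomp

end Cfsg.Agent.GW
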