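import Cfsg.Agent.Lib.GW.PartII.NotMaxBase

/-!
# Case C of Gorenstein-Walter, Part II: the local lemmas

The base step (`normalizer_disp_le`), (L) (`eq_of_leadsTo_disp`), the end (`false_of_both`), (L1)
(`cent_z_le`).  The facts on subgroups with a layer are the hypotheses `CycleFixed`, `InvertedLayer`,
`SameTorus`.
-/

set_option autoImplicit false
set_option linter.style.haveILetI false
set_option linter.unusedSectionVars false
set_option linter.unusedVariables false

namespace Cfsg.Agent.GW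

open Subgroup Cfsg.Agent.S1856 Cfsg.Agent.S1312
open BSW (sq_of_order inv_of_order ne_one_of_order order_of_sq mem_cent)
open scoped commutatorElement

universe u

variable {G : Type u} [Group G] [Finite G] {S : Sylow 2 G} {t : G}

/-- Odd elements inverted by `a` centralise a layer when `H ⊓ Cent a` lies in a group with a normal
2-complement. -/
def InvertedLayer (G : Type u) [Group G] [Finite G] : Prop :=
  ∀ H : Subgroup G, H ≠ ⊤ →
    Cfsg.generalizedFittingSubgroup ↥H ≠ Cfsg.fittingSubgroup ↥H →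
    ∀ a : G, orderOf a = 2 → a ∈ H →
    ∀ M : Subgroup G, Cfsg.HasNormalPComplement 2 M → H ⊓ Cent a ≤ M →
    ∀ z ∈ H ⊓ M, Odd (orderOf z) → a * z * a⁻¹ = z⁻¹ → ∀ e ∈ layOf H, Commute z e

/-- The two tori at a pair of involutions, one inner and one outer on a layer, share no prime. -/
def SameTorus (G : Type u) [Group G] [Finite G] : Prop :=
  ∀ H : Subgroup G, H ≠ ⊤ →
    Cfsg.generalizedFittingSubgroup ↥H ≠ Cfsg.fittingSubgroup ↥H →
    ∀ a b : G, Pair a b → a ∈ H → b ∈ H → ∀ r : ℕ, r.Prime → r ≠ 2 →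
    ∀ c g z : G, c ∈ H → g ∈ H → z ∈ H → (∃ k, c ^ r ^ k = 1) → (∃ k, g ^ r ^ k = 1) →
      Commute c a → b * c * b⁻¹ = c⁻¹ → Commute g b → a * g * a⁻¹ = g⁻¹ →
      z ≠ 1 → Odd (orderOf z) → Commute z b → a * z * a⁻¹ = z⁻¹ → Commute c z → Commute g z →
      (∀ e ∈ layOf H, Commute z e) →
      (∀ e ∈ layOf H, Commute c e) ∨ (∀ e ∈ layOf H, Commute g e)

namespace Over

variable {a b g : G} {M : Subgroup G}

/-- The commutator group of `O_p(M)` and `a`. -/
abbrev disp (a : G) (p : ℕ) (M : Subgroup G) : Subgroup G := ⁅coreP p M, zpowers a⁆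

theorem self_normalizer (h : Over a M) (s : ℕ) : a ∈ normalizer (coreP s M : Set G) :=
  le_normalizer_coreP s M h.self_mem

theorem disp_le (h : Over a M) (p : ℕ) : disp a p M ≤ coreP p M :=
  Coprime.commutator_le_left_of_le_normalizer (zpowers_le.2 (h.self_normalizer p))

theorem disp_ne_bot (h : Over a M) {p : ℕ} (hp : ¬ coreP p M ≤ Cent a) : disp a p M ≠ ⊥ := fun e =>
  hp fun f hf => mem_cent.2
    ((mem_centralizer_iff.1 (Coprime.le_centralizer_iff_commutator_eq_bot.2 e (mem_zpowers a)) f hf))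

/-- A subgroup centralises `disp a p M` if it centralises the elements of `M` inverted by `a`. -/
theorem disp_le_centralizer (h : Over a M) {p : ℕ} (X : Set G)
    (hX : ∀ z ∈ disp a p M, a * z * a⁻¹ = z⁻¹ → ∀ x ∈ X, x * z = z * x) :
    disp a p M ≤ centralizer X := by
  refine commutator_le.2 fun f hf c hc => mem_centralizer_iff.2 (hX _ (commutator_mem_commutator hf hc) ?_)
  obtain ⟨i, rfl⟩ := mem_zpowers_iff.1 hc
  rw [← zpow_mod_orderOf, h.ha]
  rcases Int.emod_two_eq_zero_or_one i with e | e <;> rw [show ((2 : ℕ) : ℤ) = 2 from rfl, e]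
  · simp
  · rw [zpow_one, commutatorElement_def]
    calc a * (f * a * f⁻¹ * a⁻¹) * a⁻¹ = a * f * a * f⁻¹ * (a * a)⁻¹ := by group
      _ = a * f * a⁻¹ * f⁻¹ := by rw [sq_of_order h.ha, inv_one, mul_one, inv_of_order h.ha]
      _ = (f * a * f⁻¹ * a⁻¹)⁻¹ := by group

theorem leadsTo_zpowers (h : Over a M) {y : G} (hy : y ∈ fitOf M) (hy1 : y ≠ 1) {M' : Subgroup G}
    (hle : normalizer (zpowers y : Set G) ≤ M') : LeadsTo M M' (zpowers y) :=
  ⟨zpowers_ne_bot.2 hy1, zpowers_le.2 hy, inf_le_right.trans hle⟩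

theorem coreP_le_of_leadsTo (hyp : Hyp S t) (h : Over a M) {M' Q : Subgroup G} (hQ : LeadsTo M M' Q)
    {q : ℕ} (hq : q.Prime) (hd : q ∣ Nat.card ↥(fittingSubgroup ↥M)) : coreP q M' ≤ M := by
  haveI := hyp.simple
  haveI := Fact.mk hq
  obtain ⟨p, r, hp, hr, hpr, hpd, hrd⟩ := h.two_primes hyp
  by_cases h1 : p = q
  · haveI := Fact.mk hr
    exact hQ.coreP_le (p := r) h.max (fun e => hpr (h1.trans e.symm)) hrd hd
  · haveI := Fact.mk hp
    exact hQ.coreP_le (p := p) h.max h1 hpd hd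

theorem eq_of_fit_le (hyp : Hyp S t) (h : Over a M) {M' Q : Subgroup G} (hM' : IsCoatom M')
    (hQ : LeadsTo M M' Q) (hstar : generalizedFittingSubgroup ↥M' = fittingSubgroup ↥M')
    (hF : fitOf M' ≤ M) : M = M' := by
  haveI := hyp.simple
  obtain ⟨p, r, hp, hr, hpr, hpd, hrd⟩ := h.two_primes hyp
  haveI := Fact.mk hp
  haveI := Fact.mk hr
  exact eq_of_leadsTo_of_fitOf_le hyp.not_comm h.max hM' ⟨Q, hQ.ne, hQ.le, hQ.norm⟩ hpr hpd hrd
    hstar hF

/-- `a` inverts the new primary parts of a target. -/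
theorem inverts_new (h : Over a M) {M' Q : Subgroup G} (hQ : LeadsTo M M' Q) (haM' : a ∈ M')
    {q : ℕ} (hq : q.Prime) (hd : ¬ q ∣ Nat.card ↥(fittingSubgroup ↥M)) :
    ∀ k ∈ coreP q M', a * k * a⁻¹ = k⁻¹ := by
  haveI := Fact.mk hq
  exact inverts_of_inf_eq_bot h.ha (le_normalizer_coreP q M' haM')
    (le_bot_iff.1 ((inf_le_inf_left _ h.le).trans (hQ.coreP_inf_eq_bot hd).le))

theorem exists_coatom_ge (hyp : Hyp S t) {X : Subgroup G} (hX1 : X ≠ ⊥) (hXM : X ≤ M)
    (hM : IsCoatom M) : ∃ M' : Subgroup G, IsCoatom M' ∧ normalizer (X : Set G) ≤ M' := by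
  haveI := hyp.simple
  rcases eq_top_or_exists_le_coatom (normalizer (X : Set G)) with e | e
  · exfalso
    rcases (normalizer_eq_top_iff.1 e).eq_bot_or_eq_top with e' | e'
    · exact hX1 e'
    · exact hM.1 (top_le_iff.1 (e' ▸ hXM))
  · exact e

/-- **Base step**: the normaliser of `[O_p(M), a]` lies in `M`. -/
theorem normalizer_disp_le (hyp : Hyp S t) (hnb : NoBig G) (h : Over a M) (hab : Pair a b) {p : ℕ}
    (hp : p.Prime) (hpm : ¬ coreP p M ≤ Cent a) : normalizer (disp a p M : Set G) ≤ M := by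
  haveI := hyp.simple
  set Y := disp a p M with hY
  have hY1 : Y ≠ ⊥ := h.disp_ne_bot hpm
  obtain ⟨M', hM', hle⟩ :=
    exists_coatom_ge hyp hY1 ((h.disp_le p).trans (map_subtype_le _)) h.max
  suffices M = M' by rw [this]; exact hle
  have hCN : Cent a ≤ normalizer (Y : Set G) :=
    Coprime.le_normalizer_commutator (h.le.trans (le_normalizer_coreP p M))
      (le_centralizer_iff.1 (zpowers_le.2 (mem_centralizer_iff.2 fun x hx => mem_cent.1 hx)))
  have hFN : fitOf M ≤ normalizer (Y : Set G) := (fit_le_iff M _).2 fun r hr _ => by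
    by_cases hrp : r = p
    · subst hrp; exact normalizer_commutator_ge_left _ _
    · exact fun f hf => centralizer_le_normalizer _ (mem_centralizer_iff.2 fun y hy =>
        ((commute_coreP hr hp hrp hf (h.disp_le p hy)).symm).eq)
  have hne' : M' ≠ Cent a := fun e => hpm fun f hf =>
    e ▸ hle (hFN (map_mono (Components.pCore_le_fittingSubgroup hp) hf))
  have h' : Over a M' := ⟨h.ha, hM', hCN.trans hle, hnb a h.ha M' hM' (hCN.trans hle), hne'⟩
  have hQ : LeadsTo M M' Y := ⟨hY1, (h.disp_le p).trans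
    (map_mono (Components.pCore_le_fittingSubgroup hp)), inf_le_right.trans hle⟩
  refine h.eq_of_fit_le hyp hM' hQ h'.star ((fit_le_iff M' _).2 fun q hq hqd => ?_)
  haveI := Fact.mk hq
  by_cases hd : q ∣ Nat.card ↥(fittingSubgroup ↥M)
  · exact h.coreP_le_of_leadsTo hyp hQ hq hd
  have hinv := h.inverts_new hQ h'.self_mem hq hd
  have key : ∀ i : G, Pair a i → coreP q M' ⊓ Cent i ≤ ⊥ := by
    intro i hai x hx
    obtain ⟨g, hg⟩ := isConj_iff.1 (hyp.isConj_invol h.ha hai.hb)
    set N := M.map (MulAut.conj g).toMonoidHom with hN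
    have hO : Over i N := hg ▸ h.map g
    refine mem_bot.2 (hO.eq_one_of_centralises hq (fun hd' => hd ((dvd_map g).1 hd'))
      (hO.le hx.2) (coe_pow_eq_one (isPGroup_coreP q M') hx.1) fun s hs hsd => ?_)
    have hsq : q ≠ s := fun e => hd ((dvd_map g).1 (e ▸ hsd))
    refine commute_of_inverted (odd_coreP hyp hO hs) h.ha
      (le_normalizer_coreP s N (hO.mem_of_commute hai.comm)) (le_normalizer_coreP s N (hO.le hx.2))
      (odd_order hyp h' hq hx.1) (hO.coprime_order hs hq hsq (coe_pow_eq_one (isPGroup_coreP q M') hx.1))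
      (hinv x hx.1) fun f hf => ?_
    exact mem_cent.2 (commute_cross hs hq hsq.symm hf.1 hx.1 (h'.le hf.2) (hO.le hx.2)).eq
  refine le_trans (le_of_fixed hab (odd_coreP hyp h' hq) (h'.self_normalizer q)
    (le_normalizer_coreP q M' (h'.mem_of_commute hab.comm.symm)) ?_ (key b hab) (key _ hab.left)) bot_le
  exact (inf_le_inf_left _ h.le).trans (hQ.coreP_inf_eq_bot hd).le

/-- **(L)**: a maximal subgroup to which `M` leads, containing `a` and some `[O_p(M), a] ≠ 1`. -/
theorem eq_of_leadsTo_disp (hyp : Hyp S t) (hnb : NoBig G) (hcc : InvertedLayer G) (h : Over a M)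
    (hab : Pair a b) {M' Q : Subgroup G} (hM' : IsCoatom M') (hQ : LeadsTo M M' Q) (haM' : a ∈ M')
    {p : ℕ} (hp : p.Prime) (hpm : ¬ coreP p M ≤ Cent a) (hYM' : disp a p M ≤ M') : M = M' := by
  set Y := disp a p M with hY
  have hYo : ∀ z ∈ Y, Odd (orderOf z) := fun z hz => odd_order hyp h hp (h.disp_le p hz)
  have hNY := h.normalizer_disp_le hyp hnb hab hp hpm
  by_cases hstar : generalizedFittingSubgroup ↥M' = fittingSubgroup ↥M'
  · refine h.eq_of_fit_le hyp hM' hQ hstar ((fit_le_iff M' _).2 fun q hq hqd => ?_)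
    by_cases hd : q ∣ Nat.card ↥(fittingSubgroup ↥M)
    · exact h.coreP_le_of_leadsTo hyp hQ hq hd
    have hinv := h.inverts_new hQ haM' hq hd
    intro k hk
    refine hNY (centralizer_le_normalizer _ (mem_centralizer_iff.2 fun y hy => ?_))
    have hY' : Y ≤ centralizer ((coreP q M' : Subgroup G) : Set G) :=
      h.disp_le_centralizer _ fun z hz hzi x hx =>
        mem_cent.1 (commute_of_inverts (le_normalizer_coreP q M' (hYM' hz)) (hYo z hz) hzi hinv hx)
    exact (mem_centralizer_iff.1 (hY' hy) k hk).symm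
  · exfalso
    refine not_layOf_le hstar (isSolvable_of_complement h.comp) fun e he =>
      hNY (centralizer_le_normalizer _ (mem_centralizer_iff.2 fun y hy => ?_))
    have hY' : Y ≤ centralizer ((layOf M' : Subgroup G) : Set G) :=
      h.disp_le_centralizer _ fun z hz hzi x hx =>
        ((hcc M' hM'.1 hstar a h.ha haM' M h.comp (inf_le_right.trans h.le) z
          ⟨hYM' hz, map_subtype_le _ (h.disp_le p hz)⟩ (hYo z hz) hzi x hx).symm).eq
    exact (mem_centralizer_iff.1 (hY' hy) e he).symm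

/-- An element of `F(M)`, fixed or inverted by `a`, centralising a moved `O_p(M)`. -/
theorem cent_le_of_eigen (hyp : Hyp S t) (hnb : NoBig G) (hcc : InvertedLayer G) (h : Over a M)
    (hab : Pair a b) {y : G} (hy : y ∈ fitOf M) (hy1 : y ≠ 1)
    (hya : Commute y a ∨ a * y * a⁻¹ = y⁻¹) {p : ℕ} (hp : p.Prime) (hpm : ¬ coreP p M ≤ Cent a)
    (hyp' : coreP p M ≤ Cent y) : Cent y ≤ M := by
  obtain ⟨M', hM', hle⟩ := exists_coatom_ge hyp (zpowers_ne_bot.2 hy1)
    (zpowers_le.2 (map_subtype_le _ hy)) h.max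
  have hcN : ∀ x : G, Commute x y → x ∈ M' := fun x hx => hle (mem_normalizer_zpowers_of_commute hx)
  have haM' : a ∈ M' := by
    rcases hya with e | e
    · exact hcN a e.symm
    · exact hle (conj_mem_normalizer_zpowers' e)
  have heq := h.eq_of_leadsTo_disp hyp hnb hcc hab hM' (h.leadsTo_zpowers hy hy1 hle) haM' hp hpm
    fun f hf => hcN f (mem_cent.1 (hyp' (h.disp_le p hf)))
  rw [heq]
  exact fun x hx => hcN x (mem_cent.1 hx)
where
  conj_mem_normalizer_zpowers' {a y : G} (e : a * y * a⁻¹ = y⁻¹) :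
      a ∈ normalizer (zpowers y : Set G) := by
    rw [mem_normalizer_iff_map_conj_eq, MonoidHom.map_zpowers]
    show zpowers (a * y * a⁻¹) = _
    rw [e, zpowers_inv]

theorem map_ne (hyp : Hyp S t) (h : Over a M) (hab : Pair a b) (hg : Cycles g a b) :
    M.map (MulAut.conj g).toMonoidHom ≠ M := by
  intro e
  haveI := hyp.simple
  have hgN : g ∈ normalizer (M : Set G) := by
    rw [mem_normalizer_iff_map_conj_eq]; exact e
  rw [normalizer_eq_of_le h.max le_rfl le_normalizer
    (fun e' => ne_one_of_order h.ha (mem_bot.1 (e' ▸ h.self_mem)))] at hgN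
  exact no_cycle_of_complement h.comp hab hg h.self_mem hgN

/-- **The end**: all cores of the conjugate but `O_p` inside `M`, and elements `j`, `β` with small
centralisers. -/
theorem false_of_both (hyp : Hyp S t) (h : Over a M) (hab : Pair a b) (hg : Cycles g a b)
    {p r : ℕ} (hp : p.Prime) (hr : r.Prime) (hrp : r ≠ p) {j β : G} (hj : j ∈ coreP r M)
    (hjN : j ∈ M.map (MulAut.conj g).toMonoidHom) (hjM : Cent j ≤ M) (hβ : β ∈ coreP p M)
    (hβN : β ∈ M.map (MulAut.conj g).toMonoidHom) (hβM : Cent β ≤ M)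
    (hR : ∀ s : ℕ, s.Prime → s ≠ p → coreP s (M.map (MulAut.conj g).toMonoidHom) ≤ M) : False := by
  haveI := hyp.simple
  haveI := Fact.mk hp
  haveI := Fact.mk hr
  set N := M.map (MulAut.conj g).toMonoidHom with hN
  have hO : Over b N := hg.left ▸ h.map g
  have hpj : zpowers j ≤ centralizer (zpowers β : Set G) := zpowers_le.2 (mem_centralizer_iff.2
    fun y hy => by
      obtain ⟨i, rfl⟩ := mem_zpowers_iff.1 hy
      exact ((commute_coreP hr hp hrp hj hβ).zpow_right i).symm.eq)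
  have hβp : IsPGroup p (zpowers β) := (isPGroup_coreP p M).to_le (zpowers_le.2 hβ)
  have hjcop : (Nat.card (zpowers j)).Coprime p :=
    (coprime_card_coreP hrp M).coprime_dvd_left (card_dvd_of_le (zpowers_le.2 hj))
  have hUj : zpowers j ≤ centralizer (coreP p N : Set G) := by
    refine Coprime.le_centralizer_of_pq hβp hjcop (isPGroup_coreP p N) (le_centralizer_iff.1 hpj)
      (zpowers_le.2 (le_normalizer_coreP p N hβN)) (zpowers_le.2 (le_normalizer_coreP p N hjN))
      fun c hc => mem_centralizer_iff.2 fun y hy => ?_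
    obtain ⟨i, rfl⟩ := mem_zpowers_iff.1 hy
    have hcM : c ∈ M := hβM (mem_cent.2 ((mem_centralizer_iff.1 hc.2 β (mem_zpowers β)).symm))
    exact ((commute_cross hp hr hrp.symm hc.1 hj hcM hjN).zpow_right i).symm.eq
  have hFN : fitOf N ≤ M := (fit_le_iff N _).2 fun s hs hsd => by
    by_cases hsp : s = p
    · subst hsp
      exact fun c hc => hjM (mem_cent.2 (mem_centralizer_iff.1 (hUj (mem_zpowers j)) c hc))
    · exact hR s hs hsp
  obtain ⟨p₁, p₂, h1, h2, h12, hd1, hd2⟩ := hO.two_primes hyp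
  haveI := Fact.mk h1
  haveI := Fact.mk h2
  have hback : M = N.map (MulAut.conj g⁻¹).toMonoidHom := by
    rw [hN, Subgroup.map_map]
    convert (Subgroup.map_id M).symm using 2
    ext x
    simp [mul_assoc]
  refine h.map_ne hyp hab hg ?_
  refine eq_of_leadsTo_of_conj hyp.not_comm hO.max h.max ?_ hback h12 hd1 hd2 hO.star
  refine ⟨fitOf N, fun e => ?_, le_rfl, ?_⟩
  · refine (dvd_card_fit_iff N).1 hd1 (le_bot_iff.1 (le_trans ?_ e.le))
    exact map_mono (Components.pCore_le_fittingSubgroup h1)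
  · rw [hO.star]
    exact inf_le_left.trans hFN

/-- `z ∈ O_p(M) ⊓ Cent b` inverted by `a` centralises the other cores of the conjugate. -/
theorem coreP_le_cent_z (hyp : Hyp S t) (h : Over a M) (hab : Pair a b) {N : Subgroup G}
    (hO : Over b N) {p s : ℕ} (hp : p.Prime) (hs : s.Prime) (hsp : s ≠ p) {z : G}
    (hz : z ∈ coreP p M) (hza : a * z * a⁻¹ = z⁻¹) (hzb : Commute z b) :
    coreP s N ≤ Cent z :=
  commute_of_inverted (odd_coreP hyp hO hs) h.ha
    (le_normalizer_coreP s N (hO.mem_of_commute hab.comm))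
    (le_normalizer_coreP s N (hO.mem_of_commute hzb)) (odd_order hyp h hp hz)
    (hO.coprime_order hs hp hsp.symm (coe_pow_eq_one (isPGroup_coreP p M) hz)) hza fun d hd =>
    mem_cent.2 (commute_cross hs hp hsp hd.1 hz (h.le hd.2) (hO.mem_of_commute hzb)).eq

theorem cent_conj_le {c : G} (hc : Cent c ≤ M) (g : G) :
    Cent (g * c * g⁻¹) ≤ M.map (MulAut.conj g).toMonoidHom := by
  rw [← map_conj_cent]; exact map_mono hc

/-- A layer of type `3·A₇` over the centraliser of `z` is impossible. -/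
theorem false_of_altLayer (hyp : Hyp S t) (hnb : NoBig G) (hcc : InvertedLayer G) (h : Over a M)
    (hab : Pair a b) {M' : Subgroup G} (hM' : IsCoatom M')
    (hstar : generalizedFittingSubgroup ↥M' ≠ fittingSubgroup ↥M') (haM' : a ∈ M') {p : ℕ}
    (hp : p.Prime) {z : G} (hz : z ∈ coreP p M) (hz1 : z ≠ 1) (hza : a * z * a⁻¹ = z⁻¹)
    (hcN : ∀ x : G, Commute x z → x ∈ M') (hzL : ∀ e ∈ layOf M', Commute z e) {r : ℕ}
    (hr : r.Prime) (hrp : r ≠ p) {y : G} (hy : y ∈ coreP r M) (hy1 : y ≠ 1) (hya : Commute y a)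
    (hA : AltLayer M' a b) : False := by
  obtain ⟨N, g, w, d⟩ := hA
  haveI := Fact.mk hp
  have hzo := odd_order hyp h hp hz
  have hpm : ¬ coreP p M ≤ Cent a := fun hle => hz1 (by
    have e1 : z = z⁻¹ := by
      rw [(show Commute a z from (show Commute z a from mem_cent.1 (hle hz)).symm).eq,
        mul_inv_cancel_right] at hza
      exact hza
    obtain ⟨j, hj⟩ := hzo
    have := pow_orderOf_eq_one z
    rwa [hj, pow_succ, pow_mul, pow_two, mul_eq_one_iff_eq_inv.2 e1, one_pow, one_mul] at this)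
  -- elements of the other cores
  have hin : ∀ s : ℕ, s.Prime → s ≠ p → ∀ x ∈ coreP s M, x ∈ M' := fun s hs hsp x hx =>
    hcN x (commute_coreP hs hp hsp hx hz)
  have hcM : ∀ s : ℕ, s.Prime → s ≠ p → ∀ x ∈ coreP s M, x ≠ 1 →
      Commute x a ∨ a * x * a⁻¹ = x⁻¹ → Cent x ≤ M := fun s hs hsp x hx hx1 hor =>
    h.cent_le_of_eigen hyp hnb hcc hab (map_mono (Components.pCore_le_fittingSubgroup hs) hx) hx1
      hor hp hpm fun f hf => mem_cent.2 (commute_coreP hs hp hsp hx hf).symm.eq
  have hxN : ∀ s : ℕ, s.Prime → s ≠ p → ∀ x ∈ coreP s M, x ∈ N → x = 1 := fun s hs hsp x hx hN =>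
    by_contra fun hx1 => no_cycle_of_complement h.comp hab d.cyc h.self_mem
      (hcM s hs hsp x hx hx1 (Or.inl (d.fix x hN).1) (mem_cent.2 (d.fix x hN).2.2.symm.eq))
  have hinv : ∀ s : ℕ, s.Prime → s ≠ p → ∀ x ∈ coreP s M, a * x * a⁻¹ = x⁻¹ → x = 1 :=
    fun s hs hsp x hx hxa => by_contra fun hx1 => by
      have hxL := hcc M' hM'.1 hstar a h.ha haM' M h.comp (inf_le_right.trans h.le) x
        ⟨hin s hs hsp x hx, map_subtype_le _ hx⟩ (odd_order hyp h hs hx) hxa
      exact not_layOf_le hstar (isSolvable_of_complement h.comp) fun e he =>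
        hcM s hs hsp x hx hx1 (Or.inr hxa) (mem_cent.2 (hxL e he).symm.eq)
  have hfix : ∀ s : ℕ, s.Prime → s ≠ p → coreP s M ≤ Cent a := fun s hs hsp x hx => by
    have h1 := hinv s hs hsp (x⁻¹ * (a * x * a⁻¹))
      (mul_mem (inv_mem hx) ((mem_normalizer_iff.1 (h.self_normalizer s) x).1 hx))
      (inverts_displace h.ha x)
    exact mem_cent.2 (mul_inv_eq_iff_eq_mul.1 (inv_mul_eq_one.1 h1).symm).symm
  -- the order of `y` is three
  have hy3 : y ^ 3 = 1 := hxN r hr hrp _ (pow_mem hy 3)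
    (d.cube y (hin r hr hrp y hy) (odd_order hyp h hr hy) hya)
  have hr3 : r = 3 := by
    obtain ⟨k, hk⟩ := coe_pow_eq_one (isPGroup_coreP r M) hy
    by_contra hne
    exact hy1 (orderOf_eq_one_iff.1 (Nat.eq_one_of_dvd_coprimes
      (((Nat.coprime_primes hr Nat.prime_three).2 hne).pow_left k) (orderOf_dvd_of_pow_eq_one hk)
      (orderOf_dvd_of_pow_eq_one hy3)))
  -- `w` centralises every core
  have hwa : Commute w a := (d.fix w d.wN).1
  have hwM : w ∈ M := h.mem_of_commute hwa
  have hw3 : ∃ k, w ^ 3 ^ k = 1 := ⟨1, by rw [pow_one]; exact d.w_pow⟩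
  have hcoreC : ∀ s : ℕ, s.Prime → s ≠ p → coreP s M ≤ Cent w := fun s hs hsp x hx =>
    mem_cent.2 (d.comm x (hin s hs hsp x hx) (odd_order hyp h hs hx) (mem_cent.1 (hfix s hs hsp hx))).eq
  have hcopw : (Nat.card (zpowers w)).Coprime p := by
    rw [Nat.card_zpowers]
    exact ((Nat.coprime_primes Nat.prime_three hp).2 (hr3 ▸ hrp)).coprime_dvd_left
      (orderOf_dvd_of_pow_eq_one d.w_pow)
  have hwz : zpowers w ≤ centralizer (zpowers z : Set G) := zpowers_le.2 (mem_centralizer_iff.2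
    fun v hv => by
      obtain ⟨i, rfl⟩ := mem_zpowers_iff.1 hv
      exact ((hzL w d.wL).symm.zpow_right i).symm.eq)
  have hUw : zpowers w ≤ centralizer (coreP p M : Set G) := by
    refine Coprime.le_centralizer_of_pq ((isPGroup_coreP p M).to_le (zpowers_le.2 hz)) hcopw
      (isPGroup_coreP p M) (le_centralizer_iff.1 hwz)
      (zpowers_le.2 (le_normalizer_coreP p M (map_subtype_le _ hz)))
      (zpowers_le.2 (le_normalizer_coreP p M hwM)) fun c hc => mem_centralizer_iff.2 fun v hv => ?_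
    obtain ⟨i, rfl⟩ := mem_zpowers_iff.1 hv
    suffices hcw : Commute c w from (hcw.zpow_right i).symm.eq
    have hcz : Commute c z := (mem_centralizer_iff.1 hc.2 z (mem_zpowers z)).symm
    set e := c⁻¹ * (a * c * a⁻¹) with he
    have heC : e ∈ coreP p M :=
      mul_mem (inv_mem hc.1) ((mem_normalizer_iff.1 (h.self_normalizer p) c).1 hc.1)
    have hei := inverts_displace h.ha c
    rw [← he] at hei
    have hez : Commute e z := by
      have h1 : Commute (a * c * a⁻¹) (a * z * a⁻¹) := Commute.map hcz (MulAut.conj a)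
      rw [hza] at h1
      exact hcz.inv_left.mul_left (by simpa using h1.inv_right)
    have hew : Commute e w := hcc M' hM'.1 hstar a h.ha haM' M h.comp (inf_le_right.trans h.le) e
      ⟨hcN e hez, map_subtype_le _ heC⟩ (odd_order hyp h hp heC) hei w d.wL
    obtain ⟨j, hj⟩ := odd_order hyp h hp heC
    have hva : Commute (c * e ^ (j + 1)) a := by
      refine (mul_inv_eq_iff_eq_mul.1 ?_).symm
      have h1 : e ^ (j + 1) * e ^ j = 1 := by
        rw [← pow_add, show j + 1 + j = orderOf e by omega, pow_orderOf_eq_one]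
      calc a * (c * e ^ (j + 1)) * a⁻¹ = (a * c * a⁻¹) * (a * e * a⁻¹) ^ (j + 1) := by
            rw [conj_pow]; group
        _ = c * e * (e ^ (j + 1))⁻¹ := by rw [hei, inv_pow, he]; group
        _ = c * e * e ^ j := by rw [inv_eq_of_mul_eq_one_right h1]
        _ = c * e ^ (j + 1) := by rw [pow_succ', mul_assoc]
    have hvw : Commute (c * e ^ (j + 1)) w := d.comm _
      (hcN _ (hcz.mul_left (hez.pow_left _)))
      (odd_order hyp h hp (mul_mem hc.1 (pow_mem heC _))) hva
    simpa using hvw.mul_left (hew.pow_left (j + 1)).inv_left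
  have hwmem : w ∈ coreP 3 M := h.mem_coreP Nat.prime_three hwM hw3 fun s hs _ => by
    by_cases hsp : s = p
    · subst hsp
      exact fun c hc => mem_cent.2 (mem_centralizer_iff.1 (hUw (mem_zpowers w)) c hc)
    · exact hcoreC s hs hsp
  exact d.w_ne (hxN 3 Nat.prime_three (hr3 ▸ hrp) w hwmem d.wN)

/-- **(L1)**: the centraliser of `z` lies in `M`. -/
theorem cent_z_le (hyp : Hyp S t) (hnb : NoBig G) (hcf : CycleFixed G) (hcc : InvertedLayer G)
    (hst : SameTorus G) (h : Over a M) (hab : Pair a b) {N : Subgroup G} (hO : Over b N)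
    (hπ : ∀ q : ℕ, q ∣ Nat.card ↥(fittingSubgroup ↥N) → q ∣ Nat.card ↥(fittingSubgroup ↥M))
    {p : ℕ} (hp : p.Prime) {z : G} (hz : z ∈ coreP p M) (hz1 : z ≠ 1) (hza : a * z * a⁻¹ = z⁻¹)
    (hzb : Commute z b) {e : G} (heo : Odd (orderOf e)) (heb : Commute e b)
    (hea : a * e * a⁻¹ = e⁻¹) (heN : Cent e ≤ N) (hez : Commute e z)
    (hlay : (∃ (r : ℕ) (y : G), r.Prime ∧ r ≠ p ∧ y ∈ coreP r M ∧ y ≠ 1 ∧ Commute y a ∧
        Commute y b ∧ Cent y ≤ M) ∨
      (∃ (r : ℕ) (c : G), r.Prime ∧ r ≠ p ∧ r ≠ 2 ∧ c ∈ coreP r M ∧ Commute c a ∧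
        b * c * b⁻¹ = c⁻¹ ∧ Cent c ≤ M ∧ ∃ k, e ^ r ^ k = 1)) : Cent z ≤ M := by
  haveI := hyp.simple
  haveI := Fact.mk hp
  have hzo := odd_order hyp h hp hz
  have hzF : z ∈ fitOf M := map_mono (Components.pCore_le_fittingSubgroup hp) hz
  obtain ⟨M', hM', hle⟩ := exists_coatom_ge hyp (zpowers_ne_bot.2 hz1)
    (zpowers_le.2 (map_subtype_le _ hz)) h.max
  have hcN : ∀ x : G, Commute x z → x ∈ M' := fun x hx => hle (mem_normalizer_zpowers_of_commute hx)
  have haM' : a ∈ M' := hle (cent_le_of_eigen.conj_mem_normalizer_zpowers' hza)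
  have hbM' : b ∈ M' := hcN b hzb.symm
  have hzM' : z ∈ M' := hcN z (Commute.refl z)
  have hQ := h.leadsTo_zpowers hzF hz1 hle
  have heM' : e ∈ M' := hcN e hez
  suffices M = M' by rw [this]; exact fun x hx => hcN x (mem_cent.1 hx)
  by_cases hstar : generalizedFittingSubgroup ↥M' = fittingSubgroup ↥M'
  · refine h.eq_of_fit_le hyp hM' hQ hstar ((fit_le_iff M' _).2 fun q hq hqd => ?_)
    haveI := Fact.mk hq
    by_cases hd : q ∣ Nat.card ↥(fittingSubgroup ↥M)
    · exact h.coreP_le_of_leadsTo hyp hQ hq hd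
    have hinv := h.inverts_new hQ haM' hq hd
    have hKz := commute_of_inverts (le_normalizer_coreP q M' hzM') hzo hza hinv
    have hKe := commute_of_inverts (le_normalizer_coreP q M' heM') heo hea hinv
    intro x hx
    have hxN : x ∈ N := heN (mem_cent.2 (mem_cent.1 (hKe hx)))
    have hxq := coe_pow_eq_one (isPGroup_coreP q M') hx
    suffices x = 1 by rw [this]; exact one_mem _
    refine hO.eq_one_of_centralises hq (fun h' => hd (hπ q h')) hxN hxq fun s hs hsd => ?_
    haveI := Fact.mk hs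
    have hsq : q ≠ s := fun e' => hd (hπ q (e' ▸ hsd))
    by_cases hsp : s = p
    · subst hsp
      have hxc : zpowers x ≤ centralizer (zpowers z : Set G) := zpowers_le.2 (mem_centralizer_iff.2
        fun y hy => by
          obtain ⟨i, rfl⟩ := mem_zpowers_iff.1 hy
          exact ((show Commute x z from mem_cent.1 (hKz hx)).zpow_right i).symm.eq)
      have hU : zpowers x ≤ centralizer (coreP s N : Set G) := by
        refine Coprime.le_centralizer_of_pq ((isPGroup_coreP s M).to_le (zpowers_le.2 hz)) ?_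
          (isPGroup_coreP s N) (le_centralizer_iff.1 hxc)
          (zpowers_le.2 (le_normalizer_coreP s N (hO.mem_of_commute hzb)))
          (zpowers_le.2 (le_normalizer_coreP s N hxN)) fun c hc => mem_centralizer_iff.2 fun y hy => ?_
        · exact (coprime_card_coreP hsq M').coprime_dvd_left (card_dvd_of_le (zpowers_le.2 hx))
        obtain ⟨i, rfl⟩ := mem_zpowers_iff.1 hy
        have hcM' : c ∈ M' := hcN c ((mem_centralizer_iff.1 hc.2 z (mem_zpowers z)).symm)
        exact ((commute_cross hs hq hsq.symm hc.1 hx hcM' hxN).zpow_right i).symm.eq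
      exact fun c hc => mem_cent.2 (mem_centralizer_iff.1 (hU (mem_zpowers x)) c hc)
    · refine commute_of_inverted (odd_coreP hyp hO hs) h.ha
        (le_normalizer_coreP s N (hO.mem_of_commute hab.comm)) (le_normalizer_coreP s N hxN)
        ?_ (hO.coprime_order hs hq hsq hxq) (hinv x hx) fun d hd' => ?_
      · obtain ⟨k, hk⟩ := hxq
        have hq2 : q ≠ 2 := by
          rintro rfl
          have hnt : coreP 2 M' ≠ ⊥ := (dvd_card_fit_iff M').1 hqd
          haveI : Fact (Nat.Prime 2) := ⟨Nat.prime_two⟩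
          have h2 : IsPGroup 2 (zpowers a) :=
            IsPGroup.of_card (n := 1) (by rw [Nat.card_zpowers, h.ha, pow_one])
          have hne := LocalStructure.inf_centralizer_ne_bot (isPGroup_coreP 2 M') hnt h2
            (zpowers_le.2 (le_normalizer_coreP 2 M' haM'))
          refine hne ((Subgroup.eq_bot_iff_forall _).2 fun w hw => ?_)
          exact mem_bot.1 ((hQ.coreP_inf_eq_bot hd).le
            ⟨hw.1, h.le (mem_cent.2 (mem_centralizer_iff.1 hw.2 a (mem_zpowers a)).symm)⟩)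
        exact (hq.odd_of_ne_two hq2).pow.of_dvd_nat (orderOf_dvd_of_pow_eq_one hk)
      · have hdz := mem_cent.1 (h.coreP_le_cent_z hyp hab hO hp hs hsp hz hza hzb hd'.1)
        exact mem_cent.2 (commute_cross hs hq hsq.symm hd'.1 hx (hcN d hdz) hxN).eq
  exfalso
  have hzL := hcc M' hM'.1 hstar a h.ha haM' M h.comp (inf_le_right.trans h.le) z
    ⟨hzM', map_subtype_le _ hz⟩ hzo hza
  rcases hlay with ⟨r, y, hr, hrp, hy, hy1, hya, hyb, hyM⟩ |
    ⟨r, c, hr, hrp, hr2, hc, hca, hcb, hcM, her⟩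
  · have hyz : Commute y z := commute_coreP hr hp hrp hy hz
    have hY : zpowers y ≤ Cent a ⊓ Cent b := zpowers_le.2 ⟨mem_cent.2 hya.eq, mem_cent.2 hyb.eq⟩
    rcases hcf M' hM'.1 hstar a b hab haM' hbM'
      (zpowers y) (by rw [Nat.card_zpowers]; exact odd_order hyp h hr hy) (zpowers_le.2 (hcN y hyz))
      hY with ⟨z', c', g', hz', -, hpair, -, hcyc, hfix⟩ | hA
    swap
    · exact h.false_of_altLayer hyp hnb hcc hab hM' hstar haM' hp hz hz1 hza hcN hzL hr hrp hy hy1
        hya hA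
    obtain ⟨hyc, hyg⟩ := hfix y (mem_zpowers y)
    refine no_cycle_of_complement h.comp hpair hcyc (hyM (mem_cent.2 ?_)) (hyM (mem_cent.2 hyg.symm))
    rcases hz' with rfl | rfl | rfl | rfl
    · exact (Commute.one_left y).eq
    · exact hya.symm.eq
    · exact hyb.symm.eq
    · exact (hya.mul_right hyb).symm.eq
  · have hcz : Commute c z := commute_coreP hr hp hrp hc hz
    rcases hst M' hM'.1 hstar a b hab haM' hbM' r hr hr2 c e z (hcN c hcz) heM' hzM'
      (coe_pow_eq_one (isPGroup_coreP r M) hc) her hca hcb heb hea hz1 hzo hzb hza hcz hez hzL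
      with h1 | h1
    · exact not_layOf_le hstar (isSolvable_of_complement h.comp) fun x hx =>
        hcM (mem_cent.2 ((h1 x hx).symm).eq)
    · exact not_layOf_le hstar (isSolvable_of_complement hO.comp) fun x hx =>
        heN (mem_cent.2 ((h1 x hx).symm).eq)

end Over

end Cfsg.Agent.GW
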