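import Cfsg.Agent.Lib.GW.PartII.CompInverted
import Cfsg.Agent.Lib.GW.PartII.NotMaxLocal

/-!
# The layer hypotheses of case C hold

`inverted_layer` and `same_torus`, from `CompInverted`.
-/

set_option autoImplicit false

namespace Cfsg.Agent.GW

open Subgroup

universe u

variable {G : Type u} [Group G] [Finite G] {S : Sylow 2 G} {t : G}

theorem inverted_layer (hyp : Hyp S t) (hk : ProperKnown G) : InvertedLayer G :=
  fun _ hH hL _ ha haH _ hcM hle _ hz hodd hinv =>
    inverted_commute_layer hyp hk hH hL ha haH hcM hle hz hodd hinv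

theorem same_torus (hyp : Hyp S t) (hk : ProperKnown G) : SameTorus G :=
  fun _ hH hL _ _ h haH hbH _ hr hr2 _ _ _ hcH hgH hzH hc hg hca hcb hgb hga hz1 _ hzb hza _ _ hzL =>
    commute_layer_of_tori hyp hk hH hL h haH hbH hr hr2 hcH hgH hzH hc hg hca hcb hgb hga hz1 hzb hza hzL

end Cfsg.Agent.GW
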