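import Cfsg.Agent.Lib.GW.PartII.NotMax
import Cfsg.Agent.Lib.GW.PartII.CompFacts

/-!
# Case C with the layer facts discharged from `ProperKnown`
-/

set_option autoImplicit false

namespace Cfsg.Agent.GW

open Subgroup

universe u

variable {G : Type u} [Group G] [Finite G] {S : Sylow 2 G} {t : G}

/-- If no maximal subgroup over `Cent t` fuses, `Cent t` is maximal. -/
theorem cent_isCoatom_of_properKnown (hyp : Hyp S t) (hk : ProperKnown G) (hcf : CycleFixed G)
    (hnb : ∀ N : Subgroup G, IsCoatom N → Cent t ≤ N → Cfsg.HasNormalPComplement 2 N) :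
    IsCoatom (Cent t) :=
  cent_isCoatom hyp hcf (inverted_layer hyp hk) (same_torus hyp hk) hnb

end Cfsg.Agent.GW
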