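import Cfsg.Agent.Lib.GW.OuterPair
import Cfsg.Agent.Lib.GW.CompCent

/-!
# Automorphisms of the known groups that fix a four group or an involution

For `E` equal to `PSL₂(q)` (`q` odd) or `A₇`:

* `sq_eq_one_of_pair`: in `PSL₂(q)` the elements centralising a four group square to one;
* `eq_one_of_outer_fixed`: if an involutory automorphism fixes no four group, an element of odd
  order fixed by it and commuting with a fixed involution is trivial;
* `eq_one_of_card_nine`: on `PSL₂(9)` an automorphism of odd period fixing a four group is trivial;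
* `seven_inner`: automorphisms of odd period of `A₇` are inner;
* `seven_card_dvd`: odd subgroups of an involution centraliser in `A₇` have order dividing 3.
-/

set_option autoImplicit false
set_option linter.style.haveILetI false
set_option linter.unusedSectionVars false

namespace Cfsg.Agent.GW.CompAut

open Matrix Subgroup QuadraticAlgebra
open Cfsg.Agent.AutPSL
open BSW (sq_of_order ne_one_of_order)
open GW.OuterPair (fix mem_fix NoFour noFour_congr fix_congr)
open scoped MatrixGroups

universe u

/-- An element of odd order squaring to one is trivial. -/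
theorem eq_one_of_sq {X : Type*} [Group X] {x : X} (hx : Odd (orderOf x)) (h : x * x = 1) : x = 1 := by
  obtain ⟨j, hj⟩ := hx
  have := pow_orderOf_eq_one x
  rwa [hj, pow_succ, pow_mul, pow_two, h, one_pow, one_mul] at this

section PSL

variable {F : Type} [Field F] [Fintype F]

local notation "L₂" => Matrix.ProjectiveSpecialLinearGroup (Fin 2) F

/-- In a dihedral group only elements of square one centralise a four group with central member. -/
theorem dihedral_sq_eq_one {n : ℕ} [NeZero n] {z x k : DihedralGroup n} (hzc : ∀ d, z * d = d * z)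
    (hz : z * z = 1) (hz1 : z ≠ 1) (hx : x * x = 1) (hx1 : x ≠ 1) (hxz : x ≠ z)
    (hkx : k * x = x * k) : k * k = 1 := by
  by_cases hn : n ≤ 2
  · have hn0 : n ≠ 0 := NeZero.ne n
    obtain rfl | rfl : n = 1 ∨ n = 2 := by omega
    · exact (show ∀ k : DihedralGroup 1, k * k = 1 by decide) k
    · exact (show ∀ k : DihedralGroup 2, k * k = 1 by decide) k
  have key : ∀ v : ZMod n, v + v = 0 → v ≠ 0 → 2 * v.val = n := by
    intro v hv hv0
    have h1 : ((2 * v.val : ℕ) : ZMod n) = 0 := by
      push_cast; rw [ZMod.natCast_zmod_val, two_mul, hv]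
    obtain ⟨c, hc⟩ := (ZMod.natCast_eq_zero_iff _ _).1 h1
    have hlt := ZMod.val_lt v
    have hne : v.val ≠ 0 := fun h => hv0 ((ZMod.val_eq_zero v).1 h)
    rcases c with _ | _ | c
    · omega
    · omega
    · nlinarith
  rcases k with j | j
  swap
  · exact DihedralGroup.sr_mul_self j
  rcases x with i | i
  swap
  · simp only [DihedralGroup.r_mul_sr, DihedralGroup.sr_mul_r, DihedralGroup.sr.injEq] at hkx
    rw [DihedralGroup.r_mul_r, DihedralGroup.one_def, DihedralGroup.r.injEq]
    linear_combination -hkx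
  exfalso
  rcases z with m | m
  swap
  · -- a central reflection forces `n ≤ 2`
    have h1 := hzc (DihedralGroup.r 1)
    simp only [DihedralGroup.sr_mul_r, DihedralGroup.r_mul_sr, DihedralGroup.sr.injEq] at h1
    have h2 : ((2 : ℕ) : ZMod n) = 0 := by push_cast; linear_combination h1
    exact hn (Nat.le_of_dvd two_pos ((ZMod.natCast_eq_zero_iff _ _).1 h2))
  rw [DihedralGroup.r_mul_r, DihedralGroup.one_def, DihedralGroup.r.injEq] at hx hz
  refine hxz (congrArg DihedralGroup.r (ZMod.val_injective n ?_))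
  have := key i hx fun h => hx1 (by rw [h]; rfl)
  have := key m hz fun h => hz1 (by rw [h]; rfl)
  omega

/-- In `PSL₂(q)` the elements centralising a four group square to one. -/
theorem sq_eq_one_of_pair (h2 : (2 : F) ≠ 0) {z x k : L₂} (h : Pair z x) (hkz : Commute k z)
    (hkx : Commute k x) : k * k = 1 := by
  obtain ⟨n, hn, ⟨e⟩⟩ := PSL2.dihedral_centralizer_involution h2 h.ha
  have hodd := PSL2.odd_card_iff.2 h2
  haveI : NeZero n := ⟨by
    have h1 := Fintype.one_lt_card (α := F)
    obtain ⟨j, hj⟩ := hodd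
    omega⟩
  set C := centralizer ({z} : Set L₂)
  let z' : C := ⟨z, mem_centralizer_singleton_iff.2 rfl⟩
  let x' : C := ⟨x, mem_centralizer_singleton_iff.2 h.comm.symm⟩
  let k' : C := ⟨k, mem_centralizer_singleton_iff.2 hkz.eq⟩
  have hz : z' * z' = 1 := Subtype.ext (sq_of_order h.ha)
  have hx : x' * x' = 1 := Subtype.ext (sq_of_order h.hb)
  have key := dihedral_sq_eq_one (z := e z') (x := e x') (k := e k')
    (fun d => by
      obtain ⟨c, rfl⟩ := e.surjective d
      rw [← map_mul, ← map_mul]
      exact congrArg e (Subtype.ext (mem_centralizer_singleton_iff.1 c.2).symm))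
    (by rw [← map_mul, hz, map_one])
    (fun e1 => ne_one_of_order h.ha (congrArg Subtype.val (e.map_eq_one_iff.1 e1)))
    (by rw [← map_mul, hx, map_one])
    (fun e1 => ne_one_of_order h.hb (congrArg Subtype.val (e.map_eq_one_iff.1 e1)))
    (fun e1 => h.ne (congrArg Subtype.val (e.injective e1)).symm)
    (by rw [← map_mul, ← map_mul]; exact congrArg e (Subtype.ext hkx.eq))
  rw [← map_mul, e.map_eq_one_iff] at key
  exact congrArg Subtype.val key

/-- The fixed points of `√c`: an element of odd order commuting with an involution is trivial. -/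
theorem eq_one_of_gmat (h2 : (2 : F) ≠ 0) {c : F} {g : GL (Fin 2) F} (hg : g.val = OuterGen.gmat c)
    (hc : ¬ IsSquare (-c)) {z r : L₂} (hz : z ∈ fix (conjP g : MulAut L₂))
    (hr : r ∈ fix (conjP g : MulAut L₂)) (hzo : orderOf z = 2) (hro : Odd (orderOf r))
    (hzr : Commute r z) : r = 1 := by
  have hc0 : c ≠ 0 := fun h => hc (by rw [h, neg_zero]; exact IsSquare.zero)
  -- coordinates of a fixed point
  have hform : ∀ s : SL(2, F), (PSL2.mk s : L₂) ∈ fix (conjP g : MulAut L₂) →
      (∃ A, s.1 = OuterGen.mat A 0 ∧ QuadraticAlgebra.norm (A : QuadraticAlgebra F c 0) = 1) ∨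
      (∃ B, s.1 = OuterGen.mat 0 B ∧ QuadraticAlgebra.norm (B : QuadraticAlgebra F c 0) = -1) := by
    intro s hs
    have h1 : (conjP g : MulAut L₂) (PSL2.mk s) = PSL2.mk s := mem_fix.1 hs
    rw [show (conjP g : MulAut L₂) (PSL2.mk s) = PSL2.mk (conjSL g s) from conjP_mk g s] at h1
    have hA : ∀ A B : QuadraticAlgebra F c 0, s.1 = OuterGen.mat A B →
        QuadraticAlgebra.norm A - QuadraticAlgebra.norm B = 1 := fun A B e => by
      rw [← OuterGen.det_mat, ← e, s.2]
    have hd := s.2
    rw [Matrix.det_fin_two] at hd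
    rcases PSL2.mk_eq_mk.1 h1 with h | h
    · have hm : g.val * s.1 = s.1 * g.val := by
        have := congrArg (fun t : SL(2, F) => t.1 * g.val) h
        simp only [conjSL_coe] at this
        rwa [Matrix.mul_assoc, Units.inv_mul, Matrix.mul_one] at this
      rw [hg] at hm
      have e00 := congrFun (congrFun hm 0) 0
      have e10 := congrFun (congrFun hm 1) 0
      simp [OuterGen.mat, Matrix.mul_apply, Fin.sum_univ_two] at e00 e10
      refine Or.inl ⟨⟨s.1 0 0, s.1 1 0⟩, ?_, ?_⟩
      · ext i j
        fin_cases i <;> fin_cases j <;> simp [OuterGen.mat, e00, e10, mul_comm]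
      · rw [OuterGen.norm_eq]
        simp only
        linear_combination hd - s.1 1 0 * e00 + s.1 0 0 * e10
    · have hm : g.val * s.1 = -(s.1 * g.val) := by
        have := congrArg (fun t : SL(2, F) => t.1 * g.val) h
        simp only [conjSL_coe, Matrix.SpecialLinearGroup.coe_neg] at this
        rwa [Matrix.mul_assoc, Units.inv_mul, Matrix.mul_one, Matrix.neg_mul] at this
      rw [hg] at hm
      have e00 := congrFun (congrFun hm 0) 0
      have e10 := congrFun (congrFun hm 1) 0
      simp [OuterGen.mat, Matrix.mul_apply, Fin.sum_univ_two] at e00 e10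
      refine Or.inr ⟨⟨s.1 0 0, s.1 1 0⟩, ?_, ?_⟩
      · ext i j
        fin_cases i <;> fin_cases j <;> simp [OuterGen.mat] <;>
          first | linear_combination e00 | linear_combination e10
      · rw [OuterGen.norm_eq]
        simp only
        linear_combination -hd + s.1 0 0 * e10 - s.1 1 0 * e00
  obtain ⟨w, rfl⟩ := PSL2.mk_surjective z
  obtain ⟨s, rfl⟩ := PSL2.mk_surjective r
  -- no involution commutes with `√c`
  have hre : ∀ A : QuadraticAlgebra F c 0, QuadraticAlgebra.norm A = 1 → A.re ≠ 0 := by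
    intro A hA h0
    rw [OuterGen.norm_eq, h0] at hA
    refine hc ⟨A.im⁻¹, ?_⟩
    have him : A.im ≠ 0 := fun h => by rw [h] at hA; simp at hA
    field_simp
    linear_combination hA
  have hw2 : w * w = -1 := by
    have h1 : (PSL2.mk (w * w) : L₂) = 1 := by rw [map_mul]; exact sq_of_order hzo
    rcases PSL2.mk_eq_one.1 h1 with h | h
    · exfalso
      have hw : w.1 * w.1 = 1 := congrArg Subtype.val h
      rcases hform w hz with ⟨A, hA, hn⟩ | ⟨B, hB, hn⟩
      · rw [hA, OuterGen.mat_mul] at hw
        have hm1 : (1 : Matrix (Fin 2) (Fin 2) F) = OuterGen.mat (1 : QuadraticAlgebra F c 0) 0 := by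
          ext i j; fin_cases i <;> fin_cases j <;> simp [OuterGen.mat]
        rw [hm1] at hw
        have h2' := congrArg QuadraticAlgebra.im (OuterGen.mat_inj h2 hc0 hw).1
        simp at h2'
        have him : A.im = 0 := by
          have : (2 * A.re) * A.im = 0 := by linear_combination h2'
          exact (mul_eq_zero.1 this).resolve_left (mul_ne_zero h2 (hre A hn))
        rw [OuterGen.norm_eq, him] at hn
        have hw1 : A.re = 1 ∨ A.re = -1 := mul_self_eq_one_iff.1 (by linear_combination hn)
        refine ne_one_of_order hzo (PSL2.mk_eq_one.2 (hw1.imp (fun e => Subtype.ext ?_) fun e =>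
          Subtype.ext ?_))
        · rw [hA]; ext i j; fin_cases i <;> fin_cases j <;> simp [OuterGen.mat, him, e]
        · rw [hA, Matrix.SpecialLinearGroup.coe_neg]
          ext i j; fin_cases i <;> fin_cases j <;> simp [OuterGen.mat, him, e]
      · rw [hB, OuterGen.mat_mul] at hw
        have hm1 : (1 : Matrix (Fin 2) (Fin 2) F) = OuterGen.mat (1 : QuadraticAlgebra F c 0) 0 := by
          ext i j; fin_cases i <;> fin_cases j <;> simp [OuterGen.mat]
        rw [hm1] at hw
        have h2' := congrArg QuadraticAlgebra.re (OuterGen.mat_inj h2 hc0 hw).1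
        simp at h2'
        rw [OuterGen.norm_eq] at hn
        exact h2 (by linear_combination -h2' + hn)
    · exact h
  obtain ⟨B, hB, hnB⟩ : ∃ B, w.1 = OuterGen.mat 0 B ∧
      QuadraticAlgebra.norm (B : QuadraticAlgebra F c 0) = -1 := by
    rcases hform w hz with ⟨A, hA, hn⟩ | h
    · exfalso
      have hw : w.1 * w.1 = -1 := congrArg Subtype.val hw2
      rw [hA, OuterGen.mat_mul] at hw
      have hm1 : (-1 : Matrix (Fin 2) (Fin 2) F) = OuterGen.mat (-1 : QuadraticAlgebra F c 0) 0 := by
        ext i j; fin_cases i <;> fin_cases j <;> simp [OuterGen.mat]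
      rw [hm1] at hw
      have h2' := congrArg QuadraticAlgebra.re (OuterGen.mat_inj h2 hc0 hw).1
      simp at h2'
      rw [OuterGen.norm_eq] at hn
      have : (2 : F) * (A.re * A.re) = 0 := by linear_combination h2' + hn
      exact hre A (by rw [OuterGen.norm_eq]; exact hn)
        (mul_self_eq_zero.1 ((mul_eq_zero.1 this).resolve_left h2))
    · exact h
  rcases hform s hr with ⟨A, hA, hnA⟩ | ⟨B', hB', hnB'⟩
  · -- a rotation commuting with a reflection
    have hcom : (PSL2.mk (s * w) : L₂) = PSL2.mk (w * s) := by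
      rw [map_mul, map_mul]; exact hzr.eq
    have hB0 : B.re ≠ 0 ∨ B.im ≠ 0 := by
      by_contra h
      push Not at h
      rw [OuterGen.norm_eq, h.1, h.2] at hnB
      simp at hnB
    have hAim : A.im = 0 := by
      rcases PSL2.mk_eq_mk.1 hcom with h | h <;>
        have h' := congrArg Subtype.val h <;>
        simp only [Matrix.SpecialLinearGroup.coe_neg, Matrix.SpecialLinearGroup.coe_mul, hA, hB,
          OuterGen.mat_mul, OuterGen.mat_neg] at h' <;>
        have h1 := (OuterGen.mat_inj h2 hc0 h').2 <;>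
        have e1 := congrArg QuadraticAlgebra.re h1 <;>
        have e2 := congrArg QuadraticAlgebra.im h1 <;>
        simp at e1 e2
      · rcases hB0 with hb | hb
        · exact (mul_eq_zero.1 (show (2 * B.re) * A.im = 0 by linear_combination e2)).resolve_left
            (mul_ne_zero h2 hb)
        · exact (mul_eq_zero.1 (show (2 * c * B.im) * A.im = 0 by linear_combination e1)).resolve_left
            (mul_ne_zero (mul_ne_zero h2 hc0) hb)
      · exfalso
        rcases hB0 with hb | hb
        · exact hre A hnA ((mul_eq_zero.1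
            (show (2 * B.re) * A.re = 0 by linear_combination e1)).resolve_left (mul_ne_zero h2 hb))
        · exact hre A hnA ((mul_eq_zero.1
            (show (2 * B.im) * A.re = 0 by linear_combination e2)).resolve_left (mul_ne_zero h2 hb))
    rw [OuterGen.norm_eq, hAim] at hnA
    have hw1 : A.re = 1 ∨ A.re = -1 := mul_self_eq_one_iff.1 (by linear_combination hnA)
    refine PSL2.mk_eq_one.2 (hw1.imp (fun e => Subtype.ext ?_) fun e => Subtype.ext ?_)
    · rw [hA]; ext i j; fin_cases i <;> fin_cases j <;> simp [OuterGen.mat, hAim, e]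
    · rw [hA, Matrix.SpecialLinearGroup.coe_neg]
      ext i j; fin_cases i <;> fin_cases j <;> simp [OuterGen.mat, hAim, e]
  · -- reflections square to one
    refine eq_one_of_sq hro ?_
    rw [← map_mul]
    refine PSL2.mk_eq_one.2 (Or.inr (Subtype.ext ?_))
    rw [Matrix.SpecialLinearGroup.coe_mul, Matrix.SpecialLinearGroup.coe_neg, hB', OuterGen.mat_mul]
    rw [OuterGen.norm_eq] at hnB'
    ext i j
    fin_cases i <;> fin_cases j <;> simp [OuterGen.mat] <;>
      first | ring1 | linear_combination hnB' | (right; ring1)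

/-- On `PSL₂`: an involution fixing no four group, a fixed odd element commuting with a fixed
involution. -/
theorem eq_one_of_outer_fixed_psl (h2 : (2 : F) ≠ 0) {β : MulAut L₂} (hb : β * β = 1)
    (hN : NoFour (fix β)) {z r : L₂} (hz : z ∈ fix β) (hr : r ∈ fix β) (hzo : orderOf z = 2)
    (hro : Odd (orderOf r)) (hzr : Commute r z) : r = 1 := by
  obtain ⟨g, rfl, htr⟩ := OuterPair.invol_form h2 hb hN
  obtain ⟨c, k, -, hk⟩ := OuterPair.exists_conj_gmat h2 g htr
  set e : MulAut L₂ := (conjP k)⁻¹ with he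
  have hcg : MulAut.congr (e : L₂ ≃* L₂) (conjP g : MulAut L₂) = conjP (k⁻¹ * g * k) := by
    rw [map_mul, map_mul, map_inv]
    exact MulEquiv.ext fun w => rfl
  have hc := OuterPair.not_isSquare_of_gmat h2 hk (hcg ▸ noFour_congr (e : L₂ ≃* L₂) hN)
  have hmem : ∀ x ∈ fix (conjP g : MulAut L₂), e x ∈ fix (conjP (k⁻¹ * g * k) : MulAut L₂) :=
    fun x hx => by
      rw [← hcg, fix_congr]
      exact ⟨x, hx, rfl⟩
  have := eq_one_of_gmat h2 hk hc (hmem z hz) (hmem r hr) ((MulEquiv.orderOf_eq e z).trans hzo)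
    (by rw [MulEquiv.orderOf_eq]; exact hro) (Commute.map hzr e)
  exact e.map_eq_one_iff.1 this

/-- On `PSL₂(9)`: automorphisms of odd period fixing a four group are trivial. -/
theorem eq_one_nine (h9 : Fintype.card F = 9) {β : MulAut L₂} {n : ℕ} (hn : Odd n) (hβ : β ^ n = 1)
    {z x : L₂} (h : Pair z x) (hz : β z = z) (hx : β x = x) : β = 1 := by
  have h2 : (2 : F) ≠ 0 := PSL2.odd_card_iff.1 (by rw [h9]; decide)
  obtain ⟨g, σ, γ, hγ, rfl⟩ := exists_decomposition (m := 1) le_rfl β
  obtain ⟨g', hg'⟩ : ∃ g' : GL (Fin 2) F, (conjP g * fieldP σ * γ : MulAut L₂) = conjP g' * fieldP σ := by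
    rcases hγ with rfl | rfl
    · exact ⟨g, mul_one _⟩
    · obtain ⟨g₀, h₀⟩ := LocalBalance.invP_inner (F := F)
      exact ⟨g * g₀, by rw [mul_assoc, ← invP_mul_fieldP, h₀, map_mul, mul_assoc]⟩
  rw [hg'] at hβ hz hx ⊢
  obtain ⟨hσn, -⟩ := LocalBalance.eq_one_semilinear (m := 1) le_rfl
    ((conjP_mul_fieldP_pow (m := 1) σ g' n).symm.trans hβ)
  haveI : Fact (Nat.Prime 3) := ⟨Nat.prime_three⟩
  have hσ2 : σ ^ 2 = 1 := orderOf_dvd_iff_pow_eq_one.1
    (FieldExt.orderOf_dvd_and_card (p := 3) (f := 2) (by rw [h9]; norm_num) σ).1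
  obtain ⟨j, hj⟩ := hn
  have hσ : σ = 1 := by rwa [hj, pow_succ, pow_mul, hσ2, one_pow, one_mul] at hσn
  subst hσ
  rw [fieldP_one, mul_one] at hβ hz hx ⊢
  -- a square determinant: the automorphism is inner
  have hgg : (conjP g' : MulAut L₂) = conjP ((g' ^ (j + 1)) ^ 2) := by
    rw [map_pow, map_pow, ← pow_mul, show (j + 1) * 2 = n + 1 by omega, pow_succ, hβ, one_mul]
  set d : Fˣ := Matrix.GeneralLinearGroup.det (g' ^ (j + 1)) with hd
  set m : GL (Fin 2) F := Matrix.GeneralLinearGroup.scalar (Fin 2) d⁻¹ * (g' ^ (j + 1)) ^ 2 with hm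
  have hdet : m.val.det = 1 := by
    rw [hm, Units.val_mul, Matrix.det_mul, Units.val_pow_eq_pow_val, Matrix.det_pow]
    have : ((g' ^ (j + 1)).val).det = (d : F) := by rw [hd]; simp
    rw [this, LocalBalance.scal_smul, Matrix.det_smul, Matrix.det_one, Fintype.card_fin, mul_one,
      ← mul_pow, Units.inv_mul, one_pow]
  let s : SL(2, F) := ⟨m.val, hdet⟩
  have hinner : ∀ w : L₂, (conjP g' : MulAut L₂) w = PSL2.mk s * w * (PSL2.mk s)⁻¹ := by
    intro w
    have h1 : (conjP g' : MulAut L₂) = conjP (Matrix.SpecialLinearGroup.toGL s) := by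
      rw [hgg, show Matrix.SpecialLinearGroup.toGL s = m from Units.ext rfl, hm, map_mul, conjP_scalar,
        one_mul]
    obtain ⟨t, rfl⟩ := PSL2.mk_surjective w
    rw [h1, ← map_inv, ← map_mul, ← map_mul, ← conjSL_toGL]
    exact conjP_mk _ t
  rw [hinner] at hz hx
  have hs := sq_eq_one_of_pair h2 h (mul_inv_eq_iff_eq_mul.1 hz) (mul_inv_eq_iff_eq_mul.1 hx)
  refine MulEquiv.ext fun w => ?_
  have hsq : ∀ w : L₂, ((conjP g' : MulAut L₂) ^ 2) w = w := fun w => by
    rw [pow_two, MulAut.mul_apply, hinner, hinner,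
      show PSL2.mk s * (PSL2.mk s * w * (PSL2.mk s)⁻¹) * (PSL2.mk s)⁻¹ =
        PSL2.mk s * PSL2.mk s * w * (PSL2.mk s * PSL2.mk s)⁻¹ by group, hs]
    simp
  have hsq' : (conjP g' : MulAut L₂) ^ 2 = 1 := MulEquiv.ext hsq
  rw [hj, pow_succ, pow_mul, hsq', one_pow, one_mul] at hβ
  rw [hβ]

end PSL

/-- An involutory automorphism without fixed four group. -/
theorem eq_one_of_outer_fixed {E : Type u} [Group E] (hk : GW.IsKnown E) {β : MulAut E}
    (hb : β * β = 1) (hN : NoFour (fix β)) {z r : E} (hz : z ∈ fix β) (hr : r ∈ fix β)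
    (hzo : orderOf z = 2) (hro : Odd (orderOf r)) (hzr : Commute r z) : r = 1 := by
  rcases hk with ⟨F, iF, iF', hodd, -, ⟨e⟩⟩ | ⟨⟨e⟩⟩
  · have hmem : ∀ x ∈ fix β, e x ∈ fix (MulAut.congr e β) := fun x hx => by
      rw [fix_congr]
      exact ⟨x, hx, rfl⟩
    have := eq_one_of_outer_fixed_psl (PSL2.odd_card_iff.1 hodd) (β := MulAut.congr e β)
      (by rw [← map_mul, hb, map_one]) (noFour_congr e hN) (hmem z hz) (hmem r hr)
      ((e.orderOf_eq z).trans hzo) (by rw [e.orderOf_eq]; exact hro) (Commute.map hzr e)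
    exact e.map_eq_one_iff.1 this
  · exact absurd (noFour_congr e hN)
      (OuterPair.not_noFour_seven _ (by rw [← map_mul, hb, map_one]))

/-- `PSL₂(q)`, `q` odd and greater than 3, as an abstract group. -/
def IsPSLTwo (E : Type u) [Group E] (q : ℕ) : Prop :=
  ∃ (F : Type) (_ : Field F) (_ : Fintype F), Odd (Fintype.card F) ∧ 3 < Fintype.card F ∧
    Fintype.card F = q ∧ Nonempty (E ≃* Matrix.ProjectiveSpecialLinearGroup (Fin 2) F)

theorem known_cases {E : Type u} [Group E] (hk : GW.IsKnown E) :
    (∃ q, IsPSLTwo E q) ∨ Nonempty (E ≃* alternatingGroup (Fin 7)) :=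
  hk.imp_left fun ⟨F, iF, iF', h1, h2, h3⟩ => ⟨_, F, iF, iF', h1, h2, rfl, h3⟩

theorem IsPSLTwo.sq_eq_one {E : Type u} [Group E] {q : ℕ} (hE : IsPSLTwo E q) {z x k : E}
    (h : Pair z x) (hkz : Commute k z) (hkx : Commute k x) : k * k = 1 := by
  obtain ⟨F, iF, iF', hodd, -, -, ⟨e⟩⟩ := hE
  have := sq_eq_one_of_pair (PSL2.odd_card_iff.1 hodd)
    (z := e z) (x := e x) (k := e k)
    ⟨(e.orderOf_eq z).trans h.ha, (e.orderOf_eq x).trans h.hb, by rw [← map_mul, ← map_mul, h.comm],
      e.injective.ne h.ne⟩ (Commute.map hkz e) (Commute.map hkx e)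
  rwa [← map_mul, e.map_eq_one_iff] at this

theorem IsPSLTwo.eq_one_of_nine {E : Type u} [Group E] (hE : IsPSLTwo E 9) {β : MulAut E} {n : ℕ}
    (hn : Odd n) (hβ : β ^ n = 1) {z x : E} (h : Pair z x) (hz : β z = z) (hx : β x = x) : β = 1 := by
  obtain ⟨F, iF, iF', -, -, h9, ⟨e⟩⟩ := hE
  have := eq_one_nine h9 hn (β := MulAut.congr e β) (by rw [← map_pow, hβ, map_one])
    (z := e z) (x := e x)
    ⟨(e.orderOf_eq z).trans h.ha, (e.orderOf_eq x).trans h.hb, by rw [← map_mul, ← map_mul, h.comm],
      e.injective.ne h.ne⟩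
    (by simp [MulAut.congr, hz]) (by simp [MulAut.congr, hx])
  exact (MulAut.congr e).injective (this.trans (map_one _).symm)

section Seven

variable {E : Type u} [Group E]

/-- Automorphisms of odd period of `A₇` are inner. -/
theorem seven_inner (e : E ≃* alternatingGroup (Fin 7)) {β : MulAut E} {n : ℕ} (hn : Odd n)
    (hβ : β ^ n = 1) : ∃ p : E, ∀ w, β w = p * w * p⁻¹ := by
  have hb := Cfsg.Agent.S2119.result 7 (by omega) (by omega)
  obtain ⟨π, hπ⟩ := hb.2 (MulAut.congr e β)
  have hπn : π ^ n = 1 := hb.1 (by rw [map_pow, hπ, ← map_pow, hβ, map_one, map_one])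
  have hs : Equiv.Perm.sign π = 1 := by
    have h1 := congrArg Equiv.Perm.sign hπn
    rw [map_pow, map_one] at h1
    rcases Int.units_eq_one_or (Equiv.Perm.sign π) with h | h
    · exact h
    · rw [h, hn.neg_one_pow] at h1
      exact absurd h1 (by decide)
  refine ⟨e.symm ⟨π, Equiv.Perm.mem_alternatingGroup.2 hs⟩, fun w => ?_⟩
  apply e.injective
  rw [map_mul, map_mul, map_inv, e.apply_symm_apply]
  have h1 : MulAut.congr e β (e w) = e (β w) := by simp [MulAut.congr]
  rw [← h1, ← hπ]
  refine Subtype.ext ?_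
  rw [MulAut.conjNormal_apply]
  rfl

/-- Odd subgroups of involution centralisers of `A₇` have order dividing 3. -/
theorem seven_card_dvd (e : E ≃* alternatingGroup (Fin 7)) {t : E} (ht : orderOf t = 2)
    {R : Subgroup E} (hR : Odd (Nat.card R)) (hRt : R ≤ centralizer ({t} : Set E)) :
    Nat.card R ∣ 3 := by
  classical
  set t' : Equiv.Perm (Fin 7) := ((e t : alternatingGroup (Fin 7)) : Equiv.Perm (Fin 7)) with ht'
  have ho : orderOf t' = 2 := by rw [ht', Subgroup.orderOf_coe, e.orderOf_eq, ht]
  let f : E →* Equiv.Perm (Fin 7) := (alternatingGroup (Fin 7)).subtype.comp e.toMonoidHom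
  have hf : Function.Injective f := (alternatingGroup (Fin 7)).subtype_injective.comp e.injective
  have hle : R.map f ≤ centralizer ({t'} : Set (Equiv.Perm (Fin 7))) := by
    rintro _ ⟨x, hx, rfl⟩
    refine mem_centralizer_singleton_iff.2 ?_
    show f x * f t = f t * f x
    rw [← map_mul, ← map_mul, mem_centralizer_singleton_iff.1 (hRt hx)]
  have hd := Subgroup.card_dvd_of_le hle
  rw [card_map_of_injective hf] at hd
  -- the cycle type of an even involution
  obtain ⟨m, hm⟩ := Equiv.Perm.cycleType_prime_order (by rw [ho]; exact Nat.prime_two)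
  rw [ho] at hm
  have hsum : t'.cycleType.sum ≤ 7 := by
    rw [Equiv.Perm.sum_cycleType]
    exact (Finset.card_le_univ _).trans (by simp)
  rw [hm, Multiset.sum_replicate, smul_eq_mul] at hsum
  have hsign := Equiv.Perm.mem_alternatingGroup.1 (e t).2
  rw [← ht', Equiv.Perm.sign_of_cycleType, hm, Multiset.sum_replicate, Multiset.card_replicate,
    smul_eq_mul] at hsign
  have hm2 : m = 1 := by
    have : m ≤ 2 := by omega
    interval_cases m <;> first | rfl | exact absurd hsign (by decide)
  rw [Equiv.Perm.nat_card_centralizer, hm, hm2] at hd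
  norm_num at hd
  have h48 : Nat.card R ∣ 2 ^ 4 * 3 := by simpa using hd
  exact ((Nat.coprime_two_right.2 hR).pow_right 4).dvd_of_dvd_mul_left h48

end Seven

end Cfsg.Agent.GW.CompAut
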