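import Mathlib.Tactic
import Mathlib.Data.Rat.Lemmas

/-!
# The component configuration: arithmetic of the signed degrees

`a, b, c` are the signed degrees, `x, y` the orders of the two groups of fixed points, `p, q` the two
indices, `i` the index of the centraliser of the involution.
-/

set_option autoImplicit false

namespace Cfsg.Agent.GW.CompBound

/-- The relations between the signed degrees, the fixed points and the indices. -/
structure Arith (m a b c x y p q i : ℤ) : Prop where
  m_two : 2 ≤ m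
  m_even : 2 ∣ m
  sum : b + c = a + 1
  a_ne : a ≠ 1
  a_dvd : 4 * m ∣ a - 1
  b_dvd : 4 * m ∣ b - (1 + 2 * m)
  c_dvd : 4 * m ∣ c - (1 + 2 * m)
  x_pos : 0 < x
  y_pos : 0 < y
  p_pos : 0 < p
  q_pos : 0 < q
  px : p * x = q * y
  order : i * (a - 1) ^ 2 = 2 * a * (a + 1) * (p + q) ^ 2
  degree : 4 * (x * y) * (b * c) * (a - 1) ^ 2 = (x + y) ^ 2 * ((b - 1) * (c - 1)) * (a + 1) ^ 2

namespace Arith

variable {m a b c x y p q i : ℤ}

theorem swap (h : Arith m a b c x y p q i) : Arith m a c b y x q p i :=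
  { h with
    sum := by rw [add_comm]; exact h.sum
    b_dvd := h.c_dvd, c_dvd := h.b_dvd, x_pos := h.y_pos, y_pos := h.x_pos
    p_pos := h.q_pos, q_pos := h.p_pos, px := h.px.symm
    order := by rw [add_comm q]; exact h.order
    degree := by linear_combination h.degree }

theorem a_cases (h : Arith m a b c x y p q i) : 9 ≤ a ∨ a = -7 ∨ a ≤ -15 := by
  obtain ⟨k, hk⟩ := h.m_even
  obtain ⟨l, hl⟩ := h.a_dvd
  have h8 : a - 1 = 8 * (k * l) := by rw [hl, hk]; ring
  have := h.a_ne
  omega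

theorem b_cases (h : Arith m a b c x y p q i) : 5 ≤ b ∨ b ≤ -3 := by
  obtain ⟨k, hk⟩ := h.m_even
  obtain ⟨l, hl⟩ := h.b_dvd
  have h4 : b - 1 = 4 * (k * (2 * l + 1)) := by linear_combination hl + (4 * l + 2) * hk
  have hne : k * (2 * l + 1) ≠ 0 := mul_ne_zero (by have := h.m_two; omega) (by omega)
  omega

theorem b_ne (h : Arith m a b c x y p q i) : b * c ≠ 0 :=
  mul_ne_zero (by rcases h.b_cases with e | e <;> omega) (by rcases h.swap.b_cases with e | e <;> omega)

theorem a_cases_of_four (h : Arith m a b c x y p q i) (h4 : 4 ∣ m) : 17 ≤ a ∨ a = -15 ∨ a ≤ -31 := by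
  obtain ⟨k, hk⟩ := h4
  obtain ⟨l, hl⟩ := h.a_dvd
  have h16 : a - 1 = 16 * (k * l) := by rw [hl, hk]; ring
  have := h.a_ne
  omega

theorem b_cases_of_four (h : Arith m a b c x y p q i) (h4 : 4 ∣ m) : 9 ≤ b ∨ b ≤ -7 := by
  obtain ⟨k, hk⟩ := h4
  obtain ⟨l, hl⟩ := h.b_dvd
  have h8 : b - 1 = 8 * (k * (2 * l + 1)) := by linear_combination hl + (4 * l + 2) * hk
  have hne : k * (2 * l + 1) ≠ 0 := mul_ne_zero (by have := h.m_two; omega) (by omega)
  omega

theorem b_mod_of_fifteen (h : Arith m a b c x y p q i) (h4 : 4 ∣ m) (ha : a = -15) :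
    b % 16 = 9 := by
  obtain ⟨k, hk⟩ := h4
  have h1 : 4 * m ∣ 16 := by
    have := h.a_dvd
    rwa [ha, show (-15 : ℤ) - 1 = -16 by norm_num, dvd_neg] at this
  have h2 : m = 4 := by
    have := Int.le_of_dvd (by norm_num) h1
    have := h.m_two
    omega
  have := h.b_dvd
  rw [h2] at this
  omega

/-- A lower bound on `(1-1/b)(1-1/c)((a+1)/(a-1))²` bounds the ratio of `x` and `y`. -/
theorem ratio_core (h : Arith m a b c x y p q i) {P Q : ℤ}
    (hb : (0 < b * c → P * (b * c) * (a - 1) ^ 2 ≤ Q * ((b - 1) * (c - 1)) * (a + 1) ^ 2) ∧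
      (b * c < 0 → Q * ((b - 1) * (c - 1)) * (a + 1) ^ 2 ≤ P * (b * c) * (a - 1) ^ 2)) :
    P * (x + y) ^ 2 ≤ 4 * Q * (x * y) := by
  have ha : 0 < (a - 1) ^ 2 := pow_two_pos_of_ne_zero (sub_ne_zero.2 h.a_ne)
  have key : Q * ((b - 1) * (c - 1)) * (a + 1) ^ 2 * (x + y) ^ 2 =
      4 * Q * (x * y) * ((b * c) * (a - 1) ^ 2) := by linear_combination -Q * h.degree
  have hs := sq_nonneg (x + y)
  rcases h.b_ne.lt_or_gt with hd | hd
  · have h1 := mul_le_mul_of_nonneg_right (hb.2 hd) hs
    rw [key] at h1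
    have hX : b * c * (a - 1) ^ 2 < 0 := mul_neg_of_neg_of_pos hd ha
    refine (mul_le_mul_right_of_neg hX).1 ?_
    linarith
  · have h1 := mul_le_mul_of_nonneg_right (hb.1 hd) hs
    rw [key] at h1
    have hX : 0 < b * c * (a - 1) ^ 2 := mul_pos hd ha
    refine le_of_mul_le_mul_right ?_ hX
    linarith

theorem mul_le_of_opposite (h : Arith m a b c x y p q i) {L : ℤ} (hb : L ≤ b) (hc : c < 0)
    (hL : 0 < L) : b * c ≤ L * (a + 1 - L) := by
  have := h.sum
  nlinarith [mul_nonneg (sub_nonneg.2 hb) (show (0 : ℤ) ≤ L - c by omega)]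

/-- `a ≥ 9`. -/
theorem ratio_pos (h : Arith m a b c x y p q i) (ha : 9 ≤ a) : x < 3 * y := by
  have hbc : 4 * (x + y) ^ 2 ≤ 4 * 5 * (x * y) := by
    refine h.ratio_core ⟨fun hd => ?_, fun hd => ?_⟩
    · have hpos : 0 < b ∧ 0 < c := by
        rcases pos_and_pos_or_neg_and_neg_of_mul_pos hd with e | e
        · exact e
        · have := h.sum; omega
      have hb5 : 5 ≤ b := by rcases h.b_cases with e | e <;> omega
      have hc5 : 5 ≤ c := by rcases h.swap.b_cases with e | e <;> omega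
      have hD : 5 * (a - 4) ≤ b * c := by
        nlinarith [mul_nonneg (sub_nonneg.2 hb5) (sub_nonneg.2 hc5), h.sum]
      have hN : (b - 1) * (c - 1) = b * c - a := by linear_combination -h.sum
      rw [hN]
      nlinarith [mul_le_mul_of_nonneg_right hD
        (show (0 : ℤ) ≤ a ^ 2 + 18 * a + 1 by nlinarith), mul_le_mul_of_nonneg_left ha (sq_nonneg a)]
    · have hN : (b - 1) * (c - 1) = b * c - a := by linear_combination -h.sum
      rw [hN]
      nlinarith [mul_nonneg (show (0 : ℤ) ≤ -(b * c) by omega)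
        (show (0 : ℤ) ≤ a ^ 2 + 18 * a + 1 by nlinarith),
        mul_nonneg (show (0 : ℤ) ≤ a by omega) (sq_nonneg (a + 1))]
  by_contra hcon
  push Not at hcon
  nlinarith [mul_le_mul hcon hcon (by have := h.y_pos; omega) (by have := h.x_pos; omega),
    mul_pos h.x_pos h.y_pos, mul_pos h.y_pos h.y_pos]

/-- `a = -7`. -/
theorem ratio_seven (h : Arith m a b c x y p q i) (ha : a = -7) : x ≤ 6 * y := by
  have hN : (b - 1) * (c - 1) = b * c - a := by linear_combination -h.sum
  have hbc : 49 * (x + y) ^ 2 ≤ 4 * 100 * (x * y) := by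
    refine h.ratio_core ⟨fun hd => ?_, fun hd => ?_⟩
    · rw [hN, ha]; linarith
    · have hD : b * c ≤ -55 := by
        rcases h.b_cases with e | e
        · have hc : c < 0 := by nlinarith
          have := h.mul_le_of_opposite e hc (by norm_num)
          omega
        · have hc : 5 ≤ c := by
            rcases h.swap.b_cases with e' | e'
            · exact e'
            · nlinarith
          have := h.swap.mul_le_of_opposite hc (show b < 0 by omega) (by norm_num)
          rw [mul_comm c b] at this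
          omega
      rw [hN, ha]
      linarith
  by_contra hcon
  push Not at hcon
  nlinarith [mul_pos h.y_pos h.y_pos, mul_nonneg (show (0 : ℤ) ≤ x - 6 * y by omega) h.y_pos.le,
    mul_nonneg (show (0 : ℤ) ≤ x - 6 * y by omega) h.x_pos.le]

/-- `a ≤ -15`. -/
theorem ratio_neg (h : Arith m a b c x y p q i) (ha : a ≤ -15) : 2 * x ≤ 9 * y := by
  have hN : (b - 1) * (c - 1) = b * c - a := by linear_combination -h.sum
  have hbc : 3 * (x + y) ^ 2 ≤ 4 * 5 * (x * y) := by
    refine h.ratio_core ⟨fun hd => ?_, fun hd => ?_⟩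
    · rw [hN]
      nlinarith [mul_nonneg hd.le (show (0 : ℤ) ≤ 2 * a ^ 2 + 16 * a + 2 by nlinarith),
        mul_nonneg (show (0 : ℤ) ≤ -a by omega) (sq_nonneg (a + 1))]
    · have hD : b * c ≤ 5 * (a + 1 - 5) := by
        rcases h.b_cases with e | e
        · exact h.mul_le_of_opposite e (by nlinarith) (by norm_num)
        · have hc : 5 ≤ c := by
            rcases h.swap.b_cases with e' | e'
            · exact e'
            · nlinarith
          rw [mul_comm b c]
          exact h.swap.mul_le_of_opposite hc (by omega) (by norm_num)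
      rw [hN]
      nlinarith [mul_le_mul_of_nonneg_right hD
        (show (0 : ℤ) ≤ 2 * a ^ 2 + 16 * a + 2 by nlinarith),
        mul_nonneg (sq_nonneg a) (show (0 : ℤ) ≤ -15 - a by omega),
        mul_nonneg (show (0 : ℤ) ≤ -a by omega) (show (0 : ℤ) ≤ -15 - a by omega)]
  by_contra hcon
  push Not at hcon
  nlinarith [mul_pos h.y_pos h.y_pos, mul_nonneg (show (0 : ℤ) ≤ 2 * x - 9 * y by omega) h.y_pos.le,
    mul_nonneg (show (0 : ℤ) ≤ 2 * x - 9 * y by omega) h.x_pos.le]

/-- `i ≤ 68 p²`. -/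
theorem index_le (h : Arith m a b c x y p q i) : i ≤ 68 * p ^ 2 := by
  have ha1 : 0 < (a - 1) ^ 2 := pow_two_pos_of_ne_zero (sub_ne_zero.2 h.a_ne)
  refine le_of_mul_le_mul_right ?_ ha1
  rw [h.order]
  have hp := h.p_pos
  have hq := h.q_pos
  have hy := h.y_pos
  have hx := h.x_pos
  have hpq : ∀ {k l : ℤ}, 0 ≤ l → l * x ≤ k * y → l * q ≤ k * p := fun {k l} hl hxy => by
    refine le_of_mul_le_mul_right ?_ hy
    calc l * q * y = p * (l * x) := by linear_combination -l * h.px
      _ ≤ p * (k * y) := mul_le_mul_of_nonneg_left hxy hp.le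
      _ = k * p * y := by ring
  rcases h.a_cases with ha | ha | ha
  · have hk := hpq (k := 3) (l := 1) (by norm_num) (by linarith [h.ratio_pos ha])
    have hs : (p + q) ^ 2 ≤ 16 * p ^ 2 := by nlinarith
    have := mul_le_mul_of_nonneg_left hs (show (0 : ℤ) ≤ 2 * a * (a + 1) by positivity)
    nlinarith [mul_nonneg (sq_nonneg p) (show (0 : ℤ) ≤ 36 * a ^ 2 - 168 * a + 68 by nlinarith)]
  · have hk := hpq (k := 6) (l := 1) (by norm_num) (by linarith [h.ratio_seven ha])
    have hs : (p + q) ^ 2 ≤ 49 * p ^ 2 := by nlinarith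
    rw [ha]
    nlinarith
  · have hk := hpq (k := 9) (l := 2) (by norm_num) (by linarith [h.ratio_neg ha])
    have hs : 4 * (p + q) ^ 2 ≤ 121 * p ^ 2 := by nlinarith
    have hA : 0 ≤ 2 * a * (a + 1) := by nlinarith
    have := mul_le_mul_of_nonneg_left hs hA
    nlinarith [mul_nonneg (sq_nonneg p) (show (0 : ℤ) ≤ 30 * a ^ 2 - 786 * a + 272 by nlinarith)]

/-- `i ≤ 16 p²` for the larger index. -/
theorem index_le_max (h : Arith m a b c x y p q i) (hpq : q ≤ p) : i ≤ 16 * p ^ 2 := by
  have ha1 : 0 < (a - 1) ^ 2 := pow_two_pos_of_ne_zero (sub_ne_zero.2 h.a_ne)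
  refine le_of_mul_le_mul_right ?_ ha1
  rw [h.order]
  have hA : 0 ≤ 2 * a * (a + 1) := by rcases h.a_cases with ha | ha | ha <;> nlinarith
  have hs : (p + q) ^ 2 ≤ 4 * p ^ 2 := by nlinarith [h.q_pos, h.p_pos]
  have := mul_le_mul_of_nonneg_left hs hA
  rcases h.a_cases with ha | ha | ha <;>
    nlinarith [mul_nonneg (sq_nonneg p) (show (0 : ℤ) ≤ a ^ 2 - 5 * a + 2 by nlinarith)]

/-- `i ≤ 10 p²` for the larger index when `4 ∣ m`. -/
theorem index_le_max_of_four (h : Arith m a b c x y p q i) (h4 : 4 ∣ m) (hpq : q ≤ p) :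
    i ≤ 10 * p ^ 2 := by
  have ha1 : 0 < (a - 1) ^ 2 := pow_two_pos_of_ne_zero (sub_ne_zero.2 h.a_ne)
  refine le_of_mul_le_mul_right ?_ ha1
  rw [h.order]
  have hA : 0 ≤ 2 * a * (a + 1) := by rcases h.a_cases_of_four h4 with ha | ha | ha <;> nlinarith
  have hs : (p + q) ^ 2 ≤ 4 * p ^ 2 := by nlinarith [h.q_pos, h.p_pos]
  have := mul_le_mul_of_nonneg_left hs hA
  rcases h.a_cases_of_four h4 with ha | ha | ha <;>
    nlinarith [mul_nonneg (sq_nonneg p) (show (0 : ℤ) ≤ a ^ 2 - 14 * a + 5 by nlinarith)]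

theorem not_square_345 {z w : ℤ} (h : z ^ 2 = 345 * w ^ 2) : w = 0 := by
  by_contra hw
  have hsq : IsSquare ((345 : ℕ) : ℚ) := ⟨(z : ℚ) / w, by
    have hw' : (w : ℚ) ≠ 0 := Int.cast_ne_zero.2 hw
    have h' : (z : ℚ) ^ 2 = 345 * (w : ℚ) ^ 2 := by exact_mod_cast h
    field_simp
    push_cast
    linear_combination -h'⟩
  obtain ⟨n, hn⟩ := Rat.isSquare_natCast_iff.1 hsq
  rcases Nat.lt_or_ge n 19 with e | e
  · have := Nat.mul_le_mul (Nat.le_of_lt_succ e) (Nat.le_of_lt_succ e)
    omega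
  · have := Nat.mul_le_mul e e
    omega

/-- `x < 3 y` when `4 ∣ m`. -/
theorem not_ratio (h : Arith m a b c x y p q i) (h4 : 4 ∣ m) : x < 3 * y := by
  rcases h.a_cases_of_four h4 with ha | ha | ha
  · exact h.ratio_pos (by omega)
  all_goals
    have hN : (b - 1) * (c - 1) = b * c - a := by linear_combination -h.sum
    by_contra hcon
    push Not at hcon
    have hbad : ∀ {P Q : ℤ}, 0 < Q → 3 * Q < 4 * P → P * (x + y) ^ 2 ≤ 4 * Q * (x * y) → False :=
      fun {P Q} hQ hPQ hle => by
        have hs : 0 < (x + y) ^ 2 := by have := h.x_pos; have := h.y_pos; positivity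
        have h3 : 16 * (x * y) ≤ 3 * (x + y) ^ 2 := by
          nlinarith [mul_nonneg (show (0 : ℤ) ≤ x - 3 * y by omega)
            (show (0 : ℤ) ≤ 3 * x - y by have := h.y_pos; omega)]
        nlinarith [mul_lt_mul_of_pos_right hPQ hs, mul_le_mul_of_nonneg_left h3 hQ.le]
  · -- `a = -15`
    by_cases hnine : b = 9 ∨ c = 9
    · have hd := h.degree
      have hsum := h.sum
      have hk : 49 * (x + y) ^ 2 = 276 * (x * y) := by
        rcases hnine with e | e
        · have hc : c = -23 := by omega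
          rw [e, hc, ha] at hd; linarith
        · have hb : b = -23 := by omega
          rw [e, hb, ha] at hd; linarith
      have := not_square_345 (z := 49 * x - 89 * y) (w := 4 * y) (by linear_combination 49 * hk)
      have := h.y_pos
      omega
    · push Not at hnine
      refine hbad (P := 94) (Q := 125) (by norm_num) (by norm_num)
        (h.ratio_core ⟨fun hd => ?_, fun hd => ?_⟩)
      · rw [hN, ha]; linarith
      · have hD : b * c ≤ -975 := by
          rcases h.b_cases_of_four h4 with e | e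
          · have := h.b_mod_of_fifteen h4 ha
            have := h.mul_le_of_opposite (L := 25) (by omega) (by nlinarith) (by norm_num)
            omega
          · have hc : 9 ≤ c := by
              rcases h.swap.b_cases_of_four h4 with e' | e'
              · exact e'
              · nlinarith
            have := h.swap.b_mod_of_fifteen h4 ha
            have := h.swap.mul_le_of_opposite (L := 25) (by omega) (show b < 0 by omega) (by norm_num)
            rw [mul_comm c b] at this
            omega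
        rw [hN, ha]
        linarith
  · refine hbad (P := 19) (Q := 25) (by norm_num) (by norm_num)
      (h.ratio_core ⟨fun hd => ?_, fun hd => ?_⟩)
    · rw [hN]
      nlinarith [mul_nonneg hd.le (show (0 : ℤ) ≤ 6 * a ^ 2 + 88 * a + 6 by nlinarith),
        mul_nonneg (show (0 : ℤ) ≤ -a by omega) (sq_nonneg (a + 1))]
    · have hD : b * c ≤ 9 * (a + 1 - 9) := by
        rcases h.b_cases_of_four h4 with e | e
        · exact h.mul_le_of_opposite e (by nlinarith) (by norm_num)
        · have hc : 9 ≤ c := by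
            rcases h.swap.b_cases_of_four h4 with e' | e'
            · exact e'
            · nlinarith
          rw [mul_comm b c]
          exact h.swap.mul_le_of_opposite hc (by omega) (by norm_num)
      rw [hN]
      nlinarith [mul_le_mul_of_nonneg_right hD
        (show (0 : ℤ) ≤ 6 * a ^ 2 + 88 * a + 6 by nlinarith),
        mul_nonneg (sq_nonneg a) (show (0 : ℤ) ≤ -31 - a by omega),
        mul_nonneg (show (0 : ℤ) ≤ -a by omega) (show (0 : ℤ) ≤ -31 - a by omega)]

/-- An odd prime power dividing `i` and prime to `p + q` is small. -/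
theorem pow_le (h : Arith m a b c x y p q i) {r k : ℕ} (hr : r.Prime)
    (hpq : ¬ (r : ℤ) ∣ p + q) (hdvd : ((r ^ k : ℕ) : ℤ) ∣ i) :
    ((r ^ k : ℕ) : ℤ) ≤ 2 * (p + q) + 2 := by
  obtain ⟨l, hl⟩ := h.a_dvd
  set e := 2 * m * l with he
  have hae : a = 2 * e + 1 := by rw [he]; linarith
  have he0 : e ≠ 0 := by have := h.a_ne; omega
  have hord : i * e ^ 2 = (2 * e + 1) * (e + 1) * (p + q) ^ 2 := by
    have := h.order
    rw [hae] at this
    linarith
  have hcop : IsCoprime (e ^ 2) ((2 * e + 1) * (e + 1)) :=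
    IsCoprime.pow_left (IsCoprime.mul_right ⟨-2, 1, by ring⟩ ⟨-1, 1, by ring⟩)
  have hes : e ∣ p + q := (Int.pow_dvd_pow_iff (n := 2) (by norm_num)).1
    (hcop.dvd_of_dvd_mul_left ⟨i, by linear_combination -hord⟩)
  have hpos : 0 < p + q := by have := h.p_pos; have := h.q_pos; omega
  have hele : |e| ≤ p + q := Int.le_of_dvd hpos (abs_dvd e _ |>.2 hes)
  have hrk : IsCoprime ((r ^ k : ℕ) : ℤ) ((p + q) ^ 2) := by
    rw [Nat.cast_pow]
    exact ((Prime.coprime_iff_not_dvd (Nat.prime_iff_prime_int.1 hr)).2 hpq).pow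
  have h2a : ((r ^ k : ℕ) : ℤ) ∣ (2 * e + 1) * (e + 1) :=
    hrk.dvd_of_dvd_mul_right (hord ▸ hdvd.mul_right _)
  have hone : ((r ^ k : ℕ) : ℤ) ∣ 2 * e + 1 ∨ ((r ^ k : ℕ) : ℤ) ∣ e + 1 := by
    have hp' : Prime (r : ℤ) := Nat.prime_iff_prime_int.1 hr
    rw [Nat.cast_pow] at h2a ⊢
    by_cases hd : (r : ℤ) ∣ e + 1
    · right
      refine hp'.pow_dvd_of_dvd_mul_left k (fun hd2 => ?_) h2a
      have h1 := dvd_sub (hd.mul_left 2) hd2
      rw [show 2 * (e + 1) - (2 * e + 1) = 1 by ring] at h1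
      have := Int.le_of_dvd one_pos h1
      have := hr.two_le
      omega
    · exact Or.inl (hp'.pow_dvd_of_dvd_mul_right k hd h2a)
  have hne : 2 * e + 1 ≠ 0 ∧ e + 1 ≠ 0 := by
    have := h.a_cases
    omega
  rcases hone with e1 | e1
  · have := Int.le_of_dvd (abs_pos.2 hne.1) ((dvd_abs _ _).2 e1)
    have : |2 * e + 1| ≤ 2 * |e| + 2 := by
      rcases abs_cases e with h1 | h1 <;> rcases abs_cases (2 * e + 1) with h2 | h2 <;> omega
    omega
  · have := Int.le_of_dvd (abs_pos.2 hne.2) ((dvd_abs _ _).2 e1)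
    have : |e + 1| ≤ 2 * |e| + 2 := by
      rcases abs_cases e with h1 | h1 <;> rcases abs_cases (e + 1) with h2 | h2 <;> omega
    omega

end Arith

end Cfsg.Agent.GW.CompBound
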