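import Cfsg.Agent.Lib.GW.PartII.CompChar
import Cfsg.Agent.Lib.GW.PartII.CompBoundArith
import Cfsg.Agent.Lib.DihedralBlock.SignedDegrees
import Cfsg.Agent.Lib.ZStar.Step
import Cfsg.Agent.S0948

/-!
# The component configuration: bounds on the index of `Cent t`

With `P u` the index of `Cent t ⊓ Cent u` in `Cent t` and `I` the index of `Cent t`, for the
reflections `u` (the involutions of `Cent t` other than `t`):

* `index_le`: `I ≤ 68 P u ^ 2`;
* `index_le_of_min`, `index_le_of_min_of_sixteen`: `I ≤ 16 P u ^ 2`, and `10 P u ^ 2` if `16 ∣ |S|`,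
  for `u` with fewest fixed points on `oCore t`;
* `not_ratio`: if `16 ∣ |S|` two numbers of fixed points do not differ by a factor of three;
* `pow_le`: prime powers dividing `I` are small.
-/

set_option autoImplicit false
set_option linter.style.haveILetI false
set_option linter.unusedSectionVars false

namespace Cfsg.Agent.GW

open Subgroup Cfsg
open BSW (sq_of_order mem_cent ne_one_of_order)
open scoped Pointwise

universe u

variable {G : Type u} [Group G] [Finite G] {S : Sylow 2 G} {t : G}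

namespace CompBound

/-- The same fixed points and index. -/
def Same (t u v : G) : Prop :=
  Nat.card (dFix t u) = Nat.card (dFix t v) ∧
    ((Cent u).subgroupOf (Cent t)).index = ((Cent v).subgroupOf (Cent t)).index

theorem index_mul_card (t u : G) :
    ((Cent u).subgroupOf (Cent t)).index * Nat.card (Cent t ⊓ Cent u : Subgroup G) =
      Nat.card (Cent t) := by
  rw [show (Cent t ⊓ Cent u : Subgroup G) = ((Cent u).subgroupOf (Cent t)).map (Cent t).subtype by
      rw [subgroupOf_map_subtype, inf_comm],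
    card_map_of_injective (Cent t).subtype_injective, mul_comm, Subgroup.card_mul_index]

theorem centralizer_pair_eq (t u : G) : centralizer ({t, u} : Set G) = Cent t ⊓ Cent u := by
  ext x
  rw [Subgroup.mem_inf, mem_cent, mem_cent, mem_centralizer_iff]
  refine ⟨fun h => ⟨(h t (Set.mem_insert _ _)).symm, (h u (Set.mem_insert_of_mem _ rfl)).symm⟩, ?_⟩
  rintro ⟨h1, h2⟩ y (rfl | rfl)
  exacts [h1.symm, h2.symm]

theorem index_eq_of_card {t u v : G} (h : Nat.card (Cent t ⊓ Cent u : Subgroup G) =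
    Nat.card (Cent t ⊓ Cent v : Subgroup G)) :
    ((Cent u).subgroupOf (Cent t)).index = ((Cent v).subgroupOf (Cent t)).index := by
  refine Nat.eq_of_mul_eq_mul_right (Nat.card_pos (α := (Cent t ⊓ Cent v : Subgroup G))) ?_
  rw [index_mul_card, ← h, index_mul_card]

theorem map_cent_le (c x : G) :
    (Cent x).map (MulAut.conj c).toMonoidHom ≤ Cent (c * x * c⁻¹) := by
  rintro _ ⟨y, hy, rfl⟩
  exact mem_cent.2 ((show Commute y x from mem_cent.1 hy).map (MulAut.conj c)).eq

/-- Conjugate reflections have the same fixed points and index. -/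
theorem same_conj (hyp : Hyp S t) {c : G} (hc : c ∈ Cent t) (u : G) :
    Same t u (c * u * c⁻¹) := by
  have hle : ∀ {c : G}, c ∈ Cent t → ∀ u : G,
      Nat.card (dFix t u) ≤ Nat.card (dFix t (c * u * c⁻¹)) ∧
      Nat.card (Cent t ⊓ Cent u : Subgroup G) ≤
        Nat.card (Cent t ⊓ Cent (c * u * c⁻¹) : Subgroup G) := by
    intro c hc u
    have hct : c * t * c⁻¹ = t := by rw [mem_cent.1 hc, mul_inv_cancel_right]
    have hinj : Function.Injective (MulAut.conj c).toMonoidHom := (MulAut.conj c).injective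
    constructor
    · refine (card_map_of_injective hinj).ge.trans (Subgroup.card_le_of_le ?_)
      refine (map_inf_le _ _ _).trans (inf_le_inf ?_ (map_cent_le c u))
      rintro _ ⟨y, hy, rfl⟩
      have := hyp.map_oCore hyp.orderT c hy
      rwa [hct] at this
    · refine (card_map_of_injective hinj).ge.trans (Subgroup.card_le_of_le ?_)
      refine (map_inf_le _ _ _).trans (inf_le_inf ?_ (map_cent_le c u))
      conv_rhs => rw [← hct]
      exact map_cent_le c t
  have h1 := hle hc u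
  have h2 := hle (inv_mem hc) (c * u * c⁻¹)
  rw [show c⁻¹ * (c * u * c⁻¹) * c⁻¹⁻¹ = u by group] at h2
  exact ⟨le_antisymm h1.1 h2.1, index_eq_of_card (le_antisymm h1.2 h2.2)⟩

theorem Same.trans {t u v w : G} (h : Same t u v) (h' : Same t v w) : Same t u w :=
  ⟨h.1.trans h'.1, h.2.trans h'.2⟩

/-- Sylow 2-subgroups of order at least eight: the two classes of reflections and the relations. -/
theorem exists_big_relations (hyp : Hyp S t) (h4 : 4 < Nat.card (S : Subgroup G)) :
    ∃ (u₁ u₂ : G) (m : ℕ) (a b c : ℤ),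
      (orderOf u₁ = 2 ∧ u₁ ≠ t ∧ Commute u₁ t) ∧ (orderOf u₂ = 2 ∧ u₂ ≠ t ∧ Commute u₂ t) ∧
      (∀ u, orderOf u = 2 → u ≠ t → Commute u t → Same t u u₁ ∨ Same t u u₂) ∧
      Nat.card (S : Subgroup G) = 4 * m ∧
      Nat.card (dFix t u₁) * Nat.card (dFix t u₂) *
          (((Cent u₁).subgroupOf (Cent t)).index + ((Cent u₂).subgroupOf (Cent t)).index) =
        m * Nat.card (oCore t) * (Nat.card (dFix t u₁) + Nat.card (dFix t u₂)) ∧
      Arith (m : ℤ) a b c (Nat.card (dFix t u₁) : ℤ) (Nat.card (dFix t u₂) : ℤ)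
        (((Cent u₁).subgroupOf (Cent t)).index : ℤ) (((Cent u₂).subgroupOf (Cent t)).index : ℤ)
        ((Cent t).index : ℤ) := by
  classical
  haveI := Fintype.ofFinite G
  haveI := hyp.simple
  obtain ⟨σ, τ, M₀, d, hσ, hτ, hform, hJ, hV, hcard⟩ := hyp.exists_big h4
  have hrefl : ∀ i : ℕ, orderOf (σ ^ i * τ) = 2 ∧ σ ^ i * τ ≠ t ∧ Commute (σ ^ i * τ) t := fun i =>
    ⟨orderOf_eq_prime (by rw [pow_two]; exact d.mul_tau_sq) fun h =>
        d.mul_pow_ne d.V.one_mem d.V.one_mem 0 i (by rw [one_mul, one_mul, pow_zero, h]),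
      fun h => d.mul_pow_ne d.V.one_mem d.V.one_mem M₀ i (by rw [one_mul, one_mul, h, hJ]),
      (hJ ▸ (d.commute_J_pow i).mul_right d.commute_J_t : Commute t (σ ^ i * τ)).symm⟩
  have hr1 : orderOf τ = 2 ∧ τ ≠ t ∧ Commute τ t := by simpa using hrefl 0
  have hr2 : orderOf (σ * τ) = 2 ∧ σ * τ ≠ t ∧ Commute (σ * τ) t := by simpa using hrefl 1
  have hpow : ∀ i : ℕ, σ ^ i ∈ Cent t := fun i =>
    mem_cent.2 (hJ ▸ d.commute_J_pow i : Commute t (σ ^ i)).symm.eq
  have hclass : ∀ u, orderOf u = 2 → u ≠ t → Commute u t → Same t u τ ∨ Same t u (σ * τ) := by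
    intro u hu hne hc
    obtain ⟨c, hc', hcS⟩ := hyp.exists_conj_sylow hu hc
    have hne' : c * u * c⁻¹ ≠ t := fun e => hne (by
      rw [show u = c⁻¹ * (c * u * c⁻¹) * c by group, e, mul_assoc, ← mem_cent.1 hc',
        inv_mul_cancel_left])
    obtain ⟨i, hi | hi⟩ := hform _ hcS
    · refine absurd ?_ hne'
      rw [hi]
      exact eq_of_invol_zpowers (pow_mem (mem_zpowers σ) i) (hJ ▸ pow_mem (mem_zpowers σ) M₀)
        (hi ▸ (MulEquiv.orderOf_eq (MulAut.conj c) u).trans hu) hyp.orderT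
    obtain ⟨j, rfl | rfl⟩ := i.even_or_odd'
    · left
      have e : (σ ^ j)⁻¹ * (c * u * c⁻¹) * (σ ^ j)⁻¹⁻¹ = τ := by
        rw [hi, inv_inv, two_mul, pow_add, mul_assoc (σ ^ j), inv_mul_cancel_left, mul_assoc,
          d.t_mul_pow, mul_inv_cancel_left]
      exact (same_conj hyp hc' u).trans (e ▸ same_conj hyp (inv_mem (hpow j)) _)
    · right
      have e : (σ ^ j)⁻¹ * (c * u * c⁻¹) * (σ ^ j)⁻¹⁻¹ = σ * τ := by
        rw [hi, inv_inv, show 2 * j + 1 = j + (j + 1) by ring, pow_add, mul_assoc (σ ^ j),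
          inv_mul_cancel_left, mul_assoc, d.t_mul_pow, ← mul_assoc, pow_succ',
          mul_inv_cancel_right]
      exact (same_conj hyp hc' u).trans (e ▸ same_conj hyp (inv_mem (hpow j)) _)
  have key : ∀ {q : G} (e : DihedralBlock.Core σ q M₀), e.V = oCore t →
      ((Cent q).subgroupOf (Cent t)).index * (4 * Nat.card (dFix t q)) = Nat.card (Cent t) := by
    intro q e he
    rw [← index_mul_card t q, ← centralizer_pair_eq, ← hJ, e.card_centralizer_pair, dFix, he, hJ]
  have k1 := key d.toCore hV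
  have k2 := key d.toCore.shift hV
  have hC : Nat.card (Cent t) = 4 * M₀ * Nat.card (oCore t) := by
    rw [← hJ, d.card_centralizer_J, d.card_K, hV, hJ]; ring
  obtain ⟨𝔐, h𝔐⟩ := ZStar.exists_isPModular_two
  obtain ⟨χ₁, χ₂, χ₃, δ₁, δ₂, δ₃, a, b, c, h1, -, -, m1, -, -, n1, -, -, -, -, -, hval, ha, -, -,
    ha1, hsum, hca, hcb, hcc, hdeg⟩ := d.signed_degrees S hσ hτ hform h𝔐
  obtain ⟨-, hord⟩ := d.order_formula h𝔐 m1 (fun h => n1 (Subtype.ext h)) h1
    fun l h0 hl => (hval l h0 hl).1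
  rw [hJ, centralizer_pair_eq, centralizer_pair_eq] at hord hdeg
  have e1 := index_mul_card t τ
  have e2 := index_mul_card t (σ * τ)
  have c1 : Nat.card (Cent t ⊓ Cent τ : Subgroup G) = 4 * Nat.card (dFix t τ) := by
    refine Nat.eq_of_mul_eq_mul_left (Nat.pos_of_ne_zero ?_) (e1.trans k1.symm)
    exact Subgroup.index_ne_zero_of_finite
  have c2 : Nat.card (Cent t ⊓ Cent (σ * τ) : Subgroup G) = 4 * Nat.card (dFix t (σ * τ)) := by
    refine Nat.eq_of_mul_eq_mul_left (Nat.pos_of_ne_zero ?_) (e2.trans k2.symm)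
    exact Subgroup.index_ne_zero_of_finite
  rw [c1, c2] at hord hdeg
  push_cast at hord hdeg
  have hx : (Nat.card (dFix t τ) : ℂ) ≠ 0 := Nat.cast_ne_zero.2 Nat.card_pos.ne'
  have hy : (Nat.card (dFix t (σ * τ)) : ℂ) ≠ 0 := Nat.cast_ne_zero.2 Nat.card_pos.ne'
  have hCne : (Nat.card (Cent t) : ℂ) ≠ 0 := Nat.cast_ne_zero.2 Nat.card_pos.ne'
  have hG : (Nat.card (Cent t) : ℂ) * ((Cent t).index : ℂ) = (Nat.card G : ℂ) := by
    exact_mod_cast Subgroup.card_mul_index (Cent t)
  have q1 : (((Cent τ).subgroupOf (Cent t)).index : ℂ) * (4 * Nat.card (dFix t τ)) =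
      Nat.card (Cent t) := by exact_mod_cast k1
  have q2 : (((Cent (σ * τ)).subgroupOf (Cent t)).index : ℂ) * (4 * Nat.card (dFix t (σ * τ))) =
      Nat.card (Cent t) := by exact_mod_cast k2
  have hm : 2 ≤ M₀ := by omega
  refine ⟨τ, σ * τ, M₀, a, b, c, hr1, hr2, hclass, hcard, ?_,
    { m_two := by exact_mod_cast hm
      m_even := by exact_mod_cast d.hM.two_dvd
      sum := hsum, a_ne := ha1, a_dvd := hca, b_dvd := hcb, c_dvd := hcc
      x_pos := by exact_mod_cast Nat.card_pos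
      y_pos := by exact_mod_cast Nat.card_pos
      p_pos := by exact_mod_cast Nat.pos_of_ne_zero Subgroup.index_ne_zero_of_finite
      q_pos := by exact_mod_cast Nat.pos_of_ne_zero Subgroup.index_ne_zero_of_finite
      px := ?_, order := ?_, degree := ?_ }⟩
  · rw [hC] at k1 k2
    refine Nat.eq_of_mul_eq_mul_left (show 0 < 4 by norm_num) ?_
    linear_combination (Nat.card (dFix t (σ * τ))) * k1 + (Nat.card (dFix t τ)) * k2
  · have h := k1.trans k2.symm
    have h' : ((Cent τ).subgroupOf (Cent t)).index * Nat.card (dFix t τ) =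
        ((Cent (σ * τ)).subgroupOf (Cent t)).index * Nat.card (dFix t (σ * τ)) := by linarith
    exact_mod_cast h'
  · apply (Int.cast_injective (α := ℂ))
    push_cast
    have hA : (a : ℂ) = (δ₁ : ℂ) * charDegree χ₁.1 := by rw [ha]; push_cast; rfl
    have hdc : (δ₁ : ℂ) * δ₁ = 1 := by rcases h1 with rfl | rfl <;> norm_num
    have e3 : ((a : ℂ) - 1) ^ 2 = ((charDegree χ₁.1 : ℂ) - δ₁) ^ 2 := by
      rw [hA]; linear_combination ((charDegree χ₁.1 : ℂ) ^ 2 - 1) * hdc
    have e4 : (2 : ℂ) * a * (a + 1) =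
        2 * ((charDegree χ₁.1 : ℂ) * ((charDegree χ₁.1 : ℂ) + δ₁)) := by
      rw [hA]; linear_combination (2 * (charDegree χ₁.1 : ℂ) ^ 2) * hdc
    rw [e3, e4]
    refine mul_left_cancel₀ hCne ?_
    rw [← mul_assoc, hG, hord,
      show (1 : ℂ) / (4 * Nat.card (dFix t τ)) + 1 / (4 * Nat.card (dFix t (σ * τ))) =
        ((((Cent τ).subgroupOf (Cent t)).index : ℂ) +
          ((Cent (σ * τ)).subgroupOf (Cent t)).index) / Nat.card (Cent t) from ?_]
    · field_simp
    · rw [add_div]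
      congr 1
      · have := left_ne_zero_of_mul (q1 ▸ hCne :)
        rw [← q1]; field_simp
      · have := left_ne_zero_of_mul (q2 ▸ hCne :)
        rw [← q2]; field_simp
  · refine mul_left_cancel₀ (show (16 : ℤ) ≠ 0 by norm_num) ?_
    linear_combination hdeg

/-- Sylow 2-subgroups of order four: the index bound. -/
theorem index_le_klein (hyp : Hyp S t) (h4 : Nat.card (S : Subgroup G) = 4) {u : G}
    (hu : orderOf u = 2) (hne : u ≠ t) (hc : Commute u t) :
    (Cent t).index ≤ 16 * ((Cent u).subgroupOf (Cent t)).index ^ 2 := by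
  classical
  haveI := Fintype.ofFinite G
  haveI : Fact (Nat.Prime 2) := ⟨Nat.prime_two⟩
  obtain ⟨c, hc', hcS⟩ := hyp.exists_conj_sylow hu hc
  rw [(same_conj hyp hc' u).2]
  have hne' : c * u * c⁻¹ ≠ t := fun e => hne (by
    rw [show u = c⁻¹ * (c * u * c⁻¹) * c by group, e, mul_assoc, ← mem_cent.1 hc',
      inv_mul_cancel_left])
  have hu' : orderOf (c * u * c⁻¹) = 2 := (MulEquiv.orderOf_eq (MulAut.conj c) u).trans hu
  obtain ⟨d, hd, -⟩ := hyp.exists_klein h4
  generalize c * u * c⁻¹ = v at hcS hne' hu' ⊢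
  have hPv : centralizer (d.P : Set G) = Cent t ⊓ Cent v := by
    ext x
    constructor
    · intro hx
      exact ⟨mem_cent.2 (mem_centralizer_iff.1 hx t d.jmem).symm,
        mem_cent.2 (mem_centralizer_iff.1 hx v (hd ▸ hcS)).symm⟩
    · intro hx
      have h1 : Commute x t := mem_cent.1 hx.1
      have h2 : Commute x v := mem_cent.1 hx.2
      have hxu : Commute x d.u := by
        rcases d.two v (hd ▸ hcS) with e | e | e | e
        · exact absurd e (ne_one_of_order hu')
        · exact absurd e hne'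
        · exact e ▸ h2
        · have := h2.mul_right h1
          rwa [e, mul_assoc, d.sq t d.jmem, mul_one] at this
      refine mem_centralizer_iff.2 fun y hy => ?_
      rcases d.two y hy with rfl | rfl | rfl | rfl
      exacts [(Commute.one_left x).eq, h1.symm.eq, hxu.symm.eq, (hxu.mul_right h1).symm.eq]
  have hsqS : ∀ x : (S : Subgroup G), x ^ 2 = 1 := fun x => Subtype.ext (by
    rw [pow_two]; exact d.sq x (by rw [hd]; exact x.2))
  haveI : IsKleinFour (S : Subgroup G) := by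
    refine ⟨h4, ?_⟩
    rcases (Nat.dvd_prime Nat.prime_two).1 (Monoid.exponent_dvd_of_forall_pow_eq_one
      (G := (S : Subgroup G)) (n := 2) hsqS) with h | h
    · haveI := Monoid.exp_eq_one_iff.1 h
      have : Nat.card (S : Subgroup G) = 1 := Nat.card_eq_one_iff_unique.2 ⟨inferInstance, ⟨1⟩⟩
      omega
    · exact h
  obtain ⟨𝔐, h𝔐⟩ := ZStar.exists_isPModular_two
  obtain ⟨ζ₂, ζ₃, ζ₄, ε, hε, h2, h3, h23, h24, h34, hB, hval, g2, g3, g4, -⟩ :=
    S0948.result 𝔐 h𝔐 S inferInstance (fun s w hs hw => hyp.isConj_invol hs hw)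
  obtain ⟨v2, v3, v4⟩ := hval t hyp.orderT
  have hn4 : (ζ₄ : G → ℂ) ≠ (fun _ => 1) := fun h => by
    rw [h] at v4; norm_num at v4
  let bl : KleinBlock.FourBlock 𝔐 t := ⟨ζ₂, ζ₃, ζ₄, 1, ε, -1, hB, ⟨h2, h3, hn4, h23, h24, h34⟩,
    ⟨Or.inl rfl, hε, Or.inr rfl⟩, ⟨by rw [v2, Int.cast_one], v3,
      by rw [v4, Int.cast_neg, Int.cast_one]⟩⟩
  have hrel : 1 + (1 : ℤ) * charDegree ζ₂.1 + ε * charDegree ζ₃.1 + (-1) * charDegree ζ₄.1 = 0 :=
    bl.relation d h𝔐
  have hord := bl.order_formula d h𝔐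
  rw [hPv] at hord
  have hP : (((Cent v).subgroupOf (Cent t)).index : ℚ) *
      Nat.card (Cent t ⊓ Cent v : Subgroup G) = Nat.card (Cent t) := by
    exact_mod_cast index_mul_card t v
  have hG : (Nat.card (Cent t) : ℚ) * ((Cent t).index : ℚ) = (Nat.card G : ℚ) := by
    exact_mod_cast Subgroup.card_mul_index (Cent t)
  have hp2 := Char.charDegree_pos ζ₂
  have hp3 := Char.charDegree_pos ζ₃
  have hp4 := Char.charDegree_pos ζ₄
  replace hord : (Nat.card G : ℚ) * ((charDegree ζ₂.1 + ((1 : ℤ) : ℚ)) * (charDegree ζ₃.1 + (ε : ℚ)) *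
      (charDegree ζ₄.1 + ((-1 : ℤ) : ℚ))) * (Nat.card (Cent t ⊓ Cent v : Subgroup G) : ℚ) ^ 2 =
      8 * ((charDegree ζ₂.1 : ℚ) * charDegree ζ₃.1 * charDegree ζ₄.1) *
        (Nat.card (Cent t) : ℚ) ^ 3 := hord
  generalize charDegree ζ₂.1 = x at *
  generalize charDegree ζ₃.1 = y at *
  generalize charDegree ζ₄.1 = z at *
  generalize Nat.card (Cent t ⊓ Cent v : Subgroup G) = cP at *
  have hcJ : (Nat.card (Cent t) : ℚ) ≠ 0 := Nat.cast_ne_zero.2 Nat.card_pos.ne'
  generalize Nat.card (Cent t) = cJ at *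
  generalize (Cent t).index = I at *
  generalize ((Cent v).subgroupOf (Cent t)).index = p at *
  rw [← hP] at hcJ
  have hcP : (cP : ℚ) ≠ 0 := right_ne_zero_of_mul hcJ
  have hp : (p : ℚ) ≠ 0 := left_ne_zero_of_mul hcJ
  rw [← hG, ← hP] at hord
  have hmain : (I : ℚ) * (((x : ℚ) + 1) * ((y : ℚ) + ε) * ((z : ℚ) - 1)) =
      8 * ((x : ℚ) * y * z) * (p : ℚ) ^ 2 := by
    apply mul_left_cancel₀ (show ((p : ℚ) * (cP : ℚ) ^ 3) ≠ 0 from mul_ne_zero hp (pow_ne_zero 3 hcP))
    push_cast at hord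
    linear_combination hord
  have hmain' : (I : ℤ) * (((x : ℤ) + 1) * ((y : ℤ) + ε) * ((z : ℤ) - 1)) =
      8 * ((x : ℤ) * y * z) * (p : ℤ) ^ 2 := by
    have := hmain
    exact_mod_cast this
  have hz : 3 ≤ (z : ℤ) := by omega
  have hkey : (x : ℤ) * y * z ≤ 2 * (((x : ℤ) + 1) * ((y : ℤ) + ε) * ((z : ℤ) - 1)) ∧
      0 < ((x : ℤ) + 1) * ((y : ℤ) + ε) * ((z : ℤ) - 1) := by
    rcases hε with rfl | rfl
    · have hy0 : (0 : ℤ) < y := by exact_mod_cast hp3
      have hx0 : (0 : ℤ) < x := by exact_mod_cast hp2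
      refine ⟨?_, mul_pos (by positivity) (by omega)⟩
      have h1 : (x : ℤ) * y ≤ (x + 1) * (y + 1) := by nlinarith
      calc (x : ℤ) * y * z ≤ (x + 1) * (y + 1) * z := mul_le_mul_of_nonneg_right h1 (by omega)
        _ ≤ (x + 1) * (y + 1) * (2 * (z - 1)) := mul_le_mul_of_nonneg_left (by omega) (by positivity)
        _ = _ := by ring
    · have hy : 3 ≤ (y : ℤ) := by omega
      have hx : (x : ℤ) = y + z - 1 := by omega
      have hyz : 0 < ((x : ℤ) + 1) * ((y : ℤ) + -1) * ((z : ℤ) - 1) :=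
        mul_pos (mul_pos (by omega) (by omega)) (by omega)
      refine ⟨?_, hyz⟩
      rw [hx]
      nlinarith [mul_nonneg (mul_nonneg (show (0 : ℤ) ≤ y + z by omega) (show (0 : ℤ) ≤ y - 3 by omega))
          (show (0 : ℤ) ≤ z - 3 by omega),
        mul_nonneg (show (0 : ℤ) ≤ y + z by omega) (show (0 : ℤ) ≤ (y - 3) + (z - 3) by omega)]
  have hfin : (I : ℤ) ≤ 16 * (p : ℤ) ^ 2 := by
    refine le_of_mul_le_mul_right ?_ hkey.2
    rw [hmain']
    have := mul_le_mul_of_nonneg_right hkey.1 (show (0 : ℤ) ≤ 8 * (p : ℤ) ^ 2 by positivity)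
    linarith
  exact_mod_cast hfin

theorem card_eq_four (hyp : Hyp S t) (h4 : ¬ 4 < Nat.card (S : Subgroup G)) :
    Nat.card (S : Subgroup G) = 4 := by
  obtain ⟨g⟩ := hyp.exists_gens
  have hcard : Nat.card (S : Subgroup G) = 4 * 2 ^ g.k := by rw [g.hcard, g.hn, pow_succ]; ring
  have := Nat.one_le_two_pow (n := g.k)
  omega

end CompBound

open CompBound

/-- `I ≤ 68 P u ^ 2`. -/
theorem index_le (hyp : Hyp S t) {u : G} (hu : orderOf u = 2) (hne : u ≠ t) (hc : Commute u t) :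
    (Cent t).index ≤ 68 * ((Cent u).subgroupOf (Cent t)).index ^ 2 := by
  by_cases h4 : 4 < Nat.card (S : Subgroup G)
  · obtain ⟨u₁, u₂, m, a, b, c, -, -, hclass, -, -, h⟩ := exists_big_relations hyp h4
    rcases hclass u hu hne hc with e | e
    · rw [e.2]; exact_mod_cast h.index_le
    · rw [e.2]; exact_mod_cast h.swap.index_le
  · exact (index_le_klein hyp (card_eq_four hyp h4) hu hne hc).trans (Nat.mul_le_mul_right _ (by norm_num))

/-- `I ≤ 16 P u ^ 2` for a reflection with fewest fixed points, and `10 P u ^ 2` if `16 ∣ |S|`. -/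
theorem index_le_of_min (hyp : Hyp S t) {u : G} (hu : orderOf u = 2) (hne : u ≠ t)
    (hc : Commute u t)
    (hmin : ∀ v, orderOf v = 2 → v ≠ t → Commute v t →
      Nat.card (dFix t u) ≤ Nat.card (dFix t v)) :
    (Cent t).index ≤ 16 * ((Cent u).subgroupOf (Cent t)).index ^ 2 ∧
      (16 ∣ Nat.card (S : Subgroup G) →
        (Cent t).index ≤ 10 * ((Cent u).subgroupOf (Cent t)).index ^ 2) := by
  by_cases h4 : 4 < Nat.card (S : Subgroup G)
  · obtain ⟨u₁, u₂, m, a, b, c, hr1, hr2, hclass, hcard, -, h⟩ := exists_big_relations hyp h4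
    have key : ∀ {v w : G} {b' c' : ℤ}, Same t u v → (orderOf w = 2 ∧ w ≠ t ∧ Commute w t) →
        Arith (m : ℤ) a b' c' (Nat.card (dFix t v) : ℤ) (Nat.card (dFix t w) : ℤ)
          (((Cent v).subgroupOf (Cent t)).index : ℤ) (((Cent w).subgroupOf (Cent t)).index : ℤ)
          ((Cent t).index : ℤ) →
        (Cent t).index ≤ 16 * ((Cent u).subgroupOf (Cent t)).index ^ 2 ∧
          (16 ∣ Nat.card (S : Subgroup G) →
            (Cent t).index ≤ 10 * ((Cent u).subgroupOf (Cent t)).index ^ 2) := by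
      intro v w b' c' e hw h'
      have hle : Nat.card (dFix t v) ≤ Nat.card (dFix t w) := e.1 ▸ hmin w hw.1 hw.2.1 hw.2.2
      have hpq : (((Cent w).subgroupOf (Cent t)).index : ℤ) ≤
          ((Cent v).subgroupOf (Cent t)).index := by
        refine le_of_mul_le_mul_right ?_ h'.y_pos
        rw [← h'.px]
        exact mul_le_mul_of_nonneg_left (by exact_mod_cast hle) h'.p_pos.le
      rw [e.2]
      refine ⟨by exact_mod_cast h'.index_le_max hpq, fun h16 => ?_⟩
      have hm : (4 : ℤ) ∣ (m : ℤ) := by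
        rw [hcard] at h16
        exact_mod_cast (Nat.dvd_of_mul_dvd_mul_left (show 0 < 4 by norm_num) (show 4 * 4 ∣ 4 * m from h16))
      exact_mod_cast h'.index_le_max_of_four hm hpq
    rcases hclass u hu hne hc with e | e
    · exact key e hr2 h
    · exact key e hr1 h.swap
  · refine ⟨index_le_klein hyp (card_eq_four hyp h4) hu hne hc, fun h16 => ?_⟩
    rw [card_eq_four hyp h4] at h16
    exact absurd (Nat.le_of_dvd (by norm_num) h16) (by norm_num)

/-- If `16 ∣ |S|`, the numbers of fixed points of two reflections differ by less than three times. -/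
theorem not_ratio (hyp : Hyp S t) (h16 : 16 ∣ Nat.card (S : Subgroup G)) {u v : G}
    (hu : orderOf u = 2) (hune : u ≠ t) (huc : Commute u t) (hv : orderOf v = 2) (hvne : v ≠ t)
    (hvc : Commute v t) (hr : 3 * Nat.card (dFix t v) ≤ Nat.card (dFix t u)) : False := by
  have h4 : 4 < Nat.card (S : Subgroup G) := by
    have := Nat.le_of_dvd Nat.card_pos h16
    omega
  obtain ⟨u₁, u₂, m, a, b, c, -, -, hclass, hcard, -, h⟩ := exists_big_relations hyp h4
  have hm : (4 : ℤ) ∣ (m : ℤ) := by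
    rw [hcard] at h16
    exact_mod_cast (Nat.dvd_of_mul_dvd_mul_left (show 0 < 4 by norm_num) (show 4 * 4 ∣ 4 * m from h16))
  have h1 := h.not_ratio hm
  have h2 := h.swap.not_ratio hm
  norm_cast at h1 h2
  have p1 : 0 < Nat.card (dFix t v) := Nat.card_pos
  rcases hclass u hu hune huc with e | e <;> rcases hclass v hv hvne hvc with e' | e' <;>
    rw [e.1, e'.1] at hr <;> rw [e'.1] at p1 <;> omega

/-- An odd prime power dividing `I`, the prime not dividing `|oCore t|` nor the sums of two numbers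
of fixed points, is small. -/
theorem pow_le (hyp : Hyp S t) (h8 : 8 ∣ Nat.card (S : Subgroup G)) {p k : ℕ} (hp : p.Prime)
    (hp2 : p ≠ 2) (hO : ¬ p ∣ Nat.card (oCore t))
    (hD : ∀ u v : G, orderOf u = 2 → u ≠ t → Commute u t → orderOf v = 2 → v ≠ t → Commute v t →
      ¬ p ∣ Nat.card (dFix t u) + Nat.card (dFix t v))
    (hdvd : p ^ k ∣ (Cent t).index) :
    ∃ u v : G, (orderOf u = 2 ∧ u ≠ t ∧ Commute u t) ∧ (orderOf v = 2 ∧ v ≠ t ∧ Commute v t) ∧
      p ^ k ≤ 2 * (((Cent u).subgroupOf (Cent t)).index + ((Cent v).subgroupOf (Cent t)).index) + 2 := by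
  have h4 : 4 < Nat.card (S : Subgroup G) := by
    have := Nat.le_of_dvd Nat.card_pos h8
    omega
  obtain ⟨u₁, u₂, m, a, b, c, hr1, hr2, -, hcard, hsum, h⟩ := exists_big_relations hyp h4
  refine ⟨u₁, u₂, hr1, hr2, ?_⟩
  have hpS : ¬ p ∣ ((Cent u₁).subgroupOf (Cent t)).index + ((Cent u₂).subgroupOf (Cent t)).index := by
    intro hd
    have h1 : p ∣ m * Nat.card (oCore t) * (Nat.card (dFix t u₁) + Nat.card (dFix t u₂)) :=
      hsum ▸ hd.mul_left _
    rcases hp.dvd_mul.1 h1 with h2 | h2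
    · rcases hp.dvd_mul.1 h2 with h3 | h3
      · haveI : Fact (Nat.Prime 2) := ⟨Nat.prime_two⟩
        obtain ⟨n, hn⟩ := S.isPGroup'.exists_card_eq
        have h5 : p ∣ 2 ^ n := hn ▸ hcard ▸ h3.mul_left 4
        exact hp2 ((Nat.prime_dvd_prime_iff_eq hp Nat.prime_two).1 (hp.dvd_of_dvd_pow h5))
      · exact hO h3
    · exact hD u₁ u₂ hr1.1 hr1.2.1 hr1.2.2 hr2.1 hr2.2.1 hr2.2.2 h2
  exact_mod_cast h.pow_le hp (by exact_mod_cast hpS) (by exact_mod_cast hdvd)

end Cfsg.Agent.GW
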