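import Mathlib

/-!
# Two commuting automorphisms of prime order of an abelian group

For `φ y, φ τ` of order dividing the prime `r` on an abelian group without elements of order `r`, with
`φ τ` fixing only `1`: the `r`-th powers are products of elements fixed by the `φ (y * τ ^ j)`, and
these fixed subgroups are independent.
-/

set_option autoImplicit false

namespace Cfsg.Agent.GW.CompQuad

variable {A : Type*} [CommGroup A] {M : Type*} [Group M] (φ : M →* MulAut A) {y τ : M} {r : ℕ}

/-- The product of the conjugates of `x` under the powers of `a`. -/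
def norm (a : M) (r : ℕ) (x : A) : A := ∏ i ∈ Finset.range r, φ (a ^ i) x

theorem norm_fixed {a : M} (ha : a ^ r = 1) (x : A) : φ a (norm φ a r x) = norm φ a r x := by
  unfold norm
  rw [map_prod]
  have h1 := Finset.prod_range_succ (fun i => φ (a ^ i) x) r
  have h2 := Finset.prod_range_succ' (fun i => φ (a ^ i) x) r
  rw [h1, ha, pow_zero] at h2
  refine Eq.trans ?_ (mul_right_cancel h2).symm
  exact Finset.prod_congr rfl fun i _ => by rw [← MulAut.mul_apply, ← map_mul, pow_succ']

theorem eq_one_of_pow_fixed (hr : r.Prime) (hτr : τ ^ r = 1) (hfix : ∀ a : A, φ τ a = a → a = 1)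
    {i : ℕ} (hi : ¬ r ∣ i) {a : A} (ha : φ (τ ^ i) a = a) : a = 1 := by
  refine hfix a ?_
  obtain ⟨m, hm⟩ := exists_pow_eq_self_of_coprime (x := τ) (n := i)
    (Nat.Coprime.coprime_dvd_right (orderOf_dvd_of_pow_eq_one hτr)
      ((hr.coprime_iff_not_dvd.2 hi).symm))
  rw [← hm]
  have h : ∀ m : ℕ, φ ((τ ^ i) ^ m) a = a := fun m => by
    induction m with
    | zero => simp
    | succ m ih => rw [pow_succ, map_mul, MulAut.mul_apply, ha, ih]
  exact h m

theorem eq_one_of_two_fixed (hr : r.Prime) (hc : Commute y τ) (hτr : τ ^ r = 1)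
    (hfix : ∀ a : A, φ τ a = a → a = 1) {j k : ℕ} (hj : j < r) (hk : k < r) (hjk : j ≠ k) {a : A}
    (ha : φ (y * τ ^ j) a = a) (hb : φ (y * τ ^ k) a = a) : a = 1 := by
  wlog hlt : j < k generalizing j k with H
  · exact H hk hj hjk.symm hb ha (by omega)
  refine eq_one_of_pow_fixed φ hr hτr hfix (i := k - j) (fun h => ?_) ?_
  · exact absurd (Nat.le_of_dvd (by omega) h) (by omega)
  · have h1 : y * τ ^ k = τ ^ (k - j) * (y * τ ^ j) := by
      rw [← mul_assoc, ← (hc.pow_right (k - j)).eq, mul_assoc, ← pow_add, Nat.sub_add_cancel hlt.le]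
    rw [h1, map_mul, MulAut.mul_apply, ha] at hb
    exact hb

variable (hr : r.Prime) (hc : Commute y τ) (hyr : y ^ r = 1) (hτr : τ ^ r = 1)
  (hfix : ∀ a : A, φ τ a = a → a = 1)

include hr hc hyr hτr hfix

theorem mul_pow_eq_one (j : ℕ) : (y * τ ^ j) ^ r = 1 := by
  rw [(hc.pow_right j).mul_pow, hyr, ← pow_mul, mul_comm j r, pow_mul, hτr, one_pow, one_mul]

/-- An `r`-th power is a product of elements fixed by the `y * τ ^ j`. -/
theorem pow_eq_prod_norm (x : A) : x ^ r = ∏ j ∈ Finset.range r, norm φ (y * τ ^ j) r x := by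
  unfold norm
  rw [Finset.prod_comm]
  have hr0 : r = r - 1 + 1 := (Nat.succ_pred_eq_of_pos hr.pos).symm
  conv_rhs => rw [hr0, Finset.prod_range_succ', ← hr0]
  rw [Finset.prod_eq_one fun i hi => ?_, one_mul]
  · simp
  · rw [Finset.mem_range] at hi
    have h1 : ∀ j, φ ((y * τ ^ j) ^ (i + 1)) x = φ ((τ ^ (i + 1)) ^ j) (φ (y ^ (i + 1)) x) := fun j => by
      rw [← MulAut.mul_apply, ← map_mul, (hc.pow_right j).mul_pow, ← pow_mul, ← pow_mul, mul_comm j,
        ← (hc.pow_pow (i + 1) ((i + 1) * j)).eq]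
    simp only [h1]
    refine eq_one_of_pow_fixed φ hr hτr hfix (i := i + 1) (fun h => ?_)
      (norm_fixed φ (by rw [← pow_mul, mul_comm, pow_mul, hτr, one_pow]) _)
    exact absurd (Nat.le_of_dvd i.succ_pos h) (by omega)

/-- The fixed points of the `y * τ ^ j` are independent. -/
theorem prod_card_le [Finite A] (hcop : ∀ a : A, a ^ r = 1 → a = 1) {m : ℕ}
    (hcard : ∀ j < r, m ≤ Nat.card {a : A // φ (y * τ ^ j) a = a}) : m ^ r ≤ Nat.card A := by
  classical
  let C : Fin r → Type _ := fun j => {a : A // φ (y * τ ^ (j : ℕ)) a = a}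
  let f : ((j : Fin r) → C j) → A := fun c => ∏ j, (c j).1
  have hf : Function.Injective f := by
    intro c c' h
    funext k
    apply Subtype.ext
    have key : ∀ c : (j : Fin r) → C j, norm φ (y * τ ^ (k : ℕ)) r (f c) = (c k).1 ^ r := by
      intro c
      unfold norm f
      simp only [map_prod]
      rw [Finset.prod_comm, Finset.prod_eq_single k]
      · have hp : ∀ i : ℕ, φ ((y * τ ^ (k : ℕ)) ^ i) (c k).1 = (c k).1 := fun i => by
          induction i with
          | zero => simp
          | succ i ih => rw [pow_succ, map_mul, MulAut.mul_apply, (c k).2, ih]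
        rw [Finset.prod_congr rfl fun i _ => hp i, Finset.prod_const, Finset.card_range]
      · intro j _ hjk
        refine eq_one_of_two_fixed φ hr hc hτr hfix j.2 k.2 (fun e => hjk (Fin.ext e)) ?_
          (norm_fixed φ (mul_pow_eq_one φ hr hc hyr hτr hfix _) _)
        rw [map_prod]
        refine Finset.prod_congr rfl fun i _ => ?_
        have hcc : Commute (y * τ ^ (j : ℕ)) (y * τ ^ (k : ℕ)) :=
          ((Commute.refl y).mul_right (hc.pow_right _)).mul_left
            ((hc.pow_right _).symm.mul_right (Commute.pow_pow_self τ _ _))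
        rw [← MulAut.mul_apply, ← map_mul, (hcc.pow_right i).eq, map_mul, MulAut.mul_apply, (c j).2]
      · simp
    have h1 := (key c).symm.trans ((congrArg _ h).trans (key c'))
    have h2 := hcop ((c k).1 / (c' k).1) (by rw [div_pow, h1, div_self'])
    exact div_eq_one.1 h2
  calc m ^ r = ∏ _j : Fin r, m := by simp
    _ ≤ ∏ j : Fin r, Nat.card (C j) := Finset.prod_le_prod' fun j _ => hcard j j.2
    _ = Nat.card ((j : Fin r) → C j) := Nat.card_pi.symm
    _ ≤ Nat.card A := Nat.card_le_card_of_injective f hf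

end Cfsg.Agent.GW.CompQuad
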