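import Cfsg.Agent.Lib.GW.PartII.CompQuadUnip
import Cfsg.Agent.Lib.GW.PartII.CompQuadNorm

/-!
# The component configuration: no quadrangle

In the extraspecial situation `⟨y⟩` and a point sharing no block with it have at most one common
commuting neighbour (`Heis.unique`): two of them give a unipotent `v` centralising both ends; the elements
of odd order centralising `v` are `X * dFix t b` with `X` inverted by `t` and abelian; `X` is generated by
its fixed points of the `y * τ ^ j`, each conjugate into a unipotent group of the layer; more than one of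
these would make `X` too large or invariant under a reflection, so `X` is the unipotent group of `v`.
-/

set_option autoImplicit false
set_option linter.unusedSectionVars false
set_option linter.style.haveILetI false

namespace Cfsg.Agent.GW.CompQuad

open Subgroup
open BSW (mem_cent)
open scoped MatrixGroups

universe u

variable {G : Type u} [Group G] [Finite G] {F : Type} [Field F] [Fintype F]

/-- An element of odd twisted order splits into a part fixed and a part inverted by an involution. -/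
theorem exists_split {a g : G} (ha : orderOf a = 2) (hm : Odd (orderOf (a * g⁻¹ * a⁻¹ * g))) :
    ∃ d c, Commute d a ∧ a * c * a⁻¹ = c⁻¹ ∧ g = d * c ∧ c ∈ zpowers (a * g⁻¹ * a⁻¹ * g) := by
  set m := a * g⁻¹ * a⁻¹ * g with hmdef
  obtain ⟨j, hj⟩ := hm
  set c := m ^ (j + 1) with hc
  have hcc : c * c = m := by
    rw [hc, ← pow_add, show j + 1 + (j + 1) = orderOf m + 1 by omega, pow_succ, pow_orderOf_eq_one, one_mul]
  have hai := BSW.inv_of_order ha
  have haa := BSW.sq_of_order ha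
  have hinv : a * m * a⁻¹ = m⁻¹ := by
    rw [hmdef, show a * (a * g⁻¹ * a⁻¹ * g) * a⁻¹ = (a * a) * g⁻¹ * a⁻¹ * g * a⁻¹ by group, haa, one_mul,
      mul_inv_rev, mul_inv_rev, mul_inv_rev, inv_inv, inv_inv, hai]
    group
  refine ⟨g * c⁻¹, c, ?_, by rw [hc, ← conj_pow, hinv, inv_pow], (inv_mul_cancel_right g c).symm,
    pow_mem (mem_zpowers m) _⟩
  have h1 : a * g * a⁻¹ = g * m⁻¹ := by rw [hmdef]; group
  have h2 : a * c⁻¹ * a⁻¹ = c := by
    rw [← conj_inv, hc, ← conj_pow, hinv, inv_pow, inv_inv]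
  have h3 : a * (g * c⁻¹) * a⁻¹ = g * c⁻¹ := by
    rw [show a * (g * c⁻¹) * a⁻¹ = a * g * a⁻¹ * (a * c⁻¹ * a⁻¹) by group, h1, h2, ← hcc, mul_inv_rev]
    group
  exact (mul_inv_eq_iff_eq_mul.1 h3).symm

theorem mem_normalizer_of_forall {X : Subgroup G} {g : G} (h : ∀ x ∈ X, g * x * g⁻¹ ∈ X) :
    g ∈ normalizer (X : Set G) := by
  refine mem_normalizer_iff_map_conj_eq.2 (eq_of_le_of_card_ge ?_ ?_)
  · rintro _ ⟨x, hx, rfl⟩; exact h x hx
  · rw [card_map_of_injective (MulEquiv.injective _)]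

/-- The situation of `Heis` with the facts on the layer of the normaliser of `⟨y⟩`. -/
structure Env (S : Sylow 2 G) (t b y τ : G) (F : Type) [Field F] [Fintype F] : Prop where
  hyp : Hyp S t
  loc : Loc t y τ F
  heis : Heis t b y τ
  mem_b : b ∈ layerN y
  torus : ∀ x ∈ oCore t, Commute x y → b * x * b⁻¹ = x⁻¹ → x ∈ layerN y
  layer : ∀ d ∈ dFix t b, ∀ l ∈ layerN y, Commute d l

/-- `g` centralises `v` and has odd order prime to that of `y`. -/
def InX (y v g : G) : Prop := Commute g v ∧ (orderOf g).Coprime (2 * orderOf y)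

theorem InX.odd {y v g : G} (h : InX y v g) : Odd (orderOf g) :=
  Nat.coprime_two_right.1 h.2.coprime_mul_right_right

theorem InX.map {y v g : G} (h : InX y v g) (k : G) : InX y (k * v * k⁻¹) (k * g * k⁻¹) :=
  ⟨commute_conj k h.1, by rw [← MulAut.conj_apply, MulEquiv.orderOf_eq]; exact h.2⟩

/-- A subgroup of the elements centralising `v` of odd order prime to that of `y`, with `dFix`. -/
structure IsX (t b y v : G) (X : Subgroup G) : Prop where
  mem : ∀ g, g ∈ X ↔ InX y v g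
  inv : ∀ g ∈ X, t * g * t⁻¹ = g⁻¹
  cover : ∀ g, Commute g v → Odd (orderOf g) → ∃ x ∈ X, ∃ d ∈ dFix t b, g = x * d

theorem IsX.comm {t b y v : G} {X : Subgroup G} (h : IsX t b y v X) {g g' : G} (hg : g ∈ X) (hg' : g' ∈ X) :
    Commute g g' := by
  have h1 := h.inv _ (mul_mem hg hg')
  rw [show t * (g * g') * t⁻¹ = t * g * t⁻¹ * (t * g' * t⁻¹) by group, h.inv g hg, h.inv g' hg',
    mul_inv_rev] at h1
  exact Commute.inv_inv_iff.1 h1

variable {S : Sylow 2 G} {t b y τ : G}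

namespace Env

variable (c : Env S t b y τ F) (e : layerN y ≃* PSL(2, F))

include c

theorem mem_dFix_iff {x : G} : x ∈ dFix t b ↔ x ∈ oCore t ∧ Commute x b :=
  ⟨fun h => ⟨h.1, mem_cent.1 h.2⟩, fun h => ⟨h.1, mem_cent.2 h.2.eq⟩⟩

theorem y_mem : y ∈ dFix t b := inf_le_inf_right _ (fitCore_le_oCore t) c.heis.plane.pin.mem_y

theorem commute_oCore {o : G} (ho : o ∈ oCore t) : Commute o t := mem_cent.1 (Hyp.oCore_le_cent t ho)

theorem odd_oCore {o : G} (ho : o ∈ oCore t) : Odd (orderOf o) :=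
  (c.hyp.odd_oCore t).of_dvd_nat (Subgroup.orderOf_dvd_natCard _ ho)

theorem pair : Pair t b := c.heis.plane.pin.pair

theorem dFix_pGroup : IsPGroup (orderOf y) ↥(dFix t b) :=
  c.heis.pGroup b c.pair.hb c.pair.ne.symm c.pair.comm.symm

theorem pow_of_dFix {d : G} (hd : d ∈ dFix t b) : ∃ k, orderOf d ∣ orderOf y ^ k := by
  obtain ⟨k, hk⟩ := c.dFix_pGroup ⟨d, hd⟩
  exact ⟨k, orderOf_dvd_of_pow_eq_one (congrArg Subtype.val hk :)⟩

theorem eq_one_of_coprime {d : G} (hd : d ∈ dFix t b) (h : (orderOf d).Coprime (orderOf y)) : d = 1 := by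
  obtain ⟨k, hk⟩ := c.pow_of_dFix hd
  exact orderOf_eq_one_iff.1 (Nat.eq_one_of_dvd_coprimes (h.pow_right k) dvd_rfl hk)

theorem zpowers_eq {a : G} (ha : a ∈ dFix t b) (ho : orderOf a = orderOf y) : zpowers a = zpowers y := by
  haveI := c.heis.cyclic
  have h1 : zpowers (⟨a, ha⟩ : dFix t b) = zpowers ⟨y, c.y_mem⟩ :=
    zpowers_eq_of_cyclic (by rw [orderOf_mk, orderOf_mk, ho])
  have := congrArg (Subgroup.map (dFix t b).subtype) h1
  rwa [MonoidHom.map_zpowers, MonoidHom.map_zpowers] at this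

include e

/-- An element of the odd core of `C(t)` centralising a unipotent element lies in `dFix t b`. -/
theorem mem_dFix_of_commute {v : G} (hv : Uni t y τ F v) {o : G} (ho : o ∈ oCore t) (hov : Commute o v) :
    o ∈ dFix t b := by
  by_cases hY : zpowers (o * y * o⁻¹) = zpowers y
  swap
  · exfalso
    obtain ⟨hvt, -⟩ := c.heis.plane.meet (zpowers (o * y * o⁻¹))
      ⟨o, (cj_zpowers o y).symm, by rw [(c.commute_oCore ho).eq, mul_inv_cancel_right]⟩ hY v
      (c.loc.comm_layer v hv.mem).symm fun a ha => by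
        obtain ⟨i, rfl⟩ := mem_zpowers_iff.1 ha
        have h1 : Commute (o * v * o⁻¹) (o * y * o⁻¹) := commute_conj o (c.loc.comm_layer v hv.mem).symm
        rw [show o * v * o⁻¹ = v by rw [hov.eq, mul_inv_cancel_right]] at h1
        exact h1.zpow_right i
    exact hv.ne (CompInverted.eq_one_of_commute_inverted
      (c.loc.odd_q.of_dvd_nat hv.dvd) hv.inv (mem_cent.1 hvt))
  obtain ⟨k, hk⟩ : ∃ k : ℤ, y ^ k = o * y * o⁻¹ := mem_zpowers_iff.1 (hY ▸ mem_zpowers _)
  have hby : Commute b y := (mem_cent.1 c.y_mem.2).symm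
  have hbO : b * o * b⁻¹ ∈ oCore t :=
    (mem_normalizer_iff.1 (Hyp.cent_le_normalizer t (mem_cent.2 c.pair.comm.symm)) o).1 ho
  have hm : b * o⁻¹ * b⁻¹ * o ∈ oCore t := by
    rw [show b * o⁻¹ * b⁻¹ = (b * o * b⁻¹)⁻¹ by group]; exact mul_mem (inv_mem hbO) ho
  obtain ⟨d, x, hdb, hx, hodx, hxm⟩ := exists_split c.pair.hb (g := o) (c.odd_oCore hm)
  have hxO : x ∈ oCore t := zpowers_le.2 hm hxm
  have hmy : Commute (b * o⁻¹ * b⁻¹ * o) y := by
    have h1 : (b * o * b⁻¹) * y * (b * o * b⁻¹)⁻¹ = o * y * o⁻¹ := by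
      rw [show (b * o * b⁻¹) * y * (b * o * b⁻¹)⁻¹ = b * (o * (b⁻¹ * y * b) * o⁻¹) * b⁻¹ by group,
        show b⁻¹ * y * b = y by rw [mul_assoc, ← hby.eq, inv_mul_cancel_left], ← hk,
        (hby.zpow_right k).eq, mul_inv_cancel_right]
    have h2 : (b * o⁻¹ * b⁻¹ * o) * y * (b * o⁻¹ * b⁻¹ * o)⁻¹ = y := by
      rw [show (b * o⁻¹ * b⁻¹ * o) * y * (b * o⁻¹ * b⁻¹ * o)⁻¹ =
        (b * o * b⁻¹)⁻¹ * (o * y * o⁻¹) * (b * o * b⁻¹) by group, ← h1]
      group
    exact mul_inv_eq_iff_eq_mul.1 h2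
  have hxy : Commute x y := by
    obtain ⟨i, rfl⟩ := mem_zpowers_iff.1 hxm
    exact hmy.zpow_left i
  have hd : d ∈ dFix t b := by
    refine c.mem_dFix_iff.2 ⟨?_, hdb⟩
    rw [show d = o * x⁻¹ by rw [hodx, mul_inv_cancel_right]]
    exact mul_mem ho (inv_mem hxO)
  have hxv : Commute x v := by
    rw [show x = d⁻¹ * o by rw [hodx, inv_mul_cancel_left]]
    exact (c.layer d hd v hv.mem).inv_left.mul_left hov
  have hx1 : x = 1 := by
    by_contra hne
    refine (uni_props e c.loc.two hv.mem hv.ne hv.dvd).2.2.2 t c.loc.mem_t c.loc.order_t ?_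
    exact commute_of_commute e c.loc.two (c.torus x hxO hxy hx) c.loc.mem_t hv.mem hne
      (c.odd_oCore hxO) c.loc.order_t (c.commute_oCore hxO).symm hxv.symm
  rwa [hodx, hx1, mul_one]

/-- The centraliser of a unipotent element contains no four group. -/
theorem no_pair {v : G} (hv : Uni t y τ F v) : ∀ a a', a ∈ Cent v → a' ∈ Cent v → ¬ Pair a a' := by
  intro a a' ha ha' h
  obtain ⟨g, hg⟩ := isConj_iff.1 (c.hyp.isConj_invol h.ha c.hyp.orderT)
  have hu : orderOf (g * a' * g⁻¹) = 2 := by rw [← MulAut.conj_apply, MulEquiv.orderOf_eq]; exact h.hb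
  have hut : g * a' * g⁻¹ ≠ t := fun h0 =>
    h.ne ((MulAut.conj g).injective (show g * a * g⁻¹ = g * a' * g⁻¹ by rw [hg, h0]))
  have huc : Commute (g * a' * g⁻¹) t := hg ▸ commute_conj g h.comm.symm
  have hvo : orderOf (g * v * g⁻¹) = orderOf v := by rw [← MulAut.conj_apply, MulEquiv.orderOf_eq]
  have hvO : g * v * g⁻¹ ∈ oCore t := (c.hyp.mem_oCore_iff c.hyp.orderT).2
    ⟨mem_cent.2 (hg ▸ (commute_conj g (mem_cent.1 ha)).symm).eq,
      hvo ▸ c.loc.odd_q.of_dvd_nat hv.dvd⟩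
  obtain ⟨k, hk⟩ := c.heis.pGroup _ hu hut huc ⟨g * v * g⁻¹, hvO,
    mem_cent.2 (commute_conj g (mem_cent.1 ha')).symm.eq⟩
  have h1 : orderOf v ∣ orderOf y ^ k :=
    hvo ▸ orderOf_dvd_of_pow_eq_one (congrArg Subtype.val hk :)
  exact hv.ne (orderOf_eq_one_iff.1
    (Nat.eq_one_of_dvd_coprimes ((c.loc.coprime_q e).pow_left k) h1 hv.dvd))

/-- The elements of odd order centralising a unipotent element: a normal abelian part inverted by `t` and
`dFix t b`. -/
theorem exists_isX {v : G} (hv : Uni t y τ F v) : ∃ X, IsX t b y v X := by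
  classical
  set r := orderOf y
  haveI hr : Fact r.Prime := ⟨c.loc.prime⟩
  set L₀ := core (Cent v)
  have hL₀ : ∀ g, g ∈ L₀ ↔ Commute g v ∧ Odd (orderOf g) := fun g =>
    ⟨fun h => ⟨mem_cent.1 (core_le _ h), (odd_core _).of_dvd_nat (Subgroup.orderOf_dvd_natCard _ h)⟩,
      fun h => (c.hyp.core_spec (c.no_pair e hv)).1 g (mem_cent.2 h.1.eq) h.2⟩
  have hDL : dFix t b ≤ L₀ := fun d hd =>
    (hL₀ d).2 ⟨c.layer d hd v hv.mem, c.odd_oCore hd.1⟩
  have htL : ∀ g ∈ L₀, t * g * t⁻¹ ∈ L₀ := fun g hg => by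
    obtain ⟨h1, h2⟩ := (hL₀ g).1 hg
    refine (hL₀ _).2 ⟨?_, by rw [← MulAut.conj_apply, MulEquiv.orderOf_eq]; exact h2⟩
    have := commute_conj t h1
    rw [hv.inv] at this
    exact Commute.inv_right_iff.1 this
  have hsplit : ∀ g ∈ L₀, ∃ d x, d ∈ dFix t b ∧ x ∈ L₀ ∧ t * x * t⁻¹ = x⁻¹ ∧ g = d * x := by
    intro g hg
    have hm : t * g⁻¹ * t⁻¹ * g ∈ L₀ := mul_mem (htL _ (inv_mem hg)) hg
    obtain ⟨d, x, hdt, hx, hgdx, hxm⟩ := exists_split c.hyp.orderT ((hL₀ _).1 hm).2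
    have hxL : x ∈ L₀ := zpowers_le.2 hm hxm
    have hdL : d ∈ L₀ := by
      rw [show d = g * x⁻¹ by rw [hgdx, mul_inv_cancel_right]]; exact mul_mem hg (inv_mem hxL)
    obtain ⟨h1, h2⟩ := (hL₀ d).1 hdL
    exact ⟨d, x, c.mem_dFix_of_commute e hv
      ((c.hyp.mem_oCore_iff c.hyp.orderT).2 ⟨mem_cent.2 hdt.eq, h2⟩) h1, hxL, hx, hgdx⟩
  set D' := (dFix t b).subgroupOf L₀
  have hD' : IsPGroup r D' := c.dFix_pGroup.comap_subtype
  -- the normaliser of `D'` centralises it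
  have hN : ∀ g : L₀, g ∈ normalizer (D' : Set L₀) → ∃ d x, d ∈ dFix t b ∧ x ∈ layerN y ∧
      Commute x v ∧ (g : G) = d * x := by
    intro g hg
    obtain ⟨d, x, hd, hxL, hx, hgdx⟩ := hsplit g g.2
    have hdn : (⟨d, hDL hd⟩ : L₀) ∈ normalizer (D' : Set L₀) := le_normalizer hd
    have hxn : (⟨x, hxL⟩ : L₀) ∈ normalizer (D' : Set L₀) := by
      rw [show (⟨x, hxL⟩ : L₀) = (⟨d, hDL hd⟩ : L₀)⁻¹ * g from Subtype.ext (by
        show x = d⁻¹ * (g : G)
        rw [hgdx, inv_mul_cancel_left])]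
      exact mul_mem (inv_mem hdn) hg
    have hyD : x * y * x⁻¹ ∈ dFix t b :=
      (mem_normalizer_iff.1 hxn (⟨y, hDL c.y_mem⟩ : L₀)).1 c.y_mem
    have hz := c.zpowers_eq hyD (by rw [← MulAut.conj_apply, MulEquiv.orderOf_eq])
    obtain ⟨k, hk⟩ : ∃ k : ℤ, y ^ k = x * y * x⁻¹ := mem_zpowers_iff.1 (hz ▸ mem_zpowers _)
    obtain ⟨hxv, hxo⟩ := (hL₀ x).1 hxL
    have hty : Commute t y := c.loc.comm_layer t c.loc.mem_t |>.symm
    have h2 : x⁻¹ * y * x = x * y * x⁻¹ := by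
      have h3 : t * (x * y * x⁻¹) * t⁻¹ = x * y * x⁻¹ := by
        rw [← hk, (hty.zpow_right k).eq, mul_inv_cancel_right]
      rw [show t * (x * y * x⁻¹) * t⁻¹ = (t * x * t⁻¹) * (t * y * t⁻¹) * (t * x * t⁻¹)⁻¹ by group, hx,
        hty.eq, mul_inv_cancel_right, inv_inv] at h3
      exact h3
    have hxx : Commute (x * x) y := by
      refine mul_inv_eq_iff_eq_mul.1 ?_
      rw [show x * x * y * (x * x)⁻¹ = x * (x * y * x⁻¹) * x⁻¹ by group, ← h2]
      group
    exact ⟨d, x, hd, c.loc.mem_of_inverted e (CompLocal.commute_of_sq hxo hxx) hxo hx, hxv, hgdx⟩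
  obtain ⟨P, hP⟩ := hD'.exists_le_sylow
  have hPD : (P : Subgroup L₀) = D' := by
    by_contra hne
    have hlt : D'.subgroupOf (P : Subgroup L₀) < ⊤ := lt_top_iff_ne_top.2 fun h =>
      hne (le_antisymm (subgroupOf_eq_top.1 h) hP)
    haveI := P.2.isNilpotent
    obtain ⟨g, hgn, hgD⟩ := SetLike.exists_of_lt
      (Group.normalizerCondition_of_isNilpotent (G := (P : Subgroup L₀)) _ hlt)
    have hgn' : (g : L₀) ∈ normalizer (D' : Set L₀) := mem_normalizer_of_forall fun x hx =>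
      (mem_normalizer_iff.1 hgn ⟨x, hP hx⟩).1 hx
    obtain ⟨d, x, hd, hxL, hxv, hgdx⟩ := hN g hgn'
    have hx0 : x ∈ L₀ := (hL₀ x).2 ⟨hxv,
      c.loc.odd_q.of_dvd_nat ((uni_props e c.loc.two hv.mem hv.ne hv.dvd).2.1 x hxL hxv)⟩
    have hxP : (⟨x, hx0⟩ : L₀) ∈ (P : Subgroup L₀) := by
      rw [show (⟨x, hx0⟩ : L₀) = (⟨d, hDL hd⟩ : L₀)⁻¹ * (g : L₀) from Subtype.ext (by
        show x = d⁻¹ * ((g : L₀) : G)
        rw [hgdx, inv_mul_cancel_left])]
      exact mul_mem (inv_mem (hP hd)) g.2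
    obtain ⟨k, hk⟩ := P.2 ⟨_, hxP⟩
    have h1 : orderOf x ∣ r ^ k :=
      orderOf_dvd_of_pow_eq_one (congrArg (fun z : (P : Subgroup L₀) => ((z : L₀) : G)) hk :)
    have hx1 : x = 1 := orderOf_eq_one_iff.1 (Nat.eq_one_of_dvd_coprimes
      ((c.loc.coprime_q e).pow_left k) h1 ((uni_props e c.loc.two hv.mem hv.ne hv.dvd).2.1 x hxL hxv))
    refine hgD ?_
    show ((g : L₀) : G) ∈ dFix t b
    rwa [hgdx, hx1, mul_one]
  have hPN : normalizer (P : Set L₀) ≤ centralizer (P : Set L₀) := by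
    intro g hg
    have hg' : g ∈ normalizer (D' : Set L₀) := hPD ▸ hg
    obtain ⟨d, x, hd, hxL, -, hgdx⟩ := hN g hg'
    refine mem_centralizer_iff.2 fun z hz => Subtype.ext ?_
    have hz' : (z : G) ∈ dFix t b := (hPD ▸ hz : z ∈ D')
    haveI := c.heis.cyclic
    letI : CommGroup ↥(dFix t b) := IsCyclic.commGroup
    have hzd : Commute (z : G) d :=
      congrArg Subtype.val (mul_comm (⟨z, hz'⟩ : dFix t b) ⟨d, hd⟩)
    show (z : G) * g = g * z
    rw [hgdx]
    exact (hzd.mul_right (c.layer _ hz' x hxL)).eq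
  have hcomp := MonoidHom.ker_transferSylow_isComplement' P hPN
  set W := (MonoidHom.transferSylow P hPN).ker
  have hWr : ¬ r ∣ Nat.card W := MonoidHom.not_dvd_card_ker_transferSylow P hPN
  have hmem : ∀ g, g ∈ W.map L₀.subtype ↔ InX y v g := by
    intro g
    constructor
    · rintro ⟨w, hw, rfl⟩
      obtain ⟨h1, h2⟩ := (hL₀ w).1 w.2
      refine ⟨h1, Nat.Coprime.mul_right (Nat.coprime_two_right.2 h2) ?_⟩
      show (orderOf (w : G)).Coprime r
      rw [orderOf_coe]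
      exact ((hr.out.coprime_iff_not_dvd.2 hWr).symm).coprime_dvd_left
        (Subgroup.orderOf_dvd_natCard _ hw)
    · intro hg
      refine ⟨⟨g, (hL₀ g).2 ⟨hg.1, hg.odd⟩⟩, ?_, rfl⟩
      refine (QuotientGroup.eq_one_iff (N := W) _).1 (orderOf_eq_one_iff.1 ?_)
      obtain ⟨k, hk⟩ := IsPGroup.iff_card.1 P.2
      refine Nat.eq_one_of_dvd_coprimes (hg.2.coprime_mul_left_right.pow_right k) ?_ ?_
      · have := orderOf_map_dvd (QuotientGroup.mk' W) (⟨g, (hL₀ g).2 ⟨hg.1, hg.odd⟩⟩ : L₀)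
        rwa [orderOf_mk] at this
      · show _ ∣ orderOf y ^ k
        rw [← hk, ← hcomp.symm.index_eq_card]
        exact orderOf_dvd_natCard _
  refine ⟨W.map L₀.subtype, hmem, fun g hg => ?_, fun g hgv hgo => ?_⟩
  · have hg' := (hmem g).1 hg
    have hinvX : ∀ z ∈ W.map L₀.subtype, t * z * t⁻¹ ∈ W.map L₀.subtype := fun z hz => by
      obtain ⟨h1, h2⟩ := (hmem z).1 hz
      refine (hmem _).2 ⟨?_, by rw [← MulAut.conj_apply, MulEquiv.orderOf_eq]; exact h2⟩
      have := commute_conj t h1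
      rw [hv.inv] at this
      exact Commute.inv_right_iff.1 this
    have hm := mul_mem (hinvX _ (inv_mem hg)) hg
    obtain ⟨d, x, hdt, hx, hgdx, hxm⟩ := exists_split c.hyp.orderT ((hmem _).1 hm).odd
    have hxX := zpowers_le.2 hm hxm
    have hdX : d ∈ W.map L₀.subtype := by
      rw [show d = g * x⁻¹ by rw [hgdx, mul_inv_cancel_right]]; exact mul_mem hg (inv_mem hxX)
    obtain ⟨h1, h2⟩ := (hmem d).1 hdX
    have hd : d ∈ dFix t b := c.mem_dFix_of_commute e hv
      ((c.hyp.mem_oCore_iff c.hyp.orderT).2 ⟨mem_cent.2 hdt.eq, ((hmem d).1 hdX).odd⟩) h1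
    rw [hgdx, c.eq_one_of_coprime hd h2.coprime_mul_left_right, one_mul]
    exact hx
  · obtain ⟨⟨⟨w, hw⟩, ⟨d, hd⟩⟩, hwd⟩ := hcomp.2 ⟨g, (hL₀ g).2 ⟨hgv, hgo⟩⟩
    exact ⟨w, mem_map_of_mem _ hw, d, (hPD ▸ hd : d ∈ D'), (congrArg Subtype.val hwd).symm⟩

section OfX

variable {v : G} (hv : Uni t y τ F v) {X : Subgroup G} (hX : IsX t b y v X)

include hv hX

theorem mem_of_layer {u : G} (hu : u ∈ layerN y) (huv : Commute u v) : u ∈ X := by
  have h := (uni_props e c.loc.two hv.mem hv.ne hv.dvd).2.1 u hu huv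
  exact (hX.mem u).2 ⟨huv, Nat.Coprime.mul_right
    (Nat.coprime_two_right.2 (c.loc.odd_q.of_dvd_nat h)) ((c.loc.coprime_q e).symm.coprime_dvd_left h)⟩

theorem uni_of_mem {u : G} (hu : u ∈ layerN y) (huv : Commute u v) (h1 : u ≠ 1) : Uni t y τ F u := by
  obtain ⟨-, hdvd, hiff, -⟩ := uni_props e c.loc.two hv.mem hv.ne hv.dvd
  refine ⟨hu, h1, hdvd u hu huv, hX.inv u (c.mem_of_layer e hv hX hu huv), fun z hz hzu => ?_⟩
  exact (hiff u hu _ (c.loc.conj_mem e c.heis.plane.pin.comm hz) h1 huv).2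
    (hv.fix z hz ((hiff u hu z hz h1 huv).1 hzu))

theorem conj_pow_τ (i : ℕ) {u : G} (hu : u ∈ layerN y) (huv : Commute u v) :
    τ ^ i * u * (τ ^ i)⁻¹ ∈ layerN y ∧ Commute (τ ^ i * u * (τ ^ i)⁻¹) v := by
  induction i with
  | zero => simpa using And.intro hu huv
  | succ i ih =>
    rw [pow_succ', show τ * τ ^ i * u * (τ * τ ^ i)⁻¹ = τ * (τ ^ i * u * (τ ^ i)⁻¹) * τ⁻¹ by group]
    exact ⟨c.loc.conj_mem e c.heis.plane.pin.comm ih.1, hv.fix _ ih.1 ih.2⟩

theorem mem_normalizer_y : y ∈ normalizer (X : Set G) := mem_normalizer_of_forall fun g hg => by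
  have := ((hX.mem g).1 hg).map y
  rw [(c.loc.comm_layer v hv.mem).eq, mul_inv_cancel_right] at this
  exact (hX.mem _).2 this

theorem mem_normalizer_τ : τ ∈ normalizer (X : Set G) := mem_normalizer_of_forall fun g hg => by
  obtain ⟨j, hj⟩ := c.loc.odd
  have hr : τ ^ orderOf y = 1 := c.loc.order_τ ▸ pow_orderOf_eq_one τ
  obtain ⟨h1, h2⟩ := c.conj_pow_τ e hv hX (orderOf y - 1) hv.mem (Commute.refl v)
  have hinv : τ ^ (orderOf y - 1) = τ⁻¹ := by
    refine eq_inv_of_mul_eq_one_left ?_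
    rw [← pow_succ, Nat.sub_add_cancel c.loc.prime.one_le, hr]
  rw [hinv] at h1 h2
  have hgv : Commute g (τ⁻¹ * v * τ⁻¹⁻¹) := hX.comm hg (c.mem_of_layer e hv hX h1 h2)
  refine (hX.mem _).2 ⟨?_, by rw [← MulAut.conj_apply, MulEquiv.orderOf_eq]; exact ((hX.mem g).1 hg).2⟩
  have := commute_conj τ hgv
  rwa [show τ * (τ⁻¹ * v * τ⁻¹⁻¹) * τ⁻¹ = v by group] at this

theorem fixed_τ {g : G} (hg : g ∈ X) (hgτ : Commute g τ) : g = 1 :=
  CompInverted.eq_one_of_commute_inverted ((hX.mem g).1 hg).odd (hX.inv g hg)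
    (mem_cent.1 (c.heis.cent_τ (mem_cent.2 hgτ.eq)))

theorem mem_layer_of_commute_y {g : G} (hg : g ∈ X) (hgy : Commute g y) :
    g ∈ layerN y ∧ Commute g v :=
  ⟨c.loc.mem_of_inverted e hgy ((hX.mem g).1 hg).odd (hX.inv g hg), ((hX.mem g).1 hg).1⟩

/-- The elements of `X` of one of the lines `y * τ ^ k` come from a unipotent element of the layer. -/
theorem uni_shift {o : G} (ho : o ∈ oCore t) (hoy : ∀ i : ℕ, o ^ i * y * (o ^ i)⁻¹ = y * τ ^ i)
    {k : ℕ} {x : G} (hx : x ∈ X) (hxk : Commute x (y * τ ^ k)) (hx1 : x ≠ 1) :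
    Uni t y τ F ((o ^ k)⁻¹ * x * o ^ k) := by
  set x' := (o ^ k)⁻¹ * x * o ^ k with hx'
  have hot : Commute (o ^ k) t := c.commute_oCore (pow_mem ho k)
  have hoτ : Commute (o ^ k) τ := c.heis.comm_τ _ (pow_mem ho k)
  have hxeq : x' = MulAut.conj (o ^ k)⁻¹ x := by rw [MulAut.conj_apply, inv_inv]
  have hxo : Odd (orderOf x') := by rw [hxeq, MulEquiv.orderOf_eq]; exact ((hX.mem x).1 hx).odd
  have hxy : Commute x' y := by
    have := commute_conj (o ^ k)⁻¹ hxk
    rwa [inv_inv, ← hoy k, show (o ^ k)⁻¹ * (o ^ k * y * (o ^ k)⁻¹) * o ^ k = y by group] at this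
  have hinv : t * x' * t⁻¹ = x'⁻¹ := by
    rw [hx', show t * ((o ^ k)⁻¹ * x * o ^ k) * t⁻¹ =
      (t * o ^ k * t⁻¹)⁻¹ * (t * x * t⁻¹) * (t * o ^ k * t⁻¹) by group, hX.inv x hx, ← hot.eq,
      mul_inv_cancel_right]
    group
  have hxL : x' ∈ layerN y := c.loc.mem_of_inverted e hxy hxo hinv
  have hne : x' ≠ 1 := fun h => hx1 ((map_eq_one_iff _ (MulAut.conj (o ^ k)⁻¹).injective).1 (hxeq ▸ h))
  have hcomm : Commute (τ * x' * τ⁻¹) x' := by
    have hτx : Commute (τ * x * τ⁻¹) x :=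
      hX.comm ((mem_normalizer_iff.1 (c.mem_normalizer_τ e hv hX) x).1 hx) hx
    have := commute_conj (o ^ k)⁻¹ hτx
    rwa [inv_inv, show (o ^ k)⁻¹ * (τ * x * τ⁻¹) * o ^ k =
      ((o ^ k)⁻¹ * τ * o ^ k) * x' * ((o ^ k)⁻¹ * τ * o ^ k)⁻¹ by rw [hx']; group,
      show (o ^ k)⁻¹ * τ * o ^ k = τ by rw [mul_assoc, ← hoτ.eq, inv_mul_cancel_left], ← hx'] at this
  have hd := uni_of_inverted e c.loc.two hxL c.loc.mem_t c.loc.mem_τ hne hxo c.loc.order_t hinv c.loc.τ_ne
    c.loc.odd_τ c.loc.comm_τ.symm hcomm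
  refine ⟨hxL, hne, hd, hinv, fun z hz hzx => ?_⟩
  obtain ⟨-, -, hiff, -⟩ := uni_props e c.loc.two hxL hne hd
  refine (hiff _ (c.loc.conj_mem e c.heis.plane.pin.comm hxL) _ (c.loc.conj_mem e c.heis.plane.pin.comm hz)
    (fun h => hne (conj_eq_one_iff.1 h)) hcomm).1 (commute_conj τ hzx)

/-- A unipotent element centralising two ends has no room: `X` is the unipotent group. -/
theorem eq_unip
    (hbig : ∀ X : Subgroup G, (∀ x ∈ X, t * x * t⁻¹ = x⁻¹) → Fintype.card F ^ orderOf y ≤ Nat.card X →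
      (∀ l : ℕ, l.Prime → l ∣ Nat.card X → l ∣ Fintype.card F) → False)
    (hO : ∀ l k : ℕ, l.Prime → l ∣ Fintype.card F → l ^ k ∣ Nat.card (oCore t) → l ^ k < Fintype.card F) :
    ∀ g ∈ X, g ∈ layerN y ∧ Commute g v := by
  classical
  set r := orderOf y
  have hr : r.Prime := c.loc.prime
  obtain ⟨o, ho, hbo, hoy₁⟩ := c.heis.shift
  have hoτ : Commute o τ := c.heis.comm_τ o ho
  have hyτ : Commute y τ := c.loc.comm_layer τ c.loc.mem_τ
  have hτr : τ ^ r = 1 := by show τ ^ orderOf y = 1; rw [← c.loc.order_τ]; exact pow_orderOf_eq_one τ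
  have hoy : ∀ i : ℕ, o ^ i * y * (o ^ i)⁻¹ = y * τ ^ i := by
    intro i
    induction i with
    | zero => simp
    | succ i ih =>
      rw [pow_succ', show o * o ^ i * y * (o * o ^ i)⁻¹ = o * (o ^ i * y * (o ^ i)⁻¹) * o⁻¹ by group, ih,
        show o * (y * τ ^ i) * o⁻¹ = (o * y * o⁻¹) * (o * τ ^ i * o⁻¹) by group, hoy₁,
        (hoτ.pow_right i).eq, mul_inv_cancel_right, mul_assoc, ← pow_succ']
  -- the action on `X`
  letI : CommGroup X := { (inferInstance : Group X) with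
    mul_comm := fun a a' => Subtype.ext (hX.comm a.2 a'.2).eq }
  set φ : normalizer (X : Set G) →* MulAut X := X.normalizerMonoidHom
  set y' : normalizer (X : Set G) := ⟨y, c.mem_normalizer_y e hv hX⟩
  set τ' : normalizer (X : Set G) := ⟨τ, c.mem_normalizer_τ e hv hX⟩
  have hfix_iff : ∀ (a : normalizer (X : Set G)) (z : X), φ a z = z ↔ Commute (z : G) (a : G) :=
    fun a z => by
      rw [Subtype.ext_iff]
      show (a : G) * z * (a : G)⁻¹ = z ↔ _
      rw [mul_inv_eq_iff_eq_mul]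
      exact ⟨fun h => h.symm, fun h => h.eq.symm⟩
  have hc' : Commute y' τ' := Subtype.ext hyτ.eq
  have hy'r : y' ^ r = 1 := Subtype.ext (pow_orderOf_eq_one y)
  have hτ'r : τ' ^ r = 1 := Subtype.ext hτr
  have hfix : ∀ a : X, φ τ' a = a → a = 1 := fun a ha =>
    Subtype.ext (c.fixed_τ e hv hX a.2 ((hfix_iff τ' a).1 ha))
  have hcop : ∀ a : X, a ^ r = 1 → a = 1 := fun a ha => Subtype.ext (orderOf_eq_one_iff.1
    (Nat.eq_one_of_dvd_coprimes ((hX.mem _).1 a.2).2.coprime_mul_left_right dvd_rfl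
      (orderOf_dvd_of_pow_eq_one (congrArg Subtype.val ha))))
  have hline : ∀ (j : ℕ) (a : X), φ (y' * τ' ^ j) a = a ↔ Commute (a : G) (y * τ ^ j) :=
    fun j a => hfix_iff _ a
  have hdq : ∀ a : X, orderOf (a : G) ∣ Fintype.card F := by
    intro a
    suffices h : (a ^ r) ^ Fintype.card F = 1 by
      refine orderOf_dvd_of_pow_eq_one (congrArg Subtype.val (hcop (a ^ Fintype.card F) ?_) :)
      rw [← pow_mul, mul_comm, pow_mul, h]
    rw [pow_eq_prod_norm φ hr hc' hy'r hτ'r hfix, ← Finset.prod_pow]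
    refine Finset.prod_eq_one fun j _ => ?_
    set z := norm φ (y' * τ' ^ j) r a
    by_cases hz : z = 1
    · rw [hz, one_pow]
    have hu := c.uni_shift e hv hX ho hoy z.2
      ((hline j z).1 (norm_fixed φ (mul_pow_eq_one φ hr hc' hy'r hτ'r hfix j) a))
      (fun h => hz (Subtype.ext h))
    refine Subtype.ext ?_
    have := hu.dvd
    rw [show (o ^ j)⁻¹ * (z : G) * o ^ j = MulAut.conj (o ^ j)⁻¹ (z : G) by
      rw [MulAut.conj_apply, inv_inv], MulEquiv.orderOf_eq] at this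
    rw [Subgroup.coe_pow, Subgroup.coe_one]
    exact orderOf_dvd_iff_pow_eq_one.1 this
  -- no line but `y`
  have key : ∀ k : ℕ, ¬ r ∣ k → ∀ x ∈ X, Commute x (y * τ ^ k) → x = 1 := by
    intro k hk x hx hxk
    by_contra hx1
    set x' := (o ^ k)⁻¹ * x * o ^ k with hx'
    have hu' := c.uni_shift e hv hX ho hoy hx hxk hx1
    obtain ⟨X', hX'⟩ := c.exists_isX e hu'
    have hgX' : ∀ g ∈ X, InX y x' ((o ^ k)⁻¹ * g * o ^ k) := fun g hg => by
      have := (show InX y x g from ⟨hX.comm hg hx, ((hX.mem g).1 hg).2⟩).map (o ^ k)⁻¹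
      rwa [inv_inv] at this
    have hU : ∀ u, u ∈ layerN y → Commute u v → u ∈ X := fun u => c.mem_of_layer e hv hX
    have hUcard : Fintype.card F ≤ Nat.card (X ⊓ Cent y : Subgroup G) := by
      rw [← (uni_props e c.loc.two hv.mem hv.ne hv.dvd).1]
      exact card_le_of_le fun u hu =>
        ⟨hU u hu.1 (mem_cent.1 hu.2), mem_cent.2 (c.loc.comm_layer u hu.1).symm.eq⟩
    have hbv : orderOf b = 2 := c.pair.hb
    rcases uni_pair e c.loc.two c.loc.mem_τ c.mem_b c.loc.mem_t hv.mem hu'.mem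
        (c.loc.order_τ.symm ▸ c.loc.prime)
        (fun h2 => Nat.not_even_iff_odd.2 c.loc.odd_τ (h2 ▸ even_two)) hbv c.heis.plane.pin.inv_τ
        c.loc.order_t c.loc.comm_τ.symm hv.ne hv.dvd (hv.fix v hv.mem (Commute.refl v)) hu'.ne hu'.dvd
        (hu'.fix _ hu'.mem (Commute.refl _)) with hw | hw
    · -- `o ^ k` normalises `X`
      have hvX' : v ∈ X' := c.mem_of_layer e hu' hX' hv.mem hw
      have hok : (o ^ k)⁻¹ ∈ normalizer (X : Set G) := mem_normalizer_of_forall fun g hg => by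
        rw [inv_inv]
        exact (hX.mem _).2 ⟨hX'.comm ((hX'.mem _).2 (hgX' g hg)) hvX', (hgX' g hg).2⟩
      refine hbig X hX.inv (prod_card_le φ hr hc' hy'r hτ'r hfix hcop fun j hj => ?_)
        fun l hl hld => ?_
      · obtain ⟨m, hm⟩ : ∃ m, k * m % r = j := by
          obtain ⟨m, -, hm⟩ := Nat.exists_mul_mod_eq_one_of_coprime
            ((hr.coprime_iff_not_dvd.2 hk).symm) hr.one_lt
          exact ⟨m * j, by rw [← mul_assoc, Nat.mul_mod, hm, one_mul, Nat.mod_mod, Nat.mod_eq_of_lt hj]⟩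
        set g₀ := o ^ (k * m)
        have hg₀ : g₀ ∈ normalizer (X : Set G) := by
          rw [show g₀ = ((o ^ k)⁻¹ ^ m)⁻¹ by rw [inv_pow, inv_inv, ← pow_mul]]
          exact inv_mem (pow_mem hok m)
        have hgy : g₀ * y * g₀⁻¹ = y * τ ^ j := by
          rw [hoy, ← Nat.mod_add_div (k * m) r, hm, pow_add, pow_mul, hτr, one_pow, mul_one]
        refine le_trans hUcard (Nat.card_le_card_of_injective
          (fun u : (X ⊓ Cent y : Subgroup G) =>
            (⟨⟨g₀ * u * g₀⁻¹, (mem_normalizer_iff.1 hg₀ u).1 u.2.1⟩, (hline j _).2 (by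
              rw [← hgy]; exact commute_conj g₀ (mem_cent.1 u.2.2))⟩ :
              {a : X // φ (y' * τ' ^ j) a = a})) fun u u' h => Subtype.ext ?_)
        exact (MulAut.conj g₀).injective (congrArg (fun a => ((Subtype.val a : X) : G)) h)
      · haveI := Fact.mk hl
        obtain ⟨a, ha⟩ := exists_prime_orderOf_dvd_card' l hld
        exact ha ▸ orderOf_coe a ▸ hdq a
    · -- a reflection normalises `X`
      have hbX' : b * v * b⁻¹ ∈ X' :=
        c.mem_of_layer e hu' hX' (mul_mem (mul_mem c.mem_b hv.mem) (inv_mem c.mem_b)) hw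
      set u := o ^ k * b with hu
      have hb2 := BSW.sq_of_order hbv
      have hbok : b * o ^ k * b⁻¹ = (o ^ k)⁻¹ := by rw [← conj_pow, hbo, inv_pow]
      have hbi := BSW.inv_of_order hbv
      have hu2 : u * u = 1 := by
        rw [hu, show o ^ k * b * (o ^ k * b) = o ^ k * (b * o ^ k * b⁻¹) * (b * b) by group, hbok, hb2,
          mul_one, mul_inv_cancel]
      have hut : Commute u t := (c.commute_oCore (pow_mem ho k)).mul_left c.pair.comm.symm
      have hub : ∀ z : G, orderOf z = 2 → o ^ k = z → False := fun z hz he => by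
        have := c.odd_oCore (pow_mem ho k)
        rw [he, hz] at this
        exact absurd this (by decide)
      have hu1 : u ≠ 1 := fun he => hub b hbv (by rw [← hbi]; exact eq_inv_of_mul_eq_one_left he)
      have hune : u ≠ t := fun he => hub (t * b) c.pair.order_mul (by
        rw [← he, hu, mul_assoc, hb2, mul_one])
      have hup : Pair t u := ⟨c.hyp.orderT, orderOf_eq_prime (by rw [pow_two, hu2]) hu1, hut.symm.eq,
        hune.symm⟩
      have hun : u ∈ normalizer (X : Set G) := mem_normalizer_of_forall fun g hg => by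
        have hui : u⁻¹ = u := inv_eq_of_mul_eq_one_right hu2
        rw [show u * g * u⁻¹ = u⁻¹ * g * u⁻¹⁻¹ by rw [inv_inv, hui], inv_inv, hu,
          show (o ^ k * b)⁻¹ * g * (o ^ k * b) = b⁻¹ * ((o ^ k)⁻¹ * g * o ^ k) * b by group]
        refine (hX.mem _).2 ?_
        have := (show InX y (b * v * b⁻¹) ((o ^ k)⁻¹ * g * o ^ k) from
          ⟨hX'.comm ((hX'.mem _).2 (hgX' g hg)) hbX', (hgX' g hg).2⟩).map b⁻¹
        rwa [inv_inv, show b⁻¹ * (b * v * b⁻¹) * b = v by group] at this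
      have hsmall : ∀ z : G, orderOf z = 2 → Nat.card (X ⊓ Cent z : Subgroup G) < Fintype.card F := by
        intro z hz
        obtain ⟨g, hg⟩ := isConj_iff.1 (c.hyp.isConj_invol hz c.hyp.orderT)
        obtain ⟨p, hp⟩ := CharP.exists F
        haveI : Fact p.Prime := ⟨CharP.char_is_prime F p⟩
        obtain ⟨n, hn, hq⟩ := FiniteField.card F p
        have hP : IsPGroup p (X ⊓ Cent z : Subgroup G) := fun a => ⟨n, Subtype.ext (by
          rw [Subgroup.coe_pow, ← hq, Subgroup.coe_one]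
          exact orderOf_dvd_iff_pow_eq_one.1 (hdq ⟨a, a.2.1⟩))⟩
        obtain ⟨i, hi⟩ := IsPGroup.iff_card.1 hP
        rw [hi]
        refine hO p i Fact.out (hq ▸ dvd_pow_self p n.ne_zero) ?_
        rw [← hi]
        refine card_dvd_of_injective (((MulAut.conj g).toMonoidHom.comp
          (X ⊓ Cent z).subtype).codRestrict (oCore t) fun a => ?_) fun a a' h =>
            Subtype.ext ((MulAut.conj g).injective (congrArg Subtype.val h :))
        refine (c.hyp.mem_oCore_iff c.hyp.orderT).2 ⟨mem_cent.2 ?_, ?_⟩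
        · show g * a * g⁻¹ * t = t * (g * a * g⁻¹)
          rw [← hg]; exact (commute_conj g (mem_cent.1 a.2.2)).eq
        · show Odd (orderOf (MulAut.conj g (a : G)))
          rw [MulEquiv.orderOf_eq]; exact ((hX.mem _).1 a.2.1).odd
      have hupper : Nat.card X ≤
          Nat.card (X ⊓ Cent u : Subgroup G) * Nat.card (X ⊓ Cent (t * u) : Subgroup G) := by
        rw [← Nat.card_prod]
        refine Nat.card_le_card_of_surjective
          (fun a => (⟨(a.1 : G) * a.2, mul_mem a.1.2.1 a.2.2.1⟩ : X)) fun g => ?_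
        have hm : u * (g : G)⁻¹ * u⁻¹ * g ∈ X :=
          mul_mem ((mem_normalizer_iff.1 hun _).1 (inv_mem g.2)) g.2
        obtain ⟨d, z, hdu, hz, hgdz, hzm⟩ := exists_split hup.hb ((hX.mem _).1 hm).odd
        have hzX : z ∈ X := zpowers_le.2 hm hzm
        have hdX : d ∈ X := by
          rw [show d = (g : G) * z⁻¹ by rw [hgdz, mul_inv_cancel_right]]
          exact mul_mem g.2 (inv_mem hzX)
        have hztu : Commute z (t * u) := by
          refine (mul_inv_eq_iff_eq_mul.1 ?_).symm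
          rw [show t * u * z * (t * u)⁻¹ = t * (u * z * u⁻¹) * t⁻¹ by group, hz,
            hX.inv _ (inv_mem hzX), inv_inv]
        exact ⟨(⟨d, hdX, mem_cent.2 hdu.eq⟩, ⟨z, hzX, mem_cent.2 hztu.eq⟩), Subtype.ext hgdz.symm⟩
      have hlower : Fintype.card F * Fintype.card F ≤ Nat.card X := by
        have hUu : Fintype.card F ≤ Nat.card (X ⊓ Cent (y * τ ^ k) : Subgroup G) := by
          refine le_trans hUcard (Nat.card_le_card_of_injective
            (fun a : (X ⊓ Cent y : Subgroup G) => (⟨u * a * u⁻¹, (mem_normalizer_iff.1 hun a).1 a.2.1,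
              mem_cent.2 ?_⟩ : (X ⊓ Cent (y * τ ^ k) : Subgroup G))) fun a a' h => Subtype.ext ?_)
          · have h1 := commute_conj u (mem_cent.1 a.2.2)
            rw [show u * y * u⁻¹ = y * τ ^ k by
              rw [hu, show o ^ k * b * y * (o ^ k * b)⁻¹ = o ^ k * (b * y * b⁻¹) * (o ^ k)⁻¹ by group,
                ← (mem_cent.1 c.y_mem.2 : y * b = b * y), mul_inv_cancel_right, hoy]] at h1
            exact h1.eq
          · exact (MulAut.conj u).injective (congrArg Subtype.val h)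
        refine le_trans (Nat.mul_le_mul hUcard hUu) ?_
        rw [← Nat.card_prod]
        refine Nat.card_le_card_of_injective
          (fun a => (⟨(a.1 : G) * a.2, mul_mem a.1.2.1 a.2.2.1⟩ : X)) ?_
        rintro ⟨a, a'⟩ ⟨a₁, a₁'⟩ h
        have h0 : (a : G) * a' = a₁ * a₁' := congrArg Subtype.val h
        have h1 : (a₁ : G)⁻¹ * a = a₁' * (a' : G)⁻¹ := by
          rw [eq_mul_inv_iff_mul_eq, mul_assoc, h0, inv_mul_cancel_left]
        have hmy : Commute ((a₁ : G)⁻¹ * a) y :=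
          (show Commute (a₁ : G) y from mem_cent.1 a₁.2.2).inv_left.mul_left (mem_cent.1 a.2.2)
        have hmk : Commute ((a₁ : G)⁻¹ * a) (y * τ ^ k) :=
          h1 ▸ (show Commute (a₁' : G) (y * τ ^ k) from mem_cent.1 a₁'.2.2).mul_left
            (show Commute (a' : G) (y * τ ^ k) from mem_cent.1 a'.2.2).inv_left
        have hone : (⟨(a₁ : G)⁻¹ * a, mul_mem (inv_mem a₁.2.1) a.2.1⟩ : X) = 1 := by
          refine eq_one_of_pow_fixed φ hr hτ'r hfix hk ((hfix_iff _ _).2 ?_)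
          have := hmy.inv_right.mul_right hmk
          rwa [inv_mul_cancel_left] at this
        have h2 : (a₁ : G) = a := inv_mul_eq_one.1 (congrArg Subtype.val hone)
        refine Prod.ext (Subtype.ext h2.symm) (Subtype.ext ?_)
        rw [h2] at h0
        exact mul_left_cancel h0
      exact absurd (hupper.trans_lt (Nat.mul_lt_mul'' (hsmall u hup.hb) (hsmall _ hup.order_mul)))
        (not_lt.2 hlower)
  -- so `X` is fixed by `y`
  intro g hg
  refine c.mem_layer_of_commute_y e hv hX hg ?_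
  set a : X := ⟨g, hg⟩
  have hpow : φ y' (a ^ r) = a ^ r := by
    rw [pow_eq_prod_norm φ hr hc' hy'r hτ'r hfix, map_prod]
    refine Finset.prod_congr rfl fun j hj => ?_
    have hfj := norm_fixed φ (mul_pow_eq_one φ hr hc' hy'r hτ'r hfix j) a
    rcases Nat.eq_zero_or_pos j with rfl | hj0
    · simpa using hfj
    · rw [Finset.mem_range] at hj
      have h1 : norm φ (y' * τ' ^ j) r a = 1 := Subtype.ext (key j
        (fun h => absurd (Nat.le_of_dvd hj0 h) (by omega)) _ (SetLike.coe_mem _) ((hline j _).1 hfj))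
      rw [h1, map_one]
  rw [map_pow] at hpow
  have h2 := hcop (φ y' a / a) (by rw [div_pow, hpow, div_self'])
  exact (hfix_iff y' a).1 (div_eq_one.1 h2)

end OfX

include e

/-- A point centralising a unipotent element is `⟨y⟩`. -/
theorem eq_zpowers
    (hbig : ∀ X : Subgroup G, (∀ x ∈ X, t * x * t⁻¹ = x⁻¹) → Fintype.card F ^ orderOf y ≤ Nat.card X →
      (∀ l : ℕ, l.Prime → l ∣ Nat.card X → l ∣ Fintype.card F) → False)
    (hO : ∀ l k : ℕ, l.Prime → l ∣ Fintype.card F → l ^ k ∣ Nat.card (oCore t) → l ^ k < Fintype.card F)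
    {v : G} (hv : Uni t y τ F v) {z : G} (hzo : orderOf z = orderOf y) (hzv : Commute z v) :
    zpowers z = zpowers y := by
  obtain ⟨X, hX⟩ := c.exists_isX e hv
  obtain ⟨x, hx, d, hd, rfl⟩ := hX.cover z hzv (hzo ▸ c.loc.odd)
  obtain ⟨hxL, -⟩ := c.eq_unip e hv hX hbig hO x hx
  have hdx : Commute x d := (c.layer d hd x hxL).symm
  have h1 : (x * d) ^ orderOf y = 1 := hzo ▸ pow_orderOf_eq_one _
  rw [hdx.mul_pow, mul_eq_one_iff_eq_inv] at h1
  have hdp : x ^ orderOf y ∈ dFix t b := h1 ▸ inv_mem (pow_mem hd _)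
  have hcop := ((hX.mem x).1 hx).2.coprime_mul_left_right
  have h2 : x ^ orderOf y = 1 :=
    c.eq_one_of_coprime hdp (hcop.coprime_dvd_left (orderOf_pow_dvd _))
  have hx1 : x = 1 :=
    orderOf_eq_one_iff.1 (Nat.eq_one_of_dvd_coprimes hcop dvd_rfl (orderOf_dvd_of_pow_eq_one h2))
  rw [hx1, one_mul] at hzo ⊢
  exact c.zpowers_eq hd hzo

end Env

end Cfsg.Agent.GW.CompQuad

namespace Cfsg.Agent.GW

open Subgroup CompQuad
open BSW (mem_cent)
open scoped MatrixGroups

universe u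

variable {G : Type u} [Group G] [Finite G] {S : Sylow 2 G} {t b y τ : G}

/-- **No quadrangle**: in the extraspecial situation `⟨y⟩` and a point sharing no block with it have at most
one common commuting neighbour. -/
theorem Heis.unique (hyp : Hyp S t) (hk : ProperKnown G) (hM : IsCoatom (Cent t))
    (hm : CompLocal.FixModel.{u}) (h : Heis t b y τ) {F : Type} [Field F] [Fintype F]
    (hodd : Odd (Fintype.card F)) (h11 : 11 ≤ Fintype.card F)
    (e : layerN y ≃* Matrix.ProjectiveSpecialLinearGroup (Fin 2) F)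
    (hbig : ∀ X : Subgroup G, (∀ x ∈ X, t * x * t⁻¹ = x⁻¹) → Fintype.card F ^ orderOf y ≤ Nat.card X →
      (∀ l : ℕ, l.Prime → l ∣ Nat.card X → l ∣ Fintype.card F) → False)
    (hO : ∀ l k : ℕ, l.Prime → l ∣ Fintype.card F → l ^ k ∣ Nat.card (oCore t) → l ^ k < Fintype.card F)
    {Y₂ : Subgroup G} (hY₂ : ∃ s, Inc t y Y₂ s) (_hne : Y₂ ≠ zpowers y)
    (hno : ∀ s, Inc t y (zpowers y) s → ¬ Inc t y Y₂ s) :
    {Y₁ | Adj t y (zpowers y) Y₁ ∧ Adj t y Y₁ Y₂}.ncard ≤ 1 := by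
  have hl := h.plane.loc hyp hk hM hm hodd h11
  have c : Env S t b y τ F :=
    { hyp := hyp
      loc := hl
      heis := h
      mem_b := (h.plane.pin.mem_layer hyp hk hM hm).2
      torus := fun x hx hxy hxb => by
        obtain ⟨T, -, hTL, hT⟩ := h.plane.pin.exists_torus hyp hk hM hm
        exact hTL ((hT x).2 ⟨hx, hxy, hxb⟩)
      layer := fun d hd l hl' =>
        h.plane.pin.commute_layer hyp hk hM hm (h.dFix_eq ▸ hd : d ∈ qFix t b) (h.comm_dFix d hd) l hl' }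
  refine (Set.ncard_le_one (Set.toFinite _)).2 ?_
  rintro Y₁ ⟨hY, hY2⟩ Y₁' ⟨hY', hY2'⟩
  by_contra hne
  obtain ⟨s₂, k, hk', -⟩ := hY₂
  change Y₂ = cj k (zpowers y) at hk'
  subst hk'
  obtain ⟨s, hs, hs1⟩ := hY.2.2
  obtain ⟨s', hs', hs1'⟩ := hY'.2.2
  have hss : s ≠ s' := by
    rintro rfl
    exact hne (hl.eq_of_block e h.plane.meet hno hY2 hY2' hs hs1 hs1')
  obtain ⟨g, hg, rfl⟩ := hl.exists_move e hs
  have hfix : cj g⁻¹ (zpowers y) = zpowers y := mem_normalizer_iff_map_conj_eq.1 (inv_mem hg)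
  have hA : ∀ {A : Subgroup G}, Adj t y (zpowers y) A → Adj t y (zpowers y) (cj g⁻¹ A) := fun {A} hA => by
    have := adj_conj g⁻¹ hA
    rwa [hfix] at this
  have hB : ∀ {A : Subgroup G}, Adj t y A (cj k (zpowers y)) →
      Adj t y (cj g⁻¹ A) (cj (g⁻¹ * k) (zpowers y)) := fun {A} hA => by
    have := adj_conj g⁻¹ hA
    rwa [cj_cj] at this
  have hback : ∀ {w : G}, Inc t y (zpowers y) w → Inc t y (zpowers y) (g⁻¹ * w * g) := fun {w} hw => by
    have := inc_conj g⁻¹ hw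
    rwa [hfix, inv_inv] at this
  have hno' : ∀ w, Inc t y (zpowers y) w → ¬ Inc t y (cj (g⁻¹ * k) (zpowers y)) w := fun w hw hw' => by
    have h1 := inc_conj g hw
    rw [show cj g (zpowers y) = zpowers y from mem_normalizer_iff_map_conj_eq.1 hg] at h1
    have h2 := inc_conj g hw'
    rw [cj_cj, mul_inv_cancel_left] at h2
    exact hno _ h1 h2
  have hYt : Inc t y (cj g⁻¹ Y₁) t := by
    have := inc_conj g⁻¹ hs1
    rwa [show g⁻¹ * (g * t * g⁻¹) * g⁻¹⁻¹ = t by group] at this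
  have hY's : Inc t y (cj g⁻¹ Y₁') (g⁻¹ * s' * g) := by
    have := inc_conj g⁻¹ hs1'
    rwa [inv_inv] at this
  obtain ⟨v, hv, hvz⟩ := hl.exists_uni e hno' (hA hY) (hB hY2) (hA hY') (hB hY2') hYt (hback hs') hY's
    (fun he => hss (by rw [← he]; group))
  have hz : orderOf (g⁻¹ * k * y * (g⁻¹ * k)⁻¹) = orderOf y := by
    rw [← MulAut.conj_apply, MulEquiv.orderOf_eq]
  have hz' := c.eq_zpowers e hbig hO hv hz hvz.symm
  have hYt' : Inc t y (zpowers y) t := (hl.inc_self e).2 ⟨hl.mem_t, hl.order_t⟩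
  exact hno' t hYt' (by rw [cj_zpowers, hz']; exact hYt')

end Cfsg.Agent.GW
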