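import Cfsg.Agent.Lib.GW.PartII.CompPsl
import Cfsg.Agent.Lib.GW.PartII.CompQuadUnique
import Cfsg.Agent.Lib.OddLinear.Main
import Cfsg.Agent.Lib.GW.PartII.CompBound
import Mathlib.FieldTheory.Finite.Basic

/-!
# The component configuration: the final inequalities

With `K` the normaliser of `⟨y⟩`, `idx` the blocks through a point, `M` the points on a block, `c`
the commuting neighbours on a block and `q` the size of the field of the layer:

* `Plane.exists_counts`: `q`, the torus order `X = q ± 1` and the relations between the indices;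
* `Plane.false_of_small`: `3 ≤ M ≤ r - 2` and `M - 1 ≤ c` is impossible;
* `Heis.hbig_of_line`, `Heis.hbig_of_extraspecial`, `Heis.hO`: the hypotheses of the uniqueness of
  middle points;
* `Heis.false_of_line`, `Heis.false_of_extraspecial`: with unique middle points the count contradicts
  the bound on the index.
-/

set_option autoImplicit false
set_option linter.style.haveILetI false
set_option linter.unusedSectionVars false

namespace Cfsg.Agent.GW

open Subgroup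
open BSW (mem_cent sq_of_order inv_of_order ne_one_of_order)
open scoped MatrixGroups

universe u

variable {G : Type u} [Group G] [Finite G] {S : Sylow 2 G} {t b y τ : G}

namespace CompFinal

/-- The numbers of the configuration: field, torus, blocks through a point, reflection index,
points on a block, the prime. -/
structure Counts (q X idx P M r : ℕ) : Prop where
  prime : r.Prime
  r_odd : Odd r
  q_ge : 11 ≤ q
  q_odd : Odd q
  X_eq : X = q + 1 ∨ X + 1 = q
  X_four : 4 ∣ X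
  r_dvd : r ∣ X
  idx_eq : 2 * idx = q * (2 * q - X)
  P_le : P ≤ M * (X / 2)

namespace Counts

variable {q X idx P M r : ℕ} (h : Counts q X idx P M r)
include h

theorem four_r_dvd : 4 * r ∣ X :=
  Nat.Coprime.mul_dvd_of_dvd_of_dvd ((Nat.coprime_two_left.2 h.r_odd).pow_left 2) h.X_four h.r_dvd

theorem four_r_le : 4 * r ≤ q + 1 := by
  have hq := h.q_ge
  have hX : 0 < X := by rcases h.X_eq with e | e <;> omega
  have h1 := Nat.le_of_dvd hX h.four_r_dvd
  rcases h.X_eq with e | e <;> omega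

theorem idx_ge : q * (q - 1) ≤ 2 * idx := by
  rw [h.idx_eq]
  exact Nat.mul_le_mul_left _ (by rcases h.X_eq with e | e <;> omega)

theorem two_P_le : 2 * P ≤ M * (q + 1) := by
  refine (Nat.mul_le_mul_left 2 h.P_le).trans ?_
  rw [mul_left_comm]
  exact Nat.mul_le_mul_left _ (by rcases h.X_eq with e | e <;> omega)

theorem not_dvd_of_dvd_q {p l : ℕ} (hp : p.Prime) (hl : l ∣ X) (hpl : p ∣ l) : ¬ p ∣ q := by
  intro hq
  have hX : p ∣ X := hpl.trans hl
  rcases h.X_eq with e | e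
  · rw [e] at hX
    exact hp.not_dvd_one ((Nat.dvd_add_right hq).1 hX)
  · rw [← e] at hq
    exact hp.not_dvd_one ((Nat.dvd_add_right hX).1 hq)

/-- `idx = q * H` with `H` prime to `q` and to `3`, if `3 ∣ X`. -/
theorem exists_half : ∃ H, idx = q * H ∧ q - 1 ≤ 2 * H ∧ Nat.Coprime H q ∧ (3 ∣ X → Nat.Coprime H 3) := by
  have h4 := h.X_four
  obtain ⟨H, hH⟩ : 2 ∣ 2 * q - X := by rcases h.X_eq with e | e <;> omega
  refine ⟨H, ?_, by rcases h.X_eq with e | e <;> omega, ?_, ?_⟩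
  · have := h.idx_eq
    rw [hH, mul_left_comm] at this
    exact Nat.eq_of_mul_eq_mul_left two_pos this
  · have hd1 : Nat.gcd H q ∣ 2 * H := (Nat.gcd_dvd_left _ _).mul_left 2
    have hd2 : Nat.gcd H q ∣ q := Nat.gcd_dvd_right _ _
    rcases h.X_eq with e | e
    · rw [show q = 2 * H + 1 by omega] at hd1 hd2 ⊢
      exact Nat.eq_one_of_dvd_one ((Nat.dvd_add_right hd1).1 hd2)
    · rw [show 2 * H = q + 1 by omega] at hd1
      exact Nat.eq_one_of_dvd_one ((Nat.dvd_add_right hd2).1 hd1)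
  · intro h3
    refine ((Nat.prime_three).coprime_iff_not_dvd.2 fun hd => ?_).symm
    rcases h.X_eq with e | e <;> omega

end Counts

/-! ### Arithmetic -/

/-- The common part: `idx² (idx - 1)` from below. -/
theorem cube_ge {q idx : ℕ} (hq : 2 ≤ q) (hi : q * (q - 1) ≤ 2 * idx) :
    (q + 1) * (q ^ 2 * (q - 1) ^ 2 * (q - 2)) ≤ 8 * (idx ^ 2 * (idx - 1)) := by
  obtain ⟨x, rfl⟩ : ∃ x, q = x + 2 := ⟨q - 2, by omega⟩
  simp only [show x + 2 - 1 = x + 1 by omega, Nat.add_sub_cancel] at hi ⊢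
  have h1 : x * (x + 3) ≤ 2 * (idx - 1) := by
    have : x * (x + 3) + 2 ≤ 2 * idx := le_trans (le_of_eq (by ring)) hi
    omega
  calc (x + 2 + 1) * ((x + 2) ^ 2 * (x + 1) ^ 2 * x) = ((x + 2) * (x + 1)) ^ 2 * (x * (x + 3)) := by ring
    _ ≤ (2 * idx) ^ 2 * (2 * (idx - 1)) := Nat.mul_le_mul (Nat.pow_le_pow_left hi 2) h1
    _ = 8 * (idx ^ 2 * (idx - 1)) := by ring

theorem no_small {q idx M c : ℕ} (hq : 4 * M + 7 ≤ q) (hM : 3 ≤ M) (hc : M - 1 ≤ c)
    (hi : q * (q - 1) ≤ 2 * idx) (h : c * (idx ^ 2 * (idx - 1)) ≤ 34 * q * M ^ 3 * (q + 1) ^ 2) :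
    False := by
  have h1 : 2 * M * ((q + 1) * (q ^ 2 * (q - 1) ^ 2 * (q - 2))) ≤
      2 * M * ((q + 1) * (q * (408 * (M ^ 2 * (q + 1))))) := by
    calc 2 * M * ((q + 1) * (q ^ 2 * (q - 1) ^ 2 * (q - 2))) ≤ 3 * c * (8 * (idx ^ 2 * (idx - 1))) :=
          Nat.mul_le_mul (by omega) (cube_ge (by omega) hi)
      _ = 24 * (c * (idx ^ 2 * (idx - 1))) := by ring
      _ ≤ 24 * (34 * q * M ^ 3 * (q + 1) ^ 2) := Nat.mul_le_mul_left _ h
      _ = _ := by ring
  have h2 := Nat.le_of_mul_le_mul_left (Nat.le_of_mul_le_mul_left h1 (by omega)) (by omega)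
  rw [pow_two q, mul_assoc q q, mul_assoc q, Nat.mul_le_mul_left_iff (by omega)] at h2
  obtain ⟨x, rfl⟩ : ∃ x, q = x + 19 := ⟨q - 19, by omega⟩
  simp only [show x + 19 - 1 = x + 18 by omega, show x + 19 - 2 = x + 17 by omega] at h2
  have h3 : (4 * M) ^ 2 ≤ (x + 12) ^ 2 := Nat.pow_le_pow_left (by omega) 2
  have h4 := Nat.mul_le_mul_right (408 * (x + 20)) h3
  nlinarith [h2, h4, Nat.zero_le (x ^ 3), Nat.zero_le (x ^ 4), Nat.zero_le (x ^ 2)]

theorem no_line {q idx r c : ℕ} (hq : 11 ≤ q) (hr : 3 ≤ r) (hrq : 4 * r ≤ q + 1) (hc : r - 1 ≤ c)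
    (hi : q * (q - 1) ≤ 2 * idx) (h : c ^ 2 * (idx ^ 2 * (idx - 1)) ≤ 17 * r ^ 3 * (q + 1) ^ 2) :
    False := by
  have h1 : (4 * r ^ 2) * ((q + 1) * (q ^ 2 * (q - 1) ^ 2 * (q - 2))) ≤
      (4 * r ^ 2) * ((q + 1) * (306 * (r * (q + 1)))) := by
    calc (4 * r ^ 2) * ((q + 1) * (q ^ 2 * (q - 1) ^ 2 * (q - 2)))
        ≤ (9 * c ^ 2) * (8 * (idx ^ 2 * (idx - 1))) :=
          Nat.mul_le_mul (by nlinarith [show 2 * r ≤ 3 * c by omega]) (cube_ge (by omega) hi)
      _ = 72 * (c ^ 2 * (idx ^ 2 * (idx - 1))) := by ring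
      _ ≤ 72 * (17 * r ^ 3 * (q + 1) ^ 2) := Nat.mul_le_mul_left _ h
      _ = _ := by ring
  have h2 := Nat.le_of_mul_le_mul_left (Nat.le_of_mul_le_mul_left h1 (by positivity)) (by omega)
  obtain ⟨x, rfl⟩ : ∃ x, q = x + 11 := ⟨q - 11, by omega⟩
  simp only [show x + 11 - 1 = x + 10 by omega, show x + 11 - 2 = x + 9 by omega] at h2
  have h4 := Nat.mul_le_mul_right (306 * (x + 12)) hrq
  nlinarith [h2, h4, Nat.zero_le (x ^ 3), Nat.zero_le (x ^ 4), Nat.zero_le (x ^ 2), Nat.zero_le (x ^ 5)]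

theorem no_extra {q idx r M I P c : ℕ} (hq : 11 ≤ q) (hr : 3 ≤ r) (hr4 : r ≠ 4) (hrq : 4 * r ≤ q + 1)
    (hc : r - 1 ≤ c) (hi : q * (q - 1) ≤ 2 * idx) (hM : M ≤ r * (r + 1)) (hP : 2 * P ≤ M * (q + 1))
    (h16 : I ≤ 16 * P ^ 2) (h3 : r = 3 → I ≤ 10 * P ^ 2)
    (h : c ^ 2 * (idx ^ 2 * (idx - 1)) ≤ I * M) : False := by
  have key : ∀ κ : ℕ, I ≤ κ * P ^ 2 →
      4 * (r - 1) ^ 2 * (q ^ 2 * (q - 1) ^ 2 * (q - 2)) ≤ 8 * κ * M ^ 3 * (q + 1) := by
    intro κ hκ
    refine Nat.le_of_mul_le_mul_left ?_ (show 0 < q + 1 by omega)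
    calc (q + 1) * (4 * (r - 1) ^ 2 * (q ^ 2 * (q - 1) ^ 2 * (q - 2)))
        = 4 * (r - 1) ^ 2 * ((q + 1) * (q ^ 2 * (q - 1) ^ 2 * (q - 2))) := by ring
      _ ≤ 4 * c ^ 2 * (8 * (idx ^ 2 * (idx - 1))) :=
          Nat.mul_le_mul (Nat.mul_le_mul_left _ (Nat.pow_le_pow_left hc 2)) (cube_ge (by omega) hi)
      _ = 32 * (c ^ 2 * (idx ^ 2 * (idx - 1))) := by ring
      _ ≤ 32 * (I * M) := Nat.mul_le_mul_left _ h
      _ ≤ 32 * (κ * P ^ 2 * M) := Nat.mul_le_mul_left _ (Nat.mul_le_mul_right _ hκ)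
      _ = 8 * κ * M * (2 * P) ^ 2 := by ring
      _ ≤ 8 * κ * M * (M * (q + 1)) ^ 2 := Nat.mul_le_mul_left _ (Nat.pow_le_pow_left hP 2)
      _ = _ := by ring
  obtain ⟨x, rfl⟩ : ∃ x, q = x + 11 := ⟨q - 11, by omega⟩
  simp only [show x + 11 - 1 = x + 10 by omega, show x + 11 - 2 = x + 9 by omega] at key
  rcases eq_or_ne r 3 with hr3 | hr3
  · subst hr3
    have k := (key 10 (h3 rfl)).trans (Nat.mul_le_mul_right (x + 11 + 1)
      (Nat.mul_le_mul_left (8 * 10) (Nat.pow_le_pow_left hM 3)))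
    norm_num at k
    nlinarith [k, Nat.zero_le (x ^ 3), Nat.zero_le (x ^ 4), Nat.zero_le (x ^ 2), Nat.zero_le (x ^ 5)]
  · obtain ⟨z, rfl⟩ : ∃ z, x = z + 8 := ⟨x - 8, by omega⟩
    simp only [show z + 8 + 11 = z + 19 by omega, show z + 8 + 10 = z + 18 by omega,
      show z + 8 + 9 = z + 17 by omega] at key hrq hP
    have k0 := key 16 h16
    have h1 : 4 * (4 * r) ^ 2 ≤ 4 * (5 * (r - 1)) ^ 2 :=
      Nat.mul_le_mul_left _ (Nat.pow_le_pow_left (by omega) 2)
    have k1 : 64 * r ^ 2 * ((z + 19) ^ 2 * (z + 18) ^ 2 * (z + 17)) ≤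
        64 * r ^ 2 * (50 * (r * (r + 1) ^ 3) * (z + 19 + 1)) := by
      calc 64 * r ^ 2 * ((z + 19) ^ 2 * (z + 18) ^ 2 * (z + 17))
          ≤ 25 * (4 * (r - 1) ^ 2) * ((z + 19) ^ 2 * (z + 18) ^ 2 * (z + 17)) :=
            Nat.mul_le_mul_right _ (by linarith [h1])
        _ = 25 * (4 * (r - 1) ^ 2 * ((z + 19) ^ 2 * (z + 18) ^ 2 * (z + 17))) := by ring
        _ ≤ 25 * (8 * 16 * M ^ 3 * (z + 19 + 1)) := Nat.mul_le_mul_left _ k0
        _ ≤ 25 * (8 * 16 * (r * (r + 1)) ^ 3 * (z + 19 + 1)) := Nat.mul_le_mul_left _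
            (Nat.mul_le_mul_right _ (Nat.mul_le_mul_left _ (Nat.pow_le_pow_left hM 3)))
        _ = _ := by ring
    have k2 := Nat.le_of_mul_le_mul_left k1 (by positivity)
    have k3 : 4 * r * (4 * (r + 1)) ^ 3 ≤ (z + 20) * (z + 24) ^ 3 :=
      Nat.mul_le_mul (by omega) (Nat.pow_le_pow_left (by omega) 3)
    have k4 := Nat.mul_le_mul_right (50 * (z + 20)) k3
    nlinarith [k2, k4, Nat.zero_le (z ^ 3), Nat.zero_le (z ^ 4), Nat.zero_le (z ^ 2), Nat.zero_le (z ^ 5)]

theorem pow_gt_line {q r : ℕ} (hr : 5 ≤ r) (hrq : 4 * r ≤ q + 1) :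
    17 * r ^ 2 * (q + 1) ^ 2 + 1 < q ^ r := by
  refine lt_of_lt_of_le ?_ (Nat.pow_le_pow_right (show 0 < q by omega) hr)
  obtain ⟨x, rfl⟩ : ∃ x, q = x + 19 := ⟨q - 19, by omega⟩
  have h1 := Nat.mul_le_mul_right ((x + 19 + 1) ^ 2 * 17) (Nat.pow_le_pow_left hrq 2)
  nlinarith [h1, Nat.zero_le (x ^ 3), Nat.zero_le (x ^ 4), Nat.zero_le (x ^ 2), Nat.zero_le (x ^ 5)]

theorem pow_gt_extra {q r : ℕ} (hr : 5 ≤ r) (hr6 : r ≠ 6) (hrq : 4 * r ≤ q + 1) :
    4 * (r * (r + 1)) ^ 2 * (q + 1) ^ 2 + 1 < q ^ r := by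
  obtain ⟨x, rfl⟩ : ∃ x, q = x + 19 := ⟨q - 19, by omega⟩
  rcases eq_or_ne r 5 with rfl | hr5
  · nlinarith [Nat.zero_le (x ^ 3), Nat.zero_le (x ^ 4), Nat.zero_le (x ^ 2), Nat.zero_le (x ^ 5)]
  refine lt_of_lt_of_le ?_ (Nat.pow_le_pow_right (show 0 < x + 19 by omega) (show 7 ≤ r by omega))
  have h0 : r * (r + 1) ≤ (x + 19) ^ 2 := by
    rw [pow_two]
    exact Nat.mul_le_mul (by omega) (by omega)
  have h1 := Nat.mul_le_mul_right ((x + 19 + 1) ^ 2 * 4) (Nat.pow_le_pow_left h0 2)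
  nlinarith [h1, Nat.zero_le (x ^ 3), Nat.zero_le (x ^ 4), Nat.zero_le (x ^ 2), Nat.zero_le (x ^ 5),
    Nat.zero_le (x ^ 6), Nat.zero_le (x ^ 7)]

end CompFinal

open CompFinal

theorem Pin.refl (p : Pin t b y τ) : orderOf b = 2 ∧ b ≠ t ∧ Commute b t :=
  ⟨p.pair.hb, p.pair.ne.symm, p.pair.comm.symm⟩

/-- The field, the torus order and the relations between the indices. -/
theorem Plane.exists_counts (hyp : Hyp S t) (hk : ProperKnown G) (hM : IsCoatom (Cent t))
    (hm : CompLocal.FixModel.{u}) (p : Plane t b y τ) :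
    ∃ (F : Type) (_ : Field F) (_ : Fintype F) (_ : layerN y ≃* PSL(2, F)) (X : ℕ),
      Counts (Fintype.card F) X
        ((normalizer (zpowers y : Set G) ⊓ Cent t).relIndex (normalizer (zpowers y : Set G)))
        (((Cent b).subgroupOf (Cent t)).index)
        ((normalizer (zpowers y : Set G) ⊓ Cent t).relIndex (Cent t)) (orderOf y) := by
  obtain ⟨F, iF, iF', hodd, h11, ⟨e⟩⟩ := p.pin.psl hyp hk hM hm p.noRefl
  obtain ⟨X, hX, h4, hr, hidx, hP⟩ := p.pin.layer_counts hyp hk hM hm hodd e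
  exact ⟨F, iF, iF', e, X, ⟨p.prime, (hyp.odd_oCore t).of_dvd_nat
    (Subgroup.orderOf_dvd_natCard _ (fitCore_le_oCore t p.pin.mem_y.1)), h11, hodd, hX, h4,
    p.order_τ ▸ hr, hidx, hP⟩⟩

/-- At most `r - 2` points on a block, at least `M - 1` of them commuting with the first. -/
theorem Plane.false_of_small (hyp : Hyp S t) (hk : ProperKnown G) (hM : IsCoatom (Cent t))
    (hm : CompLocal.FixModel.{u}) (p : Plane t b y τ)
    (h3 : 3 ≤ (normalizer (zpowers y : Set G) ⊓ Cent t).relIndex (Cent t))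
    (hMr : (normalizer (zpowers y : Set G) ⊓ Cent t).relIndex (Cent t) + 2 ≤ orderOf y)
    (hc : (normalizer (zpowers y : Set G) ⊓ Cent t).relIndex (Cent t) - 1 ≤ (nbrs t y).ncard) :
    False := by
  obtain ⟨F, iF, iF', e, X, h⟩ := p.exists_counts hyp hk hM hm
  have hcnt := p.count fun Y₂ h2 hne hno => p.mult_le hyp hk hM hm h.q_odd h.q_ge e h2 hne hno
  have hI : (Cent t).index ≤ 68 * _ :=
    index_le hyp p.pin.refl.1 p.pin.refl.2.1 p.pin.refl.2.2
  have hNI := index_mul_relIndex (normalizer (zpowers y : Set G)) (Cent t)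
  have hP := h.two_P_le
  have h4 := h.four_r_le
  have hi := h.idx_ge
  generalize (normalizer (zpowers y : Set G) ⊓ Cent t).relIndex (normalizer (zpowers y : Set G)) = idx at *
  generalize (normalizer (zpowers y : Set G) ⊓ Cent t).relIndex (Cent t) = M at *
  generalize (nbrs t y).ncard = c at *
  generalize (normalizer (zpowers y : Set G)).index = N at *
  generalize (Cent t).index = I at *
  generalize ((Cent b).subgroupOf (Cent t)).index = P at *
  generalize Fintype.card F = q at *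
  refine no_small (q := q) (by omega) h3 hc hi ?_
  refine Nat.le_of_mul_le_mul_left ?_ (show 0 < c by omega)
  calc c * (c * (idx ^ 2 * (idx - 1))) = idx * (c ^ 2 * idx * (idx - 1)) := by ring
    _ ≤ idx * (2 * q * c * N) := Nat.mul_le_mul_left _ hcnt
    _ = 2 * q * c * (N * idx) := by ring
    _ = 2 * q * c * (I * M) := by rw [hNI]
    _ ≤ 2 * q * c * (68 * P ^ 2 * M) := Nat.mul_le_mul_left _ (Nat.mul_le_mul_right _ hI)
    _ = 34 * q * c * M * (2 * P) ^ 2 := by ring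
    _ ≤ 34 * q * c * M * (M * (q + 1)) ^ 2 := Nat.mul_le_mul_left _ (Nat.pow_le_pow_left hP 2)
    _ = c * (34 * q * M ^ 3 * (q + 1) ^ 2) := by ring

/-- An odd prime dividing `|Cent t|` divides `|oCore t|`. -/
theorem Hyp.dvd_card_oCore (hyp : Hyp S t) {p : ℕ} (hp : p.Prime) (hp2 : p ≠ 2)
    (h : p ∣ Nat.card (Cent t)) : p ∣ Nat.card (oCore t) := by
  haveI := Fact.mk hp
  obtain ⟨z, hz⟩ := exists_prime_orderOf_dvd_card' p h
  rw [← orderOf_coe] at hz
  rw [← hz]
  exact Subgroup.orderOf_dvd_natCard _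
    ((hyp.mem_oCore_iff hyp.orderT).2 ⟨z.2, hz ▸ hp.odd_of_ne_two hp2⟩)

/-- A subgroup inverted by `t` is no larger than the class of involutions and `1`. -/
theorem Hyp.card_inverted_le (hyp : Hyp S t) {Z : Subgroup G} (hZ : ∀ z ∈ Z, t * z * t⁻¹ = z⁻¹) :
    Nat.card Z ≤ (Cent t).index + 1 := by
  have hrange : (Set.range fun g : G => g * t * g⁻¹).ncard = (Cent t).index :=
    ncard_range_eq_index _ _ fun a c => by
      rw [mem_cent]
      constructor
      · intro e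
        calc a⁻¹ * c * t = a⁻¹ * (c * t * c⁻¹) * c := by group
          _ = a⁻¹ * (a * t * a⁻¹) * c := by rw [e]
          _ = t * (a⁻¹ * c) := by group
      · intro e
        calc a * t * a⁻¹ = a * (t * (a⁻¹ * c)) * c⁻¹ := by group
          _ = a * (a⁻¹ * c * t) * c⁻¹ := by rw [e]
          _ = c * t * c⁻¹ := by group
  have hsub : (fun z => z * t) '' (Z : Set G) ⊆ insert 1 (Set.range fun g : G => g * t * g⁻¹) := by
    rintro _ ⟨z, hz, rfl⟩
    by_cases h1 : z * t = 1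
    · exact Or.inl h1
    right
    have hsq : z * t * (z * t) = 1 := by
      calc z * t * (z * t) = z * (t * z * t⁻¹) * (t * t) := by group
        _ = 1 := by rw [hZ z hz, sq_of_order hyp.orderT, mul_one, mul_inv_cancel]
    obtain ⟨g, hg⟩ := isConj_iff.1
      (hyp.isConj_invol hyp.orderT (BSW.order_of_sq hsq h1))
    exact ⟨g, hg⟩
  have h1 := Set.ncard_le_ncard hsub (Set.toFinite _)
  rw [Set.ncard_image_of_injective _ (mul_left_injective t), ← Nat.card_coe_set_eq] at h1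
  refine le_trans h1 ((Set.ncard_insert_le _ _).trans ?_)
  rw [hrange]

/-- A subgroup inverted by `t` of order a power of the characteristic at least `q ^ 3`: its order is
a multiple of `q ^ 3` and divides `I`. -/
theorem CompFinal.pow_dvd_index (hyp : Hyp S t) {F : Type} [Field F] [Fintype F]
    (hodd : Odd (Fintype.card F))
    (hO : ∀ l, l.Prime → l ∣ Fintype.card F → ¬ l ∣ Nat.card (oCore t)) {Z : Subgroup G}
    (hbig : Fintype.card F ^ 3 ≤ Nat.card Z)
    (hprimes : ∀ l, l.Prime → l ∣ Nat.card Z → l ∣ Fintype.card F) :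
    ∃ p k, p.Prime ∧ p ∣ Fintype.card F ∧ p ≠ 2 ∧ Nat.card Z = p ^ k ∧
      Fintype.card F ^ 3 ∣ p ^ k ∧ p ^ k ∣ (Cent t).index := by
  obtain ⟨p, hp⟩ := CharP.exists F
  obtain ⟨n, hpr, hn⟩ := FiniteField.card F p
  have hpq : p ∣ Fintype.card F := hn ▸ dvd_pow_self p n.pos.ne'
  have hp2 : p ≠ 2 := fun e => by
    subst e
    exact Nat.not_even_iff_odd.2 hodd (even_iff_two_dvd.2 hpq)
  have hcard := Nat.eq_prime_pow_of_unique_prime_dvd (Nat.card_pos (α := Z)).ne' fun {d} hd hdvd =>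
    (Nat.prime_dvd_prime_iff_eq hd hpr).1 (hd.dvd_of_dvd_pow (hn ▸ hprimes d hd hdvd))
  set k := (Nat.card Z).primeFactorsList.length
  refine ⟨p, k, hpr, hpq, hp2, hcard, ?_, ?_⟩
  · rw [hn, ← pow_mul]
    refine pow_dvd_pow _ ((Nat.pow_le_pow_iff_right hpr.one_lt).1 ?_)
    rwa [pow_mul, ← hn, ← hcard]
  · have h1 : p ^ k ∣ Nat.card (Cent t) * (Cent t).index := by
      rw [← hcard, Subgroup.card_mul_index]
      exact Subgroup.card_subgroup_dvd_card _
    refine ((hpr.coprime_iff_not_dvd.2 fun hd => ?_).pow_left k).dvd_of_dvd_mul_left h1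
    exact hO p hpr hpq (hyp.dvd_card_oCore hpr hp2 hd)

/-- The primes of `fitCore t` do not divide `q`. -/
theorem Heis.not_dvd_fitCore (hyp : Hyp S t) (hk : ProperKnown G) (hM : IsCoatom (Cent t))
    (hm : CompLocal.FixModel.{u}) (h : Heis t b y τ) {F : Type} [Field F] [Fintype F]
    (hodd : Odd (Fintype.card F)) (e : layerN y ≃* PSL(2, F)) {s : ℕ} (hs : s.Prime)
    (hsF : s ∣ Nat.card (fitCore t)) : ¬ s ∣ Fintype.card F := by
  have hp := h.plane
  haveI := Fact.mk hs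
  -- an element of order divisible by `s` of the torus of `y`
  obtain ⟨z, hz, hsz⟩ : ∃ z, Pin t b y z ∧ s ∣ orderOf z := by
    by_cases hsr : s = orderOf y
    · exact ⟨τ, hp.pin, by rw [hp.order_τ, hsr]⟩
    haveI : Group.IsNilpotent ↥(fitCore t) :=
      Group.nilpotent_of_mulEquiv ((Cfsg.fittingSubgroup ↥(oCore t)).equivMapOfInjective
        (oCore t).subtype (oCore t).subtype_injective)
    obtain ⟨P⟩ : Nonempty (Sylow s ↥(fitCore t)) := inferInstance
    haveI : (P : Subgroup ↥(fitCore t)).Characteristic := P.characteristic_of_normal inferInstance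
    set P0 := (P : Subgroup ↥(fitCore t)).map (fitCore t).subtype with hP0
    have hbP0 : b ∈ normalizer (P0 : Set G) :=
      Components.normalizer_le_normalizer_map_of_characteristic (fitCore t) _
        (cent_le_normalizer_fitCore t (mem_cent.2 hp.pin.refl.2.2.eq))
    obtain ⟨w, hw⟩ := exists_prime_orderOf_dvd_card' s
      (show s ∣ Nat.card (P : Subgroup ↥(fitCore t)) from P.dvd_card_of_dvd_card hsF)
    have hbot : P0 ⊓ Cent b = ⊥ := by
      refine (eq_bot_iff_forall _).2 fun v hv => ?_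
      have hvD : v ∈ dFix t b := ⟨fitCore_le_oCore t (map_subtype_le _ hv.1), hv.2⟩
      haveI := Fact.mk hp.prime
      obtain ⟨i, hi⟩ := IsPGroup.iff_orderOf.1 (h.pGroup b hp.pin.refl.1 hp.pin.refl.2.1 hp.pin.refl.2.2)
        ⟨v, hvD⟩
      obtain ⟨j, hj⟩ := IsPGroup.iff_orderOf.1 (P.2.map (fitCore t).subtype) ⟨v, hv.1⟩
      rw [orderOf_mk] at hi hj
      exact orderOf_eq_one_iff.1 (Nat.eq_one_of_dvd_coprimes
        (((Nat.coprime_primes hp.prime hs).2 (Ne.symm hsr)).pow i j) (hi ▸ dvd_rfl) (hj ▸ dvd_rfl))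
    have hwo : orderOf ((w : ↥(fitCore t)) : G) = s := by rw [orderOf_coe, orderOf_coe, hw]
    refine ⟨((w : ↥(fitCore t)) : G), ⟨hp.pin.pair, hp.pin.cycle, hp.pin.mem_y, hp.pin.ne_y,
      fitCore_le_oCore t (w : ↥(fitCore t)).2, fun e1 => hs.ne_one ?_, ?_, ?_⟩, hwo.symm.dvd⟩
    · rw [← hwo, e1, orderOf_one]
    · exact inverts_of_inf_eq_bot hp.pin.refl.1 hbP0 hbot _ (mem_map_of_mem _ w.2)
    · have hc : Commute (w : ↥(fitCore t)) ⟨y, hp.pin.mem_y.1⟩ :=
        OddLinear.commute_of_coprime (by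
          rw [orderOf_coe, hw, orderOf_mk]
          exact (Nat.coprime_primes hs hp.prime).2 hsr)
      exact hc.map (fitCore t).subtype
  obtain ⟨X, hX, -, hzX, -, -⟩ := hz.layer_counts hyp hk hM hm hodd e
  intro hd
  have hsX := hsz.trans hzX
  rcases hX with rfl | rfl'
  · exact hs.not_dvd_one ((Nat.dvd_add_right hd).1 hsX)
  · rw [← rfl'] at hd
    exact hs.not_dvd_one ((Nat.dvd_add_right hsX).1 hd)

/-- A prime power dividing `|oCore t|`, the prime dividing `q`, divides the index of `fitCore t`. -/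
theorem Heis.pow_dvd_relIndex (hyp : Hyp S t) (hk : ProperKnown G) (hM : IsCoatom (Cent t))
    (hm : CompLocal.FixModel.{u}) (h : Heis t b y τ) {F : Type} [Field F] [Fintype F]
    (hodd : Odd (Fintype.card F)) (e : layerN y ≃* PSL(2, F)) {l k : ℕ} (hl : l.Prime)
    (hlq : l ∣ Fintype.card F) (hdvd : l ^ k ∣ Nat.card (oCore t)) :
    l ^ k ∣ (fitCore t).relIndex (oCore t) := by
  have hco := ((hl.coprime_iff_not_dvd).2 fun hd => h.not_dvd_fitCore hyp hk hM hm hodd e hl hd hlq).pow_left k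
  refine hco.dvd_of_dvd_mul_left ?_
  rw [Subgroup.relIndex, ← Nat.card_congr (subgroupOfEquivOfLe (fitCore_le_oCore t)).toEquiv,
    Subgroup.card_mul_index]
  exact hdvd

/-- The hypothesis `hO` of the uniqueness of middle points. -/
theorem Heis.hO (hyp : Hyp S t) (hk : ProperKnown G) (hM : IsCoatom (Cent t))
    (hm : CompLocal.FixModel.{u}) (h : Heis t b y τ) {F : Type} [Field F] [Fintype F]
    (hodd : Odd (Fintype.card F)) (e : layerN y ≃* PSL(2, F))
    (hrel : (fitCore t).relIndex (oCore t) < Fintype.card F) :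
    ∀ l k, l.Prime → l ∣ Fintype.card F → l ^ k ∣ Nat.card (oCore t) → l ^ k < Fintype.card F :=
  fun _ _ hl hlq hdvd => lt_of_le_of_lt
    (Nat.le_of_dvd (Nat.pos_of_ne_zero index_ne_zero_of_finite)
      (h.pow_dvd_relIndex hyp hk hM hm hodd e hl hlq hdvd)) hrel

/-- Three points on a block and a torus of order twelve: `⟨y⟩` is the group of fixed points of `b`. -/
theorem Heis.card_dFix_eq_three (hyp : Hyp S t) (hk : ProperKnown G) (hM : IsCoatom (Cent t))
    (hm : CompLocal.FixModel.{u}) (h : Heis t b y τ) {F : Type} [Field F] [Fintype F]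
    (hodd : Odd (Fintype.card F)) (e : layerN y ≃* PSL(2, F))
    (hq : Fintype.card F = 11 ∨ Fintype.card F = 13) (hr : orderOf y = 3) :
    Nat.card (dFix t b) = 3 := by
  have hp := h.plane
  have hτy : zpowers τ ≤ oCore t := zpowers_le.2 hp.pin.mem_τ
  obtain ⟨T, hTc, -, hT⟩ := hp.pin.exists_torus hyp hk hM hm
  -- the torus is `⟨τ⟩`
  have hTτ : T = zpowers τ := by
    refine (eq_of_le_of_card_ge (zpowers_le.2 ((hT τ).2 ⟨hp.pin.mem_τ, hp.pin.comm, hp.pin.inv_τ⟩)) ?_).symm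
    rw [Nat.card_zpowers, hp.order_τ, hr]
    obtain ⟨z, hz⟩ := IsCyclic.exists_ofOrder_eq_natCard (α := T)
    rw [← hz, ← orderOf_coe]
    by_cases hz1 : (z : G) = 1
    · rw [hz1, orderOf_one]; norm_num
    obtain ⟨hzO, hzy, hzb⟩ := (hT z).1 z.2
    obtain ⟨X, hX, h4, hzX, -, -⟩ := (Pin.mk hp.pin.pair hp.pin.cycle hp.pin.mem_y hp.pin.ne_y hzO hz1
      hzb hzy).layer_counts hyp hk hM hm hodd e
    have hX12 : X = 12 := by rcases hX with e' | e' <;> omega
    rw [hX12] at hzX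
    obtain ⟨j, hj⟩ := (hyp.odd_oCore t).of_dvd_nat (Subgroup.orderOf_dvd_natCard _ hzO)
    have := Nat.le_of_dvd (by norm_num) hzX
    interval_cases ho : orderOf (z : G) <;> omega
  -- `C(y)` in `oCore t`
  have hbt : Commute b t := hp.pin.refl.2.2
  have hbO : ∀ {g : G}, g ∈ oCore t → b * g * b⁻¹ ∈ oCore t := fun {g} hg => by
    have := hyp.map_oCore hyp.orderT b hg
    rwa [show b * t * b⁻¹ = t by rw [hbt.eq, mul_inv_cancel_right]] at this
  have hby : Commute b y := (show Commute y b from mem_cent.1 hp.pin.mem_y.2).symm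
  have hdec : ∀ g ∈ oCore t, Commute g y → ∃ d ∈ dFix t b, ∃ v ∈ zpowers τ, g = d * v := by
    intro g hg hgy
    set w := g⁻¹ * (b * g * b⁻¹) with hw
    have hwT : w ∈ T := by
      refine (hT w).2 ⟨mul_mem (inv_mem hg) (hbO hg), ?_, ?_⟩
      · exact hgy.inv_left.mul_left ((hby.mul_left hgy).mul_left hby.inv_left)
      · rw [hw]
        calc b * (g⁻¹ * (b * g * b⁻¹)) * b⁻¹ = b * g⁻¹ * b⁻¹ * ((b * b) * g * (b * b)⁻¹) := by group
          _ = _ := by rw [sq_of_order hp.pin.refl.1, one_mul, inv_one, mul_one]; group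
    rw [hTτ] at hwT
    have hw3 : w ^ 3 = 1 := by
      obtain ⟨i, hi⟩ := mem_zpowers_iff.1 hwT
      rw [← hi, ← zpow_natCast, ← zpow_mul, mul_comm, zpow_mul, zpow_natCast, ← hr, ← hp.order_τ,
        pow_orderOf_eq_one, one_zpow]
    refine ⟨g * w ^ 2, ⟨mul_mem hg (pow_mem (hτy hwT) 2), mem_cent.2 ?_⟩, (w ^ 2)⁻¹,
      inv_mem (pow_mem hwT 2), by group⟩
    have hinv : b * w * b⁻¹ = w⁻¹ := by
      rw [hw]
      calc b * (g⁻¹ * (b * g * b⁻¹)) * b⁻¹ = b * g⁻¹ * b⁻¹ * ((b * b) * g * (b * b)⁻¹) := by group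
        _ = _ := by rw [sq_of_order hp.pin.refl.1, one_mul, inv_one, mul_one]; group
    have e1 : b * (g * w ^ 2) * b⁻¹ = g * w ^ 2 := by
      calc b * (g * w ^ 2) * b⁻¹ = (b * g * b⁻¹) * ((b * w * b⁻¹) * (b * w * b⁻¹)) := by
            rw [pow_two]; group
        _ = g * w * (w⁻¹ * w⁻¹) := by rw [hinv, hw, mul_inv_cancel_left]
        _ = g * (w ^ 3)⁻¹ * w ^ 2 := by group
        _ = g * w ^ 2 := by rw [hw3, inv_one, mul_one]
    exact ((mul_inv_eq_iff_eq_mul.1 e1).symm : g * w ^ 2 * b = b * (g * w ^ 2))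
  obtain ⟨o, ho, -, hoy⟩ := h.shift
  obtain ⟨d₀, hd₀⟩ := h.cyclic.exists_generator
  haveI : Fact (Nat.Prime 3) := ⟨Nat.prime_three⟩
  obtain ⟨a, ha⟩ := (hr ▸ h.pGroup b hp.pin.refl.1 hp.pin.refl.2.1 hp.pin.refl.2.2 :
    IsPGroup 3 ↥(dFix t b)).exists_card_eq
  have hyD : y ∈ dFix t b := ⟨fitCore_le_oCore t hp.pin.mem_y.1, hp.pin.mem_y.2⟩
  have hy3 : 3 ∣ Nat.card (dFix t b) := hr ▸ Subgroup.orderOf_dvd_natCard _ hyD
  have hod : orderOf d₀ = 3 ^ a := by rw [← ha, orderOf_eq_card_of_forall_mem_zpowers hd₀]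
  rcases Nat.lt_or_ge a 2 with ha2 | ha2
  · interval_cases a
    · rw [ha, pow_zero] at hy3
      exact absurd (Nat.le_of_dvd one_pos hy3) (by norm_num)
    · rw [ha, pow_one]
  exfalso
  -- `y` is a cube in `dFix t b`
  obtain ⟨i, hi⟩ := mem_zpowers_iff.1 (hd₀ ⟨y, hyD⟩)
  obtain ⟨i', rfl⟩ : (3 : ℤ) ∣ i := by
    have h1 : d₀ ^ (i * 3) = 1 := by
      rw [zpow_mul, hi, zpow_ofNat]
      exact Subtype.ext (by rw [SubmonoidClass.coe_pow, ← hr, pow_orderOf_eq_one]; rfl)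
    have h2 := orderOf_dvd_iff_zpow_eq_one.2 h1
    rw [hod, show a = (a - 1) + 1 by omega, pow_succ] at h2
    push_cast at h2
    refine dvd_trans ?_ (Int.dvd_of_mul_dvd_mul_right (by norm_num) h2)
    exact dvd_pow_self 3 (by omega)
  have hoτ : ∀ {v : G}, v ∈ zpowers τ → ∀ g ∈ oCore t, Commute g v := fun {v} hv g hg => by
    obtain ⟨j, rfl⟩ := mem_zpowers_iff.1 hv
    exact (h.comm_τ g hg).zpow_right j
  -- the image of `d₀` under the shift
  have hd₀y : Commute (d₀ : G) y := h.comm_dFix _ d₀.2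
  have hcy : Commute (o * (d₀ : G) * o⁻¹) y := by
    have h1 : Commute (o * (d₀ : G) * o⁻¹) (y * τ) := by
      rw [← hoy]
      exact hd₀y.map (MulAut.conj o)
    have hmem : o * (d₀ : G) * o⁻¹ ∈ oCore t := mul_mem (mul_mem ho d₀.2.1) (inv_mem ho)
    have h2 := h1.mul_right (h.comm_τ _ hmem).inv_right
    rwa [mul_inv_cancel_right] at h2
  obtain ⟨d', hd', v, hv, hdv⟩ := hdec _ (mul_mem (mul_mem ho d₀.2.1) (inv_mem ho)) hcy
  have hv3 : v ^ 3 = 1 := by
    obtain ⟨j, rfl⟩ := mem_zpowers_iff.1 hv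
    rw [← zpow_natCast, ← zpow_mul, mul_comm, zpow_mul, zpow_natCast, ← hr, ← hp.order_τ,
      pow_orderOf_eq_one, one_zpow]
  have hcube : o * (d₀ : G) ^ (3 : ℕ) * o⁻¹ = d' ^ 3 := by
    rw [← MulAut.conj_apply, map_pow, MulAut.conj_apply, hdv, (hoτ hv d' hd'.1).mul_pow, hv3, mul_one]
  have hyτ : o * y * o⁻¹ ∈ dFix t b := by
    rw [show y = ((d₀ : G) ^ (3 : ℕ)) ^ i' by
      rw [← zpow_natCast, ← zpow_mul]; exact (congrArg Subtype.val hi).symm.trans (SubgroupClass.coe_zpow _ _),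
      ← MulAut.conj_apply, map_zpow, MulAut.conj_apply, hcube]
    exact zpow_mem (pow_mem hd' 3) i'
  rw [hoy] at hyτ
  have hτD : τ ∈ Cent b := by
    have := (dFix t b).mul_mem ((dFix t b).inv_mem hyD) hyτ
    rw [inv_mul_cancel_left] at this
    exact this.2
  have h1 : τ = τ⁻¹ := by
    rw [← hp.pin.inv_τ, ← mem_cent.1 hτD, mul_inv_cancel_right]
  have h2 : orderOf τ ∣ 2 := orderOf_dvd_of_pow_eq_one (by rw [pow_two]; nth_rw 2 [h1]; rw [mul_inv_cancel])
  rw [hp.order_τ, hr] at h2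
  omega

/-- No reflection has trivial fixed points, as `oCore t` is not abelian. -/
theorem Heis.dFix_ne_bot (h : Heis t b y τ) {v : G} (hv : orderOf v = 2)
    (hvc : Commute v t) : dFix t v ≠ ⊥ := by
  intro hbot
  have hinv := inverts_of_inf_eq_bot hv (Hyp.cent_le_normalizer t (mem_cent.2 hvc.eq)) hbot
  obtain ⟨o, ho, -, hoy⟩ := h.shift
  have hy : y ∈ oCore t := fitCore_le_oCore t h.plane.pin.mem_y.1
  have hc : o * y = y * o := by
    have h1 := hinv _ (mul_mem (inv_mem hy) (inv_mem ho))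
    rw [show v * (y⁻¹ * o⁻¹) * v⁻¹ = (v * y * v⁻¹)⁻¹ * (v * o * v⁻¹)⁻¹ by group, hinv y hy, hinv o ho,
      inv_inv, inv_inv, mul_inv_rev, inv_inv, inv_inv] at h1
    exact h1.symm
  rw [hc, mul_inv_cancel_right, left_eq_mul] at hoy
  exact h.plane.pin.ne_τ hoy

/-- The hypothesis `hbig` of the uniqueness of middle points, line case. -/
theorem Heis.hbig_of_line (hyp : Hyp S t) (hk : ProperKnown G) (hM : IsCoatom (Cent t))
    (hm : CompLocal.FixModel.{u}) (h : Heis t b y τ) {F : Type} [Field F] [Fintype F]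
    (e : layerN y ≃* PSL(2, F)) {X : ℕ}
    (hcn : Counts (Fintype.card F) X
      ((normalizer (zpowers y : Set G) ⊓ Cent t).relIndex (normalizer (zpowers y : Set G)))
      (((Cent b).subgroupOf (Cent t)).index)
      ((normalizer (zpowers y : Set G) ⊓ Cent t).relIndex (Cent t)) (orderOf y))
    (hOF : oCore t = fitCore t)
    (hMr : (normalizer (zpowers y : Set G) ⊓ Cent t).relIndex (Cent t) = orderOf y) :
    ∀ Z : Subgroup G, (∀ z ∈ Z, t * z * t⁻¹ = z⁻¹) → Fintype.card F ^ orderOf y ≤ Nat.card Z →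
      (∀ l, l.Prime → l ∣ Nat.card Z → l ∣ Fintype.card F) → False := by
  intro Z hZ hq hprimes
  have hrf := h.plane.pin.refl
  have hI := index_le hyp hrf.1 hrf.2.1 hrf.2.2
  have hP := hcn.two_P_le
  rw [hMr] at hP
  have hI' : (Cent t).index ≤ 17 * orderOf y ^ 2 * (Fintype.card F + 1) ^ 2 := by
    refine hI.trans ?_
    have := Nat.mul_le_mul_left 17 (Nat.pow_le_pow_left hP 2)
    linarith
  rcases Nat.lt_or_ge (orderOf y) 5 with hr5 | hr5
  swap
  · have := hyp.card_inverted_le hZ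
    have := pow_gt_line hr5 hcn.four_r_le
    omega
  have hr3 : orderOf y = 3 := by
    obtain ⟨j, hj⟩ := hcn.r_odd
    have := hcn.prime.two_le
    omega
  rw [hr3] at hq
  obtain ⟨p, k, -, -, -, -, hdvd, hpI⟩ := pow_dvd_index hyp hcn.q_odd
    (fun l hl hlq hd => h.not_dvd_fitCore hyp hk hM hm hcn.q_odd e hl (hOF ▸ hd) hlq) hq hprimes
  obtain ⟨H, hH, hHge, hHq, hH3⟩ := hcn.exists_half
  have hNI := index_mul_relIndex (normalizer (zpowers y : Set G)) (Cent t)
  rw [hH, hMr, hr3] at hNI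
  have hHI : H ∣ (Cent t).index :=
    (hH3 (hr3 ▸ hcn.r_dvd)).dvd_of_dvd_mul_right
      ⟨(normalizer (zpowers y : Set G)).index * Fintype.card F, by rw [← hNI]; ring⟩
  have hle : Fintype.card F ^ 3 * H ≤ (Cent t).index :=
    Nat.le_of_dvd (Nat.pos_of_ne_zero index_ne_zero_of_finite)
      (((hHq.symm).pow_left 3).mul_dvd_of_dvd_of_dvd (hdvd.trans hpI) hHI)
  have hge : Fintype.card F ^ 3 * (Fintype.card F - 1) ≤ 2 * (Cent t).index := by
    refine le_trans (Nat.mul_le_mul_left _ hHge) ?_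
    rw [mul_left_comm]
    exact Nat.mul_le_mul_left _ hle
  rcases Nat.lt_or_ge (Fintype.card F) 19 with hsmall | hbig
  swap
  · rw [hr3] at hI'
    obtain ⟨x, hx⟩ : ∃ x, Fintype.card F = x + 19 := ⟨Fintype.card F - 19, by omega⟩
    rw [hx, show x + 19 - 1 = x + 18 by omega] at hge
    rw [hx] at hI'
    nlinarith [hge, hI', Nat.zero_le (x ^ 3), Nat.zero_le (x ^ 4), Nat.zero_le (x ^ 2)]
  have hq' : Fintype.card F = 11 ∨ Fintype.card F = 13 := by
    have h12 := hcn.four_r_dvd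
    rw [hr3] at h12
    have := hcn.q_ge
    rcases hcn.X_eq with e' | e' <;> omega
  have hmin : ∀ v, orderOf v = 2 → v ≠ t → Commute v t →
      Nat.card (dFix t b) ≤ Nat.card (dFix t v) := by
    intro v hv hvne hvc
    rw [h.card_dFix_eq_three hyp hk hM hm hcn.q_odd e hq' hr3]
    have h3 : IsPGroup 3 ↥(dFix t v) := hr3 ▸ h.pGroup v hv hvne hvc
    haveI : Fact (Nat.Prime 3) := ⟨Nat.prime_three⟩
    obtain ⟨a, ha⟩ := h3.exists_card_eq
    rcases Nat.eq_zero_or_pos a with rfl | ha0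
    · exact absurd (card_eq_one.1 (ha.trans (pow_zero 3))) (h.dFix_ne_bot hv hvc)
    · rw [ha]
      exact Nat.le_self_pow ha0.ne' 3
  have h16 := (index_le_of_min hyp hrf.1 hrf.2.1 hrf.2.2 hmin).1
  rw [hr3] at hP
  have h16' : (Cent t).index ≤ 36 * (Fintype.card F + 1) ^ 2 := by
    refine h16.trans ?_
    have := Nat.mul_le_mul_left 4 (Nat.pow_le_pow_left hP 2)
    linarith
  rcases hq' with e' | e' <;> rw [e'] at hge h16' <;> norm_num at hge h16' <;> omega

/-- Equal numbers of fixed points, equal indices. -/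
theorem CompFinal.index_eq_of_dFix (hyp : Hyp S t) (h4 : 4 < Nat.card (S : Subgroup G))
    (h : ∀ u v, orderOf u = 2 → u ≠ t → Commute u t → orderOf v = 2 → v ≠ t → Commute v t →
      Nat.card (dFix t u) = Nat.card (dFix t v))
    {u v : G} (hu : orderOf u = 2) (hune : u ≠ t) (huc : Commute u t) (hv : orderOf v = 2)
    (hvne : v ≠ t) (hvc : Commute v t) :
    ((Cent u).subgroupOf (Cent t)).index = ((Cent v).subgroupOf (Cent t)).index := by
  obtain ⟨u₁, u₂, m, a, b, c, hr1, hr2, hclass, -, -, harith⟩ := CompBound.exists_big_relations hyp h4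
  have e : ((Cent u₁).subgroupOf (Cent t)).index = ((Cent u₂).subgroupOf (Cent t)).index := by
    have h1 := harith.px
    rw [h u₁ u₂ hr1.1 hr1.2.1 hr1.2.2 hr2.1 hr2.2.1 hr2.2.2] at h1
    have h2 := mul_right_cancel₀ harith.y_pos.ne' h1
    exact_mod_cast h2
  rcases hclass u hu hune huc with e1 | e1 <;> rcases hclass v hv hvne hvc with e2 | e2 <;>
    rw [e1.2, e2.2] <;> omega

/-- The hypothesis `hbig` of the uniqueness of middle points, extraspecial case. -/
theorem Heis.hbig_of_extraspecial (hyp : Hyp S t) (hk : ProperKnown G) (hM : IsCoatom (Cent t))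
    (hm : CompLocal.FixModel.{u}) (h : Heis t b y τ) {F : Type} [Field F] [Fintype F]
    (e : layerN y ≃* PSL(2, F)) {X : ℕ}
    (hcn : Counts (Fintype.card F) X
      ((normalizer (zpowers y : Set G) ⊓ Cent t).relIndex (normalizer (zpowers y : Set G)))
      (((Cent b).subgroupOf (Cent t)).index)
      ((normalizer (zpowers y : Set G) ⊓ Cent t).relIndex (Cent t)) (orderOf y))
    (hMr : (normalizer (zpowers y : Set G) ⊓ Cent t).relIndex (Cent t) ≤ orderOf y * (orderOf y + 1))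
    (hrel : (fitCore t).relIndex (oCore t) ≤ orderOf y + 1)
    (hD : ∀ u, orderOf u = 2 → u ≠ t → Commute u t → Nat.card (dFix t u) = orderOf y)
    (hr3 : orderOf y = 3 → 16 ∣ Nat.card (S : Subgroup G)) :
    ∀ Z : Subgroup G, (∀ z ∈ Z, t * z * t⁻¹ = z⁻¹) → Fintype.card F ^ orderOf y ≤ Nat.card Z →
      (∀ l, l.Prime → l ∣ Nat.card Z → l ∣ Fintype.card F) → False := by
  intro Z hZ hq hprimes
  have hrf := h.plane.pin.refl
  have hP := hcn.two_P_le
  rcases Nat.lt_or_ge (orderOf y) 5 with hr5 | hr5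
  swap
  · have h16 := (index_le_of_min hyp hrf.1 hrf.2.1 hrf.2.2 fun v hv hvne hvc => by
      rw [hD b hrf.1 hrf.2.1 hrf.2.2, hD v hv hvne hvc]).1
    have hI : (Cent t).index ≤ 4 * (orderOf y * (orderOf y + 1)) ^ 2 * (Fintype.card F + 1) ^ 2 := by
      refine h16.trans ?_
      have := Nat.mul_le_mul_left 4 (Nat.pow_le_pow_left (hP.trans (Nat.mul_le_mul_right _ hMr)) 2)
      linarith
    have := hyp.card_inverted_le hZ
    have := pow_gt_extra hr5 (fun e' => by
      have := hcn.r_odd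
      rw [e'] at this
      exact absurd this (by decide)) hcn.four_r_le
    omega
  have hr : orderOf y = 3 := by
    obtain ⟨j, hj⟩ := hcn.r_odd
    have := hcn.prime.two_le
    omega
  have h8 : 8 ∣ Nat.card (S : Subgroup G) := dvd_trans (by norm_num) (hr3 hr)
  have h4 : 4 < Nat.card (S : Subgroup G) := by
    have := Nat.le_of_dvd Nat.card_pos h8
    omega
  rw [hr] at hq hrel
  have hrelq : (fitCore t).relIndex (oCore t) < Fintype.card F := by
    have := hcn.q_ge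
    omega
  have hnotO : ∀ l, l.Prime → l ∣ Fintype.card F → ¬ l ∣ Nat.card (oCore t) := by
    intro l hl hlq hd
    have h1 := h.pow_dvd_relIndex hyp hk hM hm hcn.q_odd e (k := 1) hl hlq (by rwa [pow_one])
    rw [pow_one] at h1
    have h2 : l ≤ (fitCore t).relIndex (oCore t) :=
      Nat.le_of_dvd (Nat.pos_of_ne_zero index_ne_zero_of_finite) h1
    have h3 : l ≠ 2 := fun e' => by
      subst e'
      exact Nat.not_even_iff_odd.2 hcn.q_odd (even_iff_two_dvd.2 hlq)
    have h4' : l ≠ 3 := fun e' => hcn.not_dvd_of_dvd_q hl (hr ▸ hcn.r_dvd) e'.dvd hlq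
    have := hl.two_le
    have h5 : l = 4 := by omega
    rw [h5] at hl
    exact absurd hl (by decide)
  obtain ⟨p, k, hp, hpq, hp2, -, hdvd, hpI⟩ := pow_dvd_index hyp hcn.q_odd hnotO hq hprimes
  obtain ⟨u, v, hu, hv, hle⟩ := pow_le hyp h8 hp hp2 (hnotO p hp hpq) (fun u v hu hune huc hv hvne hvc => by
    rw [hD u hu hune huc, hD v hv hvne hvc, hr]
    intro hd
    rcases hp.dvd_mul.1 (show p ∣ 2 * 3 from hd) with h' | h'
    · exact hp2 ((Nat.prime_dvd_prime_iff_eq hp Nat.prime_two).1 h')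
    · exact hcn.not_dvd_of_dvd_q hp (hr ▸ hcn.r_dvd) h' hpq) hpI
  have hall : ∀ u v, orderOf u = 2 → u ≠ t → Commute u t → orderOf v = 2 → v ≠ t → Commute v t →
      Nat.card (dFix t u) = Nat.card (dFix t v) := fun u v hu hune huc hv hvne hvc => by
    rw [hD u hu hune huc, hD v hv hvne hvc]
  rw [index_eq_of_dFix hyp h4 hall hu.1 hu.2.1 hu.2.2 hrf.1 hrf.2.1 hrf.2.2,
    index_eq_of_dFix hyp h4 hall hv.1 hv.2.1 hv.2.2 hrf.1 hrf.2.1 hrf.2.2] at hle
  have hq3 := Nat.le_of_dvd (pow_pos hp.pos k) hdvd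
  have h12 := hP.trans (Nat.mul_le_mul_right _ (hMr.trans (by rw [hr])))
  obtain ⟨x, hx⟩ : ∃ x, Fintype.card F = x + 11 := ⟨Fintype.card F - 11, by
    have := hcn.q_ge
    omega⟩
  rw [hx] at hq3 h12
  nlinarith [hle, hq3, h12, Nat.zero_le (x ^ 3), Nat.zero_le (x ^ 2)]

/-- With unique middle points the count of second neighbours contradicts the line bounds. -/
theorem Heis.false_of_unique_line (hyp : Hyp S t) (h : Heis t b y τ) {q X : ℕ}
    (hcn : Counts q X
      ((normalizer (zpowers y : Set G) ⊓ Cent t).relIndex (normalizer (zpowers y : Set G)))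
      (((Cent b).subgroupOf (Cent t)).index)
      ((normalizer (zpowers y : Set G) ⊓ Cent t).relIndex (Cent t)) (orderOf y))
    (huniq : ∀ Y₂ : Subgroup G, (∃ s, Inc t y Y₂ s) → Y₂ ≠ zpowers y →
      (∀ s, Inc t y (zpowers y) s → ¬ Inc t y Y₂ s) →
      Set.ncard {Y₁ | Adj t y (zpowers y) Y₁ ∧ Adj t y Y₁ Y₂} ≤ 1)
    (hMr : (normalizer (zpowers y : Set G) ⊓ Cent t).relIndex (Cent t) = orderOf y)
    (hc : orderOf y - 1 ≤ (nbrs t y).ncard) : False := by
  have hcnt := h.plane.count huniq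
  have hI := index_le hyp h.plane.pin.refl.1 h.plane.pin.refl.2.1 h.plane.pin.refl.2.2
  have hNI := index_mul_relIndex (normalizer (zpowers y : Set G)) (Cent t)
  rw [hMr] at hNI
  have hP := hcn.two_P_le
  rw [hMr] at hP
  have hr3 : 3 ≤ orderOf y := by
    obtain ⟨j, hj⟩ := hcn.r_odd
    have := hcn.prime.two_le
    omega
  refine no_line hcn.q_ge hr3 hcn.four_r_le hc hcn.idx_ge ?_
  generalize (normalizer (zpowers y : Set G) ⊓ Cent t).relIndex (normalizer (zpowers y : Set G)) = idx at *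
  generalize (nbrs t y).ncard = c at *
  generalize (normalizer (zpowers y : Set G)).index = N at *
  generalize (Cent t).index = I at *
  generalize ((Cent b).subgroupOf (Cent t)).index = P at *
  generalize orderOf y = r at *
  calc c ^ 2 * (idx ^ 2 * (idx - 1)) = idx * (c ^ 2 * idx * (idx - 1)) := by ring
    _ ≤ idx * (1 * N) := Nat.mul_le_mul_left _ hcnt
    _ = I * r := by rw [← hNI]; ring
    _ ≤ 68 * P ^ 2 * r := Nat.mul_le_mul_right _ hI
    _ = 17 * r * (2 * P) ^ 2 := by ring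
    _ ≤ 17 * r * (r * (q + 1)) ^ 2 := Nat.mul_le_mul_left _ (Nat.pow_le_pow_left hP 2)
    _ = 17 * r ^ 3 * (q + 1) ^ 2 := by ring

/-- With unique middle points the count of second neighbours contradicts the extraspecial bounds. -/
theorem Heis.false_of_unique_extraspecial (hyp : Hyp S t) (h : Heis t b y τ) {q X : ℕ}
    (hcn : Counts q X
      ((normalizer (zpowers y : Set G) ⊓ Cent t).relIndex (normalizer (zpowers y : Set G)))
      (((Cent b).subgroupOf (Cent t)).index)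
      ((normalizer (zpowers y : Set G) ⊓ Cent t).relIndex (Cent t)) (orderOf y))
    (huniq : ∀ Y₂ : Subgroup G, (∃ s, Inc t y Y₂ s) → Y₂ ≠ zpowers y →
      (∀ s, Inc t y (zpowers y) s → ¬ Inc t y Y₂ s) →
      Set.ncard {Y₁ | Adj t y (zpowers y) Y₁ ∧ Adj t y Y₁ Y₂} ≤ 1)
    (hMr : (normalizer (zpowers y : Set G) ⊓ Cent t).relIndex (Cent t) ≤ orderOf y * (orderOf y + 1))
    (hc : orderOf y - 1 ≤ (nbrs t y).ncard)
    (hD : ∀ u, orderOf u = 2 → u ≠ t → Commute u t → Nat.card (dFix t u) = orderOf y)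
    (hr3 : orderOf y = 3 → 16 ∣ Nat.card (S : Subgroup G)) : False := by
  have hrf := h.plane.pin.refl
  have hcnt := h.plane.count huniq
  obtain ⟨h16, h10⟩ := index_le_of_min hyp hrf.1 hrf.2.1 hrf.2.2 fun v hv hvne hvc => by
    rw [hD b hrf.1 hrf.2.1 hrf.2.2, hD v hv hvne hvc]
  have hNI := index_mul_relIndex (normalizer (zpowers y : Set G)) (Cent t)
  have hge : 3 ≤ orderOf y := by
    obtain ⟨j, hj⟩ := hcn.r_odd
    have := hcn.prime.two_le
    omega
  refine no_extra hcn.q_ge hge (fun e => absurd (e ▸ hcn.prime) (by decide)) hcn.four_r_le hc hcn.idx_ge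
    hMr hcn.two_P_le h16 (fun e => h10 (hr3 e)) ?_
  generalize (normalizer (zpowers y : Set G) ⊓ Cent t).relIndex (normalizer (zpowers y : Set G)) = idx at *
  generalize (normalizer (zpowers y : Set G) ⊓ Cent t).relIndex (Cent t) = M at *
  generalize (nbrs t y).ncard = c at *
  calc c ^ 2 * (idx ^ 2 * (idx - 1)) = idx * (c ^ 2 * idx * (idx - 1)) := by ring
    _ ≤ idx * (1 * (normalizer (zpowers y : Set G)).index) := Nat.mul_le_mul_left _ hcnt
    _ = (Cent t).index * M := by rw [← hNI]; ring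

/-- Case `oCore t = fitCore t` with `r` points on a block. -/
theorem Heis.false_of_line (hyp : Hyp S t) (hk : ProperKnown G) (hM : IsCoatom (Cent t))
    (hm : CompLocal.FixModel.{u}) (h : Heis t b y τ) (hOF : oCore t = fitCore t)
    (hMr : (normalizer (zpowers y : Set G) ⊓ Cent t).relIndex (Cent t) = orderOf y)
    (hc : orderOf y - 1 ≤ (nbrs t y).ncard) : False := by
  obtain ⟨F, iF, iF', e, X, hcn⟩ := h.plane.exists_counts hyp hk hM hm
  have hrel : (fitCore t).relIndex (oCore t) < Fintype.card F := by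
    rw [hOF, Subgroup.relIndex_self]
    have := hcn.q_ge
    omega
  exact h.false_of_unique_line hyp hcn (fun Y₂ h2 hne hno => h.unique hyp hk hM hm hcn.q_odd hcn.q_ge e
    (h.hbig_of_line hyp hk hM hm e hcn hOF hMr) (h.hO hyp hk hM hm hcn.q_odd e hrel) h2 hne hno) hMr hc

/-- All reflections have `r` fixed points and at most `r (r + 1)` points on a block. -/
theorem Heis.false_of_extraspecial (hyp : Hyp S t) (hk : ProperKnown G) (hM : IsCoatom (Cent t))
    (hm : CompLocal.FixModel.{u}) (h : Heis t b y τ)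
    (hMr : (normalizer (zpowers y : Set G) ⊓ Cent t).relIndex (Cent t) ≤ orderOf y * (orderOf y + 1))
    (hc : orderOf y - 1 ≤ (nbrs t y).ncard)
    (hrel : (fitCore t).relIndex (oCore t) ≤ orderOf y + 1)
    (hD : ∀ u, orderOf u = 2 → u ≠ t → Commute u t → Nat.card (dFix t u) = orderOf y)
    (hr3 : orderOf y = 3 → 16 ∣ Nat.card (S : Subgroup G)) : False := by
  obtain ⟨F, iF, iF', e, X, hcn⟩ := h.plane.exists_counts hyp hk hM hm
  have hrel' : (fitCore t).relIndex (oCore t) < Fintype.card F := by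
    have := hcn.four_r_le
    have := hcn.prime.two_le
    omega
  exact h.false_of_unique_extraspecial hyp hcn (fun Y₂ h2 hne hno => h.unique hyp hk hM hm hcn.q_odd
    hcn.q_ge e (h.hbig_of_extraspecial hyp hk hM hm e hcn hMr hrel hD hr3)
    (h.hO hyp hk hM hm hcn.q_odd e hrel') h2 hne hno) hMr hc hD hr3

end Cfsg.Agent.GW
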