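import Cfsg.Agent.Lib.GW.PartII.CompCaseOf
import Cfsg.Agent.Lib.GW.PartII.CompOneFull
import Cfsg.Agent.Lib.GW.PartII.CompFinal

/-!
# The component configuration has inverted centre

`CompAt.eq_one_of_center`: case I does not occur; `exists_central_of_config`: a component configuration gives
`Central t τ`; `not_compConfig_of_central` leaves that case.
-/

set_option autoImplicit false

namespace Cfsg.Agent.GW

open Subgroup CompLocal

universe u

variable {G : Type u} [Group G] [Finite G] {S : Sylow 2 G} {t : G}

theorem CompAt.eq_one_of_center (hyp : Hyp S t) (hk : ProperKnown G) (hM : IsCoatom (Cent t)) {u : G}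
    (hu : CompAt t u) {z : G} (hz : z ∈ qFix t u) (hzc : ∀ f ∈ fitCore t, Commute z f) : z = 1 :=
  no_fixed_center_of hyp hk hM
    (fun _ h hn => h.false_of_full hyp hk hM CompModel.fixModel hn)
    (fun _ _ _ p h3 hlt hc => p.false_of_small hyp hk hM CompModel.fixModel h3 hlt hc) hu hz hzc

/-- A component configuration gives the configuration of inverted centre. -/
theorem exists_central_of_config (hyp : Hyp S t) (hk : ProperKnown G) (hM : IsCoatom (Cent t))
    (hc : CompConfig G) : ∃ τ, Central t τ := by
  obtain ⟨b, hb⟩ := exists_compAt hyp hc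
  exact exists_central hyp hk (cycleLayer hyp hk) hM CompModel.fixModel hb
    fun u hu z hz hzc => hu.eq_one_of_center hyp hk hM hz hzc

/-- Only the inverted centre is left. -/
theorem not_compConfig_of_central (hyp : Hyp S t) (hk : ProperKnown G) (hM : IsCoatom (Cent t))
    (hcentral : ∀ τ, Central t τ → False) : ¬ CompConfig G := fun hc => by
  obtain ⟨τ, hτ⟩ := exists_central_of_config hyp hk hM hc
  exact hcentral τ hτ

end Cfsg.Agent.GW
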