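import Cfsg.Agent.Lib.GW.PartII.CompChar

/-!
# The component configuration with inverted centre

`Central t τ`: the centre of `fitCore t` is inverted by every reflection and `τ` is an element of prime
order of it, with centraliser inside `Cent t`; every reflection has nontrivial fixed points on `fitCore t`,
a group of `orderOf τ`-power order.

`commute_of_cyclic`: with every reflection fixed by a cycle, `oCore t` centralises the cyclic subgroups
normalised by `Cent t`.
-/

set_option autoImplicit false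

namespace Cfsg.Agent.GW

open Subgroup
open BSW (mem_cent)

universe u

variable {G : Type u} [Group G] [Finite G] {S : Sylow 2 G} {t : G}

/-- The component configuration in which the centre of `fitCore t` has no fixed points. -/
structure Central (t τ : G) : Prop where
  prime : (orderOf τ).Prime
  mem : τ ∈ fitCore t
  comm : ∀ o ∈ oCore t, Commute o τ
  cent : Cent τ ≤ Cent t
  cycle : ∀ u : G, orderOf u = 2 → u ≠ t → Commute u t → FixedCycle t u
  inverts : ∀ u : G, orderOf u = 2 → u ≠ t → Commute u t → u * τ * u⁻¹ = τ⁻¹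
  fixed_ne : ∀ u : G, orderOf u = 2 → u ≠ t → Commute u t → qFix t u ≠ ⊥
  pGroup : ∀ u : G, orderOf u = 2 → u ≠ t → Commute u t → IsPGroup (orderOf τ) ↥(qFix t u)
  fixed_center : ∀ u : G, orderOf u = 2 → u ≠ t → Commute u t → ∀ z ∈ qFix t u,
    (∀ f ∈ fitCore t, Commute z f) → z = 1

theorem Central.pin (hyp : Hyp S t) {τ : G} (h : Central t τ) {u : G} (hu : orderOf u = 2)
    (hne : u ≠ t) (hc : Commute u t) {y : G} (hy : y ∈ qFix t u) (hy1 : y ≠ 1) : Pin t u y τ :=
  ⟨hyp.pair_of_refl hu hne hc, h.cycle u hu hne hc, hy, hy1, fitCore_le_oCore t h.mem,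
    fun e => h.prime.ne_one (e ▸ orderOf_one), h.inverts u hu hne hc,
    (h.comm y (fitCore_le_oCore t hy.1)).symm⟩

/-- With every reflection fixed by a cycle, `oCore t` centralises each cyclic subgroup normalised by
`Cent t`. -/
theorem commute_of_cyclic (hyp : Hyp S t)
    (hg : ∀ u, orderOf u = 2 → u ≠ t → Commute u t → FixedCycle t u) {A : Subgroup G} [IsCyclic A]
    (hn : Cent t ≤ normalizer (A : Set G)) {o a : G} (ho : o ∈ oCore t) (ha : a ∈ A) :
    Commute o a := by
  have : NeZero (Nat.card A) := ⟨(Nat.card_pos).ne'⟩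
  let e : MulAut A →* (ZMod (Nat.card A))ˣ := (IsCyclic.mulAutMulEquiv A).toMonoidHom
  let Φ : Cent t →* (ZMod (Nat.card A))ˣ := e.comp (A.normalizerMonoidHom.comp (inclusion hn))
  let θ := Φ.comp (inclusion (Hyp.oCore_le_cent t : oCore t ≤ Cent t))
  have hθ : θ = 1 := no_char hyp hg θ fun c hc v w hw => by
    show Φ ⟨w, _⟩ = Φ ⟨v, _⟩
    rw [show (⟨w, Hyp.oCore_le_cent t w.2⟩ : Cent t) =
      ⟨c, hc⟩ * ⟨v, Hyp.oCore_le_cent t v.2⟩ * ⟨c, hc⟩⁻¹ from Subtype.ext hw, map_mul, map_mul,
      map_inv, mul_inv_cancel_comm]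
  have h0 : θ ⟨o, ho⟩ = 1 := by rw [hθ, MonoidHom.one_apply]
  simp only [θ, Φ, e, MonoidHom.comp_apply, MulEquiv.coe_toMonoidHom] at h0
  have h1 := (MulEquiv.map_eq_one_iff (IsCyclic.mulAutMulEquiv A)).1 h0
  have h2 := MonoidHom.mem_ker.2 h1
  rw [Subgroup.normalizerMonoidHom_ker, mem_subgroupOf] at h2
  exact (mem_centralizer_iff.1 h2 a ha).symm

end Cfsg.Agent.GW
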