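import Cfsg.Agent.Lib.GW.PartII.FitCore

/-!
# The component configuration: shared definitions

For a pair `t, u` of commuting involutions:

* `dFix t u`, `qFix t u`: the fixed points of `u` on `oCore t` and on `fitCore t`;
* `CompAt t u`: some nontrivial element of `qFix t u` commutes with an element permuting the
  involutions of the four group cyclically;
* `FixedCycle t u`: one such element centralises the whole of `dFix t u`;
* `CycleLayer G`: the lifting of these cycles to a proper subgroup with a layer;
* `layerN y`: the layer of the normaliser of `⟨y⟩`;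
* `Pin t u y τ`: `y` in `qFix t u` and `τ` in `oCore t` inverted by `u`, commuting.
-/

set_option autoImplicit false

namespace Cfsg.Agent.GW

open Subgroup

universe u

variable {G : Type u} [Group G] [Finite G]

/-- The layer of a subgroup, as a subgroup of `G`. -/
noncomputable def layerOf (H : Subgroup G) : Subgroup G := (Cfsg.layer ↥H).map H.subtype

/-- The layer of the normaliser of `⟨y⟩`. -/
noncomputable def layerN (y : G) : Subgroup G := layerOf (normalizer (zpowers y : Set G))

/-- The fixed points of `u` on `oCore t`. -/
noncomputable def dFix (t u : G) : Subgroup G := oCore t ⊓ Cent u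

/-- The fixed points of `u` on `fitCore t`. -/
noncomputable def qFix (t u : G) : Subgroup G := fitCore t ⊓ Cent u

/-- A component configuration at the ordered pair `t, u`. -/
structure CompAt (t u : G) : Prop where
  pair : Pair t u
  ex : ∃ g y, Cycles g t u ∧ y ∈ qFix t u ∧ y ≠ 1 ∧ y * g = g * y

/-- A cycle on the four group of `t, u` centralises all fixed points of `u` on `oCore t`. -/
def FixedCycle (t u : G) : Prop :=
  ∃ g, Cycles g t u ∧ ∀ d ∈ dFix t u, Commute g d

/-- Two commuting involutions of the layer of a proper subgroup are moved by a cycle centralising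
a given odd subgroup commuting with both, unless the second centralises all elements of odd
order commuting with the first. -/
def CycleLayer (G : Type u) [Group G] [Finite G] : Prop :=
  ∀ H : Subgroup G, H ≠ ⊤ →
    Cfsg.generalizedFittingSubgroup ↥H ≠ Cfsg.fittingSubgroup ↥H →
    ∀ a b : G, Pair a b → a ∈ layerOf H → b ∈ layerOf H →
    ∀ Y : Subgroup G, Odd (Nat.card Y) → Y ≤ H → Y ≤ Cent a ⊓ Cent b →
      (∃ g ∈ H, Cycles g a b ∧ ∀ y ∈ Y, Commute y g) ∨
        ∀ x ∈ H, Odd (orderOf x) → Commute x a → Commute x b

/-- A point `y` of the configuration at `t, u` with an element of the torus. -/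
structure Pin (t u y τ : G) : Prop where
  pair : Pair t u
  cycle : FixedCycle t u
  mem_y : y ∈ qFix t u
  ne_y : y ≠ 1
  mem_τ : τ ∈ oCore t
  ne_τ : τ ≠ 1
  inv_τ : u * τ * u⁻¹ = τ⁻¹
  comm : Commute τ y

end Cfsg.Agent.GW
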