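import Cfsg.Agent.Lib.GW.PartII.CompFixed
import Cfsg.Agent.Lib.GW.PartII.CompDefs

/-!
# The cycle lemma in the form of the component configuration

`cycleLayer`: the hypothesis `CycleLayer` holds when the proper subgroups have known sections.
-/

set_option autoImplicit false

namespace Cfsg.Agent.GW

open Subgroup

universe u

variable {G : Type u} [Group G] [Finite G] {S : Sylow 2 G} {t : G}

/-- A cycle of the layer fixed by an odd group, or commutation in the `3·A₇` case. -/
theorem cycleLayer (hyp : Hyp S t) (hk : ProperKnown G) : CycleLayer G := by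
  intro H hH hL a b h ha hb Y hY hYH hYc
  rcases exists_cycle_fixed_same hyp hk hH hL h ha hb hY hYH hYc with
    ⟨g, hg, hc, hfix⟩ | ⟨N, g, w, d⟩
  · exact Or.inl ⟨g, hg, hc, fun y hy => hfix y hy⟩
  · exact Or.inr d.commB

end Cfsg.Agent.GW
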