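import Cfsg.Agent.Lib.Solvable.Basic
import Cfsg.Agent.Lib.Balance.CharP
import Cfsg.Agent.Lib.GW.PartII.CompDefs
import Cfsg.Agent.Lib.GW.PartII.MaxCentral
import Cfsg.Agent.Lib.GW.PartII.CompInverted

/-!
# The component configuration: the cycle centralising the fixed points

* `layer_ne`: a maximal subgroup over the normaliser of a subgroup of `fitCore t`, containing a
  fused four group through `t`, has a layer;
* `mem_layerOf`: a fused pair lies in the layer;
* `fixed_center_false`: `b` does not centralise the centre of `fitCore t`;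
* `exists_fixedCycle`: `CompAt t b` gives `FixedCycle t b`;
* `not_normal`: no nontrivial subgroup of `dFix t b` is normalised by the centraliser of `t`.
-/

set_option autoImplicit false
set_option linter.style.haveILetI false

namespace Cfsg.Agent.GW

open Subgroup Cfsg.Agent.S1856 Cfsg.Agent.S1312
open BSW (sq_of_order inv_of_order ne_one_of_order order_of_sq mem_cent)

universe u

variable {G : Type u} [Group G] [Finite G] {S : Sylow 2 G} {t : G}

theorem Pair.isKleinFour {a b : G} (h : Pair a b) : IsKleinFour h.four := by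
  haveI : Fact (Nat.Prime 2) := ⟨Nat.prime_two⟩
  let f : Fin 4 → h.four := ![1, ⟨a, h.left_mem⟩, ⟨b, h.right_mem⟩,
    ⟨a * b, h.four.mul_mem h.left_mem h.right_mem⟩]
  have hf : Function.Bijective f := by
    refine ⟨fun i j hij => ?_, fun x => ?_⟩
    · have e := congrArg Subtype.val hij
      have h1 := ne_one_of_order h.ha
      have h2 := ne_one_of_order h.hb
      have h3 := ne_one_of_order h.order_mul
      fin_cases i <;> fin_cases j <;> simp [f] at e ⊢ <;>
        first
          | exact absurd e h1 | exact absurd e.symm h1 | exact absurd e h2 | exact absurd e.symm h2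
          | exact absurd e h3 | exact absurd e.symm h3 | exact absurd e h.ne | exact absurd e.symm h.ne
          | exact absurd e h.mul_ne | exact absurd e.symm h.mul_ne
          | exact absurd e h.mul_ne_right | exact absurd e.symm h.mul_ne_right
    · rcases x.2 with e | e | e | e
      exacts [⟨0, Subtype.ext e.symm⟩, ⟨1, Subtype.ext e.symm⟩, ⟨2, Subtype.ext e.symm⟩,
        ⟨3, Subtype.ext e.symm⟩]
  have h4 : Nat.card h.four = 4 := by
    rw [← Nat.card_congr (Equiv.ofBijective f hf), Nat.card_fin]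
  refine ⟨h4, ?_⟩
  have hex : ∀ x : h.four, x ^ 2 = 1 := fun x => Subtype.ext (by
    rw [pow_two, coe_mul, coe_one]
    rcases x.2 with e | e | e | e <;> rw [e]
    exacts [one_mul 1, sq_of_order h.ha, sq_of_order h.hb, h.mul_sq])
  rcases (Nat.dvd_prime Nat.prime_two).1 (Monoid.exponent_dvd_of_forall_pow_eq_one hex) with e | e
  · haveI := Monoid.exp_eq_one_iff.1 e
    have : Nat.card h.four = 1 := Nat.card_eq_one_iff_unique.2 ⟨inferInstance, ⟨1⟩⟩
    omega
  · exact e

theorem not_mem_cent_of_cycles {g a b : G} (h : Pair a b) (hg : Cycles g a b) : g ∉ Cent a := by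
  intro hc
  refine h.ne ?_
  rw [← hg.left, mem_cent.1 hc, mul_inv_cancel_right]

theorem qFix_le_dFix (x u : G) : qFix x u ≤ dFix x u := inf_le_inf_right _ (fitCore_le_oCore x)

theorem odd_dFix (hyp : Hyp S t) (x u : G) : Odd (Nat.card (dFix x u)) :=
  (hyp.odd_oCore x).of_dvd_nat (card_dvd_of_le inf_le_left)

/-- A maximal subgroup over the normaliser of a subgroup of `fitCore t` containing a fused four
group through `t` has a layer. -/
theorem layer_ne (hyp : Hyp S t) (hM : IsCoatom (Cent t)) {b g : G} (h : Pair t b)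
    (hg : Cycles g t b) {Y H : Subgroup G} (hY : Y ≤ fitCore t) (hY1 : Y ≠ ⊥) (hH : IsCoatom H)
    (hle : normalizer (Y : Set G) ≤ H) (hbH : b ∈ H) (hgH : g ∈ H) :
    Cfsg.generalizedFittingSubgroup ↥H ≠ Cfsg.fittingSubgroup ↥H := by
  intro hNF
  haveI := hyp.simple
  obtain ⟨y, hy, hy1⟩ : ∃ y ∈ Y, y ≠ 1 := by
    by_contra hno
    push Not at hno
    exact hY1 ((Subgroup.eq_bot_iff_forall _).2 hno)
  obtain ⟨r, hr, hr2, hrd⟩ := exists_odd_prime_dvd hyp (hY hy) hy1
  haveI := Fact.mk hr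
  haveI : Fact (Nat.Prime 2) := ⟨Nat.prime_two⟩
  haveI := h.isKleinFour
  have htH : t ∈ H := hle (centralizer_le_normalizer _ (mem_centralizer_iff.2 fun z hz =>
    (commute_of_fitCore (hY hz)).eq))
  have htrans : ∀ w ∈ h.four, w ≠ 1 → ∃ k ∈ H, k * t * k⁻¹ = w := by
    rintro w (rfl | rfl | rfl | rfl) hw
    · exact absurd rfl hw
    · exact ⟨1, one_mem _, by group⟩
    · exact ⟨g, hgH, hg.left⟩
    · refine ⟨g * g, mul_mem hgH hgH, ?_⟩
      rw [show g * g * t * (g * g)⁻¹ = g * (g * t * g⁻¹) * g⁻¹ by group, hg.left, hg.right]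
  have hMH : Cent t = H := eq_of_leadsTo_four hyp hM hH le_rfl
    ⟨Y, hY1, hY.trans (fitCore_le_fitOf t), inf_le_right.trans hle⟩ hr2 hrd
    (two_dvd_card_fitting_cent hyp.orderT) h.left_mem (h.four_le htH hbH) htrans hNF
  exact not_mem_cent_of_cycles h hg (hMH ▸ hgH)

/-- A fused pair lies in the layer. -/
theorem mem_layerOf (hyp : Hyp S t) (hk : ProperKnown G) {H : Subgroup G} (hH : H ≠ ⊤)
    (hL : Cfsg.generalizedFittingSubgroup ↥H ≠ Cfsg.fittingSubgroup ↥H) {a b g : G} (h : Pair a b)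
    (haH : a ∈ H) (hbH : b ∈ H) (hgH : g ∈ H) (hg : Cycles g a b) :
    a ∈ layerOf H ∧ b ∈ layerOf H := by
  obtain ⟨E, hE, hEs, hEk, hC, hEL, hiff⟩ := structure_of_layer (hyp.subDihedral H) (hk H hH) hL
  haveI := hE
  haveI := hEs
  set π := QuotientGroup.mk' (Cfsg.oddCore ↥H) with hπ
  let a' : H := ⟨a, haH⟩
  let b' : H := ⟨b, hbH⟩
  let g' : H := ⟨g, hgH⟩
  have hab : π g' * π a' * (π g')⁻¹ = π b' := by
    rw [← map_inv, ← map_mul, ← map_mul]; exact congrArg π (Subtype.ext hg.left)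
  have haE : π a' ∈ E := by
    by_contra hne
    have hbE : π b' ∉ E := fun hb => hne (by
      have := hE.conj_mem _ hb (π g')⁻¹
      rw [← hab] at this
      simpa [mul_assoc] using this)
    have h1 := CompInverted.product_mem E (hyp.subDihedral H).quotient_oddCore hEk hC
      (mk_orderOf (a := a') (by rw [orderOf_mk]; exact h.ha))
      (mk_orderOf (a := b') (by rw [orderOf_mk]; exact h.hb)) hne hbE
    have h2 : π g' * (π a' * π b') * (π g')⁻¹ = π a' := by
      rw [← map_inv, ← map_mul, ← map_mul, ← map_mul]; exact congrArg π (Subtype.ext (hg.third h))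
    exact hne (h2 ▸ hE.conj_mem _ h1 _)
  have key : ∀ x : H, orderOf (x : G) = 2 → π x ∈ E → (x : G) ∈ layerOf H := by
    intro x hx hxE
    obtain ⟨l, hl, hlx⟩ := hEL hxE
    refine ⟨x, ?_, rfl⟩
    have ho : l⁻¹ * x ∈ Cfsg.oddCore ↥H := QuotientGroup.eq.1 hlx
    have hcomm : Commute (l⁻¹ * x) l := (hiff _).2 ho l hl
    obtain ⟨m, hm⟩ : Odd (orderOf (l⁻¹ * x)) :=
      PCore.odd_card_oddCore.of_dvd_nat (Subgroup.orderOf_dvd_natCard _ ho)
    have hx2 : x * x = 1 := Subtype.ext (sq_of_order hx)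
    have hxn : x ^ orderOf (l⁻¹ * x) = l ^ orderOf (l⁻¹ * x) := by
      calc x ^ orderOf (l⁻¹ * x) = (l * (l⁻¹ * x)) ^ orderOf (l⁻¹ * x) := by group
        _ = _ := by rw [hcomm.symm.mul_pow, pow_orderOf_eq_one, mul_one]
    have hxo : x ^ orderOf (l⁻¹ * x) = x := by
      rw [hm, pow_succ, pow_mul, pow_two, hx2, one_pow, one_mul]
    rw [← hxo, hxn]
    exact pow_mem hl _
  exact ⟨key a' h.ha haE, key b' h.hb (hab ▸ hE.conj_mem _ haE _)⟩

/-- A component configuration, moved to `t`. -/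
theorem exists_compAt (hyp : Hyp S t) (hc : CompConfig G) : ∃ b, CompAt t b := by
  obtain ⟨a, b, g, y, h, hg, hy, hy1, hyb, hyg⟩ := hc
  obtain ⟨c, hc⟩ := isConj_iff.1 (hyp.isConj_t h.ha)
  have hmap : ∀ x z : G, MulAut.conj c (x * z) = MulAut.conj c x * MulAut.conj c z := map_mul _
  have hcb : ∀ x z : G, x * z = z * x →
      MulAut.conj c x * MulAut.conj c z = MulAut.conj c z * MulAut.conj c x := fun x z e => by
    rw [← hmap, e, hmap]
  have hca : MulAut.conj c a = t := hc
  refine ⟨MulAut.conj c b, ⟨?_, ?_⟩⟩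
  · refine ⟨hyp.orderT, (MulEquiv.orderOf_eq _ _).trans h.hb, ?_, fun e => h.ne ?_⟩
    · rw [← hca]; exact hcb _ _ h.comm
    · rw [← hca] at e; exact (MulAut.conj c).injective e
  refine ⟨MulAut.conj c g, MulAut.conj c y, ⟨?_, ?_⟩, ⟨hc ▸ conj_mem_fitCore hy c, ?_⟩,
    fun e => hy1 ((MulAut.conj c).injective (e.trans (map_one _).symm)), hcb _ _ hyg⟩
  · rw [← hca, ← map_inv, ← hmap, ← hmap, hg.left]
  · rw [← hca, ← map_inv, ← hmap, ← hmap, ← hmap, hg.right]
  · exact mem_cent.2 (hcb _ _ hyb)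

/-- `b` does not centralise all central elements of `fitCore t`. -/
theorem fixed_center_false (hyp : Hyp S t) (hM : IsCoatom (Cent t)) {b : G} (h : Pair t b)
    (hne : fitCore t ≠ ⊥)
    (hfix : ∀ z ∈ fitCore t, (∀ f ∈ fitCore t, Commute z f) → Commute z b) : False := by
  haveI := hyp.simple
  obtain ⟨g, hg⟩ := exists_cycles hyp h
  set O := oCore t with hO
  haveI : Group.IsNilpotent ↥(fitCore t) :=
    Group.nilpotent_of_mulEquiv ((Cfsg.fittingSubgroup ↥(oCore t)).equivMapOfInjective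
      (oCore t).subtype (oCore t).subtype_injective)
  have hodd : ∀ X : Subgroup G, X ≤ O → X ≠ ⊥ → Cent t ≤ normalizer (X : Set G) →
      normalizer (X : Set G) = Cent t := by
    intro X hX hX1 hn
    refine (hM.le_iff.1 hn).resolve_left fun e => ?_
    rcases (normalizer_eq_top_iff.1 e).eq_bot_or_eq_top with e' | e'
    · exact hX1 e'
    · have h2 : Odd (Nat.card G) := by
        rw [← card_top, ← e']
        exact (hyp.odd_oCore t).of_dvd_nat (card_dvd_of_le hX)
      have := h2.of_dvd_nat (orderOf_dvd_natCard t)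
      rw [hyp.orderT] at this
      exact absurd this (by decide)
  -- conjugates under `g`
  have hgt : ∀ c : G, Commute c (t * b) → Commute (g * c * g⁻¹) t := fun c hc => by
    have h1 := hc.map (MulAut.conj g)
    rwa [MulAut.conj_apply, MulAut.conj_apply, hg.third h] at h1
  have hgb : ∀ c : G, Commute c t → Commute (g * c * g⁻¹) b := fun c hc => by
    have h1 := hc.map (MulAut.conj g)
    rwa [MulAut.conj_apply, MulAut.conj_apply, hg.left] at h1
  have hbC : b ∈ Cent t := mem_cent.2 h.comm.symm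
  have hcore : ∀ r : ℕ, r.Prime → coreP r O ≤ Cent b := by
    intro r hr c hc
    haveI := Fact.mk hr
    set P := coreP r O with hP
    have hPF : P ≤ fitCore t := map_mono (Components.pCore_le_fittingSubgroup hr)
    rcases eq_or_ne P ⊥ with e | hP1
    · rw [e, mem_bot] at hc
      rw [hc]
      exact one_mem _
    have hnP : Cent t ≤ normalizer (P : Set G) := cent_le_normalizer_coreP r t
    set Z := P ⊓ (center ↥(fitCore t)).map (fitCore t).subtype with hZ
    have hZ1 : Z ≠ ⊥ := by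
      haveI : (P.subgroupOf (fitCore t)).Normal := normal_subgroupOf_of_le_normalizer
        ((fitCore_le_oCore t).trans ((Hyp.oCore_le_cent t).trans hnP))
      have h1 := Solvable.inf_center_ne_bot (N := P.subgroupOf (fitCore t)) (fun e =>
        hP1 (le_bot_iff.1 fun x hx => by
          have : (⟨x, hPF hx⟩ : fitCore t) ∈ P.subgroupOf (fitCore t) := hx
          rw [e, mem_bot] at this
          exact mem_bot.2 (congrArg Subtype.val this)))
      intro e
      refine h1 ((Subgroup.eq_bot_iff_forall _).2 fun x hx => ?_)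
      have : (x : G) ∈ Z := ⟨hx.1, mem_map_of_mem _ hx.2⟩
      rw [e, mem_bot] at this
      exact Subtype.ext this
    have hnZ : Cent t ≤ normalizer (Z : Set G) := by
      refine le_trans (le_inf hnP ((cent_le_normalizer_fitCore t).trans
        (Components.normalizer_le_normalizer_map_of_characteristic _ _)))
        inf_normalizer_le_normalizer_inf
    have hZO : Z ≤ O := inf_le_left.trans (hPF.trans (fitCore_le_oCore t))
    have hZfix : ∀ z ∈ Z, Commute z b := by
      rintro z ⟨hzP, z', hz', rfl⟩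
      exact hfix _ z'.2 fun f hf => congrArg Subtype.val (mem_center_iff.1 hz' ⟨f, hf⟩).symm
    have hNZ := hodd Z hZO hZ1 hnZ
    refine mem_cent.2 (Balance.commute_of_commute_fixed (P := P) (R := Z.map (MulAut.conj g).toMonoidHom)
      (x := b) (isPGroup_coreP r O) (((isPGroup_coreP r O).to_le inf_le_left).map _) ?_
      (hnP hbC) ?_ ?_ ?_ c hc).eq.symm
    · rintro _ ⟨z, hz, rfl⟩
      refine hnP (mem_cent.2 (hgt z ?_).eq)
      exact (commute_of_fitCore (hPF hz.1)).mul_right (hZfix z hz)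
    · rw [h.hb]
      refine (Nat.coprime_primes Nat.prime_two hr).2 fun e => ?_
      subst e
      have h2 : 2 ∣ Nat.card O :=
        ((dvd_card_fit_iff O).2 hP1).trans (card_subgroup_dvd_card _)
      exact Nat.not_even_iff_odd.2 (hyp.odd_oCore t) (even_iff_two_dvd.2 h2)
    · rintro _ ⟨z, hz, rfl⟩
      exact (hgb z (commute_of_fitCore (hPF hz.1))).symm
    · intro c' _ hc'
      have h1 : g⁻¹ * c' * g ∈ Cent t := by
        rw [← hNZ]
        refine centralizer_le_normalizer _ (mem_centralizer_iff.2 fun z hz => ?_)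
        have h2 : Commute (g * z * g⁻¹) c' := hc' _ ⟨z, hz, rfl⟩
        calc z * (g⁻¹ * c' * g) = g⁻¹ * (g * z * g⁻¹ * c') * g := by group
          _ = g⁻¹ * c' * g * z := by rw [h2.eq]; group
      have h3 := hgb _ (mem_cent.1 h1)
      rw [show g * (g⁻¹ * c' * g) * g⁻¹ = c' by group] at h3
      exact h3.symm
  have hF : fitCore t ≤ Cent b := (fit_le_iff O _).2 fun r hr _ => hcore r hr
  haveI : Group.IsSolvable ↥O := S0205.result (hyp.odd_oCore t)
  have hOb : O ≤ Cent b := by
    intro o ho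
    have hbn : b ∈ normalizer (O : Set G) := Hyp.cent_le_normalizer t hbC
    have hx : o * (b * o⁻¹ * b⁻¹) ∈ O :=
      mul_mem ho ((mem_normalizer_iff.1 hbn _).1 (inv_mem ho))
    have hxF : o * (b * o⁻¹ * b⁻¹) ∈ fitCore t := by
      refine ⟨⟨_, hx⟩, Components.centralizer_fittingSubgroup_le
        (mem_centralizer_iff.2 fun z hz => Subtype.ext ?_), rfl⟩
      have hzF : (z : G) ∈ fitCore t := mem_map_of_mem _ hz
      have hzF' : o⁻¹ * z * o ∈ fitCore t := by
        have := (mem_normalizer_iff.1 (inv_mem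
          (cent_le_normalizer_fitCore t (Hyp.oCore_le_cent t ho))) _).1 hzF
        rwa [inv_inv] at this
      have e1 : b⁻¹ * z * b = z := by
        rw [mul_assoc, mem_cent.1 (hF hzF)]; group
      have e2 : b * (o⁻¹ * z * o) * b⁻¹ = o⁻¹ * z * o := by
        rw [← mem_cent.1 (hF hzF')]; group
      refine (mul_inv_eq_iff_eq_mul.1 ?_).symm
      calc o * (b * o⁻¹ * b⁻¹) * z * (o * (b * o⁻¹ * b⁻¹))⁻¹
          = o * (b * (o⁻¹ * (b⁻¹ * z * b) * o) * b⁻¹) * o⁻¹ := by group
        _ = z := by rw [e1, e2]; group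
    have h1 : o * (b * o⁻¹ * b⁻¹) = 1 := by
      refine CompInverted.eq_one_of_commute_inverted
        ((hyp.odd_oCore t).of_dvd_nat (Subgroup.orderOf_dvd_natCard _ hx)) (a := b) ?_
        (mem_cent.1 (hF hxF))
      simp only [inv_of_order h.hb, mul_inv_rev, inv_inv, mul_assoc, sq_of_order h.hb, mul_one]
    refine mem_cent.2 (mul_inv_eq_iff_eq_mul.1 ?_)
    calc o * b * o⁻¹ = o * (b * o⁻¹ * b⁻¹) * b := by group
      _ = b := by rw [h1, one_mul]
  have hgN : g ∈ normalizer (O : Set G) := by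
    rw [mem_normalizer_iff_map_conj_eq]
    refine Subgroup.eq_of_le_of_card_ge ?_ (card_map_of_injective (MulAut.conj g).injective).ge
    rintro _ ⟨o, ho, rfl⟩
    refine (hyp.mem_oCore_iff hyp.orderT).2 ⟨mem_cent.2 (hgt o ?_).eq, ?_⟩
    · exact (show Commute o t from mem_cent.1 (Hyp.oCore_le_cent t ho)).mul_right
        (mem_cent.1 (hOb ho))
    · refine ((hyp.odd_oCore t).of_dvd_nat (Subgroup.orderOf_dvd_natCard _ ho)).of_dvd_nat ?_
      exact orderOf_map_dvd _ o
  rw [hodd O le_rfl (fun e => hne (le_bot_iff.1 (e ▸ fitCore_le_oCore t)))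
    (Hyp.cent_le_normalizer t)] at hgN
  exact not_mem_cent_of_cycles h hg hgN

/-- Some cycle centralises all fixed points of `b` on `oCore t`. -/
theorem exists_fixedCycle (hyp : Hyp S t) (hk : ProperKnown G) (hcl : CycleLayer G)
    (hM : IsCoatom (Cent t)) {b : G} (hc : CompAt t b) : FixedCycle t b := by
  obtain ⟨h, g₀, y₀, hg₀, hy₀, hy₀1, hy₀g⟩ := hc
  haveI := hyp.simple
  set Q := qFix t b with hQ
  haveI : Group.IsNilpotent ↥(fitCore t) :=
    Group.nilpotent_of_mulEquiv ((Cfsg.fittingSubgroup ↥(oCore t)).equivMapOfInjective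
      (oCore t).subtype (oCore t).subtype_injective)
  haveI : Group.IsNilpotent ↥Q :=
    Group.nilpotent_of_mulEquiv (subgroupOfEquivOfLe (inf_le_left : Q ≤ fitCore t))
  haveI : Nontrivial ↥Q := ⟨⟨y₀, hy₀⟩, 1, fun e => hy₀1 (congrArg Subtype.val e)⟩
  set Z := (center ↥Q).map Q.subtype with hZ
  have hZQ : Z ≤ Q := map_subtype_le _
  have hZ1 : Z ≠ ⊥ := by
    rw [hZ, Ne, map_eq_bot_iff_of_injective _ Q.subtype_injective]
    exact Group.IsNilpotent.center_ne_bot ↥Q
  have hbt : b ∈ Cent t := mem_cent.2 h.comm.symm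
  have htC : ∀ z ∈ dFix t b, Commute t z := fun z hz => (mem_cent.1 (Hyp.oCore_le_cent t hz.1)).symm
  -- the first cycle centralises the fixed points normalising `⟨y₀⟩`
  obtain ⟨H₀, hH₀, hle₀⟩ := exists_max hyp hy₀.1 hy₀1
  have hcy : ∀ i : G, Commute i y₀ → i ∈ H₀ := fun i hi =>
    hle₀ (mem_normalizer_zpowers_of_commute hi)
  have htH₀ : t ∈ H₀ := hcy t (commute_of_fitCore hy₀.1).symm
  have hbH₀ : b ∈ H₀ := hcy b (mem_cent.1 hy₀.2).symm
  have hgH₀ : g₀ ∈ H₀ := hcy g₀ hy₀g.symm
  have hL₀ := layer_ne hyp hM h hg₀ (zpowers_le.2 hy₀.1) (zpowers_ne_bot.2 hy₀1) hH₀ hle₀ hbH₀ hgH₀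
  obtain ⟨hta, hba⟩ := mem_layerOf hyp hk hH₀.1 hL₀ h htH₀ hbH₀ hgH₀ hg₀
  have hne : fitCore t ≠ ⊥ := fun e => hy₀1 (mem_bot.1 (e ▸ hy₀.1))
  have hoddF : ∀ z ∈ fitCore t, Odd (orderOf z) := fun z hz => odd_orderOf_fitCore hyp hz
  obtain ⟨g₁, hg₁H, hg₁, hfix₁⟩ := (hcl H₀ hH₀.1 hL₀ t b h hta hba (dFix t b ⊓ H₀)
    ((odd_dFix hyp t b).of_dvd_nat (card_dvd_of_le inf_le_left)) inf_le_right
    (inf_le_left.trans (inf_le_inf_right _ (Hyp.oCore_le_cent t)))).resolve_right fun halt =>
      fixed_center_false hyp hM h hne fun z hz hzc =>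
        halt z (hcy z (hzc y₀ hy₀.1)) (hoddF z hz) (commute_of_fitCore hz)
  have hZg : ∀ z ∈ Z, Commute z g₁ := by
    rintro _ ⟨z, hz, rfl⟩
    refine hfix₁ (z : G) ⟨qFix_le_dFix t b z.2, hcy _ ?_⟩
    exact congrArg Subtype.val (mem_center_iff.1 hz ⟨y₀, hy₀⟩).symm
  -- the normaliser of the centre contains all fixed points
  obtain ⟨H₁, hH₁, hle₁⟩ : ∃ H, IsCoatom H ∧ normalizer (Z : Set G) ≤ H := by
    refine (eq_top_or_exists_le_coatom _).resolve_left fun e => ?_
    rcases (normalizer_eq_top_iff.1 e).eq_bot_or_eq_top with e' | e'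
    · exact hZ1 e'
    · have h2 : Odd (Nat.card G) := by
        rw [← card_top, ← e']
        exact (odd_dFix hyp t b).of_dvd_nat (card_dvd_of_le (hZQ.trans (qFix_le_dFix t b)))
      have := (h2.of_dvd_nat (orderOf_dvd_natCard t))
      rw [hyp.orderT] at this
      exact absurd this (by decide)
  have hcZ : ∀ i : G, (∀ z ∈ Z, Commute z i) → i ∈ H₁ := fun i hi =>
    hle₁ (centralizer_le_normalizer _ (mem_centralizer_iff.2 fun z hz => (hi z hz).eq))
  have hbH₁ : b ∈ H₁ := hcZ b fun z hz => mem_cent.1 (hZQ hz).2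
  have htH₁ : t ∈ H₁ := hcZ t fun z hz => (htC z (qFix_le_dFix t b (hZQ hz))).symm
  have hgH₁ : g₁ ∈ H₁ := hcZ g₁ hZg
  have hDH : dFix t b ≤ H₁ := by
    intro d hd
    refine hle₁ (Components.normalizer_le_normalizer_map_of_characteristic Q (center ↥Q) ?_)
    refine inf_normalizer_le_normalizer_inf ⟨?_, le_normalizer hd.2⟩
    exact cent_le_normalizer_fitCore t (Hyp.oCore_le_cent t hd.1)
  have hL₁ := layer_ne hyp hM h hg₁ (hZQ.trans inf_le_left) hZ1 hH₁ hle₁ hbH₁ hgH₁
  obtain ⟨hta', hba'⟩ := mem_layerOf hyp hk hH₁.1 hL₁ h htH₁ hbH₁ hgH₁ hg₁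
  obtain ⟨g, -, hg, hfix⟩ := (hcl H₁ hH₁.1 hL₁ t b h hta' hba' (dFix t b) (odd_dFix hyp t b) hDH
    (inf_le_inf_right _ (Hyp.oCore_le_cent t))).resolve_right fun halt =>
      fixed_center_false hyp hM h hne fun z hz hzc =>
        halt z (hcZ z fun w hw => (hzc w (hZQ hw).1).symm) (hoddF z hz) (commute_of_fitCore hz)
  exact ⟨g, hg, fun d hd => (hfix d hd).symm⟩

/-- No nontrivial subgroup of `dFix t b` is normalised by the centraliser of `t`. -/
theorem not_normal (hyp : Hyp S t) (hM : IsCoatom (Cent t)) {b : G} (h : Pair t b)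
    (hfc : FixedCycle t b) {X : Subgroup G} (hX : X ≤ dFix t b) (hX1 : X ≠ ⊥)
    (hn : Cent t ≤ normalizer (X : Set G)) : False := by
  haveI := hyp.simple
  obtain ⟨g, hg, hfix⟩ := hfc
  have hgN : g ∈ normalizer (X : Set G) :=
    centralizer_le_normalizer _ (mem_centralizer_iff.2 fun x hx => ((hfix x (hX hx)).symm).eq)
  rcases hM.le_iff.1 hn with e | e
  · rcases (normalizer_eq_top_iff.1 e).eq_bot_or_eq_top with e' | e'
    · exact hX1 e'
    · have h2 : Odd (Nat.card G) := by
        rw [← card_top, ← e']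
        exact (odd_dFix hyp t b).of_dvd_nat (card_dvd_of_le hX)
      have := (h2.of_dvd_nat (orderOf_dvd_natCard t))
      rw [hyp.orderT] at this
      exact absurd this (by decide)
  · exact not_mem_cent_of_cycles h hg (e ▸ hgN)

end Cfsg.Agent.GW
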