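import Cfsg.Agent.Lib.GW.PartII.MaxCentral
import Cfsg.Agent.Lib.GW.TwoPrimes

/-!
# Case C of Gorenstein-Walter, Part II: preliminaries

`Over a M`: the maximal subgroup `M` properly contains `Cent a` and has a normal 2-complement.
`NoBig G`: every maximal subgroup over the centraliser of an involution has a normal 2-complement.
-/

set_option autoImplicit false
set_option linter.style.haveILetI false
set_option linter.unusedSectionVars false
set_option linter.unusedVariables false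

namespace Cfsg.Agent.GW

open Subgroup Cfsg.Agent.S1856 Cfsg.Agent.S1312
open BSW (sq_of_order inv_of_order ne_one_of_order order_of_sq mem_cent)
open scoped commutatorElement

universe u

variable {G : Type u} [Group G] [Finite G] {S : Sylow 2 G} {t : G}

/-- An element of odd order inverted by an involution centralises an odd inverted group. -/
theorem commute_of_inverts {R : Subgroup G} {a z : G} (hzR : z ∈ normalizer (R : Set G))
    (hzo : Odd (orderOf z)) (hz : a * z * a⁻¹ = z⁻¹) (hR : ∀ k ∈ R, a * k * a⁻¹ = k⁻¹) :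
    R ≤ Cent z := by
  intro k hk
  have h1 := hR _ ((mem_normalizer_iff.1 hzR k).1 hk)
  have h2 : a * (z * k * z⁻¹) * a⁻¹ = (a * z * a⁻¹) * (a * k * a⁻¹) * (a * z * a⁻¹)⁻¹ := by group
  rw [h1, hz, hR k hk] at h2
  have h3 : z * k * z⁻¹ = z⁻¹ * k * z := by
    have := congrArg (·⁻¹) h2
    simpa [mul_assoc] using this
  have h4 : Commute k (z * z) := by
    show k * (z * z) = z * z * k
    calc k * (z * z) = z * (z⁻¹ * k * z) * z := by group
      _ = z * (z * k * z⁻¹) * z := by rw [h3]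
      _ = z * z * k := by group
  obtain ⟨j, hj⟩ := hzo
  have h5 : (z * z) ^ (j + 1) = z := by
    rw [← pow_two, ← pow_mul, show 2 * (j + 1) = orderOf z + 1 by omega, pow_succ,
      pow_orderOf_eq_one, one_mul]
  refine mem_cent.2 ?_
  rw [← h5]
  exact (h4.pow_right (j + 1)).eq

/-- An element of odd order inverted by an involution centralises a group fixed by it. -/
theorem commute_of_fixed_group {R : Subgroup G} {a z : G} (hzR : z ∈ normalizer (R : Set G))
    (hzo : Odd (orderOf z)) (hz : a * z * a⁻¹ = z⁻¹) (hR : R ≤ Cent a) : R ≤ Cent z := by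
  intro k hk
  have hf : ∀ x ∈ R, a * x * a⁻¹ = x := fun x hx =>
    mul_inv_eq_iff_eq_mul.2 (mem_cent.1 (hR hx)).symm
  have h1 := hf _ ((mem_normalizer_iff.1 hzR k).1 hk)
  rw [show a * (z * k * z⁻¹) * a⁻¹ = (a * z * a⁻¹) * (a * k * a⁻¹) * (a * z * a⁻¹)⁻¹ by group,
    hz, hf k hk, inv_inv] at h1
  have h4 : Commute k (z * z) := by
    show k * (z * z) = z * z * k
    calc k * (z * z) = z * (z⁻¹ * k * z) * z := by group
      _ = z * (z * k * z⁻¹) * z := by rw [h1]
      _ = z * z * k := by group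
  obtain ⟨j, hj⟩ := hzo
  have h5 : (z * z) ^ (j + 1) = z := by
    rw [← pow_two, ← pow_mul, show 2 * (j + 1) = orderOf z + 1 by omega, pow_succ,
      pow_orderOf_eq_one, one_mul]
  refine mem_cent.2 ?_
  rw [← h5]
  exact (h4.pow_right (j + 1)).eq

/-- `x` is fixed or inverted: some nontrivial power product of an element of a stable subgroup. -/
theorem exists_eigen {W : Subgroup G} {a b : G} (ha : orderOf a = 2) (hab : Commute a b)
    (haW : a ∈ normalizer (W : Set G)) {y₀ : G} (h : y₀ ∈ W) (hb : Commute y₀ b) (h1 : y₀ ≠ 1) :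
    ∃ y ∈ W, y ≠ 1 ∧ Commute y b ∧ (Commute y a ∨ a * y * a⁻¹ = y⁻¹) := by
  set y₁ := a * y₀ * a⁻¹ with hy₁
  have hy₁b : Commute y₁ b := (hab.mul_left hb).mul_left hab.inv_left
  by_cases hc : y₁ = y₀
  · exact ⟨y₀, h, h1, hb, Or.inl (mul_inv_eq_iff_eq_mul.1 hc).symm⟩
  · refine ⟨y₀⁻¹ * y₁, mul_mem (inv_mem h) ((mem_normalizer_iff.1 haW y₀).1 h),
      fun e => hc (inv_mul_eq_one.1 e).symm, hb.inv_left.mul_left hy₁b, Or.inr ?_⟩
    rw [hy₁]
    calc a * (y₀⁻¹ * (a * y₀ * a⁻¹)) * a⁻¹ = a * y₀⁻¹ * a * y₀ * (a * a)⁻¹ := by group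
      _ = a * y₀⁻¹ * a⁻¹ * y₀ := by rw [sq_of_order ha, inv_one, mul_one, inv_of_order ha]
      _ = (y₀⁻¹ * (a * y₀ * a⁻¹))⁻¹ := by group

/-- The displacement of an element by an involution is inverted by it. -/
theorem inverts_displace {a : G} (ha : orderOf a = 2) (f : G) :
    a * (f⁻¹ * (a * f * a⁻¹)) * a⁻¹ = (f⁻¹ * (a * f * a⁻¹))⁻¹ := by
  calc a * (f⁻¹ * (a * f * a⁻¹)) * a⁻¹ = a * f⁻¹ * a * f * (a * a)⁻¹ := by group
    _ = a * f⁻¹ * a⁻¹ * f := by rw [sq_of_order ha, inv_one, mul_one, inv_of_order ha]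
    _ = (f⁻¹ * (a * f * a⁻¹))⁻¹ := by group

/-- Outside the centraliser of an involution there are inverted elements. -/
theorem exists_inverted_of_not_le {W : Subgroup G} {a : G} (ha : orderOf a = 2)
    (haW : a ∈ normalizer (W : Set G)) (h : ¬ W ≤ Cent a) :
    ∃ f ∈ W, f ∉ Cent a ∧ f⁻¹ * (a * f * a⁻¹) ∈ W ∧ f⁻¹ * (a * f * a⁻¹) ≠ 1 := by
  obtain ⟨f, hf, hfa⟩ := SetLike.not_le_iff_exists.1 h
  exact ⟨f, hf, hfa, mul_mem (inv_mem hf) ((mem_normalizer_iff.1 haW f).1 hf), fun e =>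
    hfa (mem_cent.2 (mul_inv_eq_iff_eq_mul.1 (inv_mul_eq_one.1 e).symm).symm)⟩

theorem Pair.not_isCyclic {a b : G} (h : Pair a b) : ¬ IsCyclic h.four := by
  intro hc
  haveI := hc
  obtain ⟨x, hx⟩ := IsCyclic.exists_generator (α := h.four)
  have := eq_of_invol_zpowers (σ := (x : G)) (x := a) (y := b) ?_ ?_ h.ha h.hb
  · exact h.ne this
  · obtain ⟨i, hi⟩ := mem_zpowers_iff.mp (hx ⟨a, h.left_mem⟩)
    exact ⟨i, congrArg Subtype.val hi⟩
  · obtain ⟨i, hi⟩ := mem_zpowers_iff.mp (hx ⟨b, h.right_mem⟩)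
    exact ⟨i, congrArg Subtype.val hi⟩

/-- An odd group normalised by a four group lies in `X` if the three fixed groups do. -/
theorem le_of_fixed {a b : G} (h : Pair a b) {R X : Subgroup G} (hodd : Odd (Nat.card R))
    (haR : a ∈ normalizer (R : Set G)) (hbR : b ∈ normalizer (R : Set G)) (h1 : R ⊓ Cent a ≤ X)
    (h2 : R ⊓ Cent b ≤ X) (h3 : R ⊓ Cent (a * b) ≤ X) : R ≤ X := by
  haveI : IsMulCommutative h.four :=
    ⟨⟨fun u v => Subtype.ext (h.commute_of_mem_four u.2 v.2).eq⟩⟩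
  have key : R ⊓ X = R := by
    refine Coprime.eq_of_forall_centralizer_le h.not_isCyclic (h.four_le haR hbR) ?_ inf_le_left
      fun i hi hi1 => ?_
    · obtain ⟨k, hk⟩ := IsPGroup.iff_card.mp h.isPGroup
      rw [hk]
      exact (Nat.coprime_two_left.2 hodd).pow_left k
    · rcases hi with rfl | rfl | rfl | rfl
      · exact absurd rfl hi1
      · exact le_inf inf_le_left h1
      · exact le_inf inf_le_left h2
      · exact le_inf inf_le_left h3
  exact key ▸ inf_le_right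

/-- In a group with a normal 2-complement no element cycles the involutions of a four group. -/
theorem no_cycle_of_complement {M : Subgroup G} (hc : Cfsg.HasNormalPComplement 2 M) {a b g : G}
    (h : Pair a b) (hg : Cycles g a b) (haM : a ∈ M) (hgM : g ∈ M) : False := by
  haveI : Fact (Nat.Prime 2) := ⟨Nat.prime_two⟩
  haveI := Transfer.pResidual_normal (G := M) 2
  obtain ⟨k, hk⟩ := (Transfer.isPGroup_quotient_pResidual (G := M) 2)
    ((⟨g, hgM⟩ : M) : M ⧸ Cfsg.pResidual 2 M)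
  set h' := g ^ 2 ^ k with hh'
  have hK : (⟨g, hgM⟩ : M) ^ 2 ^ k ∈ Cfsg.pResidual 2 M := (QuotientGroup.eq_one_iff _).1 hk
  have hcases : ∀ n : ℕ, (n % 3 = 1 → g ^ n * a * (g ^ n)⁻¹ = b) ∧
      (n % 3 = 2 → g ^ n * a * (g ^ n)⁻¹ = a * b) ∧ (n % 3 = 0 → g ^ n * a * (g ^ n)⁻¹ = a) := by
    intro n
    induction n with
    | zero => simp
    | succ n ih =>
      have e : ∀ x, g ^ n * a * (g ^ n)⁻¹ = x → g ^ (n + 1) * a * (g ^ (n + 1))⁻¹ = g * x * g⁻¹ := by
        intro x hx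
        rw [← hx, pow_succ']
        group
      refine ⟨fun hn => ?_, fun hn => ?_, fun hn => ?_⟩
      · rw [e a (ih.2.2 (by omega))]; exact hg.left
      · rw [e b (ih.1 (by omega))]; exact hg.right
      · rw [e (a * b) (ih.2.1 (by omega))]; exact hg.third h
  have hne : 2 ^ k % 3 = 1 ∨ 2 ^ k % 3 = 2 := by
    rcases (show 2 ^ k % 3 = 0 ∨ 2 ^ k % 3 = 1 ∨ 2 ^ k % 3 = 2 by omega) with e | e | e
    · exact absurd (Nat.prime_three.dvd_of_dvd_pow (Nat.dvd_of_mod_eq_zero e)) (by norm_num)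
    · exact Or.inl e
    · exact Or.inr e
  have hmem : (⟨g, hgM⟩ : M) ^ 2 ^ k * ⟨a, haM⟩ * ((⟨g, hgM⟩ : M) ^ 2 ^ k)⁻¹ * (⟨a, haM⟩ : M)⁻¹ ∈
      Cfsg.pResidual 2 M := by
    rw [show ∀ x y : M, x * y * x⁻¹ * y⁻¹ = x * (y * x⁻¹ * y⁻¹) from fun x y => by group]
    exact mul_mem hK ((Transfer.pResidual_normal (G := M) 2).conj_mem _ (inv_mem hK) _)
  have hodd := (Transfer.mem_pResidual_iff hc _).1 hmem
  rw [← Subgroup.orderOf_coe] at hodd
  have hv : g ^ 2 ^ k * a * (g ^ 2 ^ k)⁻¹ * a⁻¹ = b * a ∨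
      g ^ 2 ^ k * a * (g ^ 2 ^ k)⁻¹ * a⁻¹ = b := by
    rcases hne with e | e
    · left; rw [(hcases _).1 e, inv_of_order h.ha]
    · right; rw [(hcases _).2.1 e, h.comm, mul_inv_cancel_right]
  simp only [Subgroup.coe_mul, InvMemClass.coe_inv, SubgroupClass.coe_pow] at hodd
  rcases hv with e | e <;> rw [e] at hodd
  · rw [← h.comm, h.order_mul] at hodd; exact absurd hodd (by norm_num)
  · rw [h.hb] at hodd; exact absurd hodd (by norm_num)

theorem Cycles.inv {g a b : G} (h : Pair a b) (hg : Cycles g a b) : Cycles g⁻¹ a (a * b) := by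
  have h3 := hg.third h
  refine ⟨?_, ?_⟩
  · rw [inv_inv]
    calc g⁻¹ * a * g = g⁻¹ * (g * (a * b) * g⁻¹) * g := by rw [h3]
      _ = a * b := by group
  · rw [inv_inv]
    conv_rhs => rw [← mul_assoc, sq_of_order h.ha, one_mul]
    calc g⁻¹ * (a * b) * g = g⁻¹ * (g * b * g⁻¹) * g := by rw [hg.right]
      _ = b := by group

theorem map_conj_coreP (r : ℕ) (M : Subgroup G) (g : G) :
    (coreP r M).map (MulAut.conj g).toMonoidHom = coreP r (M.map (MulAut.conj g).toMonoidHom) := by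
  rw [coreP, coreP, ← PCore.map_pCore_mulEquiv
    (M.equivMapOfInjective (MulAut.conj g).toMonoidHom (MulAut.conj g).injective),
    Subgroup.map_map, Subgroup.map_map]
  rfl

theorem mem_map_conj {X : Subgroup G} {x : G} (hx : x ∈ X) (g : G) :
    g * x * g⁻¹ ∈ X.map (MulAut.conj g).toMonoidHom :=
  ⟨x, hx, rfl⟩

theorem coe_pow_eq_one {X : Subgroup G} {q : ℕ} (hX : IsPGroup q X) {x : G} (hx : x ∈ X) :
    ∃ k, x ^ q ^ k = 1 := by
  obtain ⟨k, hk⟩ := hX ⟨x, hx⟩
  exact ⟨k, by simpa using congrArg Subtype.val hk⟩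

theorem eq_one_of_coreP {p q : ℕ} (hp : p.Prime) (hq : q.Prime) (hpq : p ≠ q) {M N : Subgroup G}
    {x : G} (h1 : x ∈ coreP p M) (h2 : x ∈ coreP q N) : x = 1 := by
  haveI := Fact.mk hp
  haveI := Fact.mk hq
  exact eq_one_of_two_groups (isPGroup_coreP p M) (coprime_card_coreP hpq.symm N) h1 h2

/-- Elements of two cores normalising each other commute. -/
theorem commute_cross {s l : ℕ} (hs : s.Prime) (hl : l.Prime) (hsl : s ≠ l) {M N : Subgroup G}
    {d y : G} (hd : d ∈ coreP s N) (hy : y ∈ coreP l M) (hdM : d ∈ M) (hyN : y ∈ N) :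
    Commute d y := by
  have h1 : d * y * d⁻¹ * y⁻¹ ∈ coreP s N := by
    rw [show d * y * d⁻¹ * y⁻¹ = d * (y * d⁻¹ * y⁻¹) by group]
    exact mul_mem hd ((mem_normalizer_iff.1 (le_normalizer_coreP s N hyN) _).1 (inv_mem hd))
  have h2 : d * y * d⁻¹ * y⁻¹ ∈ coreP l M :=
    mul_mem ((mem_normalizer_iff.1 (le_normalizer_coreP l M hdM) y).1 hy) (inv_mem hy)
  exact mul_inv_eq_iff_eq_mul.1 (mul_inv_eq_one.1 (eq_one_of_coreP hs hl hsl h1 h2))

theorem commute_coreP {s l : ℕ} (hs : s.Prime) (hl : l.Prime) (hsl : s ≠ l) {M : Subgroup G}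
    {d y : G} (hd : d ∈ coreP s M) (hy : y ∈ coreP l M) : Commute d y :=
  commute_cross hs hl hsl hd hy (map_subtype_le _ hd) (map_subtype_le _ hy)

/-- The components of a subgroup do not lie in a solvable subgroup. -/
theorem not_layOf_le {H M : Subgroup G}
    (hL : Cfsg.generalizedFittingSubgroup ↥H ≠ Cfsg.fittingSubgroup ↥H)
    (hM : Group.IsSolvable M) : ¬ layOf H ≤ M := by
  intro hle
  refine hL ?_
  rw [Cfsg.generalizedFittingSubgroup, show Cfsg.layer ↥H = ⊥ from ?_, bot_sup_eq]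
  rw [Cfsg.layer]
  refine le_bot_iff.1 (sSup_le fun K hK => ?_)
  exfalso
  have hKM : K.map H.subtype ≤ M :=
    (map_mono (Components.IsComponent.le_layer hK)).trans hle
  haveI : Group.IsSolvable ↥(K.map H.subtype) :=
    Coprime.isSolvable_of_le hKM hM
  haveI : Group.IsSolvable ↥K := Group.isSolvable_of_isSolvable_injective
    (f := (K.equivMapOfInjective H.subtype H.subtype_injective).toMonoidHom)
    (MulEquiv.injective _)
  refine Components.IsQuasisimple.ne_bot hK.2 (by_contra fun hne => ?_)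
  haveI := (nontrivial_iff_ne_bot K).2 hne
  refine (Group.IsSolvable.commutator_lt_top_of_nontrivial K).ne ?_
  refine map_injective K.subtype_injective ?_
  rw [map_subtype_commutator, Components.IsQuasisimple.commutator_self hK.2, ← MonoidHom.range_eq_map,
    range_subtype]

/-- Every maximal subgroup over the centraliser of an involution has a normal 2-complement. -/
def NoBig (G : Type u) [Group G] [Finite G] : Prop :=
  ∀ a : G, orderOf a = 2 → ∀ N : Subgroup G, IsCoatom N → Cent a ≤ N →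
    Cfsg.HasNormalPComplement 2 N

/-- `M` is maximal, properly over `Cent a`, with a normal 2-complement. -/
structure Over (a : G) (M : Subgroup G) : Prop where
  ha : orderOf a = 2
  max : IsCoatom M
  le : Cent a ≤ M
  comp : Cfsg.HasNormalPComplement 2 M
  ne : M ≠ Cent a

namespace Over

variable {a b : G} {M : Subgroup G}

theorem self_mem (h : Over a M) : a ∈ M := h.le (mem_cent.2 rfl)

theorem mem_of_commute (h : Over a M) {x : G} (hx : Commute x a) : x ∈ M := h.le (mem_cent.2 hx.eq)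

theorem hasComp_map (hc : Cfsg.HasNormalPComplement 2 M) (g : G) :
    Cfsg.HasNormalPComplement 2 (M.map (MulAut.conj g).toMonoidHom) :=
  Transfer.hasNormalPComplement_of_surjective
    (M.equivMapOfInjective (MulAut.conj g).toMonoidHom (MulAut.conj g).injective).toMonoidHom
    (M.equivMapOfInjective (MulAut.conj g).toMonoidHom (MulAut.conj g).injective).surjective hc

theorem map (h : Over a M) (g : G) :
    Over (g * a * g⁻¹) (M.map (MulAut.conj g).toMonoidHom) := by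
  refine ⟨(MulEquiv.orderOf_eq (MulAut.conj g) a).trans h.ha,
    ((MulAut.conj g).mapSubgroup.isCoatom_iff M).2 h.max, ?_, hasComp_map h.comp g, fun e => ?_⟩
  · rw [← map_conj_cent]; exact map_mono h.le
  · rw [← map_conj_cent] at e
    exact h.ne (map_injective (MulAut.conj g).injective e)

theorem star (h : Over a M) : generalizedFittingSubgroup ↥M = fittingSubgroup ↥M :=
  genFitting_eq_fitting_of_complement h.comp

theorem dvd_map (g : G) {r : ℕ} :
    r ∣ Nat.card ↥(fittingSubgroup ↥(M.map (MulAut.conj g).toMonoidHom)) ↔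
      r ∣ Nat.card ↥(fittingSubgroup ↥M) := by
  rw [card_fitting_map_conj]

theorem two_primes (hyp : Hyp S t) (h : Over a M) :
    ∃ p r : ℕ, p.Prime ∧ r.Prime ∧ p ≠ r ∧ p ∣ Nat.card ↥(fittingSubgroup ↥M) ∧
      r ∣ Nat.card ↥(fittingSubgroup ↥M) := by
  obtain ⟨T, hT, -⟩ := hyp.exists_at h.ha ⊥ IsPGroup.of_bot bot_le
  exact two_primes_fitting hT h.max h.le h.comp h.ne

theorem ne_two (hyp : Hyp S t) (h : Over a M) {q : ℕ}
    (hd : q ∣ Nat.card ↥(fittingSubgroup ↥M)) : q ≠ 2 := by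
  rintro rfl
  haveI : Fact (Nat.Prime 2) := ⟨Nat.prime_two⟩
  obtain ⟨T, hT, -⟩ := hyp.exists_at h.ha ⊥ IsPGroup.of_bot bot_le
  refine (dvd_card_fit_iff M).1 hd ?_
  rw [coreP, pCore_two_eq_bot hT h.max h.le h.comp h.ne, Subgroup.map_bot]

theorem dvd_of_mem (h : Over a M) {q : ℕ} (hq : q.Prime) {x : G} (hx : x ∈ coreP q M) (hx1 : x ≠ 1) :
    q ∣ Nat.card ↥(fittingSubgroup ↥M) := by
  haveI := Fact.mk hq
  exact (dvd_card_fit_iff M).2 fun e => hx1 (mem_bot.1 (e ▸ hx))

theorem odd_coreP (hyp : Hyp S t) (h : Over a M) {q : ℕ} (hq : q.Prime) :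
    Odd (Nat.card (coreP q M)) := by
  haveI := Fact.mk hq
  by_cases he : coreP q M = ⊥
  · rw [he, Subgroup.card_bot]; exact odd_one
  obtain ⟨k, hk⟩ := IsPGroup.iff_card.1 (isPGroup_coreP q M)
  rw [hk]
  exact (hq.odd_of_ne_two (ne_two hyp h ((dvd_card_fit_iff M).2 he))).pow

theorem odd_order (hyp : Hyp S t) (h : Over a M) {q : ℕ} (hq : q.Prime) {x : G}
    (hx : x ∈ coreP q M) : Odd (orderOf x) :=
  (odd_coreP hyp h hq).of_dvd_nat (Subgroup.orderOf_dvd_natCard _ hx)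

theorem coprime_order (h : Over a M) {s q : ℕ} (hs : s.Prime) (hq : q.Prime) (hne : q ≠ s)
    {x : G} (hx : ∃ k, x ^ q ^ k = 1) : (orderOf x).Coprime (Nat.card (coreP s M)) := by
  haveI := Fact.mk hs
  obtain ⟨k, hk⟩ := hx
  obtain ⟨l, hl⟩ := IsPGroup.iff_card.1 (isPGroup_coreP s M)
  rw [hl]
  exact Nat.Coprime.coprime_dvd_left (orderOf_dvd_of_pow_eq_one hk)
    (((Nat.coprime_primes hq hs).2 hne).pow k l)

/-- A `q`-element of `M` centralising every `O_s(M)` lies in `O_q(M)`. -/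
theorem mem_coreP (h : Over a M) {q : ℕ} (hq : q.Prime) {x : G} (hxM : x ∈ M)
    (hxq : ∃ k, x ^ q ^ k = 1)
    (hc : ∀ s : ℕ, s.Prime → s ∣ Nat.card ↥(fittingSubgroup ↥M) → coreP s M ≤ Cent x) :
    x ∈ coreP q M := by
  haveI := Fact.mk hq
  have hF : fitOf M ≤ Cent x := (fit_le_iff M _).2 hc
  obtain ⟨k, hk⟩ := hxq
  refine mem_coreP_of_pow (k := k) ⟨⟨x, hxM⟩, ?_, rfl⟩ hk
  rw [← h.star]
  refine Components.centralizer_generalizedFittingSubgroup_le (mem_centralizer_iff.2 fun z hz => ?_)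
  exact Subtype.ext (mem_cent.1 (hF ⟨z, h.star ▸ hz, rfl⟩))

theorem eq_one_of_centralises (h : Over a M) {q : ℕ} (hq : q.Prime)
    (hqn : ¬ q ∣ Nat.card ↥(fittingSubgroup ↥M)) {x : G} (hxM : x ∈ M)
    (hxq : ∃ k, x ^ q ^ k = 1)
    (hc : ∀ s : ℕ, s.Prime → s ∣ Nat.card ↥(fittingSubgroup ↥M) → coreP s M ≤ Cent x) : x = 1 :=
  by_contra fun h1 => hqn (h.dvd_of_mem hq (h.mem_coreP hq hxM hxq hc) h1)

theorem exists_moved (hyp : Hyp S t) (h : Over a M) :
    ∃ p : ℕ, p.Prime ∧ ¬ coreP p M ≤ Cent a := by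
  by_contra hno
  push Not at hno
  haveI : Fact (Nat.Prime 2) := ⟨Nat.prime_two⟩
  have hmem := h.mem_coreP Nat.prime_two h.self_mem ⟨1, by rw [pow_one, pow_two]; exact sq_of_order h.ha⟩
    fun s hs _ x hx => mem_cent.2 (mem_cent.1 (hno s hs hx)).symm.symm
  exact absurd (odd_order hyp h Nat.prime_two hmem) (by rw [h.ha]; norm_num)

end Over

end Cfsg.Agent.GW
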