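import Cfsg.Agent.Lib.GW.PartII.CompCentral
import Cfsg.Agent.Lib.GW.PartII.CompLocal
import Cfsg.Agent.Lib.GW.PartII.CompRho
import Cfsg.Agent.Lib.GW.PartII.NotMaxBase

/-!
# The component configuration: every reflection has fixed points

If the fixed points of every component configuration at `t` meet the centre of `fitCore t` trivially
(`hone`), then the fixed points are groups of order a power of one prime `r`, an element `τ` of order `r`
of the centre has centraliser inside `Cent t`, and every reflection inverts it and is a component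
configuration: `exists_central`.
-/

set_option autoImplicit false
set_option linter.unusedSectionVars false
set_option linter.style.haveILetI false

namespace Cfsg.Agent.GW

open Subgroup Cfsg.Agent.S1856 Cfsg.Agent.S1312 Cfsg.Agent.GW.CompLocal
open BSW (sq_of_order inv_of_order ne_one_of_order order_of_sq mem_cent)

universe u

variable {G : Type u} [Group G] [Finite G] {S : Sylow 2 G} {t : G}

namespace CompEvery

/-- Conjugation raised to the exponent of the image of a generator. -/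
theorem conj_iterate {w τ : G} {i : ℤ} (h : w * τ * w⁻¹ = τ ^ i) :
    ∀ n : ℕ, w ^ n * τ * (w ^ n)⁻¹ = τ ^ i ^ n
  | 0 => by simp
  | n + 1 => by
    rw [pow_succ w n, show w ^ n * w * τ * (w ^ n * w)⁻¹ = w ^ n * (w * τ * w⁻¹) * (w ^ n)⁻¹ by group,
      h, ← conj_zpow, conj_iterate h n, ← zpow_mul, pow_succ]

/-- An element of `r`-power order normalising a group of order `r` centralises it. -/
theorem commute_of_pow {w τ : G} {r : ℕ} (hr : r.Prime) (hτ : orderOf τ = r)
    (hw : w * τ * w⁻¹ ∈ zpowers τ) (hk : ∃ k, w ^ r ^ k = 1) : Commute w τ := by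
  haveI := Fact.mk hr
  obtain ⟨i, hi⟩ := mem_zpowers_iff.1 hw
  obtain ⟨k, hk⟩ := hk
  have h1 := conj_iterate hi.symm (r ^ k)
  rw [hk, one_mul, inv_one, mul_one] at h1
  have h2 : τ ^ i ^ (r ^ k) = τ ^ (1 : ℤ) := by rw [zpow_one]; exact h1.symm
  rw [zpow_eq_zpow_iff_modEq, hτ, ← ZMod.intCast_eq_intCast_iff, Int.cast_pow,
    ZMod.pow_card_pow] at h2
  refine mul_inv_eq_iff_eq_mul.1 (hi.symm.trans ?_)
  rw [← zpow_one τ]
  rw [← zpow_mul, one_mul, zpow_eq_zpow_iff_modEq, hτ, ← ZMod.intCast_eq_intCast_iff]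
  exact h2

/-- An involution normalising a group of prime order centralises or inverts it. -/
theorem commute_or_inverts {v τ : G} (hv : orderOf v = 2) (hτ : (orderOf τ).Prime)
    (h : v * τ * v⁻¹ ∈ zpowers τ) : Commute v τ ∨ v * τ * v⁻¹ = τ⁻¹ := by
  haveI := Fact.mk hτ
  obtain ⟨i, hi⟩ := mem_zpowers_iff.1 h
  have h1 := conj_iterate hi.symm 2
  rw [pow_two v, sq_of_order hv, one_mul, inv_one, mul_one] at h1
  have h2 : ((i : ZMod (orderOf τ))) ^ 2 = 1 := by
    rw [← Int.cast_pow, ← Int.cast_one, ZMod.intCast_eq_intCast_iff, ← zpow_eq_zpow_iff_modEq, zpow_one]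
    exact h1.symm
  rcases sq_eq_one_iff.1 h2 with e | e
  · refine Or.inl (mul_inv_eq_iff_eq_mul.1 (hi.symm.trans ?_))
    conv_rhs => rw [← zpow_one τ]
    rw [zpow_eq_zpow_iff_modEq, ← ZMod.intCast_eq_intCast_iff, e, Int.cast_one]
  · refine Or.inr (hi.symm.trans ?_)
    rw [← zpow_neg_one, zpow_eq_zpow_iff_modEq, ← ZMod.intCast_eq_intCast_iff, e, Int.cast_neg,
      Int.cast_one]

/-- A known simple group permutes the involutions of each of its four groups. -/
theorem cycles_of_simple {X : Type u} [Group X] [Finite X] [hX : IsSimpleGroup X] (hd : SubDihedral X)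
    (hk : IsKnown X) {a b : X} (h : Pair a b) : ∃ g, Cycles g a b := by
  haveI : Fact (Nat.Prime 2) := ⟨Nat.prime_two⟩
  obtain ⟨T, -, n, hn, he⟩ := exists_four_containing hd h.ha
    (not_complement_of_simple hk.not_comm hk.even_card)
  haveI : Nontrivial (T : Subgroup X) :=
    (nontrivial_iff_ne_bot _).mpr (T.ne_bot_of_dvd_card hk.even_card)
  obtain ⟨k, hk', hcard⟩ :=
    (T.2.to_subgroup (center (T : Subgroup X))).nontrivial_iff_card.mp T.2.center_nontrivial
  obtain ⟨z, hz⟩ := exists_prime_orderOf_dvd_card' (G := center (T : Subgroup X)) 2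
    (hcard ▸ dvd_pow_self 2 hk'.ne')
  exact exists_cycles (S := T) (t := ((z : (T : Subgroup X)) : X))
    ⟨hX, ⟨n, hn, he⟩, by rw [orderOf_coe, orderOf_coe]; exact hz, (z : (T : Subgroup X)).2,
      fun s hs => congrArg Subtype.val (mem_center_iff.mp z.2 ⟨s, hs⟩)⟩ h

/-- An element central in `fitCore t` is inverted, if `b` fixes no central element. -/
theorem inverts_center {b z : G} (h : Pair t b)
    (hone : ∀ w ∈ qFix t b, (∀ f ∈ fitCore t, Commute w f) → w = 1) (hz : z ∈ fitCore t)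
    (hzc : ∀ f ∈ fitCore t, Commute z f) : b * z * b⁻¹ = z⁻¹ := by
  have hn := mem_normalizer_iff.1 (cent_le_normalizer_fitCore t (mem_cent.2 h.comm.symm))
  have hbz : b * z * b⁻¹ ∈ fitCore t := (hn z).1 hz
  refine eq_inv_of_mul_eq_one_right (hone _ ⟨mul_mem hz hbz, mem_cent.2 ?_⟩ fun f hf => ?_)
  · refine (mul_inv_eq_iff_eq_mul.1 ?_).symm
    rw [show b * (z * (b * z * b⁻¹)) * b⁻¹ = b * z * b⁻¹ * (b * b * z * (b * b)⁻¹) by group,
      sq_of_order h.hb, one_mul, inv_one, mul_one]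
    exact (hzc _ hbz).symm.eq
  · refine (hzc f hf).mul_left ?_
    have h1 : b⁻¹ * f * b ∈ fitCore t := by
      rw [hn]
      rwa [show b * (b⁻¹ * f * b) * b⁻¹ = f by group]
    have h2 := (hzc _ h1).map (MulAut.conj b)
    rwa [MulAut.conj_apply, MulAut.conj_apply, show b * (b⁻¹ * f * b) * b⁻¹ = f by group] at h2

/-- An element commuting with the fixed and with the inverted elements of `fitCore t` is central. -/
theorem central_of_split (hyp : Hyp S t) {b z : G} (h : Pair t b)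
    (hfix : ∀ w ∈ qFix t b, Commute z w)
    (hinv : ∀ w ∈ fitCore t, b * w * b⁻¹ = w⁻¹ → Commute z w) : ∀ f ∈ fitCore t, Commute z f := by
  intro f hf
  have hn := mem_normalizer_iff.1 (cent_le_normalizer_fitCore t (mem_cent.2 h.comm.symm))
  set d := f⁻¹ * (b * f * b⁻¹) with hd
  have hdF : d ∈ fitCore t := mul_mem (inv_mem hf) ((hn f).1 hf)
  have hdi : b * d * b⁻¹ = d⁻¹ := inverts_displace h.hb f
  obtain ⟨j, hj⟩ := odd_orderOf_fitCore hyp hdF
  set v := d ^ (j + 1) with hv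
  have hvv : v * v = d := by
    rw [hv, ← pow_add, show j + 1 + (j + 1) = orderOf d + 1 by omega, pow_succ, pow_orderOf_eq_one,
      one_mul]
  have hvi : b * v * b⁻¹ = v⁻¹ := by rw [hv, ← conj_pow, hdi, inv_pow]
  have hfv : f * v ∈ qFix t b := by
    refine ⟨mul_mem hf (pow_mem hdF _), mem_cent.2 (mul_inv_eq_iff_eq_mul.1 ?_).symm⟩
    rw [show b * (f * v) * b⁻¹ = f * (f⁻¹ * (b * f * b⁻¹)) * (b * v * b⁻¹) by group, hvi, ← hd, ← hvv]
    group
  have h1 := (hfix _ hfv).mul_right (hinv v (pow_mem hdF _) hvi).inv_right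
  rwa [mul_inv_cancel_right] at h1

/-- The fixed points form a group of prime power order. -/
theorem exists_prime (hyp : Hyp S t) (hk : ProperKnown G) (hcl : CycleLayer G) (hM : IsCoatom (Cent t))
    (hm : FixModel.{u}) {b : G} (hc : CompAt t b)
    (hone : ∀ z ∈ qFix t b, (∀ f ∈ fitCore t, Commute z f) → z = 1) :
    ∃ r : ℕ, r.Prime ∧ r ≠ 2 ∧ IsPGroup r ↥(qFix t b) := by
  have hcyc := exists_fixedCycle hyp hk hcl hM hc
  obtain ⟨g₀, y₀, -, hy₀, hy₀1, -⟩ := hc.ex
  haveI : Group.IsNilpotent ↥(fitCore t) :=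
    Group.nilpotent_of_mulEquiv ((Cfsg.fittingSubgroup ↥(oCore t)).equivMapOfInjective
      (oCore t).subtype (oCore t).subtype_injective)
  haveI : Group.IsNilpotent ↥(qFix t b) :=
    Group.nilpotent_of_mulEquiv (subgroupOfEquivOfLe (inf_le_left : qFix t b ≤ fitCore t))
  haveI : Nontrivial ↥(qFix t b) := ⟨⟨y₀, hy₀⟩, 1, fun e => hy₀1 (congrArg Subtype.val e)⟩
  haveI : Nontrivial (center ↥(qFix t b)) :=
    (nontrivial_iff_ne_bot _).2 (Group.IsNilpotent.center_ne_bot ↥(qFix t b))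
  obtain ⟨s, hs, hsd⟩ := Nat.exists_prime_and_dvd
    (Finite.one_lt_card (α := center ↥(qFix t b))).ne'
  haveI := Fact.mk hs
  obtain ⟨z', hz'⟩ := exists_prime_orderOf_dvd_card' s hsd
  set z : G := ((z' : ↥(qFix t b)) : G) with hzdef
  have hzQ : z ∈ qFix t b := (z' : ↥(qFix t b)).2
  have hzo : orderOf z = s := by rw [hzdef, orderOf_coe, orderOf_coe, hz']
  have hz1 : z ≠ 1 := fun e => hs.ne_one (by rw [← hzo, e, orderOf_one])
  have hzc : ∀ w ∈ qFix t b, Commute z w := fun w hw =>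
    (congrArg Subtype.val (mem_center_iff.1 z'.2 ⟨w, hw⟩)).symm
  have hzP : z ∈ coreP s (oCore t) :=
    mem_coreP_of_pow (k := 1) hzQ.1 (by rw [pow_one, ← hzo, pow_orderOf_eq_one])
  have hs2 : s ≠ 2 := fun e => by
    have := odd_orderOf_fitCore hyp hzQ.1
    rw [hzo, e] at this
    exact absurd this (by decide)
  refine ⟨s, hs, hs2, Balance.isPGroup_of_forall_coprime_eq_one fun y hy hyc => by_contra fun hy1 => ?_⟩
  refine hz1 (hone z hzQ (central_of_split hyp hc.pair hzc fun f hf hfi => ?_))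
  refine (commute_of_pPart (M := oCore t) (Q := zpowers f) (zpowers_le.2 hf) hzP ?_ f (mem_zpowers f)).symm
  intro w hw hwP
  rcases eq_or_ne w 1 with rfl | hw1
  · exact Commute.one_left z
  obtain ⟨i, rfl⟩ := mem_zpowers_iff.1 hw
  have hwy : Commute (f ^ i) y := (commute_fit_coreP (M := oCore t) hy.1 hyc hwP).symm
  have hwi : b * f ^ i * b⁻¹ = (f ^ i)⁻¹ := by rw [← conj_zpow, hfi, inv_zpow]
  have hwO : f ^ i ∈ oCore t := fitCore_le_oCore t (zpow_mem hf i)
  have p : Pin t b y (f ^ i) := ⟨hc.pair, hcyc, hy, hy1, hwO, hw1, hwi, hwy⟩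
  obtain ⟨T, -, hTle, hT⟩ := p.exists_torus hyp hk hM hm
  exact (p.commute_layer hyp hk hM hm hzQ (hzc y hy) _ (hTle ((hT _).2 ⟨hwO, hwy, hwi⟩))).symm

/-- An element of prime order `r` central in `fitCore t` normalised by `Cent t`. -/
theorem exists_axis (hyp : Hyp S t) (hk : ProperKnown G) (hcl : CycleLayer G) (hM : IsCoatom (Cent t))
    (hm : FixModel.{u}) {b y : G} {r : ℕ} [hr : Fact r.Prime] (hc : CompAt t b)
    (hone : ∀ z ∈ qFix t b, (∀ f ∈ fitCore t, Commute z f) → z = 1) (hy : y ∈ qFix t b) (hy1 : y ≠ 1)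
    (hyP : y ∈ coreP r (oCore t)) :
    ∃ τ, orderOf τ = r ∧ τ ∈ coreP r (oCore t) ∧ (∀ f ∈ fitCore t, Commute τ f) ∧
      Cent t ≤ normalizer (zpowers τ : Set G) ∧ Pin t b y τ := by
  have hne : coreP r (oCore t) ≠ ⊥ := fun e => hy1 (mem_bot.1 (e ▸ hyP))
  haveI := (nontrivial_iff_ne_bot _).2 (zOf_ne_bot hne)
  obtain ⟨k, hk0, hcard⟩ :=
    ((isPGroup_coreP r (oCore t)).to_le (inf_le_left : zOf r (oCore t) ≤ _)).nontrivial_iff_card.1
      inferInstance
  obtain ⟨τ', hτ'⟩ := exists_prime_orderOf_dvd_card' (G := zOf r (oCore t)) r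
    (hcard ▸ dvd_pow_self r hk0.ne')
  set τ : G := (τ' : G) with hτdef
  have hτo : orderOf τ = r := by rw [hτdef, orderOf_coe, hτ']
  have hτ1 : τ ≠ 1 := fun e => hr.out.ne_one (by rw [← hτo, e, orderOf_one])
  have hτP : τ ∈ coreP r (oCore t) := τ'.2.1
  have hτF : τ ∈ fitCore t := map_mono (Components.pCore_le_fittingSubgroup hr.out) hτP
  have hτc : ∀ f ∈ fitCore t, Commute τ f := fun f hf => commute_zOf_fitOf τ'.2 hf
  have p : Pin t b y τ := ⟨hc.pair, exists_fixedCycle hyp hk hcl hM hc, hy, hy1,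
    fitCore_le_oCore t hτF, hτ1, inverts_center hc.pair hone hτF hτc, hτc y hy.1⟩
  refine ⟨τ, hτo, hτP, hτc, ?_, p⟩
  obtain ⟨T, hTc, -, hT⟩ := p.exists_torus hyp hk hM hm
  haveI := hTc
  have hmem : ∀ z ∈ fitCore t, (∀ f ∈ fitCore t, Commute z f) → z ∈ T := fun z hz hzc =>
    (hT z).2 ⟨fitCore_le_oCore t hz, hzc y hy.1, inverts_center hc.pair hone hz hzc⟩
  intro c hc'
  have hn := mem_normalizer_iff.1 (cent_le_normalizer_fitCore t hc')
  have hcT : c * τ * c⁻¹ ∈ T := hmem _ ((hn τ).1 hτF) fun f hf => by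
    have h1 : c⁻¹ * f * c ∈ fitCore t := by
      rw [hn]
      rwa [show c * (c⁻¹ * f * c) * c⁻¹ = f by group]
    have h2 := (hτc _ h1).map (MulAut.conj c)
    rwa [MulAut.conj_apply, MulAut.conj_apply, show c * (c⁻¹ * f * c) * c⁻¹ = f by group] at h2
  have hzz : zpowers (⟨c * τ * c⁻¹, hcT⟩ : T) = zpowers ⟨τ, hmem τ hτF hτc⟩ :=
    eq_of_card_eq_of_cyclic (by
      rw [Nat.card_zpowers, Nat.card_zpowers, orderOf_mk, orderOf_mk, ← MulAut.conj_apply,
        MulEquiv.orderOf_eq])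
  have hzz' := congrArg (Subgroup.map T.subtype) hzz
  rw [MonoidHom.map_zpowers, MonoidHom.map_zpowers] at hzz'
  rw [mem_normalizer_iff_map_conj_eq, MonoidHom.map_zpowers]
  exact hzz'

/-- An involution of the frame equal modulo the odd core to a layer involution is equal to it. -/
theorem eq_of_proj {H : Subgroup G}
    (hiff : ∀ z : H, (∀ e ∈ Cfsg.layer ↥H, Commute z e) ↔ z ∈ Cfsg.oddCore ↥H) {x x' : H}
    (hx' : x' ∈ Cfsg.layer ↥H) (h : x * x = 1) (h' : x' * x' = 1) (e : proj H x = proj H x') :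
    x = x' := by
  have ho : x'⁻¹ * x ∈ Cfsg.oddCore ↥H := QuotientGroup.eq.1 e.symm
  set o := x'⁻¹ * x with hodef
  have hx : x = x' * o := by rw [hodef]; group
  have hc : Commute x' o := ((hiff o).2 ho x' hx').symm
  obtain ⟨j, hj⟩ : Odd (orderOf o) :=
    PCore.odd_card_oddCore.of_dvd_nat (Subgroup.orderOf_dvd_natCard _ ho)
  have hoo : o * o = 1 := by rwa [hx, hc.symm.mul_mul_mul_comm, h', one_mul] at h
  have h1 := pow_orderOf_eq_one o
  rw [hj, pow_succ, pow_mul, pow_two, hoo, one_pow, one_mul] at h1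
  rw [hx, h1, mul_one]

/-- No reflection centralises the axis. -/
theorem not_commute_refl (hyp : Hyp S t) (hk : ProperKnown G) (hM : IsCoatom (Cent t))
    (hm : FixModel.{u}) {b y τ : G} {r : ℕ} [hr : Fact r.Prime] (hr2 : r ≠ 2)
    (hone : ∀ u, CompAt t u → ∀ z ∈ qFix t u, (∀ f ∈ fitCore t, Commute z f) → z = 1)
    (hτo : orderOf τ = r) (hτP : τ ∈ coreP r (oCore t)) (hyP : y ∈ coreP r (oCore t))
    (hτc : ∀ f ∈ fitCore t, Commute τ f) (hle : Cent τ ≤ Cent t) (p : Pin t b y τ)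
    {u : G} (hu : orderOf u = 2) (hut : u ≠ t) (hc : Commute u t) (huτ : Commute u τ) : False := by
  have h := hyp.pair_of_refl hu hut hc
  obtain ⟨g, hg⟩ := exists_cycles hyp h
  have hτt : Commute τ t := mem_cent.1 (Hyp.oCore_le_cent t p.mem_τ)
  set σ := g * τ * g⁻¹ with hσ
  have hσu : Commute u σ := by
    have h1 := hτt.symm.map (MulAut.conj g)
    rwa [MulAut.conj_apply, MulAut.conj_apply, hg.left] at h1
  have hσt : Commute σ t := by
    have h1 := (hτt.mul_right huτ.symm).map (MulAut.conj g)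
    rwa [MulAut.conj_apply, MulAut.conj_apply, hg.third h] at h1
  set P := coreP r (oCore t) with hP
  have hPn : Cent t ≤ normalizer (P : Set G) := cent_le_normalizer_coreP r t
  have hσp : IsPGroup r ↥(zpowers σ) := IsPGroup.of_card (n := 1) (by
    rw [Nat.card_zpowers, hσ, ← MulAut.conj_apply, MulEquiv.orderOf_eq, hτo, pow_one])
  have hu2 : (orderOf u).Coprime r := by
    rw [hu]; exact (Nat.coprime_primes Nat.prime_two hr.out).2 hr2.symm
  have hfix : ∀ c ∈ P, Commute u c := by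
    refine Balance.commute_of_commute_fixed (R := zpowers σ) (isPGroup_coreP r (oCore t)) hσp
      (zpowers_le.2 (hPn (mem_cent.2 hσt.eq))) (hPn (mem_cent.2 hc.eq)) hu2 ?_ ?_
    · intro w hw
      obtain ⟨i, rfl⟩ := mem_zpowers_iff.1 hw
      exact hσu.zpow_right i
    · intro c _ hcσ
      have h0 := (hcσ σ (mem_zpowers σ)).symm.map (MulAut.conj g⁻¹)
      rw [MulAut.conj_apply, MulAut.conj_apply, inv_inv, hσ,
        show g⁻¹ * (g * τ * g⁻¹) * g = τ by group] at h0
      have h1 := (show Commute (g⁻¹ * c * g) t from mem_cent.1 (hle (mem_cent.2 h0.eq))).map (MulAut.conj g)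
      rw [MulAut.conj_apply, MulAut.conj_apply, hg.left, show g * (g⁻¹ * c * g) * g⁻¹ = c by group] at h1
      exact h1.symm
  have huy := hfix y hyP
  obtain ⟨H, E, hHle, f, -, -, hlay⟩ := p.exists_local hyp hk hM hm
  haveI := f.normal
  haveI := f.simple
  have huH : u ∈ H := hHle (mem_normalizer_zpowers_of_commute huy)
  have hτH : τ ∈ H := hHle (mem_normalizer_zpowers_of_commute p.comm)
  have hτodd : Odd (orderOf (⟨τ, hτH⟩ : H)) := by
    rw [orderOf_mk, hτo]; exact hr.out.odd_of_ne_two hr2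
  let u' : H := ⟨u, huH⟩
  let t' : H := ⟨t, f.a_mem⟩
  have hu' : orderOf u' = 2 := by rw [orderOf_mk]; exact hu
  have ht' : orderOf t' = 2 := by rw [orderOf_mk]; exact h.ha
  by_cases hin : proj H u' ∈ E
  · have hne : proj H t' ≠ proj H u' := by
      intro e
      have h2 := mk_orderOf (show orderOf (t' * u') = 2 by
        rw [show t' * u' = ⟨t * u, mul_mem f.a_mem huH⟩ from rfl, orderOf_mk]
        exact h.order_mul)
      rw [map_mul, show QuotientGroup.mk' _ t' = proj H u' from e, sq_of_order (mk_orderOf hu'),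
        orderOf_one] at h2
      omega
    let a₁ : E := ⟨proj H t', f.haE f.a_mem⟩
    let a₂ : E := ⟨proj H u', hin⟩
    have hp : Pair a₁ a₂ := ⟨by rw [orderOf_mk]; exact mk_orderOf ht',
      by rw [orderOf_mk]; exact mk_orderOf hu',
      Subtype.ext ((show Commute t' u' from Subtype.ext h.comm).map (proj H)).eq,
      fun e => hne (congrArg Subtype.val e)⟩
    obtain ⟨γ, hγ⟩ := cycles_of_simple (f.dih.subgroup E) f.known hp
    obtain ⟨l, hl, hlγ⟩ := f.le_layer γ.2
    have hsq : ∀ x : H, x * x = 1 → l * x * l⁻¹ * (l * x * l⁻¹) = 1 := fun x hx => by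
      rw [show l * x * l⁻¹ * (l * x * l⁻¹) = l * (x * x) * l⁻¹ by group, hx, mul_one, mul_inv_cancel]
    have ht2 : t' * t' = 1 := Subtype.ext (sq_of_order h.ha)
    have hu2' : u' * u' = 1 := Subtype.ext (sq_of_order h.hb)
    have htu2 : t' * u' * (t' * u') = 1 := Subtype.ext h.mul_sq
    have huL : u' ∈ Cfsg.layer ↥H := by
      obtain ⟨w, hw, hwu⟩ := CompLocal.mem_layerOf f.le_layer f.iff hu2' hin
      rwa [← show w = u' from H.subtype_injective hwu]
    have htL : t' ∈ Cfsg.layer ↥H := by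
      obtain ⟨w, hw, hwt⟩ := f.ha
      rwa [show t' = w from H.subtype_injective hwt.symm]
    have e1 : l * t' * l⁻¹ = u' := eq_of_proj f.iff huL (hsq _ ht2) hu2' (by
      rw [map_mul, map_mul, map_inv, hlγ]; exact congrArg Subtype.val hγ.left)
    have e2 : l * u' * l⁻¹ = t' * u' := eq_of_proj f.iff (mul_mem htL huL) (hsq _ hu2') htu2 (by
      rw [map_mul, map_mul, map_inv, map_mul, hlγ]; exact congrArg Subtype.val hγ.right)
    have hcomp : CompAt t u := ⟨h, l, y, ⟨congrArg Subtype.val e1, congrArg Subtype.val e2⟩,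
      ⟨p.mem_y.1, mem_cent.2 huy.symm.eq⟩, p.ne_y,
      (hlay y p.mem_y (Commute.refl y) (l : G) ⟨l, hl, rfl⟩).eq⟩
    exact p.ne_τ (hone u hcomp τ ⟨map_mono (Components.pCore_le_fittingSubgroup hr.out) hτP,
      mem_cent.2 huτ.symm.eq⟩ hτc)
  · refine p.ne_τ (f.eq_one_of_proj (x := ⟨τ, hτH⟩) ?_ hτodd p.inv_τ)
    exact eq_one_of_outer f.dih E f.known (mk_orderOf hu') hin (c := proj H t') (mk_orderOf ht')
      (f.haE f.a_mem) (f.proj_mem hτodd p.inv_τ) (hτodd.of_dvd_nat (orderOf_map_dvd _ _))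
      ((show Commute (⟨τ, hτH⟩ : H) u' from Subtype.ext huτ.symm.eq).map _)
      ((show Commute (⟨τ, hτH⟩ : H) t' from Subtype.ext hτt.eq).map _)

/-- An inner and an outer involution with inverted axes of the same prime order. -/
theorem tori_false {H : Subgroup G} {E : Subgroup (↥H ⧸ Cfsg.oddCore ↥H)} [E.Normal] [IsSimpleGroup E]
    (hd : SubDihedral (↥H ⧸ Cfsg.oddCore ↥H)) (hk : IsKnown E)
    (hC : centralizer (E : Set (↥H ⧸ Cfsg.oddCore ↥H)) = ⊥)
    (hEL : E ≤ (Cfsg.layer ↥H).map (proj H))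
    (hiff : ∀ z : H, (∀ e ∈ Cfsg.layer ↥H, Commute z e) ↔ z ∈ Cfsg.oddCore ↥H)
    {a c sa sc : G} (haH : a ∈ H) (hcH : c ∈ H) (hsaH : sa ∈ H) (hscH : sc ∈ H)
    (ha : orderOf a = 2) (hc : orderOf c = 2) (haE : proj H ⟨a, haH⟩ ∉ E) (hcE : proj H ⟨c, hcH⟩ ∈ E)
    {r : ℕ} (hr : r.Prime) (hr2 : r ≠ 2) (hsa : sa ^ r = 1) (hsc : sc ^ r = 1)
    (hla : Cent sa ≤ Cent a) (hlc : Cent sc ≤ Cent c) (hia : c * sa * c⁻¹ = sa⁻¹)
    (hic : a * sc * a⁻¹ = sc⁻¹) : False := by
  have key : ∀ (v : H) (s : H), orderOf v = 2 → proj H s = 1 → Cent (s : G) ≤ Cent (v : G) → False := by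
    intro v s hv hs hle
    have h1 : proj H v ∈ centralizer (E : Set (↥H ⧸ Cfsg.oddCore ↥H)) := mem_centralizer_iff.2 fun e he => by
      obtain ⟨l, hl, rfl⟩ := hEL he
      have h2 : Commute (l : G) (s : G) :=
        (congrArg Subtype.val (((hiff s).2 ((QuotientGroup.eq_one_iff s).1 hs)) l hl).eq).symm
      exact ((show Commute l v from Subtype.ext (mem_cent.1 (hle (mem_cent.2 h2.eq)))).map (proj H)).eq
    rw [hC, mem_bot] at h1
    have h2 := mk_orderOf hv
    rw [show QuotientGroup.mk' _ v = 1 from h1, orderOf_one] at h2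
    omega
  have ha' : orderOf (⟨a, haH⟩ : H) = 2 := by rw [orderOf_mk]; exact ha
  have hc' : orderOf (⟨c, hcH⟩ : H) = 2 := by rw [orderOf_mk]; exact hc
  have hsa' : (⟨sa, hsaH⟩ : H) ^ r = 1 := Subtype.ext hsa
  have hsc' : (⟨sc, hscH⟩ : H) ^ r = 1 := Subtype.ext hsc
  rcases CompInverted.eq_one_of_tori E hd hk hC (mk_orderOf ha') (mk_orderOf hc') haE hcE hr hr2
    (c := proj H ⟨sa, hsaH⟩) (g := proj H ⟨sc, hscH⟩)
    ⟨1, by rw [pow_one, ← map_pow, hsa', map_one]⟩ ⟨1, by rw [pow_one, ← map_pow, hsc', map_one]⟩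
    ((show Commute (⟨sa, hsaH⟩ : H) ⟨a, haH⟩ from
      Subtype.ext (mem_cent.1 (hla (mem_cent.2 rfl)))).map (proj H))
    (by rw [← map_inv, ← map_mul, ← map_mul, ← map_inv]; exact congrArg _ (Subtype.ext hia))
    ((show Commute (⟨sc, hscH⟩ : H) ⟨c, hcH⟩ from
      Subtype.ext (mem_cent.1 (hlc (mem_cent.2 rfl)))).map (proj H))
    (by rw [← map_inv, ← map_mul, ← map_mul, ← map_inv]; exact congrArg _ (Subtype.ext hic)) with h | h
  · exact key _ _ ha' h hla
  · exact key _ _ hc' h hlc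

/-- The conjugates of the axis. -/
theorem conj_axis {τ : G} (hle : Cent τ ≤ Cent t)
    (hinv : ∀ v : G, orderOf v = 2 → v ≠ t → Commute v t → v * τ * v⁻¹ = τ⁻¹) (g : G) {a : G}
    (ha : g * t * g⁻¹ = a) :
    Cent (g * τ * g⁻¹) ≤ Cent a ∧ ∀ v : G, orderOf v = 2 → v ≠ a → Commute v a →
      v * (g * τ * g⁻¹) * v⁻¹ = (g * τ * g⁻¹)⁻¹ := by
  subst ha
  refine ⟨?_, fun v hv hne hc => ?_⟩
  · rw [← map_conj_cent, ← map_conj_cent]
    exact map_mono hle
  · have h1 := hinv (g⁻¹ * v * g)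
      (by rw [show g⁻¹ * v * g = MulAut.conj g⁻¹ v by rw [MulAut.conj_apply, inv_inv], MulEquiv.orderOf_eq]
          exact hv)
      (fun e => hne (by rw [← e]; group)) (by
        have h2 := hc.map (MulAut.conj g⁻¹)
        rw [MulAut.conj_apply, MulAut.conj_apply, inv_inv] at h2
        rwa [show g⁻¹ * (g * t * g⁻¹) * g = t by group] at h2)
    calc v * (g * τ * g⁻¹) * v⁻¹ = g * (g⁻¹ * v * g * τ * (g⁻¹ * v * g)⁻¹) * g⁻¹ := by group
      _ = (g * τ * g⁻¹)⁻¹ := by rw [h1]; group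

/-- A reflection with a fixed point of `r`-power order is a component configuration. -/
theorem compAt_refl (hyp : Hyp S t) (hk : ProperKnown G) (hcl : CycleLayer G) (hM : IsCoatom (Cent t))
    {τ : G} {r : ℕ} [hr : Fact r.Prime] (hr2 : r ≠ 2) (hτo : orderOf τ = r)
    (hτn : Cent t ≤ normalizer (zpowers τ : Set G)) (hle : Cent τ ≤ Cent t)
    (hinv : ∀ v : G, orderOf v = 2 → v ≠ t → Commute v t → v * τ * v⁻¹ = τ⁻¹)
    {u x : G} (hu : orderOf u = 2) (hut : u ≠ t) (hc : Commute u t) (hx : x ∈ qFix t u) (hx1 : x ≠ 1)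
    (hxr : ∃ k, x ^ r ^ k = 1) : CompAt t u := by
  have h := hyp.pair_of_refl hu hut hc
  have hτ1 : τ ≠ 1 := fun e => hr.out.ne_one (by rw [← hτo, e, orderOf_one])
  have hxt : Commute x t := commute_of_fitCore hx.1
  have hxu : Commute x u := mem_cent.1 hx.2
  obtain ⟨H, hH, hHle⟩ := exists_max hyp hx.1 hx1
  have hmem : ∀ {i : G}, Commute i x → i ∈ H := fun hi => hHle (mem_normalizer_zpowers_of_commute hi)
  have htH : t ∈ H := hmem hxt.symm
  have huH : u ∈ H := hmem hxu.symm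
  have hσH : ∀ g a : G, g * t * g⁻¹ = a → Commute x a → g * τ * g⁻¹ ∈ H := by
    intro g a ha hxa
    have h1 : Commute (g⁻¹ * x * g) t := by
      have h2 := hxa.map (MulAut.conj g⁻¹)
      rw [MulAut.conj_apply, MulAut.conj_apply, inv_inv, ← ha] at h2
      rwa [show g⁻¹ * (g * t * g⁻¹) * g = t by group] at h2
    obtain ⟨k, hk'⟩ := hxr
    have h3 := (commute_of_pow hr.out hτo
      ((mem_normalizer_iff.1 (hτn (mem_cent.2 h1.eq)) τ).1 (mem_zpowers τ))
      ⟨k, by
        rw [show g⁻¹ * x * g = MulAut.conj g⁻¹ x by rw [MulAut.conj_apply, inv_inv], ← map_pow, hk',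
          map_one]⟩).map (MulAut.conj g)
    rw [MulAut.conj_apply, MulAut.conj_apply, show g * (g⁻¹ * x * g) * g⁻¹ = x by group] at h3
    exact hmem h3.symm
  obtain ⟨g, hg⟩ := exists_cycles hyp h
  have hgg : g * g * t * (g * g)⁻¹ = t * u := by
    rw [show g * g * t * (g * g)⁻¹ = g * (g * t * g⁻¹) * g⁻¹ by group, hg.left, hg.right]
  have hgt : (1 : G) * t * 1⁻¹ = t := by group
  have hτH : τ ∈ H := by simpa using hσH 1 t hgt hxt
  set su := g * τ * g⁻¹ with hsu
  set sc := g * g * τ * (g * g)⁻¹ with hsc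
  have hsuH : su ∈ H := hσH g u hg.left hxu
  have hscH : sc ∈ H := hσH (g * g) (t * u) hgg (hxt.mul_right hxu)
  obtain ⟨hlu, hiu⟩ := conj_axis hle hinv g hg.left
  obtain ⟨hlc, hic⟩ := conj_axis hle hinv (g * g) hgg
  have hto : ∀ g' : G, orderOf (g' * τ * g'⁻¹) = r := fun g' => by
    rw [← MulAut.conj_apply, MulEquiv.orderOf_eq, hτo]
  have hpow : ∀ g' : G, (g' * τ * g'⁻¹) ^ r = 1 := fun g' => by
    nth_rewrite 1 [← hto g']
    exact pow_orderOf_eq_one _
  have hodd : ∀ g' : G, Odd (orderOf (g' * τ * g'⁻¹)) := fun g' =>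
    (hto g').symm ▸ hr.out.odd_of_ne_two hr2
  have htu : t * su * t⁻¹ = su⁻¹ := hiu t h.ha h.ne h.comm
  have htc : t * sc * t⁻¹ = sc⁻¹ := hic t h.ha h.left.ne h.left.comm
  by_cases hL : Cfsg.generalizedFittingSubgroup ↥H = Cfsg.fittingSubgroup ↥H
  · exfalso
    have hF : fitOf H ≤ Cent t := (fit_le_iff H _).2 fun q hq _ => by
      haveI := Fact.mk hq
      by_cases hd : q ∣ Nat.card ↥(Cfsg.fittingSubgroup ↥(Cent t))
      · exact coreP_le_cent hyp hM h.ha hx.1 hx1 hHle hd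
      intro k hk'
      have hK := coreP_inverted h.ha hx.1 hx1 hHle hd
      have h1 : Commute k u := mem_cent.1 (hlu (mem_cent.2 (mem_cent.1
        (commute_of_inverts (le_normalizer_coreP q H hsuH) (hodd g) htu hK hk'))))
      have h2 : Commute k (t * u) := mem_cent.1 (hlc (mem_cent.2 (mem_cent.1
        (commute_of_inverts (le_normalizer_coreP q H hscH) (hodd (g * g)) htc hK hk'))))
      have h3 := h2.mul_right h1
      rw [mul_assoc, sq_of_order hu, mul_one] at h3
      exact mem_cent.2 h3.eq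
    have hCH := cent_eq_of_fit_le hyp hM h.ha hH hx.1 hx1 hHle hL hF
    have h1 := CompInverted.eq_one_of_commute_inverted (hodd g) htu (mem_cent.1 (hCH.symm ▸ hsuH :))
    exact hτ1 (conj_eq_one_iff.1 h1)
  obtain ⟨E, hE, hEs, hEk, hC, hEL, hiff⟩ := structure_of_layer (hyp.subDihedral H) (hk H hH.1) hL
  haveI := hE
  haveI := hEs
  have hd := (hyp.subDihedral H).quotient_oddCore
  have htuH : t * u ∈ H := mul_mem htH huH
  have hmap : proj H ⟨t * u, htuH⟩ = proj H ⟨t, htH⟩ * proj H ⟨u, huH⟩ := by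
    rw [← map_mul]; rfl
  by_cases htE : proj H ⟨t, htH⟩ ∈ E <;> by_cases huE : proj H ⟨u, huH⟩ ∈ E
  · obtain ⟨g', -, hg', hfix⟩ := (hcl H hH.1 hL t u h
      (CompLocal.mem_layerOf hEL hiff (Subtype.ext (sq_of_order h.ha)) htE)
      (CompLocal.mem_layerOf hEL hiff (Subtype.ext (sq_of_order h.hb)) huE) (zpowers x)
      (by rw [Nat.card_zpowers]; exact odd_orderOf_fitCore hyp hx.1) (zpowers_le.2 (hmem (Commute.refl x)))
      (le_inf (zpowers_le.2 (mem_cent.2 hxt.eq)) (zpowers_le.2 hx.2))).resolve_right fun halt => by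
        have h1 : Commute τ u := halt τ hτH (hτo ▸ hr.out.odd_of_ne_two hr2)
          (mem_cent.1 (hle (mem_cent.2 rfl)))
        exact hτ1 (CompInverted.eq_one_of_commute_inverted (hτo ▸ hr.out.odd_of_ne_two hr2)
          (hinv u hu hut hc) h1)
    exact ⟨h, g', x, hg', hx, hx1, (hfix x (mem_zpowers x)).eq⟩
  · exact (tori_false hd hEk hC hEL hiff huH htH hsuH hτH hu h.ha huE htE hr.out hr2 (hpow g)
      (hτo ▸ pow_orderOf_eq_one τ) hlu hle htu (hinv u hu hut hc)).elim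
  · exact (tori_false hd hEk hC hEL hiff htH huH hτH hsuH h.ha hu htE huE hr.out hr2
      (hτo ▸ pow_orderOf_eq_one τ) (hpow g) hle hlu (hinv u hu hut hc) htu).elim
  · have hcE : proj H ⟨t * u, htuH⟩ ∈ E := hmap ▸ CompInverted.product_mem E hd hEk hC
      (mk_orderOf (a := (⟨t, htH⟩ : H)) (by rw [orderOf_mk]; exact h.ha))
      (mk_orderOf (a := (⟨u, huH⟩ : H)) (by rw [orderOf_mk]; exact h.hb)) htE huE
    exact (tori_false hd hEk hC hEL hiff htH htuH hτH hscH h.ha h.order_mul htE hcE hr.out hr2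
      (hτo ▸ pow_orderOf_eq_one τ) (hpow (g * g)) hle hlc
      (hinv _ h.order_mul h.mul_ne h.left.comm.symm) htc).elim

end CompEvery

open CompEvery in
/-- **Every reflection**: if no component configuration at `t` fixes a central element of `fitCore t`, one
of them gives `Central t τ`. -/
theorem exists_central (hyp : Hyp S t) (hk : ProperKnown G) (hcl : CycleLayer G) (hM : IsCoatom (Cent t))
    (hm : CompLocal.FixModel.{u}) {b : G} (hc : CompAt t b)
    (hone : ∀ u, CompAt t u → ∀ z ∈ qFix t u, (∀ f ∈ fitCore t, Commute z f) → z = 1) :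
    ∃ τ, Central t τ := by
  haveI := hyp.simple
  obtain ⟨r, hr, hr2, hQ⟩ := exists_prime hyp hk hcl hM hm hc (hone b hc)
  haveI := Fact.mk hr
  obtain ⟨g₀, y, -, hy, hy1, -⟩ := hc.ex
  obtain ⟨k, hky⟩ := hQ ⟨y, hy⟩
  have hyP : y ∈ coreP r (oCore t) := mem_coreP_of_pow hy.1 (congrArg Subtype.val hky : y ^ r ^ k = 1)
  obtain ⟨τ, hτo, hτP, hτc, hτn, p⟩ := exists_axis hyp hk hcl hM hm hc (hone b hc) hy hy1 hyP
  have hτF : τ ∈ fitCore t := map_mono (Components.pCore_le_fittingSubgroup hr) hτP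
  have hN : normalizer (zpowers τ : Set G) = Cent t := by
    refine (hM.le_iff.1 hτn).resolve_left fun e => ?_
    rcases (normalizer_eq_top_iff.1 e).eq_bot_or_eq_top with e' | e'
    · exact p.ne_τ (zpowers_eq_bot.1 e')
    · have hcyc : IsCyclic G := isCyclic_iff_exists_zpowers_eq_top.2 ⟨τ, e'⟩
      exact hyp.not_comm ⟨⟨fun v w => by let := IsCyclic.commGroup (α := G); exact mul_comm v w⟩⟩
  have hle : Cent τ ≤ Cent t := fun i hi =>
    hN ▸ mem_normalizer_zpowers_of_commute (mem_cent.1 hi)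
  have hinv : ∀ v : G, orderOf v = 2 → v ≠ t → Commute v t → v * τ * v⁻¹ = τ⁻¹ := fun v hv hvt hvc =>
    (commute_or_inverts hv (hτo ▸ hr)
      ((mem_normalizer_iff.1 (hτn (mem_cent.2 hvc.eq)) τ).1 (mem_zpowers τ))).resolve_left
      fun hcom => not_commute_refl hyp hk hM hm hr2 hone hτo hτP hyP hτc hle p hv hvt hvc hcom
  have hx : ∀ v : G, orderOf v = 2 → v ≠ t → Commute v t →
      ∃ x ∈ qFix t v, x ≠ 1 ∧ x ∈ coreP r (oCore t) := by
    intro v hv hvt hvc
    by_contra hno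
    push Not at hno
    have hinvP := inverts_of_inf_eq_bot hv (cent_le_normalizer_coreP r t (mem_cent.2 hvc.eq))
      ((Subgroup.eq_bot_iff_forall _).2 fun x hx => by_contra fun hx1 =>
        hno x ⟨map_mono (Components.pCore_le_fittingSubgroup hr) hx.1, hx.2⟩ hx1 hx.1)
    have hab : ∀ c ∈ coreP r (oCore t), ∀ d ∈ coreP r (oCore t), Commute c d := fun c hc' d hd => by
      have h1 : v * (c * d) * v⁻¹ = (v * c * v⁻¹) * (v * d * v⁻¹) := by group
      rw [hinvP _ (mul_mem hc' hd), hinvP c hc', hinvP d hd, ← mul_inv_rev, inv_inj] at h1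
      exact h1
    refine hy1 (hone b hc y hy fun f hf => ?_)
    exact (commute_of_pPart (M := oCore t) (Q := fitCore t) le_rfl hyP
      (fun d _ hdP => hab d hdP y hyP) f hf).symm
  have hxk : ∀ x ∈ coreP r (oCore t), ∃ k, x ^ r ^ k = 1 := fun x hx => by
    obtain ⟨k, hk'⟩ := isPGroup_coreP r (oCore t) ⟨x, hx⟩
    exact ⟨k, congrArg Subtype.val hk'⟩
  have hcomp : ∀ v : G, orderOf v = 2 → v ≠ t → Commute v t → CompAt t v := by
    intro v hv hvt hvc
    obtain ⟨x, hxQ, hx1, hxP⟩ := hx v hv hvt hvc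
    exact compAt_refl hyp hk hcl hM hr2 hτo hτn hle hinv hv hvt hvc hxQ hx1 (hxk x hxP)
  have hcyc : ∀ v : G, orderOf v = 2 → v ≠ t → Commute v t → FixedCycle t v := fun v hv hvt hvc =>
    exists_fixedCycle hyp hk hcl hM (hcomp v hv hvt hvc)
  refine ⟨τ,
    { prime := hτo ▸ hr
      mem := hτF
      comm := fun o ho => commute_of_cyclic hyp hcyc hτn ho (mem_zpowers τ)
      cent := hle
      cycle := hcyc
      inverts := hinv
      fixed_ne := fun v hv hvt hvc e => ?_
      pGroup := fun v hv hvt hvc => ?_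
      fixed_center := fun v hv hvt hvc => hone v (hcomp v hv hvt hvc) }⟩
  · obtain ⟨x, hxQ, hx1, -⟩ := hx v hv hvt hvc
    exact hx1 (mem_bot.1 (e ▸ hxQ))
  · obtain ⟨s, hs, -, hsQ⟩ := exists_prime hyp hk hcl hM hm (hcomp v hv hvt hvc)
      (hone v (hcomp v hv hvt hvc))
    obtain ⟨x, hxQ, hx1, hxP⟩ := hx v hv hvt hvc
    haveI := Fact.mk hs
    obtain ⟨i, hi⟩ := hsQ ⟨x, hxQ⟩
    have hi' : x ^ s ^ i = 1 := congrArg Subtype.val hi
    have hsr : s = r := by
      by_contra hne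
      exact hx1 (Balance.eq_one_of_mem_pGroup_of_coprime (isPGroup_coreP r (oCore t)) hxP
        (Nat.Coprime.coprime_dvd_left (orderOf_dvd_of_pow_eq_one hi')
          (((Nat.coprime_primes hs hr).2 hne).pow_left i)))
    rw [hτo, ← hsr]
    exact hsQ

end Cfsg.Agent.GW
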