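import Cfsg.Agent.Lib.GW.PartII.CompLocalModel
import Cfsg.Agent.Lib.GW.PartII.CompLocal
import Cfsg.Agent.Lib.AutPSL.FieldAut
import Cfsg.Agent.S2119
import Mathlib.NumberTheory.Multiplicity
import Mathlib.FieldTheory.Finite.Basic

/-!
# The model lemma of the component configuration

An `r`-element of a group with a known simple normal subgroup `E` (trivial centraliser) centralising a
four group of `E` and the part prime to `r` of the inverted torus is trivial (`eq_one_of_fix`): otherwise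
it would be a field automorphism fixing a subgroup of index `r` of the torus.
-/

set_option autoImplicit false
set_option linter.style.haveILetI false
set_option linter.unusedSectionVars false

namespace Cfsg.Agent.GW.CompModel

open Subgroup
open scoped MatrixGroups
open Cfsg.Agent.AutPSL (conjP fieldP)
open BSW (sq_of_order inv_of_order ne_one_of_order)

universe u

/-! ### Arithmetic on a cyclic group -/

/-- The arithmetic of an automorphism of order `r` of a cyclic group. -/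
theorem dvd_of_pow {n r : ℕ} (hr : r.Prime) (hr2 : r ≠ 2) {i : ℤ} (hn : (n : ℤ) ∣ i ^ r - 1)
    (h : ∀ l : ℕ, l.Prime → l ∣ n → l ≠ 2 → l ≠ r → (l : ℤ) ∣ i - 1) : (n : ℤ) ∣ r * (i - 1) := by
  haveI : Fact r.Prime := ⟨hr⟩
  have hone : ∀ l : ℕ, l.Prime → l ∣ n → (l : ℤ) ∣ i - 1 := by
    intro l hl hln
    by_cases h2 : l = 2
    · subst h2
      have h1 : (2 : ℤ) ∣ i ^ r - 1 := (Int.natCast_dvd_natCast.2 hln).trans hn
      have hodd : ¬ Even (i ^ r) := fun he => by
        obtain ⟨a, ha⟩ := he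
        obtain ⟨b, hb⟩ := h1
        omega
      rw [Int.even_pow' hr.ne_zero, Int.not_even_iff] at hodd
      omega
    by_cases hlr : l = r
    · subst hlr
      have h1 : (((i ^ l - 1 : ℤ)) : ZMod l) = 0 :=
        (ZMod.intCast_zmod_eq_zero_iff_dvd _ _).2 ((Int.natCast_dvd_natCast.2 hln).trans hn)
      rw [Int.cast_sub, Int.cast_pow, ZMod.pow_card, ← Int.cast_sub] at h1
      exact (ZMod.intCast_zmod_eq_zero_iff_dvd _ _).1 h1
    exact h l hl hln h2 hlr
  set S := ∑ j ∈ Finset.range r, i ^ j with hS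
  have hgeom : S * (i - 1) = i ^ r - 1 := geom_sum_mul i r
  have hmod : ∀ l : ℕ, (l : ℤ) ∣ i - 1 → (l : ℤ) ∣ S - r := by
    intro l hl
    have : S - (r : ℤ) = ∑ j ∈ Finset.range r, (i ^ j - 1) := by
      rw [Finset.sum_sub_distrib, ← hS]; simp
    rw [this]
    exact Finset.dvd_sum fun j _ => hl.trans (sub_one_dvd_pow_sub_one i j)
  set g := Int.gcd S n with hg
  have hgS : (g : ℤ) ∣ S := Int.gcd_dvd_left _ _
  have hgn : g ∣ n := Int.natCast_dvd_natCast.1 (Int.gcd_dvd_right _ _)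
  have hg0 : g ≠ 0 := by
    intro h0
    rw [hg, Int.gcd_eq_zero_iff] at h0
    have hn0 : n = 0 := by exact_mod_cast h0.2
    have := hone 2 Nat.prime_two (hn0 ▸ dvd_zero _)
    have := hmod 2 this
    rw [h0.1, zero_sub, dvd_neg] at this
    exact hr2 ((Nat.prime_dvd_prime_iff_eq Nat.prime_two hr).1 (Int.natCast_dvd_natCast.1 this)).symm
  have hprimes : ∀ l : ℕ, l.Prime → l ∣ g → l = r := by
    intro l hl hlg
    have h1 : (l : ℤ) ∣ S := (Int.natCast_dvd_natCast.2 hlg).trans hgS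
    have h2 := dvd_sub h1 (hmod l (hone l hl (hlg.trans hgn)))
    rw [sub_sub_cancel] at h2
    exact (Nat.prime_dvd_prime_iff_eq hl hr).1 (Int.natCast_dvd_natCast.1 h2)
  have hgr : g ∣ r := by
    have he := Nat.eq_prime_pow_of_unique_prime_dvd hg0 fun {d} => hprimes d
    rcases hk : g.primeFactorsList.length with _ | _ | k
    · rw [he, hk, pow_zero]; exact one_dvd r
    · rw [he, hk, pow_one]
    · exfalso
      rw [hk] at he
      have h2 : r ^ 2 ∣ g := he ▸ pow_dvd_pow r (by omega)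
      obtain ⟨b, hb⟩ := hone r hr ((dvd_pow_self r two_ne_zero).trans (h2.trans hgn))
      have h3 := odd_sq_dvd_geom_sum₂_sub (R := ℤ) 1 b (hr.odd_of_ne_two hr2)
      simp only [one_pow, mul_one] at h3
      rw [← hb, add_sub_cancel, ← hS] at h3
      have h4 := dvd_sub ((Int.natCast_dvd_natCast.2 h2).trans hgS) (show ((r ^ 2 : ℕ) : ℤ) ∣ S - r by
        push_cast; exact h3)
      rw [sub_sub_cancel] at h4
      have h5 := Nat.le_of_dvd hr.pos (Int.natCast_dvd_natCast.1 h4)
      nlinarith [hr.two_le]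
  have key : (n : ℤ) ∣ (g : ℤ) * (i - 1) := by
    rw [hg, Int.gcd_eq_gcd_ab S n, add_mul, mul_right_comm S, mul_assoc (n : ℤ), hgeom]
    exact dvd_add (hn.mul_right _) (dvd_mul_right _ _)
  exact key.trans (mul_dvd_mul_right (Int.natCast_dvd_natCast.2 hgr) _)

/-- An automorphism of order `r` of a cyclic group fixing the elements of prime order `≠ r, 2` fixes the
`r`-th powers. -/
theorem map_pow_eq {Y : Type*} [Group Y] [Finite Y] (β : MulAut Y) {ρ : Y} {r : ℕ} (hr : r.Prime) (hr2 : r ≠ 2)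
    {i : ℤ} (hi : β ρ = ρ ^ i) (hpow : β ^ r = 1)
    (h : ∀ l : ℕ, l.Prime → l ∣ orderOf ρ → l ≠ 2 → l ≠ r →
      β (ρ ^ (orderOf ρ / l)) = ρ ^ (orderOf ρ / l)) : β (ρ ^ r) = ρ ^ r := by
  have hit : ∀ k : ℕ, (β ^ k) ρ = ρ ^ (i ^ k) := by
    intro k
    induction k with
    | zero => simp
    | succ k ih => rw [pow_succ' β, MulAut.mul_apply, ih, map_zpow, hi, ← zpow_mul, ← pow_succ']
  have hn : (orderOf ρ : ℤ) ∣ i ^ r - 1 := by
    rw [orderOf_dvd_iff_zpow_eq_one, zpow_sub, ← hit, hpow, MulAut.one_apply, zpow_one, mul_inv_cancel]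
  have hkey := dvd_of_pow hr hr2 hn fun l hl hln h2 hlr => by
    have h1 : ρ ^ ((i - 1) * (orderOf ρ / l : ℕ)) = 1 := by
      have := h l hl hln h2 hlr
      rw [map_pow, hi, ← zpow_natCast, ← zpow_mul, ← zpow_natCast ρ] at this
      rw [sub_mul, one_mul, zpow_sub, this, mul_inv_cancel]
    have hd := orderOf_dvd_iff_zpow_eq_one.2 h1
    obtain ⟨c, hc⟩ := hln
    rw [hc, Nat.mul_div_cancel_left c hl.pos, Nat.cast_mul] at hd
    have hc0 : c ≠ 0 := by
      rintro rfl
      have := orderOf_pos ρ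
      rw [hc, mul_zero] at this
      exact lt_irrefl 0 this
    exact Int.dvd_of_mul_dvd_mul_right (by exact_mod_cast hc0) hd
  rw [map_pow, hi, ← zpow_natCast, ← zpow_mul, ← zpow_natCast ρ, ← mul_inv_eq_one, ← zpow_neg,
    ← zpow_add, ← orderOf_dvd_iff_zpow_eq_one]
  rwa [show i * (r : ℤ) + -(r : ℤ) = r * (i - 1) by ring]

/-! ### Elements fixed by a field automorphism -/

theorem mul_self_sl {K : Type*} [Field K] (s : SL(2, K)) :
    (s : Matrix (Fin 2) (Fin 2) K) * (s : Matrix (Fin 2) (Fin 2) K) =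
      PSL2.tr s • (s : Matrix (Fin 2) (Fin 2) K) - 1 := by
  have hd := PSL2.det_eq s
  ext i j
  fin_cases i <;> fin_cases j <;> simp [Matrix.mul_apply, Fin.sum_univ_two, PSL2.tr_def] <;>
    first | ring1 | linear_combination -hd

section Field

variable {F : Type} [Field F] [Fintype F]

local notation "L₂" => Matrix.ProjectiveSpecialLinearGroup (Fin 2) F

/-- An element of even order fixed by a field automorphism has order at most `(q₀+1)/2`. -/
theorem orderOf_le_of_fixed (h2 : (2 : F) ≠ 0) (σ : F ≃+* F) (hσ : Odd (orderOf σ)) {W : L₂}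
    (hW : (fieldP σ : MulAut L₂) W = W) (heven : 2 ∣ orderOf W) :
    2 * orderOf W ≤ Nat.card (FieldExt.fixedField σ) + 1 := by
  classical
  obtain ⟨w, rfl⟩ := PSL2.mk_surjective W
  set t := PSL2.tr w with ht
  have htσ : σ t = t := by
    have hW' : PSL2.mk (AutPSL.fieldSL σ w) = PSL2.mk w := hW
    have htr : PSL2.tr (AutPSL.fieldSL σ w) = σ t := by
      rw [ht, PSL2.tr_def, PSL2.tr_def, map_add]
      rfl
    rcases PSL2.mk_eq_mk.1 hW' with e | e
    · rw [← htr, e]
    · have hneg : σ t = -t := by rw [← htr, e, PSL2.tr_neg]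
      have hit : ∀ k : ℕ, (σ ^ k) t = (-1) ^ k * t := by
        intro k
        induction k with
        | zero => simp
        | succ k ih =>
          rw [pow_succ', show (σ * σ ^ k) t = σ ((σ ^ k) t) from rfl, ih, map_mul, map_pow, map_neg,
            map_one, hneg]
          ring
      have h0 := hit (orderOf σ)
      rw [pow_orderOf_eq_one, hσ.neg_one_pow, show (1 : F ≃+* F) t = t from rfl] at h0
      have : t = 0 := (mul_eq_zero.1 (show (2 : F) * t = 0 by linear_combination h0)).resolve_left h2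
      rw [this, map_zero]
  let F₀ := FieldExt.fixedField σ
  let t₀ : F₀ := ⟨t, FieldExt.mem_fixedField.2 htσ⟩
  let w₀ : SL(2, F₀) := ⟨!![0, -1; 1, t₀], by simp [Matrix.det_fin_two]⟩
  have htr₀ : PSL2.tr w₀ = t₀ := by
    rw [PSL2.tr_eq_trace]
    show Matrix.trace !![0, -1; 1, t₀] = t₀
    simp [Matrix.trace_fin_two]
  have hrec : ∀ k : ℕ, ∃ α β : F₀,
      ((w₀ ^ k : SL(2, F₀)) : Matrix (Fin 2) (Fin 2) F₀) = α • (w₀ : Matrix (Fin 2) (Fin 2) F₀) + β • 1 ∧
      ((w ^ k : SL(2, F)) : Matrix (Fin 2) (Fin 2) F) =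
        (α : F) • (w : Matrix (Fin 2) (Fin 2) F) + (β : F) • 1 := by
    intro k
    induction k with
    | zero => exact ⟨0, 1, by simp, by simp⟩
    | succ k ih =>
      obtain ⟨α, β, e₀, e⟩ := ih
      refine ⟨α * t₀ + β, -α, ?_, ?_⟩
      · rw [pow_succ, Matrix.SpecialLinearGroup.coe_mul, e₀, add_mul, smul_mul_assoc, mul_self_sl, htr₀,
          smul_mul_assoc, one_mul]
        module
      · rw [pow_succ, Matrix.SpecialLinearGroup.coe_mul, e, add_mul, smul_mul_assoc, mul_self_sl, ← ht,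
          smul_mul_assoc, one_mul]
        push_cast
        show ((α : F) • (t • (w : Matrix (Fin 2) (Fin 2) F) - 1)) + (β : F) • (w : Matrix (Fin 2) (Fin 2) F) =
          ((α : F) * t + (β : F)) • (w : Matrix (Fin 2) (Fin 2) F) + (-(α : F)) • 1
        module
  obtain ⟨α, β, e₀, e⟩ := hrec (orderOf (PSL2.mk w₀))
  have hdvd : orderOf (PSL2.mk w) ∣ orderOf (PSL2.mk w₀) := by
    have h1 : PSL2.mk (w₀ ^ orderOf (PSL2.mk w₀)) = 1 := by rw [map_pow, pow_orderOf_eq_one]
    refine orderOf_dvd_of_pow_eq_one ?_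
    rw [← map_pow]
    refine PSL2.mk_eq_one.2 ?_
    rcases PSL2.mk_eq_one.1 h1 with hh | hh <;> rw [hh] at e₀
    · have a0 := congrFun (congrFun e₀ 1) 0
      have b0 := congrFun (congrFun e₀ 0) 0
      simp [w₀] at a0 b0
      exact Or.inl (Subtype.ext (by rw [e, ← a0, ← b0]; simp))
    · have a0 := congrFun (congrFun e₀ 1) 0
      have b0 := congrFun (congrFun e₀ 0) 0
      simp [w₀] at a0 b0
      exact Or.inr (Subtype.ext (by rw [e, ← a0, ← b0]; simp))
  haveI : Fintype F₀ := Fintype.ofFinite _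
  obtain ⟨p, hp⟩ := CharP.exists F₀
  haveI := Fact.mk (CharP.char_is_prime F₀ p)
  have h20 : (2 : F₀) ≠ 0 := fun h => h2 (by
    have := congrArg (F₀.subtype) h
    rwa [map_ofNat, map_zero] at this)
  obtain ⟨j, hj⟩ := PSL2.odd_card_iff.2 h20
  have hgcd : Nat.gcd 2 (Fintype.card F₀ - 1) = 2 := Nat.gcd_eq_left ⟨j, by omega⟩
  have hj1 := Fintype.one_lt_card (α := F₀)
  rw [show Nat.card (FieldExt.fixedField σ) = Fintype.card F₀ from Nat.card_eq_fintype_card]
  rcases PSL2.psl_orderOf_dvd p (PSL2.mk w₀) with h | h | h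
  · exfalso
    have : 2 = p := (Nat.prime_dvd_prime_iff_eq Nat.prime_two Fact.out).1 (heven.trans (hdvd.trans h))
    subst this
    exact h20 (by exact_mod_cast CharP.cast_eq_zero F₀ 2)
  · have := Nat.le_of_dvd (by rw [hgcd]; omega) (hdvd.trans h)
    rw [hgcd] at this
    omega
  · have := Nat.le_of_dvd (by rw [hgcd]; omega) (hdvd.trans h)
    rw [hgcd] at this
    omega

theorem growth {a r : ℕ} (ha : 3 ≤ a) (hr : 3 ≤ r) : r * (a + 1) + 1 < a ^ r := by
  induction r, hr using Nat.le_induction with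
  | base =>
    have h9 : 9 * a ≤ a ^ 3 := by
      rw [show a ^ 3 = a * a * a by ring]
      exact Nat.mul_le_mul_right a (Nat.mul_le_mul ha ha)
    omega
  | succ r hr ih =>
    have h3 : 3 * a ^ r ≤ a ^ (r + 1) := by
      rw [pow_succ, mul_comm]; exact Nat.mul_le_mul_left _ ha
    have : a + 1 ≤ r * (a + 1) := Nat.le_mul_of_pos_left _ (by omega)
    rw [add_mul, one_mul]
    omega

/-- The rotations in the centraliser of an involution `A`, inverted by a commuting involution `B`. -/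
theorem exists_rot (h2 : (2 : F) ≠ 0) {A B T : L₂} (hA : orderOf A = 2) (hT1 : T ≠ 1)
    (hTo : Odd (orderOf T)) (hTA : Commute T A) (hBA : Commute B A) (hBT : B * T * B⁻¹ = T⁻¹) :
    ∃ ρ : L₂, 2 ∣ orderOf ρ ∧ 3 ≤ orderOf ρ ∧ Fintype.card F ≤ 2 * orderOf ρ + 1 ∧ Commute ρ A ∧
      B * ρ * B⁻¹ = ρ⁻¹ ∧ ∀ x, Commute x A → orderOf x ≠ 2 → x ∈ zpowers ρ := by
  obtain ⟨n, hn, ⟨eC⟩⟩ := PSL2.dihedral_centralizer_involution h2 hA
  have hodd := PSL2.odd_card_iff.2 h2
  obtain ⟨j, hj⟩ := hodd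
  have h1 := Fintype.one_lt_card (α := F)
  haveI : NeZero n := ⟨by omega⟩
  have hrot : ∀ y : DihedralGroup n, orderOf y ≠ 2 → y ∈ zpowers (DihedralGroup.r 1 : DihedralGroup n) := by
    intro y hy
    rcases y with i | i
    · refine ⟨(i.val : ℤ), ?_⟩
      show DihedralGroup.r 1 ^ (i.val : ℤ) = _
      rw [DihedralGroup.r_one_zpow, Int.cast_natCast, ZMod.natCast_zmod_val]
    · exact absurd (DihedralGroup.orderOf_sr i) hy
  set R : centralizer ({A} : Set L₂) := eC.symm (DihedralGroup.r 1) with hR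
  have hRo : orderOf (R : L₂) = n := by
    rw [orderOf_coe, hR, MulEquiv.orderOf_eq, DihedralGroup.orderOf_r_one]
  have hmem : ∀ x, Commute x A → orderOf x ≠ 2 → x ∈ zpowers (R : L₂) := by
    intro x hx hxo
    obtain ⟨z, hz⟩ := hrot (eC ⟨x, mem_centralizer_singleton_iff.2 hx.eq⟩)
      (by rwa [MulEquiv.orderOf_eq, Subgroup.orderOf_mk])
    refine ⟨z, ?_⟩
    have := congrArg (fun y => ((eC.symm y : centralizer ({A} : Set L₂)) : L₂)) hz
    simpa only [map_zpow, SubgroupClass.coe_zpow, MulEquiv.symm_apply_apply] using this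
  have hRA : Commute (R : L₂) A := mem_centralizer_singleton_iff.1 R.2
  have hT := hmem T hTA (fun h => by rw [h] at hTo; exact absurd hTo (by decide))
  have hn3 : 3 ≤ n := by
    obtain ⟨z, hz⟩ := hT
    have hd : orderOf T ∣ n := by
      rw [← hRo, ← Nat.card_zpowers (R : L₂), ← hz]
      exact Subgroup.orderOf_dvd_natCard _ ⟨z, rfl⟩
    have := Nat.le_of_dvd (by omega) hd
    obtain ⟨i, hi⟩ := hTo
    have : orderOf T ≠ 1 := fun h => hT1 (orderOf_eq_one_iff.1 h)
    omega
  refine ⟨R, ?_, by omega, by omega, hRA, ?_, hmem⟩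
  · rw [hRo]; omega
  · -- `B` is a reflection
    set b := eC ⟨B, mem_centralizer_singleton_iff.2 hBA.eq⟩ with hb
    obtain ⟨i, hi⟩ : ∃ i, b = DihedralGroup.sr i := by
      rcases hb' : b with i | i
      · exfalso
        have hc : Commute B T := by
          obtain ⟨z, rfl⟩ := hT
          refine Commute.zpow_right ?_ z
          have : Commute b (DihedralGroup.r 1) := by
            rw [hb']; show _ * _ = _ * _; rw [DihedralGroup.r_mul_r, DihedralGroup.r_mul_r, add_comm]
          have h' := (this.map eC.symm.toMonoidHom).map (centralizer ({A} : Set L₂)).subtype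
          simpa [hb, hR] using h'
        rw [hc.eq, mul_inv_cancel_right] at hBT
        exact hT1 (CompInverted.eq_one_of_commute_inverted (a := B) hTo
          (by rw [hc.eq, mul_inv_cancel_right]; exact hBT) hc.symm)
      · exact ⟨i, rfl⟩
    have hd : b * DihedralGroup.r 1 * b⁻¹ = (DihedralGroup.r 1)⁻¹ := by
      rw [hi]; simp
    have h' := congrArg (fun y => ((eC.symm y : centralizer ({A} : Set L₂)) : L₂)) hd
    simpa only [hb, hR, map_mul, map_inv, Subgroup.coe_mul, Subgroup.coe_inv, MulEquiv.symm_apply_apply]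
      using h'

/-- No field automorphism of order `r`. -/
theorem false_of_field (h2 : (2 : F) ≠ 0) {r : ℕ} (hr : r.Prime) (hr2 : r ≠ 2) {σ : F ≃+* F}
    (hσ : orderOf σ = r) {A B T : L₂} (hA : orderOf A = 2) (hT1 : T ≠ 1)
    (hTo : Odd (orderOf T)) (hTA : Commute T A) (hBA : Commute B A) (hBT : B * T * B⁻¹ = T⁻¹)
    (hfA : (fieldP σ : MulAut L₂) A = A)
    (hfix : ∀ x : L₂, Odd (orderOf x) → (orderOf x).Coprime r → Commute x A → B * x * B⁻¹ = x⁻¹ →
      (fieldP σ : MulAut L₂) x = x) : False := by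
  obtain ⟨ρ, hρ2, hρ3, hq, hρA, hBρ, hmem⟩ := exists_rot h2 hA hT1 hTo hTA hBA hBT
  set β : MulAut L₂ := fieldP σ with hβ
  have hβr : β ^ r = 1 := by
    have h := AutPSL.conjP_mul_fieldP_pow (m := 1) σ (1 : GL (Fin 2) F) r
    rw [map_one, one_mul, ← hσ, pow_orderOf_eq_one, AutPSL.fieldP_one, mul_one, hσ] at h
    have hone : ∀ k, FieldExt.twistNorm σ (1 : GL (Fin 2) F) k = 1 := by
      intro k
      induction k with
      | zero => rfl
      | succ k ih => rw [FieldExt.twistNorm_succ, ih, map_one, mul_one]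
    rwa [hone, map_one] at h
  obtain ⟨i, hi⟩ := hmem (β ρ) (by
    have := hρA.map β.toMonoidHom
    rwa [show β.toMonoidHom A = A from hfA] at this) (by rw [MulEquiv.orderOf_eq]; omega)
  have hW : β (ρ ^ r) = ρ ^ r := by
    refine map_pow_eq β hr hr2 hi.symm hβr fun l hl hln hl2 hlr => hfix _ ?_ ?_ (hρA.pow_left _) ?_
    · rw [orderOf_pow_orderOf_div (orderOf_pos ρ).ne' hln]
      exact hl.odd_of_ne_two hl2
    · rw [orderOf_pow_orderOf_div (orderOf_pos ρ).ne' hln]
      exact (Nat.coprime_primes hl hr).2 hlr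
    · rw [← conj_pow, hBρ, inv_pow]
  have hdvd : orderOf ρ ∣ r * orderOf (ρ ^ r) :=
    orderOf_dvd_of_pow_eq_one (by rw [pow_mul, pow_orderOf_eq_one])
  have heven : 2 ∣ orderOf (ρ ^ r) :=
    (Nat.prime_two.dvd_mul.1 (hρ2.trans hdvd)).resolve_left fun h =>
      hr2 ((Nat.prime_dvd_prime_iff_eq Nat.prime_two hr).1 h).symm
  have hle := orderOf_le_of_fixed h2 σ (hσ ▸ hr.odd_of_ne_two hr2) hW heven
  have hle2 := Nat.le_of_dvd (Nat.mul_pos hr.pos (orderOf_pos _)) hdvd
  have hcard := FieldExt.card_fixedField_pow σ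
  rw [hσ] at hcard
  set a := Nat.card (FieldExt.fixedField σ)
  have ha1 : 3 ≤ a := by
    by_contra ha
    have : a = 0 ∨ a = 1 ∨ a = 2 := by omega
    rcases this with rfl' | rfl' | rfl' <;> rw [rfl'] at hcard
    · rw [zero_pow hr.ne_zero] at hcard; exact Fintype.card_ne_zero hcard.symm
    · rw [one_pow] at hcard; exact absurd (Fintype.one_lt_card (α := F)) (by omega)
    · obtain ⟨j, hj⟩ := PSL2.odd_card_iff.2 h2
      have : 2 ∣ Fintype.card F := hcard ▸ dvd_pow_self 2 hr.ne_zero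
      omega
  have := growth ha1 (show 3 ≤ r by have := hr.two_le; omega)
  nlinarith

end Field

/-! ### The model lemma -/

variable {X : Type u} [Group X] [Finite X]

/-- The odd elements of `A₇` centralising an involution. -/
theorem alt_case (hd : SubDihedral X) (E : Subgroup X) [E.Normal] [IsSimpleGroup E] (hk : IsKnown E)
    (e : E ≃* alternatingGroup (Fin 7)) (A : E) (hA : orderOf A = 2) {Z T : E} (hZ1 : Z ≠ 1)
    (hZo : Odd (orderOf Z)) (hZA : Commute Z A) (hTo : Odd (orderOf T)) (hTA : Commute T A) :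
    T ∈ zpowers Z := by
  let t₀ : alternatingGroup (Fin 7) := ⟨Equiv.swap 0 1 * Equiv.swap 2 3,
    Equiv.Perm.mem_alternatingGroup.2 (by decide)⟩
  let c₀ : alternatingGroup (Fin 7) := ⟨Equiv.swap 4 5 * Equiv.swap 5 6,
    Equiv.Perm.mem_alternatingGroup.2 (by decide)⟩
  have hc3 : orderOf c₀ = 3 := orderOf_eq_prime (Subtype.ext (by decide))
    fun h => absurd (congrArg Subtype.val h) (by decide)
  have ht : orderOf (e.symm t₀) = 2 := by
    rw [MulEquiv.orderOf_eq]
    exact orderOf_eq_prime (by rw [pow_two]; exact Subtype.ext (by decide))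
      fun h => absurd (congrArg Subtype.val h) (by decide)
  obtain ⟨w, hw⟩ := isConj_iff.1
    (isConj_invol_of_simple (hd.subgroup E) hk.not_comm hk.even_card hA ht)
  let ψ : E ≃* alternatingGroup (Fin 7) := (MulAut.conj w).trans e
  have hmem : ∀ x : E, Odd (orderOf x) → Commute x A → ψ x ∈ zpowers c₀ := by
    intro x hx hc
    have hc' : Commute (ψ x) t₀ := by
      have h1 := hc.map ψ
      rwa [show ψ A = t₀ by show e (w * A * w⁻¹) = t₀; rw [hw, e.apply_symm_apply]] at h1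
    obtain ⟨z, hz⟩ := mem_zpowers_iff.1 (CompLocal.alt_seven_odd
      (k := ((ψ x : alternatingGroup (Fin 7)) : Equiv.Perm (Fin 7)))
      (by rwa [orderOf_coe, MulEquiv.orderOf_eq]) (congrArg Subtype.val hc'.eq))
    exact ⟨z, Subtype.ext hz⟩
  have hgen : zpowers (ψ Z) = zpowers c₀ := by
    refine Subgroup.eq_of_le_of_card_ge (zpowers_le.2 (hmem Z hZo hZA)) ?_
    rw [Nat.card_zpowers, Nat.card_zpowers, hc3]
    have hne : orderOf (ψ Z) ≠ 1 := fun h => hZ1 (by
      rw [orderOf_eq_one_iff, MulEquiv.map_eq_one_iff] at h; exact h)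
    have hd' : orderOf (ψ Z) ∣ 3 := by
      rw [← hc3]
      exact Subgroup.orderOf_dvd_natCard _ (hmem Z hZo hZA) |>.trans (Nat.card_zpowers c₀).dvd
    rcases (Nat.dvd_prime Nat.prime_three).1 hd' with h | h <;> omega
  obtain ⟨z, hz⟩ := mem_zpowers_iff.1 (hgen ▸ hmem T hTo hTA : ψ T ∈ zpowers (ψ Z))
  exact ⟨z, ψ.injective (by rw [map_zpow]; exact hz)⟩

/-- **The model lemma**. -/
theorem eq_one_of_fix (hd : SubDihedral X) (E : Subgroup X) [E.Normal] [IsSimpleGroup E]
    (hk : IsKnown E) (hC : centralizer (E : Set X) = ⊥) {a b τ z : X} (h : Pair a b) (haE : a ∈ E)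
    (hbE : b ∈ E) (hτ : τ ∈ E) (hτ1 : τ ≠ 1) (hτo : Odd (orderOf τ)) (hτa : Commute τ a)
    (hτb : b * τ * b⁻¹ = τ⁻¹) {r : ℕ} (hr : r.Prime) (hr2 : r ≠ 2) (hz : ∃ k, z ^ r ^ k = 1)
    (hza : Commute z a) (hzb : Commute z b)
    (hfix : ∀ x ∈ E, Odd (orderOf x) → (orderOf x).Coprime r → Commute x a → b * x * b⁻¹ = x⁻¹ →
      Commute z x) : z = 1 := by
  classical
  by_contra hz1
  obtain ⟨k, hk'⟩ := hz
  obtain ⟨i, -, hi⟩ := (Nat.dvd_prime_pow hr).1 (orderOf_dvd_of_pow_eq_one hk')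
  obtain ⟨i, rfl⟩ : ∃ j, i = j + 1 := Nat.exists_eq_succ_of_ne_zero fun h0 =>
    hz1 (orderOf_eq_one_iff.1 (by rw [hi, h0, pow_zero]))
  set y := z ^ r ^ i with hy
  have hyr : orderOf y = r := by
    rw [hy, orderOf_pow_of_dvd (pow_ne_zero _ hr.ne_zero) (hi ▸ pow_dvd_pow r (by omega)), hi, pow_succ,
      Nat.mul_div_cancel_left _ (pow_pos hr.pos _)]
  have hyo : Odd (orderOf y) := hyr ▸ hr.odd_of_ne_two hr2
  have hy1 : y ≠ 1 := fun h1 => by rw [h1, orderOf_one] at hyr; exact hr.ne_one hyr.symm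
  have hya : Commute y a := hza.pow_left _
  have hyb : Commute y b := hzb.pow_left _
  let A : E := ⟨a, haE⟩
  let B : E := ⟨b, hbE⟩
  let T : E := ⟨τ, hτ⟩
  have hA : orderOf A = 2 := (Subgroup.orderOf_mk a haE).trans h.ha
  have hTo : Odd (orderOf T) := by rwa [Subgroup.orderOf_mk]
  have hT1 : T ≠ 1 := fun e1 => hτ1 (congrArg Subtype.val e1)
  have hTA : Commute T A := Subtype.ext hτa.eq
  have hBA : Commute B A := Subtype.ext h.comm.symm
  have hBT : B * T * B⁻¹ = T⁻¹ := Subtype.ext hτb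
  have hinner : ∀ hyE : y ∈ E, (⟨y, hyE⟩ : E) ≠ 1 ∧ Odd (orderOf (⟨y, hyE⟩ : E)) ∧
      Commute (⟨y, hyE⟩ : E) A ∧ Commute (⟨y, hyE⟩ : E) B := fun hyE =>
    ⟨fun e1 => hy1 (congrArg Subtype.val e1), by rwa [Subgroup.orderOf_mk], Subtype.ext hya.eq,
      Subtype.ext hyb.eq⟩
  rcases id hk with ⟨F, _, _, hodd, h3, ⟨e⟩⟩ | ⟨⟨e⟩⟩
  · have h2 : (2 : F) ≠ 0 := PSL2.odd_card_iff.1 hodd
    set β : MulAut (Matrix.ProjectiveSpecialLinearGroup (Fin 2) F) :=
      MulAut.congr e (MulAut.conjNormal y : MulAut E) with hβ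
    have hβr : β ^ r = 1 := by
      rw [hβ, ← map_pow, ← map_pow, ← hyr, pow_orderOf_eq_one, map_one, map_one]
    have hβx : ∀ x : E, Commute y (x : X) → β (e x) = e x := by
      intro x hx
      show e ((MulAut.conjNormal y : MulAut E) (e.symm (e x))) = e x
      rw [e.symm_apply_apply]
      refine congrArg e (Subtype.ext ?_)
      rw [MulAut.conjNormal_apply, hx.eq, mul_inv_cancel_right]
    by_cases hyE : y ∈ E
    · obtain ⟨hne, ho, cA, cB⟩ := hinner hyE
      obtain ⟨ρ, -, -, -, -, hBρ, hmem⟩ := exists_rot h2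
        (A := e A) (B := e B) (T := e T) (by rw [MulEquiv.orderOf_eq, hA])
        (by rw [ne_eq, MulEquiv.map_eq_one_iff]; exact hT1) (by rwa [MulEquiv.orderOf_eq])
        (hTA.map e) (hBA.map e) (by rw [← map_inv, ← map_mul, ← map_mul, hBT, map_inv])
      obtain ⟨j, hj⟩ := hmem (e ⟨y, hyE⟩) (cA.map e)
        (fun h2' => by rw [MulEquiv.orderOf_eq] at h2'; rw [h2'] at ho; exact absurd ho (by decide))
      refine hne (e.map_eq_one_iff.1 (CompInverted.eq_one_of_commute_inverted (a := e B)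
        (by rwa [MulEquiv.orderOf_eq]) ?_ (cB.map e)))
      rw [← hj, ← conj_zpow, hBρ, inv_zpow]
    have hcop : (orderOf β).Coprime 2 := Nat.coprime_two_right.2
      ((hr.odd_of_ne_two hr2).of_dvd_nat (orderOf_dvd_of_pow_eq_one hβr))
    obtain ⟨g, σ, hg⟩ := LocalBalance.exists_semilinear_of_odd (m := 1) le_rfl hcop
    have hgr := hβr
    rw [hg, AutPSL.conjP_mul_fieldP_pow] at hgr
    obtain ⟨hσr, -⟩ := LocalBalance.eq_one_semilinear le_rfl hgr
    rcases (Nat.dvd_prime hr).1 (orderOf_dvd_of_pow_eq_one hσr) with hσ | hσ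
    · rw [orderOf_eq_one_iff.1 hσ, AutPSL.fieldP_one, mul_one] at hg
      have hp : conjP (g ^ r) = (1 : MulAut (Matrix.ProjectiveSpecialLinearGroup (Fin 2) F)) := by
        rw [map_pow, ← hg, hβr]
      obtain ⟨c, hc⟩ := (AutPSL.conjP_eq_one_iff le_rfl _).1 hp
      obtain ⟨j, hj⟩ := hr.odd_of_ne_two hr2
      have hdet : g.val.det ^ r = (c : F) * c := by
        have := congrArg (fun M : GL (Fin 2) F => M.val.det) hc
        simpa [Units.val_pow_eq_pow_val, Matrix.det_pow, Matrix.GeneralLinearGroup.coe_scalar,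
          Fin.prod_univ_two, ← pow_two] using this
      have hd0 : g.val.det ≠ 0 := ((Matrix.isUnit_iff_isUnit_det _).1 g.isUnit).ne_zero
      obtain ⟨x, hx⟩ := OuterCirc.conjP_inner_of_sq g ⟨(c : F) / g.val.det ^ j, by
        rw [div_mul_div_comm, ← hdet, hj, eq_div_iff (mul_ne_zero (pow_ne_zero _ hd0) (pow_ne_zero _ hd0))]
        ring⟩
      exact hyE (CompInverted.mem_of_conj E hC e (x := x) (by rw [← hβ, hg, hx]))
    obtain ⟨m, hm⟩ := AutPSL.lang_field (m := 1) le_rfl σ hσ g (by rw [← hg, hβr])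
    rw [← hg] at hm
    set α : MulAut (Matrix.ProjectiveSpecialLinearGroup (Fin 2) F) := conjP m
    let e' : E ≃* Matrix.ProjectiveSpecialLinearGroup (Fin 2) F := e.trans α⁻¹
    have he' : ∀ x : E, Commute y (x : X) → (fieldP σ : MulAut _) (e' x) = e' x := by
      intro x hx
      have h1 := congrArg (α⁻¹ : MulAut _) (hβx x hx)
      rw [hm] at h1
      simpa [e', MulAut.mul_apply] using h1
    refine false_of_field h2 hr hr2 hσ (A := e' A) (B := e' B) (T := e' T)
      (by rw [MulEquiv.orderOf_eq, hA]) (by rw [ne_eq, MulEquiv.map_eq_one_iff]; exact hT1)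
      (by rwa [MulEquiv.orderOf_eq]) (hTA.map e') (hBA.map e')
      (by rw [← map_inv, ← map_mul, ← map_mul, hBT, map_inv]) (he' A hya) ?_
    intro x hxo hxc hxA hxB
    obtain ⟨x, rfl⟩ := e'.surjective x
    rw [MulEquiv.orderOf_eq] at hxo hxc
    rw [← map_inv, ← map_mul, ← map_mul, ← map_inv] at hxB
    refine he' x ((hfix x x.2 ?_ ?_ ?_ ?_).pow_left _)
    · rwa [orderOf_coe]
    · rwa [orderOf_coe]
    · exact congrArg Subtype.val (show x * A = A * x from e'.injective (by
        rw [map_mul, map_mul]; exact hxA.eq))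
    · exact congrArg Subtype.val (e'.injective hxB)
  · have hyE : y ∈ E := by
      have hb := Cfsg.Agent.S2119.result 7 (by omega) (by omega)
      obtain ⟨π, hπ⟩ := hb.2 (MulAut.congr e (MulAut.conjNormal y : MulAut E))
      have hπr : π ^ r = 1 := hb.1 (by
        rw [map_pow, hπ, map_one, ← map_pow, ← map_pow, ← hyr, pow_orderOf_eq_one, map_one, map_one])
      have hsign : Equiv.Perm.sign π = 1 := by
        have := congrArg Equiv.Perm.sign hπr
        rw [map_pow, map_one] at this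
        rcases Int.units_eq_one_or (Equiv.Perm.sign π) with h1 | h1
        · exact h1
        · rw [h1, (hr.odd_of_ne_two hr2).neg_one_pow] at this; exact absurd this (by decide)
      refine CompInverted.mem_of_conj E hC e (x := ⟨π, Equiv.Perm.mem_alternatingGroup.2 hsign⟩) ?_
      rw [← hπ]
      refine MulEquiv.ext fun w => Subtype.ext ?_
      rw [MulAut.conjNormal_apply]
      rfl
    obtain ⟨hne, ho, cA, cB⟩ := hinner hyE
    obtain ⟨j, hj⟩ := alt_case hd E hk e A hA hne ho cA hTo hTA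
    have hc : Commute T B := hj ▸ cB.zpow_left j
    exact hT1 (CompInverted.eq_one_of_commute_inverted hTo hBT hc)

/-- The model lemma in the form consumed by `CompLocal`. -/
theorem fixModel : CompLocal.FixModel.{u} := by
  intro X _ _ hd E _ _ hk hC a b τ z h haE hbE r hr hr2 hτ hτ1 hτo hτa hτb hz hza hzb hfix
  exact eq_one_of_fix hd E hk hC h haE hbE hτ hτ1 hτo hτa hτb hr hr2 hz hza hzb hfix

end Cfsg.Agent.GW.CompModel
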