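import Cfsg.Agent.Lib.GW.PartII.CompOnePlane
import Cfsg.Agent.Lib.GW.PartII.CompModel
import Cfsg.Agent.Lib.GW.PartII.CompCycleLayer
import Cfsg.Agent.Lib.GW.PartII.CompCentral
import Cfsg.Agent.Lib.GW.PartII.CompEvery

/-!
# No component configuration: the case division

`no_fixed_center_of`: a component configuration at `t, b` has no fixed central element of `fitCore t`,
from the end of the transvection case and the count in a plane.  `not_compConfig_of`: no component
configuration, from the case of inverted centre in addition.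
-/

set_option autoImplicit false

namespace Cfsg.Agent.GW

open Subgroup CompLocal

universe u

variable {G : Type u} [Group G] [Finite G] {S : Sylow 2 G} {t : G}

theorem CompAt.fixedCycle (hyp : Hyp S t) (hk : ProperKnown G) (hM : IsCoatom (Cent t)) {b : G}
    (h : CompAt t b) : FixedCycle t b :=
  exists_fixedCycle hyp hk (cycleLayer hyp hk) hM h

theorem no_fixed_center_of (hyp : Hyp S t) (hk : ProperKnown G) (hM : IsCoatom (Cent t))
    (hfull : ∀ b, CaseOne t b →
      (∀ y τ, OneLine t b y τ → Cent t ≤ normalizer (zpowers τ : Set G)) → False)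
    (hsmall : ∀ b y τ, Plane t b y τ →
      3 ≤ (normalizer (zpowers y : Set G) ⊓ Cent t).relIndex (Cent t) →
      (normalizer (zpowers y : Set G) ⊓ Cent t).relIndex (Cent t) + 2 ≤ orderOf y →
      (normalizer (zpowers y : Set G) ⊓ Cent t).relIndex (Cent t) - 1 ≤ (nbrs t y).ncard → False)
    {u : G} (hu : CompAt t u) {z : G} (hz : z ∈ qFix t u)
    (hzc : ∀ f ∈ fitCore t, Commute z f) : z = 1 := by
  by_contra hz1
  have hm : FixModel.{u} := CompModel.fixModel
  have h := CaseOne.of_central hyp hk hM hm hu.pair (hu.fixedCycle hyp hk hM) hz hz1 hzc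
  refine hfull u h fun y τ l => ?_
  rcases (l.orbit_cases hyp hk hM hm).2 with hlt | ⟨-, hn⟩
  · obtain ⟨hp, hc⟩ := l.plane hyp hk hM hm hlt
    exact (hsmall u y τ hp (l.orbit_cases hyp hk hM hm).1 hlt hc).elim
  · exact hn

/-- No component configuration, from the end of the transvection case, the count in a plane and the
impossibility of the inverted centre. -/
theorem not_compConfig_of (hyp : Hyp S t) (hk : ProperKnown G) (hM : IsCoatom (Cent t))
    (hfull : ∀ b, CaseOne t b →
      (∀ y τ, OneLine t b y τ → Cent t ≤ normalizer (zpowers τ : Set G)) → False)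
    (hsmall : ∀ b y τ, Plane t b y τ →
      3 ≤ (normalizer (zpowers y : Set G) ⊓ Cent t).relIndex (Cent t) →
      (normalizer (zpowers y : Set G) ⊓ Cent t).relIndex (Cent t) + 2 ≤ orderOf y →
      (normalizer (zpowers y : Set G) ⊓ Cent t).relIndex (Cent t) - 1 ≤ (nbrs t y).ncard → False)
    (hcentral : ∀ τ, Central t τ → False) : ¬ CompConfig G := fun hc => by
  obtain ⟨b, hb⟩ := exists_compAt hyp hc
  obtain ⟨τ, hτ⟩ := exists_central hyp hk (cycleLayer hyp hk) hM CompModel.fixModel hb
    fun u hu z hz hzc => no_fixed_center_of hyp hk hM hfull hsmall hu hz hzc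
  exact hcentral τ hτ

end Cfsg.Agent.GW
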