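import Cfsg.Agent.Lib.GW.PartII.FitCore
import Cfsg.Agent.Lib.GW.KleinMoved.Main
import Cfsg.Agent.Lib.GW.KleinFixed.Main
import Cfsg.Agent.S0205

/-!
# The split case with Sylow 2-subgroups of order four

`oCore a = A ⋊ D`, so a linear character of `D` extends to `oCore a`; its conjugates under an element
permuting the four group are either moved (`KleinMoved`) or all equal (`KleinFixed`).
-/

set_option autoImplicit false
set_option linter.style.haveILetI false

namespace Cfsg.Agent.GW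

open Subgroup
open BSW (sq_of_order ne_one_of_order mem_cent)

universe u

variable {G : Type u} [Group G] [Finite G]

/-- A nontrivial group of odd order has a nontrivial linear character. -/
theorem exists_linear_ne_one (D : Type u) [Group D] [Finite D] [Nontrivial D] (h : Odd (Nat.card D)) :
    ∃ φ : D →* ℂ, φ ≠ 1 := by
  haveI : Group.IsSolvable D := Cfsg.Agent.S0205.result h
  have hlt := Group.IsSolvable.commutator_lt_top_of_nontrivial D
  have h1 : 1 < Nat.card (D →* ℂ) := by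
    rw [Char.card_monoidHom_complex]
    exact Subgroup.one_lt_index_of_ne_top hlt.ne
  haveI : Finite (D →* ℂ) := Nat.finite_of_card_ne_zero (by omega)
  haveI : Nontrivial (D →* ℂ) := Finite.one_lt_card_iff_nontrivial.1 h1
  exact exists_ne 1

/-- Extension over an abelian or any normal complement: a homomorphism on a complement of a normal
subgroup extends. -/
theorem exists_extension {N : Type u} [Group N] {M : Type*} [Monoid M] (A D : Subgroup N) [A.Normal]
    (hd : A ⊓ D = ⊥) (hsup : A ⊔ D = ⊤) (φ : D →* M) :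
    ∃ θ : N →* M, (∀ a ∈ A, θ a = 1) ∧ ∀ x : D, θ x = φ x := by
  let f : D →* N ⧸ A := (QuotientGroup.mk' A).comp D.subtype
  have hf : Function.Bijective f := by
    refine ⟨(injective_iff_map_eq_one f).2 fun x hx => ?_, fun q => ?_⟩
    · exact Subtype.ext (Subgroup.mem_bot.1 (hd ▸ ⟨(QuotientGroup.eq_one_iff _).1 hx, x.2⟩))
    · obtain ⟨v, rfl⟩ := QuotientGroup.mk'_surjective A q
      have hv : v ∈ ((A ⊔ D : Subgroup N) : Set N) := by rw [hsup]; trivial
      rw [Subgroup.normal_mul] at hv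
      obtain ⟨a, ha, x, hx, rfl⟩ := hv
      refine ⟨⟨x, hx⟩, ?_⟩
      show QuotientGroup.mk' A x = _
      rw [map_mul, (show QuotientGroup.mk' A a = 1 from (QuotientGroup.eq_one_iff _).2 ha), one_mul]
  let e := MulEquiv.ofBijective f hf
  refine ⟨(φ.comp e.symm.toMonoidHom).comp (QuotientGroup.mk' A), fun a ha => ?_, fun x => ?_⟩
  · show φ (e.symm (QuotientGroup.mk' A a)) = 1
    rw [show QuotientGroup.mk' A a = 1 from (QuotientGroup.eq_one_iff _).2 ha, map_one, map_one]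
  · show φ (e.symm (f x)) = φ x
    rw [show f x = e x from rfl, MulEquiv.symm_apply_apply]

variable {S : Sylow 2 G} {t : G}

/-- **The split case, Sylow 2-subgroups of order four.** -/
theorem false_of_four (hyp : Hyp S t)
    (hsp : ∀ a b : G, Pair a b → Splits a b) (h4 : Nat.card (S : Subgroup G) = 4) {a b : G}
    (h : Pair a b) (hD : oCore a ⊓ Cent b ≠ ⊥) : False := by
  classical
  haveI := Fintype.ofFinite G
  haveI : Fact (Nat.Prime 2) := ⟨Nat.prime_two⟩
  haveI hs := hyp.simple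
  have hG := hyp.not_comm
  obtain ⟨T, hT, hVT⟩ := hyp.exists_at h.ha h.four h.isPGroup (fun v hv =>
    mem_cent.2 (h.commute_of_mem_four hv h.left_mem).eq)
  have hT4 : Nat.card (T : Subgroup G) = 4 := by
    rw [T.card_eq_multiplicity, ← S.card_eq_multiplicity, h4]
  have hG4 : Nat.card G = 4 * (T : Subgroup G).index := by
    rw [← hT4, Subgroup.card_mul_index]
  have hg₀ : Odd (T : Subgroup G).index := by
    rw [← Nat.not_even_iff_odd, even_iff_two_dvd]
    exact T.not_dvd_index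
  obtain ⟨d, hdP⟩ := KleinBlock.exists_data hg₀ hG4 (fun ⟨N, hN, hNc⟩ => by
    rcases hN.eq_bot_or_eq_top with e | e <;> subst e
    · rw [Subgroup.card_bot] at hNc
      rw [← hNc, mul_one] at hG4
      exact hG ((IsPGroup.isMulCommutative_of_card_eq_prime_sq (p := 2) (by rw [hG4]; norm_num)))
    · rw [Subgroup.card_top] at hNc
      have := Nat.card_pos (α := G)
      omega) T (hVT h.left_mem) h.ha
  have hNeq : ∀ v, v ∈ d.N ↔ v ∈ oCore a := fun v => by
    rw [d.mem_N, hyp.mem_oCore_iff h.ha, mem_cent]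
    exact ⟨fun ⟨h1, h2⟩ => ⟨h1.symm.eq, h2⟩, fun ⟨h1, h2⟩ => ⟨Commute.symm h1, h2⟩⟩
  -- the second involution
  have hb' : b = d.u ∨ b = d.u * a := by
    rcases d.two b (hdP ▸ hVT h.right_mem) with e | e | e | e
    · exact absurd e (ne_one_of_order h.hb)
    · exact absurd e.symm h.ne
    · exact Or.inl e
    · exact Or.inr e
  have hu : Pair a d.u :=
    ⟨h.ha, orderOf_eq_prime (by rw [pow_two, d.sq _ d.umem]) d.u_ne_one,
      (d.comm a d.jmem d.u d.umem).eq, d.ju⟩
  have hcomm : ∀ v, Commute a v → (Commute v b ↔ Commute d.u v) := by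
    intro v hv
    rcases hb' with e | e <;> rw [e]
    · exact ⟨Commute.symm, Commute.symm⟩
    refine ⟨fun hc => ?_, fun hc => hc.symm.mul_right hv.symm⟩
    have := hc.mul_right hv.symm
    rwa [mul_assoc, sq_of_order h.ha, mul_one, Commute.symm_iff] at this
  have hD' : KleinMoved.fixedPart d ≠ ⊥ := by
    refine fun e => hD (eq_bot_iff.2 fun v hv => ?_)
    obtain ⟨hv1, hv2⟩ := Subgroup.mem_inf.1 hv
    rw [← e, KleinMoved.mem_fixedPart]
    exact ⟨(hNeq v).2 hv1,
      (hcomm v ((d.mem_N v).1 ((hNeq v).2 hv1)).1).1 (mem_cent.1 hv2)⟩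
  obtain ⟨A, -, hAn, hAinv, hAd, hAs⟩ := hsp a d.u hu
  have hfp : oCore a ⊓ Cent d.u = KleinMoved.fixedPart d := by
    ext v
    rw [Subgroup.mem_inf, KleinMoved.mem_fixedPart, hNeq, mem_cent]
    exact and_congr_right fun _ => ⟨fun e => Commute.symm e, fun e => e.symm.eq⟩
  rw [hfp] at hAd hAs
  have hNN : d.N = oCore a := Subgroup.ext hNeq
  rw [← hNN] at hAn hAs
  have hAN : A ≤ d.N := le_sup_left.trans hAs.le
  have hDN : KleinMoved.fixedPart d ≤ d.N := inf_le_left
  haveI : (A.subgroupOf d.N).Normal := normal_subgroupOf_of_le_normalizer hAn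
  set D₀ := (KleinMoved.fixedPart d).subgroupOf d.N with hD₀
  have hdis : A.subgroupOf d.N ⊓ D₀ = ⊥ := by
    refine eq_bot_iff.2 fun v hv => Subgroup.mem_bot.2 (Subtype.ext ?_)
    exact Subgroup.mem_bot.1 (hAd ▸ (⟨hv.1, hv.2⟩ : (v : G) ∈ A ⊓ KleinMoved.fixedPart d))
  have hsup : A.subgroupOf d.N ⊔ D₀ = ⊤ := by
    rw [← Subgroup.subgroupOf_sup hAN hDN, hAs, Subgroup.subgroupOf_self]
  haveI := (Subgroup.nontrivial_iff_ne_bot _).2 hD'
  haveI : Nontrivial D₀ := (Subgroup.subgroupOfEquivOfLe hDN).toEquiv.nontrivial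
  obtain ⟨φ, hφ⟩ := exists_linear_ne_one D₀ (d.oddN.of_dvd_nat D₀.card_subgroup_dvd_card)
  -- the three-cycle
  obtain ⟨r, hrJ, hru'⟩ := exists_cycles hyp hu
  have hua : a * d.u = d.u * a := hu.comm
  have hru : r * d.u * r⁻¹ = d.u * a := hru'.trans hua
  have hrua : r * (d.u * a) * r⁻¹ = a := by
    rw [show r * (d.u * a) * r⁻¹ = r * d.u * r⁻¹ * (r * a * r⁻¹) by group, hru, hrJ, mul_assoc, hua,
      ← mul_assoc, d.sq _ d.umem, one_mul]
  have hrD : ∀ v, v ∈ KleinMoved.fixedPart d → r * v * r⁻¹ ∈ KleinMoved.fixedPart d := by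
    intro v hv
    obtain ⟨hvN, hvu⟩ := KleinMoved.mem_fixedPart.1 hv
    have hva := ((d.mem_N v).1 hvN).1
    have c1 : Commute a (r * v * r⁻¹) := by
      have := ((Commute.mul_left hvu hva).map (MulAut.conj r).toMonoidHom)
      simpa [hrua] using this
    have c2 : Commute d.u (r * v * r⁻¹) := by
      have := (hva.map (MulAut.conj r).toMonoidHom)
      simpa [hrJ] using this
    refine KleinMoved.mem_fixedPart.2 ⟨(d.mem_N _).2 ⟨c1, ?_⟩, c2⟩
    rw [show r * v * r⁻¹ = MulAut.conj r v from rfl, MulEquiv.orderOf_eq]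
    exact d.odd_of_mem hvN
  let cr : D₀ →* D₀ :=
    { toFun := fun y => ⟨⟨r * y * r⁻¹, hDN (hrD _ y.2)⟩, hrD _ y.2⟩
      map_one' := by ext; simp
      map_mul' := fun y z => by ext; simp [mul_assoc] }
  have hcr : ∀ y : D₀, ((cr y : d.N) : G) = r * y * r⁻¹ := fun y => rfl
  -- the cube of the three-cycle is inner on `D`
  have hper : ∀ y : D₀, φ (cr (cr (cr y))) = φ y := by
    intro y
    have h3a : r * (r * (r * a * r⁻¹) * r⁻¹) * r⁻¹ = a := by rw [hrJ, hru, hrua]
    have h3u : r * (r * (r * d.u * r⁻¹) * r⁻¹) * r⁻¹ = d.u := by rw [hru, hrua, hrJ]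
    have ca : Commute a (r * r * r) := by
      refine Commute.symm (mul_inv_eq_iff_eq_mul.1 ?_)
      conv_rhs => rw [← h3a]
      group
    have cu : Commute d.u (r * r * r) := by
      refine Commute.symm (mul_inv_eq_iff_eq_mul.1 ?_)
      conv_rhs => rw [← h3u]
      group
    obtain ⟨q, hq, n, hn, hqn⟩ := d.decomp _ ca
    have cn : Commute d.u n := by
      rw [show n = q⁻¹ * (r * r * r) by rw [hqn, inv_mul_cancel_left]]
      exact (d.comm d.u d.umem q hq).inv_right.mul_right cu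
    let n₀ : D₀ := ⟨⟨n, hn⟩, KleinMoved.mem_fixedPart.2 ⟨hn, cn⟩⟩
    have hqD : ∀ v ∈ KleinMoved.fixedPart d, q * v * q⁻¹ = v := by
      intro v hv
      obtain ⟨hvN, hvu⟩ := KleinMoved.mem_fixedPart.1 hv
      have hva := ((d.mem_N v).1 hvN).1
      refine mul_inv_eq_iff_eq_mul.2 ?_
      rcases d.two q hq with e | e | e | e <;> rw [e]
      · rw [one_mul, mul_one]
      · exact hva.eq
      · exact hvu.eq
      · exact (hvu.mul_left hva).eq
    have hkey : cr (cr (cr y)) = n₀ * y * n₀⁻¹ := by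
      refine Subtype.ext (Subtype.ext ?_)
      show r * (r * (r * (y : d.N) * r⁻¹) * r⁻¹) * r⁻¹ = n * (y : d.N) * n⁻¹
      have hm := hqD _ (n₀ * y * n₀⁻¹).2
      rw [show r * (r * (r * (y : d.N) * r⁻¹) * r⁻¹) * r⁻¹
        = (r * r * r) * (y : d.N) * (r * r * r)⁻¹ by group, hqn]
      refine Eq.trans ?_ hm
      show _ = q * (n * (y : d.N) * n⁻¹) * q⁻¹
      group
    rw [hkey]
    have hinv : φ n₀ * φ n₀⁻¹ = 1 := by rw [← map_mul, mul_inv_cancel, map_one]
    rw [map_mul, map_mul, mul_right_comm, hinv, one_mul]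
  -- extend
  have hext : ∀ ψ : D₀ →* ℂ, ∃ θ : d.N →* ℂ,
      (∀ v w : d.N, (w : G) = d.u * v * d.u⁻¹ → θ w = θ v) ∧ ∀ x : D₀, θ x = ψ x := by
    intro ψ
    obtain ⟨θ, hθA, hθD⟩ := exists_extension (A.subgroupOf d.N) D₀ hdis hsup ψ
    refine ⟨θ, fun v w hw => ?_, hθD⟩
    have hv : v ∈ ((A.subgroupOf d.N ⊔ D₀ : Subgroup d.N) : Set d.N) := by rw [hsup]; trivial
    rw [Subgroup.normal_mul] at hv
    obtain ⟨x, hx, y, hy, rfl⟩ := hv
    have hyu : Commute d.u (y : G) := (KleinMoved.mem_fixedPart.1 hy).2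
    have hwe : w = x⁻¹ * y := by
      refine Subtype.ext ?_
      rw [hw, Subgroup.coe_mul, Subgroup.coe_mul, Subgroup.coe_inv]
      calc d.u * ((x : G) * y) * d.u⁻¹ = d.u * x * d.u⁻¹ * (d.u * y * d.u⁻¹) := by group
        _ = (x : G)⁻¹ * y := by rw [hAinv (x : G) hx, hyu.eq, mul_inv_cancel_right]
    rw [hwe, map_mul, map_mul, hθA x hx, hθA x⁻¹ (inv_mem hx)]
  obtain ⟨θ₀, i₀, e₀⟩ := hext φ
  obtain ⟨θ₁, i₁, e₁⟩ := hext (φ.comp cr)
  obtain ⟨θ₂, i₂, e₂⟩ := hext (φ.comp (cr.comp cr))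
  have hmemD : ∀ y : d.N, Commute d.u (y : G) → y ∈ D₀ := fun y hy =>
    KleinMoved.mem_fixedPart.2 ⟨y.2, hy⟩
  have s₀ : ∀ y z : d.N, Commute d.u (y : G) → (z : G) = r * y * r⁻¹ → θ₁ y = θ₀ z := by
    intro y z hy hz
    rw [show z = ((cr ⟨y, hmemD y hy⟩ : D₀) : d.N) from Subtype.ext hz, e₀]
    exact e₁ ⟨y, hmemD y hy⟩
  have s₁ : ∀ y z : d.N, Commute d.u (y : G) → (z : G) = r * y * r⁻¹ → θ₂ y = θ₁ z := by
    intro y z hy hz
    rw [show z = ((cr ⟨y, hmemD y hy⟩ : D₀) : d.N) from Subtype.ext hz, e₁]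
    exact e₂ ⟨y, hmemD y hy⟩
  have s₂ : ∀ y z : d.N, Commute d.u (y : G) → (z : G) = r * y * r⁻¹ → θ₀ y = θ₂ z := by
    intro y z hy hz
    rw [show z = ((cr ⟨y, hmemD y hy⟩ : D₀) : d.N) from Subtype.ext hz, e₂]
    exact (e₀ ⟨y, hmemD y hy⟩).trans (hper _).symm
  by_cases hmv : φ.comp cr = φ
  · refine KleinFixed.Fix.false_of_nontrivial
      (F := ({ r := r, rJ := hrJ, ru := hru, θ := θ₀, inv := i₀, shift := fun y z hy hz => ?_ } :
        KleinFixed.Fix d)) hG fun e => hφ (MonoidHom.ext fun x => ?_)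
    · rw [← s₀ y z hy hz]
      exact ((e₁ ⟨y, hmemD y hy⟩).trans (DFunLike.congr_fun hmv _)).trans (e₀ _).symm |>.symm
    · rw [← e₀ x, show θ₀ = 1 from e]; rfl
  · have hpt : ∀ y, φ (cr (cr (cr y))) = φ y := hper
    have n01 : θ₀ ≠ θ₁ := fun e => hmv (MonoidHom.ext fun y => by
      rw [← e₁ y, ← e, e₀])
    have n12 : θ₁ ≠ θ₂ := fun e => hmv (MonoidHom.ext fun y => by
      have := fun z => (e₁ z).symm.trans ((DFunLike.congr_fun e _).trans (e₂ z))
      simp only [MonoidHom.comp_apply] at this ⊢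
      rw [← hpt (cr y), ← hpt y]
      exact (this (cr (cr y))).symm)
    have n02 : θ₀ ≠ θ₂ := fun e => hmv (MonoidHom.ext fun y => by
      have := fun z => (e₀ z).symm.trans ((DFunLike.congr_fun e _).trans (e₂ z))
      simp only [MonoidHom.comp_apply] at this ⊢
      rw [this (cr y), hpt])
    refine KleinMoved.Moved.false_of_moved hG
      ({ r := r, rJ := hrJ, ru := hru, θ := ![θ₀, θ₁, θ₂], inv := fun j => ?_,
         shift := fun j => ?_, ne := ?_ } : KleinMoved.Moved d)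
    · fin_cases j
      exacts [i₀, i₁, i₂]
    · fin_cases j
      exacts [s₀, s₁, s₂]
    · intro i j hij
      fin_cases i <;> fin_cases j <;> simp at hij ⊢ <;>
        first
          | exact n01 hij | exact n01 hij.symm | exact n12 hij | exact n12 hij.symm
          | exact n02 hij | exact n02 hij.symm

end Cfsg.Agent.GW
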