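import Cfsg.Agent.Lib.GW.PartII.CompDefs
import Cfsg.Agent.Lib.GW.PartII.SplitFour
import Cfsg.Agent.Lib.GW.LinearFixed.Values

/-!
# The component configuration: block data at `t` and linear characters of `oCore t`

With every reflection fixed by a cycle, `oCore t` has no nontrivial linear character invariant under
`Cent t`.
-/

set_option autoImplicit false
set_option linter.style.haveILetI false

namespace Cfsg.Agent.GW

open Subgroup
open BSW (sq_of_order inv_of_order mem_cent)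

universe u v

variable {G : Type u} [Group G] [Finite G] {S : Sylow 2 G} {t : G}

/-- An involution of `Cent t` other than `t`. -/
theorem Hyp.pair_of_refl (hyp : Hyp S t) {u : G} (hu : orderOf u = 2) (hne : u ≠ t)
    (hc : Commute u t) : Pair t u :=
  ⟨hyp.orderT, hu, hc.symm.eq, hne.symm⟩

/-- A reflection is conjugate in `Cent t` into `S`. -/
theorem Hyp.exists_conj_sylow (hyp : Hyp S t) {u : G} (hu : orderOf u = 2) (hc : Commute u t) :
    ∃ c ∈ Cent t, c * u * c⁻¹ ∈ (S : Subgroup G) := by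
  haveI : Fact (Nat.Prime 2) := ⟨Nat.prime_two⟩
  have hQ : IsPGroup 2 (zpowers u) :=
    IsPGroup.of_card (n := 1) (by rw [Nat.card_zpowers, hu, pow_one])
  obtain ⟨R, hR⟩ := IsPGroup.exists_le_sylow (p := 2) (hQ.comap_subtype (K := Cent t))
  obtain ⟨c, hc'⟩ := MulAction.exists_smul_eq (Cent t) R (S.subtype hyp.sylow_le_cent)
  have huR : (⟨u, mem_cent.2 hc.eq⟩ : Cent t) ∈ (R : Subgroup (Cent t)) := hR (mem_zpowers u)
  refine ⟨c, c.2, ?_⟩
  have h : c * (⟨u, mem_cent.2 hc.eq⟩ : Cent t) * c⁻¹ ∈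
      ((S.subtype hyp.sylow_le_cent : Sylow 2 (Cent t)) : Subgroup (Cent t)) := by
    rw [← hc', Sylow.coe_subgroup_smul, Subgroup.mem_pointwise_smul_iff_inv_smul_mem]
    simpa [mul_assoc] using huR
  rw [Sylow.coe_subtype, Subgroup.mem_subgroupOf] at h
  simpa using h

/-- The block data at `t` for Sylow 2-subgroups of order at least eight. -/
theorem Hyp.exists_big (hyp : Hyp S t) (h4 : 4 < Nat.card (S : Subgroup G)) :
    ∃ (σ τ : G) (M₀ : ℕ) (d : DihedralBlock.Data σ τ M₀), σ ∈ (S : Subgroup G) ∧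
      τ ∈ (S : Subgroup G) ∧ (∀ x ∈ (S : Subgroup G), ∃ i : ℕ, x = σ ^ i ∨ x = σ ^ i * τ) ∧
      σ ^ M₀ = t ∧ d.V = oCore t ∧ Nat.card (S : Subgroup G) = 4 * M₀ := by
  obtain ⟨g⟩ := hyp.exists_gens
  have hn := g.hn
  have hcard : Nat.card (S : Subgroup G) = 4 * 2 ^ g.k := by rw [g.hcard, hn, pow_succ]; ring
  have hk : 1 ≤ g.k := by
    by_contra hk
    rw [hcard, show g.k = 0 by omega] at h4
    norm_num at h4
  have hσo : orderOf g.σ = 2 ^ (g.k + 2 - 1) := by rw [g.hord, hn]; rfl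
  have hgen : closure ({g.σ, g.τ} : Set G) = (S : Subgroup G) := by
    refine le_antisymm ((closure_le _).2 (by rintro x (rfl | rfl); exacts [g.hσ, g.hτ])) fun x hx => ?_
    have hσc : g.σ ∈ closure ({g.σ, g.τ} : Set G) := subset_closure (by simp)
    obtain ⟨i, rfl | rfl⟩ := g.hform x hx
    · exact zpow_mem hσc i
    · exact mul_mem (zpow_mem hσc i) (subset_closure (by simp))
  have hk2 : orderOf (g.σ ^ (2 ^ g.k)) = 2 := by
    rw [orderOf_pow_of_dvd (by positivity) (by rw [g.hord, hn, pow_succ]; exact dvd_mul_right _ _),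
      g.hord, hn, pow_succ, Nat.mul_div_cancel_left _ (by positivity)]
  have hJ : g.σ ^ (2 ^ g.k) = t :=
    eq_of_invol_zpowers (pow_mem (mem_zpowers _) _) g.htσ hk2 hyp.orderT
  obtain ⟨d, hform⟩ := DihedralBlock.exists_data (n := g.k + 2) (by omega) S g.hσ g.hτ hσo g.hτo
    g.hrel hgen ⟨hyp.isConj_invol hk2 g.hτo,
      hyp.isConj_invol hk2 (by simpa using refl_order g 1)⟩
  rw [Nat.add_sub_cancel] at d
  refine ⟨g.σ, g.τ, 2 ^ g.k, d, g.hσ, g.hτ, hform, hJ, ?_, hcard⟩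
  ext v
  rw [d.mem_V, hJ, hyp.mem_oCore_iff hyp.orderT, mem_cent]
  exact ⟨fun h => ⟨h.1.symm.eq, h.2⟩, fun h => ⟨Commute.symm h.1, h.2⟩⟩

/-- The block data at `t` for Sylow 2-subgroups of order four. -/
theorem Hyp.exists_klein (hyp : Hyp S t) (h4 : Nat.card (S : Subgroup G) = 4) :
    ∃ d : KleinBlock.Data t, d.P = (S : Subgroup G) ∧ d.N = oCore t := by
  haveI : Fact (Nat.Prime 2) := ⟨Nat.prime_two⟩
  haveI := hyp.simple
  have hG4 : Nat.card G = 4 * (S : Subgroup G).index := by rw [← h4, Subgroup.card_mul_index]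
  have hg₀ : Odd (S : Subgroup G).index := by
    rw [← Nat.not_even_iff_odd, even_iff_two_dvd]
    exact S.not_dvd_index
  obtain ⟨d, hd⟩ := KleinBlock.exists_data hg₀ hG4 (fun ⟨N, hN, hNc⟩ => by
    rcases hN.eq_bot_or_eq_top with e | e <;> subst e
    · rw [Subgroup.card_bot] at hNc
      rw [← hNc, mul_one] at hG4
      exact hyp.not_comm
        (IsPGroup.isMulCommutative_of_card_eq_prime_sq (p := 2) (by rw [hG4]; norm_num))
    · rw [Subgroup.card_top] at hNc
      have := Nat.card_pos (α := G)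
      omega) S hyp.memS hyp.orderT
  refine ⟨d, hd, ?_⟩
  ext v
  rw [d.mem_N, hyp.mem_oCore_iff hyp.orderT, mem_cent]
  exact ⟨fun h => ⟨h.1.symm.eq, h.2⟩, fun h => ⟨Commute.symm h.1, h.2⟩⟩

/-- The reflection `u` of the Klein data. -/
theorem klein_refl (d : KleinBlock.Data t) : orderOf d.u = 2 ∧ d.u ≠ t ∧ Commute d.u t :=
  ⟨orderOf_eq_prime (by rw [pow_two, d.sq _ d.umem]) d.u_ne_one, d.ju.symm,
    d.comm _ d.umem t d.jmem⟩

/-- A point fixed by the cycle. -/
theorem mem_dFix {u d : G} : d ∈ dFix t u ↔ d ∈ oCore t ∧ Commute d u := by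
  rw [dFix, Subgroup.mem_inf, mem_cent]
  exact Iff.rfl

theorem no_char_complex (hyp : Hyp S t)
    (hg : ∀ u, orderOf u = 2 → u ≠ t → Commute u t → FixedCycle t u) (θ : oCore t →* ℂ)
    (hinv : ∀ c ∈ Cent t, ∀ v w : oCore t, (w : G) = c * v * c⁻¹ → θ w = θ v) : θ = 1 := by
  classical
  by_contra hθ
  haveI := Fintype.ofFinite G
  haveI : Fact (Nat.Prime 2) := ⟨Nat.prime_two⟩
  haveI := hyp.simple
  by_cases h4 : 4 < Nat.card (S : Subgroup G)
  · obtain ⟨σ, τ, M₀, d, hσ, hτ, hform, hJ, hV, hcard⟩ := hyp.exists_big h4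
    let φ : d.V →* ℂ := θ.comp (Subgroup.inclusion hV.le)
    have hφ : φ ≠ 1 := fun e => hθ (MonoidHom.ext fun v => by
      exact DFunLike.congr_fun e ⟨v, hV.ge v.2⟩)
    have hinv' : ∀ c, Commute (σ ^ M₀) c → ∀ v w : d.V, (w : G) = c * v * c⁻¹ → φ w = φ v :=
      fun c hc v w hw => hinv c (mem_cent.2 (hJ ▸ hc).symm.eq) ⟨v, hV.le v.2⟩ ⟨w, hV.le w.2⟩ hw
    refine LinearFixed.false_of_nontrivial S hσ hτ hform hyp.not_comm
      ({ θ := φ, inv := hinv', hr := ?_ } : LinearFixed.Fix d) hφ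
    intro q hq
    have hi : ∀ i : ℕ, orderOf (σ ^ i * τ) = 2 ∧ σ ^ i * τ ≠ t ∧ Commute (σ ^ i * τ) t := fun i =>
      ⟨orderOf_eq_prime (by rw [pow_two]; exact d.mul_tau_sq) fun h =>
          d.mul_pow_ne d.V.one_mem d.V.one_mem 0 i (by rw [one_mul, one_mul, pow_zero, h]),
        fun h => d.mul_pow_ne d.V.one_mem d.V.one_mem M₀ i (by rw [one_mul, one_mul, h, hJ]),
        (hJ ▸ (d.commute_J_pow i).mul_right d.commute_J_t :
          Commute t (σ ^ i * τ)).symm⟩
    have hq' : orderOf q = 2 ∧ q ≠ t ∧ Commute q t := by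
      rcases hq with rfl | rfl
      · simpa using hi 0
      · simpa using hi 1
    obtain ⟨g, hcy, hfix⟩ := hg q hq'.1 hq'.2.1 hq'.2.2
    refine ⟨g, hJ ▸ hcy.left, hJ ▸ hcy.right, fun v w hv hw => congrArg φ (Subtype.ext ?_)⟩
    have hgv : Commute g (v : G) := hfix _ (mem_dFix.2 ⟨hV.le v.2, hv.symm⟩)
    rw [hw, hgv.inv_left.eq, inv_mul_cancel_right]
  · have h4' : Nat.card (S : Subgroup G) = 4 := by
      obtain ⟨g⟩ := hyp.exists_gens
      have hcard : Nat.card (S : Subgroup G) = 4 * 2 ^ g.k := by rw [g.hcard, g.hn, pow_succ]; ring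
      have := Nat.one_le_two_pow (n := g.k)
      omega
    obtain ⟨d, -, hN⟩ := hyp.exists_klein h4'
    let φ : d.N →* ℂ := θ.comp (Subgroup.inclusion hN.le)
    have hφ : φ ≠ 1 := fun e => hθ (MonoidHom.ext fun v => by
      exact DFunLike.congr_fun e ⟨v, hN.ge v.2⟩)
    obtain ⟨hu, hne, hc⟩ := klein_refl d
    obtain ⟨g, hcy, hfix⟩ := hg d.u hu hne hc
    refine KleinFixed.Fix.false_of_nontrivial
      ({ r := g, rJ := hcy.left, ru := by rw [hcy.right, hc.eq], θ := φ, inv := ?_, shift := ?_ } :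
        KleinFixed.Fix d) hyp.not_comm hφ
    · exact fun v w hw => hinv d.u (mem_cent.2 hc.eq) ⟨v, hN.le v.2⟩ ⟨w, hN.le w.2⟩ hw
    · intro y z hy hz
      refine congrArg φ (Subtype.ext ?_)
      have hgy : Commute g (y : G) := hfix _ (mem_dFix.2 ⟨hN.le y.2, hy.symm⟩)
      rw [hz, hgy.eq, mul_inv_cancel_right]

/-- **No invariant linear character**: a homomorphism of `oCore t` to an abelian group invariant
under `Cent t` is trivial. -/
theorem no_char (hyp : Hyp S t)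
    (hg : ∀ u, orderOf u = 2 → u ≠ t → Commute u t → FixedCycle t u) {A : Type v} [CommGroup A]
    [Finite A] (θ : oCore t →* A)
    (hinv : ∀ c ∈ Cent t, ∀ v w : oCore t, (w : G) = c * v * c⁻¹ → θ w = θ v) : θ = 1 := by
  by_contra hθ
  haveI : Nontrivial θ.range := by
    rw [Subgroup.nontrivial_iff_ne_bot, Ne, MonoidHom.range_eq_bot_iff]
    exact hθ
  obtain ⟨φ, hφ⟩ := exists_linear_ne_one θ.range
    ((hyp.odd_oCore t).of_dvd_nat (Subgroup.card_range_dvd θ))
  refine hφ (MonoidHom.ext fun y => ?_)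
  obtain ⟨x, rfl⟩ := θ.rangeRestrict_surjective y
  exact DFunLike.congr_fun (no_char_complex hyp hg (φ.comp θ.rangeRestrict) fun c hc v w hw =>
    congrArg φ (Subtype.ext (hinv c hc v w hw))) x

end Cfsg.Agent.GW
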