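import Cfsg.Agent.Lib.GW.PartII.CompPlane
import Cfsg.Agent.Lib.GW.PartII.MaxCentral

/-!
# The component configuration: counting second neighbours

`Plane.count`: if two points without a common block have at most `m` common neighbours, then
`c ^ 2 * idx * (idx - 1) ≤ m * N`, where `N` is the number of points, `idx` the number of blocks
through a point and `c` the number of commuting neighbours on a block.
`index_mul_relIndex`: `N * idx = I * M`.
-/

set_option autoImplicit false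

namespace Cfsg.Agent.GW

open Subgroup
open BSW (mem_cent)

universe u

variable {G : Type u} [Group G] [Finite G]

theorem ncard_range_eq_index {H : Type*} [Group H] {α : Type*} (f : H → α) (K : Subgroup H)
    (h : ∀ a b : H, f a = f b ↔ a⁻¹ * b ∈ K) : (Set.range f).ncard = K.index := by
  rw [← Nat.card_coe_set_eq, Subgroup.index]
  refine (Nat.card_congr (Equiv.ofBijective
    (Quotient.lift (fun a => (⟨f a, a, rfl⟩ : Set.range f))
      fun a b hab => Subtype.ext ((h a b).2 (QuotientGroup.leftRel_apply.1 hab))) ⟨?_, ?_⟩)).symm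
  · intro x y
    induction x using Quotient.inductionOn with | _ a =>
    induction y using Quotient.inductionOn with | _ c =>
    intro he
    exact Quotient.sound (QuotientGroup.leftRel_apply.2 ((h a c).1 (congrArg Subtype.val he)))
  · rintro ⟨_, a, rfl⟩
    exact ⟨Quotient.mk _ a, rfl⟩

/-- Points, blocks through a point and blocks. -/
theorem index_mul_relIndex (K C : Subgroup G) :
    K.index * (K ⊓ C).relIndex K = C.index * (K ⊓ C).relIndex C := by
  rw [mul_comm, Subgroup.relIndex_mul_index inf_le_left, mul_comm C.index,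
    Subgroup.relIndex_mul_index inf_le_right]

theorem relIndex_le_mul (C K D : Subgroup G) :
    (C ⊓ D).relIndex C ≤ (K ⊓ C).relIndex C * (K ⊓ C ⊓ D).relIndex (K ⊓ C) := by
  rw [mul_comm, Subgroup.relIndex_mul_relIndex _ _ _ inf_le_left inf_le_right]
  exact Subgroup.relIndex_le_of_le_left (le_inf (inf_le_left.trans inf_le_right) inf_le_right)
    Subgroup.index_ne_zero_of_finite

variable {t y : G}

theorem map_conj_map_conj (Y : Subgroup G) (g h : G) :
    (Y.map (MulAut.conj g).toMonoidHom).map (MulAut.conj h).toMonoidHom =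
      Y.map (MulAut.conj (h * g)).toMonoidHom := by
  rw [Subgroup.map_map]
  exact congrArg (Subgroup.map · Y) (MonoidHom.ext fun x => by simp [mul_assoc])

theorem map_conj_one (Y : Subgroup G) : Y.map (MulAut.conj (1 : G)).toMonoidHom = Y := by
  rw [map_one]
  exact Subgroup.map_id Y

theorem Inc.conj {Y : Subgroup G} {s : G} (h : Inc t y Y s) (k : G) :
    Inc t y (Y.map (MulAut.conj k).toMonoidHom) (k * s * k⁻¹) := by
  obtain ⟨g, rfl, rfl⟩ := h
  exact ⟨k * g, map_conj_map_conj _ g k, by group⟩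

theorem inc_self : Inc t y (zpowers y) t := ⟨1, (map_conj_one _).symm, by group⟩

theorem inc_base {s : G} :
    Inc t y (zpowers y) s ↔ ∃ k ∈ normalizer (zpowers y : Set G), s = k * t * k⁻¹ := by
  constructor
  · rintro ⟨g, hg, rfl⟩
    exact ⟨g, mem_normalizer_iff_map_conj_eq.2 hg.symm, rfl⟩
  · rintro ⟨k, hk, rfl⟩
    exact ⟨k, (mem_normalizer_iff_map_conj_eq.1 hk).symm, rfl⟩

theorem Inc.commute (hty : Commute t y) {Y : Subgroup G} {s : G} (h : Inc t y Y s) {a : G}
    (ha : a ∈ Y) : Commute s a := by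
  obtain ⟨g, rfl, rfl⟩ := h
  obtain ⟨z, hz, rfl⟩ := ha
  obtain ⟨i, rfl⟩ := mem_zpowers_iff.1 hz
  exact (hty.zpow_right i).map (MulAut.conj g)

theorem Inc.orderOf {Y : Subgroup G} {s : G} (h : Inc t y Y s) (ht : orderOf t = 2) :
    orderOf s = 2 := by
  obtain ⟨g, -, rfl⟩ := h
  exact (MulEquiv.orderOf_eq (MulAut.conj g) t).trans ht

namespace Plane

variable {b τ : G} (p : Plane t b y τ)
include p

theorem commute_ty : Commute t y := (commute_of_fitCore p.pin.mem_y.1).symm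

/-- Two points on the block of `t` share no other block. -/
theorem eq_of_commute {Y : Subgroup G} (hY : Inc t y Y t) (hne : Y ≠ zpowers y) {s : G}
    (hs : orderOf s = 2) (hsy : Commute s y) (hsY : ∀ a ∈ Y, Commute s a) : s = t := by
  by_contra hst
  obtain ⟨h1, h2⟩ := p.meet Y hY hne s hsy hsY
  exact p.noRefl s hs hst (mem_cent.1 h1) hsy h2

/-- The same, at any point and block. -/
theorem eq_of_inc {Y₁ Y₂ : Subgroup G} {s s' : G} (h₁ : Inc t y Y₁ s) (h₂ : Inc t y Y₂ s)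
    (hne : Y₁ ≠ Y₂) (hs' : Inc t y Y₁ s') (hc : ∀ a ∈ Y₂, Commute s' a) : s' = s := by
  obtain ⟨g, rfl, rfl⟩ := h₁
  have e := p.eq_of_commute (Y := Y₂.map (MulAut.conj g⁻¹).toMonoidHom) (s := g⁻¹ * s' * g) ?_ ?_ ?_ ?_ ?_
  · rw [← e]; group
  · have h := h₂.conj g⁻¹
    rwa [show g⁻¹ * (g * t * g⁻¹) * g⁻¹⁻¹ = t by group] at h
  · intro e
    refine hne ?_
    rw [← e, map_conj_map_conj, mul_inv_cancel, map_conj_one]
  · rw [show g⁻¹ * s' * g = MulAut.conj g⁻¹ s' by simp, MulEquiv.orderOf_eq]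
    exact hs'.orderOf p.pin.pair.ha
  · have h := (hs'.commute p.commute_ty (mem_map_of_mem _ (mem_zpowers y))).map (MulAut.conj g⁻¹)
    simpa [mul_assoc] using h
  · rintro _ ⟨a, ha, rfl⟩
    have h := (hc a ha).map (MulAut.conj g⁻¹)
    simpa [mul_assoc] using h

/-- A commuting point off the block has no common block with the first. -/
theorem no_common {Y₀ Y₁ Y₂ : Subgroup G} {s s' : G} (h₀ : Inc t y Y₀ s) (h₁ : Inc t y Y₁ s)
    (h01 : Y₀ ≠ Y₁) (hc01 : ∀ a ∈ Y₀, ∀ c ∈ Y₁, Commute a c) (h₁' : Inc t y Y₁ s')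
    (h₂ : Inc t y Y₂ s') (h12 : Y₁ ≠ Y₂) (hc12 : ∀ a ∈ Y₁, ∀ c ∈ Y₂, Commute a c) (hss : s' ≠ s) :
    Y₂ ≠ Y₀ ∧ ∀ r, Inc t y Y₀ r → ¬ Inc t y Y₂ r := by
  have h02 : Y₂ ≠ Y₀ := by
    rintro rfl
    exact hss (p.eq_of_inc h₀ h₁ h01 h₂ fun c hc => h₁'.commute p.commute_ty hc)
  refine ⟨h02, fun r hr0 hr2 => hss ?_⟩
  -- the elements of `Y₁` centralise `Y₀` and `Y₂`, so `r`
  have hr1 : ∀ c ∈ Y₁, Commute r c := by
    intro c hc
    obtain ⟨g, hg, hgr⟩ := hr0
    subst hg
    have hY : Inc t y (Y₂.map (MulAut.conj g⁻¹).toMonoidHom) t := by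
      have h := hr2.conj g⁻¹
      rwa [hgr, show g⁻¹ * (g * t * g⁻¹) * g⁻¹⁻¹ = t by group] at h
    have hne : Y₂.map (MulAut.conj g⁻¹).toMonoidHom ≠ zpowers y := by
      intro e
      refine h02 ?_
      rw [← e, map_conj_map_conj, mul_inv_cancel, map_conj_one]
    have hcy : Commute (g⁻¹ * c * g) y := by
      have h := ((hc01 _ (mem_map_of_mem _ (mem_zpowers y)) c hc).map (MulAut.conj g⁻¹)).symm
      simpa [mul_assoc] using h
    have hcY : ∀ a ∈ Y₂.map (MulAut.conj g⁻¹).toMonoidHom, Commute (g⁻¹ * c * g) a := by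
      rintro _ ⟨a, ha, rfl⟩
      have h := (hc12 c hc a ha).map (MulAut.conj g⁻¹)
      simpa [mul_assoc] using h
    obtain ⟨h, -⟩ := p.meet _ hY hne (g⁻¹ * c * g) hcy hcY
    have h' := (show Commute (g⁻¹ * c * g) t from mem_cent.1 h).map (MulAut.conj g)
    simp only [MulAut.conj_apply, ← hgr, mul_assoc, mul_inv_cancel_left, mul_inv_cancel,
      mul_one] at h'
    exact h'.symm
  have e := p.eq_of_inc h₀ h₁ h01 hr0 hr1
  subst e
  exact p.eq_of_inc h₁ hr2 h12 h₁' fun c hc => h₂.commute p.commute_ty hc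

omit p in
/-- The neighbours of a point on one of its blocks. -/
theorem exists_block {Y : Subgroup G} {s : G} (h : Inc t y Y s) :
    ∃ A : Set (Subgroup G), A.ncard = (nbrs t y).ncard ∧
      ∀ Y' ∈ A, Inc t y Y' s ∧ Y ≠ Y' ∧ ∀ a ∈ Y, ∀ c ∈ Y', Commute a c := by
  obtain ⟨g, rfl, rfl⟩ := h
  refine ⟨(fun Y' => Y'.map (MulAut.conj g).toMonoidHom) '' nbrs t y,
    Set.ncard_image_of_injective _ (map_injective (MulAut.conj g).injective), ?_⟩
  rintro _ ⟨Y', ⟨hY', hne, hc⟩, rfl⟩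
  refine ⟨hY'.conj g, fun e => hne (map_injective (MulAut.conj g).injective e).symm, ?_⟩
  rintro _ ⟨a, ha, rfl⟩ _ ⟨c, hc', rfl⟩
  obtain ⟨i, rfl⟩ := mem_zpowers_iff.1 ha
  exact ((hc c hc').symm.zpow_left i).map (MulAut.conj g)

/-- The count of second neighbours. -/
theorem count {m : ℕ}
    (hm : ∀ Y₂ : Subgroup G, (∃ s, Inc t y Y₂ s) → Y₂ ≠ zpowers y →
      (∀ s, Inc t y (zpowers y) s → ¬ Inc t y Y₂ s) →
      Set.ncard {Y₁ | Adj t y (zpowers y) Y₁ ∧ Adj t y Y₁ Y₂} ≤ m) :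
    (nbrs t y).ncard ^ 2 *
        (normalizer (zpowers y : Set G) ⊓ Cent t).relIndex (normalizer (zpowers y : Set G)) *
        ((normalizer (zpowers y : Set G) ⊓ Cent t).relIndex (normalizer (zpowers y : Set G)) - 1) ≤
      m * (normalizer (zpowers y : Set G)).index := by
  classical
  haveI := Fintype.ofFinite G
  haveI := Fintype.ofFinite (Subgroup G)
  set K := normalizer (zpowers y : Set G) with hK
  set idx := (K ⊓ Cent t).relIndex K with hidx
  set c := (nbrs t y).ncard with hc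
  -- the blocks through a point
  let B : Subgroup G → Finset G := fun Y => Finset.univ.filter fun s => Inc t y Y s
  have hB : ∀ Y : Subgroup G, (∃ s, Inc t y Y s) → (B Y).card = idx := by
    rintro _ ⟨_, g, rfl, rfl⟩
    have h0 : (Set.range fun k : K => g * ((k : G) * t * (k : G)⁻¹) * g⁻¹).ncard = idx := by
      refine ncard_range_eq_index _ ((K ⊓ Cent t).subgroupOf K) fun a a' => ?_
      constructor
      · intro e
        have e' : (a : G) * t * (a : G)⁻¹ = a' * t * (a' : G)⁻¹ := mul_left_cancel (mul_right_cancel e)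
        refine mem_subgroupOf.2 ⟨(a⁻¹ * a' : K).2, mem_cent.2 ?_⟩
        push_cast
        calc (a : G)⁻¹ * a' * t = (a : G)⁻¹ * (a' * t * (a' : G)⁻¹) * a' := by group
          _ = t * ((a : G)⁻¹ * a') := by rw [← e']; group
      · intro hm'
        have e : (a : G)⁻¹ * a' * t = t * ((a : G)⁻¹ * a') := by
          have := mem_cent.1 (mem_subgroupOf.1 hm').2
          push_cast at this
          exact this
        have e' : (a : G) * t * (a : G)⁻¹ = a' * t * (a' : G)⁻¹ := by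
          calc (a : G) * t * (a : G)⁻¹ = a * (t * ((a : G)⁻¹ * a')) * (a' : G)⁻¹ := by group
            _ = a' * t * (a' : G)⁻¹ := by rw [← e]; group
        exact congrArg (fun z => g * z * g⁻¹) e'
    rw [← h0, ← Set.ncard_coe_finset]
    congr 1
    ext s
    rw [Finset.mem_coe, Finset.mem_filter, and_iff_right (Finset.mem_univ _)]
    constructor
    · intro hs
      have h := hs.conj g⁻¹
      rw [map_conj_map_conj, inv_mul_cancel, map_conj_one] at h
      obtain ⟨k, hk, e⟩ := inc_base.1 h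
      refine ⟨⟨k, hk⟩, ?_⟩
      simp only [← e]
      group
    · rintro ⟨k, rfl⟩
      exact ((inc_base (y := y)).2 ⟨(k : G), k.2, rfl⟩).conj g
  -- the pairs
  let nb : Subgroup G × G → Finset (Subgroup G) := fun q => Finset.univ.filter fun Y' =>
    Inc t y q.1 q.2 ∧ Inc t y Y' q.2 ∧ q.1 ≠ Y' ∧ ∀ a ∈ q.1, ∀ z ∈ Y', Commute a z
  have hnb : ∀ (Y : Subgroup G) (s : G), Inc t y Y s → c ≤ (nb (Y, s)).card := by
    intro Y s h
    obtain ⟨A, hA, hA'⟩ := exists_block h
    rw [hc, ← hA, ← Set.ncard_coe_finset]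
    exact Set.ncard_le_ncard (fun Y' hY' => by
      rw [Finset.mem_coe, Finset.mem_filter]
      exact ⟨Finset.mem_univ _, h, hA' Y' hY'⟩) (Finset.finite_toSet _)
  set Y₀ := zpowers y
  let S1 := (B Y₀).sigma fun s => nb (Y₀, s)
  let S2 := S1.sigma fun q => ((B q.2).erase q.1).sigma fun s' => nb (q.2, s')
  have hS1 : idx * c ≤ S1.card := by
    rw [Finset.card_sigma, ← hB Y₀ ⟨t, inc_self⟩, ← smul_eq_mul]
    refine Finset.card_nsmul_le_sum _ _ _ fun s hs => hnb Y₀ s (Finset.mem_filter.1 hs).2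
  have hS2 : S1.card * ((idx - 1) * c) ≤ S2.card := by
    refine le_trans ?_ (Finset.card_sigma _ _).ge
    rw [← smul_eq_mul]
    refine Finset.card_nsmul_le_sum _ _ _ fun q hq => ?_
    obtain ⟨hs, hq'⟩ := Finset.mem_sigma.1 hq
    obtain ⟨-, -, h1, -, -⟩ := Finset.mem_filter.1 hq'
    have hmem : q.1 ∈ B q.2 := Finset.mem_filter.2 ⟨Finset.mem_univ _, h1⟩
    rw [Finset.card_sigma, ← hB q.2 ⟨_, h1⟩, ← Finset.card_erase_of_mem hmem, ← smul_eq_mul]
    exact Finset.card_nsmul_le_sum _ _ _ fun s' hs' =>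
      hnb q.2 s' (Finset.mem_filter.1 (Finset.mem_of_mem_erase hs')).2
  -- the second neighbours
  let P := (Finset.univ : Finset (Subgroup G)).filter fun Y => ∃ s, Inc t y Y s
  have hP : P.card = K.index := by
    rw [← ncard_range_eq_index (fun g : G => Y₀.map (MulAut.conj g).toMonoidHom) K,
      ← Set.ncard_coe_finset]
    · congr 1
      ext Y
      rw [Finset.mem_coe, Finset.mem_filter, and_iff_right (Finset.mem_univ _)]
      exact ⟨fun ⟨_, g, hg, _⟩ => ⟨g, hg.symm⟩, fun ⟨g, hg⟩ => ⟨_, g, hg.symm, rfl⟩⟩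
    · intro a a'
      rw [mem_normalizer_iff_map_conj_eq]
      constructor
      · intro e
        show Y₀.map (MulAut.conj (a⁻¹ * a')).toMonoidHom = Y₀
        rw [← map_conj_map_conj, ← e, map_conj_map_conj, inv_mul_cancel, map_conj_one]
      · intro (e : Y₀.map (MulAut.conj (a⁻¹ * a')).toMonoidHom = Y₀)
        conv_lhs => rw [← e, map_conj_map_conj, mul_inv_cancel_left]
  let F := P.filter fun Y => Y ≠ Y₀ ∧ ∀ r, Inc t y Y₀ r → ¬ Inc t y Y r
  have hkey : S2.card ≤ m * F.card := by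
    refine Finset.card_le_mul_card_image_of_maps_to (f := fun q => q.2.2) ?_ m ?_
    · intro q hq
      obtain ⟨hq1, hq2⟩ := Finset.mem_sigma.1 hq
      obtain ⟨hs', hY2⟩ := Finset.mem_sigma.1 hq2
      obtain ⟨-, hY1⟩ := Finset.mem_sigma.1 hq1
      obtain ⟨-, h0, h1, h01, hc01⟩ := Finset.mem_filter.1 hY1
      obtain ⟨-, h1', h2, h12, hc12⟩ := Finset.mem_filter.1 hY2
      exact Finset.mem_filter.2 ⟨Finset.mem_filter.2 ⟨Finset.mem_univ _, _, h2⟩,
        p.no_common h0 h1 h01 hc01 h1' h2 h12 hc12 (Finset.mem_erase.1 hs').1⟩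
    · intro Y₂ hY₂
      obtain ⟨hY₂P, hne, hno⟩ := Finset.mem_filter.1 hY₂
      refine le_trans ?_ (hm Y₂ (Finset.mem_filter.1 hY₂P).2 hne hno)
      rw [← Set.ncard_coe_finset]
      refine Set.ncard_le_ncard_of_injOn (fun q => q.1.2) ?_ ?_ (Set.toFinite _)
      · intro q hq
        obtain ⟨hqS, rfl⟩ := Finset.mem_filter.1 hq
        obtain ⟨hq1, hq2⟩ := Finset.mem_sigma.1 hqS
        obtain ⟨-, hY2⟩ := Finset.mem_sigma.1 hq2
        obtain ⟨-, hY1⟩ := Finset.mem_sigma.1 hq1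
        obtain ⟨-, h0, h1, h01, hc01⟩ := Finset.mem_filter.1 hY1
        obtain ⟨-, h1', h2, h12, hc12⟩ := Finset.mem_filter.1 hY2
        exact ⟨⟨h01, hc01, _, h0, h1⟩, h12, hc12, _, h1', h2⟩
      · rintro ⟨⟨s, Y₁⟩, s', Y₂'⟩ hq ⟨⟨u, Y₁'⟩, u', Y₂''⟩ hu e
        obtain rfl : Y₁ = Y₁' := e
        obtain ⟨hqS, hqe⟩ := Finset.mem_filter.1 hq
        obtain ⟨huS, hue⟩ := Finset.mem_filter.1 hu
        obtain rfl : Y₂' = Y₂ := hqe
        obtain rfl : Y₂'' = Y₂' := hue
        obtain ⟨hq1, hq2⟩ := Finset.mem_sigma.1 hqS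
        obtain ⟨hu1, hu2⟩ := Finset.mem_sigma.1 huS
        obtain ⟨-, hY1⟩ := Finset.mem_sigma.1 hq1
        obtain ⟨-, hY1'⟩ := Finset.mem_sigma.1 hu1
        obtain ⟨-, h0, h1, h01, -⟩ := Finset.mem_filter.1 hY1
        obtain ⟨-, h0', h1', -, -⟩ := Finset.mem_filter.1 hY1'
        obtain rfl : u = s :=
          p.eq_of_inc h0 h1 h01 h0' fun a ha => h1'.commute p.commute_ty ha
        obtain ⟨-, hY2⟩ := Finset.mem_sigma.1 hq2
        obtain ⟨-, hY2'⟩ := Finset.mem_sigma.1 hu2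
        obtain ⟨-, k1, k2, k12, -⟩ := Finset.mem_filter.1 hY2
        obtain ⟨-, k1', k2', -, -⟩ := Finset.mem_filter.1 hY2'
        obtain rfl : u' = s' :=
          p.eq_of_inc k1 k2 k12 k1' fun a ha => k2'.commute p.commute_ty ha
        rfl
  calc c ^ 2 * idx * (idx - 1) = idx * c * ((idx - 1) * c) := by ring
    _ ≤ S1.card * ((idx - 1) * c) := Nat.mul_le_mul_right _ hS1
    _ ≤ S2.card := hS2
    _ ≤ m * F.card := hkey
    _ ≤ m * P.card := Nat.mul_le_mul_left _ (Finset.card_filter_le _ _)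
    _ = m * K.index := by rw [hP]

end Plane

end Cfsg.Agent.GW
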