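import Cfsg.Agent.Lib.GW.PartII.CompCentral

/-!
# The inverted centre: the extraspecial shape, interface

`Extra t τ W`: the hypotheses on the extraspecial subgroup `W` of `fitCore t`; `Extra.Split`: what the action
on `W` modulo `⟨τ⟩` gives.
-/

set_option autoImplicit false

namespace Cfsg.Agent.GW

open Subgroup

universe u

variable {G : Type u} [Group G] [Finite G]

/-- The extraspecial subgroup of `fitCore t`. -/
structure Extra (t τ : G) (W : Subgroup G) : Prop where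
  central : Central t τ
  le : W ≤ fitCore t
  mem : τ ∈ W
  card : Nat.card W = orderOf τ ^ 3
  exp : ∀ w ∈ W, w ^ orderOf τ = 1
  bracket : ∀ w ∈ W, ∀ f ∈ fitCore t, w * f * w⁻¹ * f⁻¹ ∈ zpowers τ
  normal : Cent t ≤ normalizer (W : Set G)
  not_comm : ¬ IsMulCommutative W
  noLine : ¬ ∃ A : Subgroup G, τ ∈ A ∧ A ≤ W ∧ Nat.card A = orderOf τ ^ 2 ∧
    Cent t ≤ normalizer (A : Set G)

namespace Extra

/-- A reflection `u` with the generators `y`, `x` of its fixed and inverted part on `W` modulo `⟨τ⟩`. -/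
structure Frame (t τ : G) (W : Subgroup G) (u y x : G) : Prop where
  order_u : orderOf u = 2
  ne : u ≠ t
  comm : Commute u t
  mem_y : y ∈ qFix t u
  y_mem : y ∈ W
  order_y : orderOf y = orderOf τ
  qFix_eq : qFix t u = zpowers y
  x_mem : x ∈ W
  inv_x : u * x * u⁻¹ = x⁻¹
  not_commute : ¬ Commute x y
  gen : ∀ w ∈ W, ∃ i j k : ℤ, w = x ^ i * y ^ j * τ ^ k

/-- The action of `oCore t` on `W` modulo `⟨τ⟩`. -/
structure Split (t τ : G) (W : Subgroup G) : Prop where
  mem_fit : ∀ o ∈ oCore t, (∀ w ∈ W, o * w * o⁻¹ * w⁻¹ ∈ zpowers τ) → o ∈ fitCore t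
  fit_bracket : ∀ f ∈ fitCore t, ∀ w ∈ W, f * w * f⁻¹ * w⁻¹ ∈ zpowers τ
  frame : ∀ u : G, orderOf u = 2 → u ≠ t → Commute u t → ∃ y x, Frame t τ W u y x

/-- What the linear action gives. -/
structure Small (t τ : G) : Prop where
  relIndex_le : (fitCore t).relIndex (oCore t) ≤ orderOf τ + 1
  comm_mod : ∀ a ∈ oCore t, ∀ c ∈ oCore t, a * c * a⁻¹ * c⁻¹ ∈ fitCore t

end Extra

end Cfsg.Agent.GW
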