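import Mathlib
import Cfsg.Agent.S0205

/-!
# Subgroups of odd order of `SL(2, r)`

`OddSL2.dichotomy`: a subgroup of odd order of `SL(2, r)` is either abelian of order at most `r + 1`, or the
matrices normalising it preserve one line.
-/

set_option autoImplicit false

namespace Cfsg.Agent.GW.OddSL2

open Matrix Subgroup
open scoped MatrixGroups

variable {F : Type*} [Field F]

/-- A matrix commuting with a nonscalar one is a linear combination of it and `1`. -/
theorem exists_comb {a z : Matrix (Fin 2) (Fin 2) F} (ha : ¬ ∃ c : F, a = c • 1) (h : z * a = a * z) :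
    ∃ α β : F, z = α • 1 + β • a := by
  have e00 := congrFun (congrFun h 0) 0
  have e01 := congrFun (congrFun h 0) 1
  have e10 := congrFun (congrFun h 1) 0
  simp [Matrix.mul_apply, Fin.sum_univ_two] at e00 e01 e10
  by_cases h1 : a 0 1 = 0
  · by_cases h2 : a 1 0 = 0
    · have hne : a 0 0 - a 1 1 ≠ 0 := fun e => ha ⟨a 0 0, by
        ext i j
        fin_cases i <;> fin_cases j <;> simp [h1, h2]
        linear_combination -e⟩
      have z01 : z 0 1 = 0 := by
        refine (mul_eq_zero.1 (show (a 0 0 - a 1 1) * z 0 1 = 0 from ?_)).resolve_left hne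
        linear_combination -e01 + (z 0 0 - z 1 1) * h1
      have z10 : z 1 0 = 0 := by
        refine (mul_eq_zero.1 (show (a 0 0 - a 1 1) * z 1 0 = 0 from ?_)).resolve_left hne
        linear_combination e10 + (z 0 0 - z 1 1) * h2
      refine ⟨z 0 0 - (z 0 0 - z 1 1) / (a 0 0 - a 1 1) * a 0 0, (z 0 0 - z 1 1) / (a 0 0 - a 1 1), ?_⟩
      ext i j
      fin_cases i <;> fin_cases j <;> simp [h1, h2, z01, z10]
      field_simp
      ring
    · refine ⟨z 0 0 - z 1 0 / a 1 0 * a 0 0, z 1 0 / a 1 0, ?_⟩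
      have z01 : z 0 1 = 0 := by
        refine (mul_eq_zero.1 (show z 0 1 * a 1 0 = 0 from ?_)).resolve_right h2
        linear_combination e00 + z 1 0 * h1
      ext i j
      fin_cases i <;> fin_cases j <;> simp [h1, z01, h2]
      field_simp
      linear_combination e10
  · refine ⟨z 0 0 - z 0 1 / a 0 1 * a 0 0, z 0 1 / a 0 1, ?_⟩
    ext i j
    fin_cases i <;> fin_cases j <;> simp [h1]
    · field_simp
      linear_combination -e00
    · field_simp
      linear_combination -e01

/-- The point of the norm-one conic of `a` other than `1` on a line through `1` is unique. -/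
theorem eq_of_slope {T u m u' : F} (hT : T ^ 2 ≠ 4) (hu : u ≠ 0) (hu' : u' ≠ 0)
    (h : (1 + u) ^ 2 + T * (1 + u) * (m * u) + (m * u) ^ 2 = 1)
    (h' : (1 + u') ^ 2 + T * (1 + u') * (m * u') + (m * u') ^ 2 = 1) : u = u' := by
  have e : u * (1 + T * m + m ^ 2) + (2 + T * m) = 0 := by
    refine (mul_eq_zero.1 (show u * (u * (1 + T * m + m ^ 2) + (2 + T * m)) = 0 from ?_)).resolve_left hu
    linear_combination h
  have e' : u' * (1 + T * m + m ^ 2) + (2 + T * m) = 0 := by
    refine (mul_eq_zero.1 (show u' * (u' * (1 + T * m + m ^ 2) + (2 + T * m)) = 0 from ?_)).resolve_left hu'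
    linear_combination h'
  by_contra hne
  have h1 : 1 + T * m + m ^ 2 = 0 := by
    refine (mul_eq_zero.1 (show (u - u') * (1 + T * m + m ^ 2) = 0 from ?_)).resolve_left (sub_ne_zero.2 hne)
    linear_combination e - e'
  have h2 : 2 + T * m = 0 := by linear_combination e - u * h1
  refine hT ?_
  linear_combination (T * m + T * T - 2) * h2 - (T * T) * h1

theorem trace_conj (g a : SL(2, F)) :
    (↑(g * a * g⁻¹) : Matrix (Fin 2) (Fin 2) F).trace = (a : Matrix (Fin 2) (Fin 2) F).trace := by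
  rw [Matrix.SpecialLinearGroup.coe_mul, Matrix.trace_mul_comm, ← Matrix.SpecialLinearGroup.coe_mul,
    ← mul_assoc, inv_mul_cancel, one_mul]

/-- An element of odd order conjugating a semisimple element into its commutant centralises it. -/
theorem conj_eq_of_comb (h2 : (2 : F) ≠ 0) {g a : SL(2, F)} (hg : Odd (orderOf g))
    (ha : ¬ ∃ c : F, (a : Matrix (Fin 2) (Fin 2) F) = c • 1)
    (hT : (a : Matrix (Fin 2) (Fin 2) F).trace ^ 2 ≠ 4) (hc : Commute (g * a * g⁻¹) a) : Commute g a := by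
  set A : Matrix (Fin 2) (Fin 2) F := (a : Matrix (Fin 2) (Fin 2) F) with hA
  have hcm : (↑(g * a * g⁻¹) : Matrix (Fin 2) (Fin 2) F) * A =
      A * (↑(g * a * g⁻¹) : Matrix (Fin 2) (Fin 2) F) := by
    rw [hA, ← Matrix.SpecialLinearGroup.coe_mul, ← Matrix.SpecialLinearGroup.coe_mul, hc.eq]
  obtain ⟨α, β, hz⟩ := exists_comb ha hcm
  have htr : 2 * α + β * A.trace = A.trace := by
    have := trace_conj g a
    rw [hz] at this
    simpa [Matrix.trace_fin_two, Matrix.trace_add, two_mul, mul_comm, mul_left_comm] using this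
  have hdA : A.det = 1 := a.2
  have hdet : α ^ 2 + A.trace * α * β + β ^ 2 = 1 := by
    have hd : (α • (1 : Matrix (Fin 2) (Fin 2) F) + β • A).det = 1 := by rw [← hz]; exact (g * a * g⁻¹).2
    rw [Matrix.det_fin_two] at hd hdA
    simp at hd
    rw [Matrix.trace_fin_two]
    linear_combination hd - β ^ 2 * hdA
  have hT' : A.trace ^ 2 - 4 ≠ 0 := sub_ne_zero.2 hT
  have hβ : (β - 1) * (β + 1) = 0 := by
    refine (mul_eq_zero.1 (show (A.trace ^ 2 - 4) * ((β - 1) * (β + 1)) = 0 from ?_)).resolve_left hT'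
    linear_combination (-4 : F) * hdet + (A.trace + A.trace * β + 2 * α) * htr
  rcases mul_eq_zero.1 hβ with hb | hb
  · have hα : α = 0 := (mul_eq_zero.1
      (show 2 * α = 0 by linear_combination htr - A.trace * hb)).resolve_left h2
    refine mul_inv_eq_iff_eq_mul.1 (Subtype.ext ?_)
    show (↑(g * a * g⁻¹) : Matrix (Fin 2) (Fin 2) F) = A
    rw [hz, hα, show β = 1 by linear_combination hb]
    simp
  · have hα : α = A.trace := mul_left_cancel₀ h2 (by linear_combination htr - A.trace * hb)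
    have hinv : g * a * g⁻¹ = a⁻¹ := by
      refine Subtype.ext ?_
      show (↑(g * a * g⁻¹) : Matrix (Fin 2) (Fin 2) F) = ↑a⁻¹
      rw [hz, Matrix.SpecialLinearGroup.coe_inv, Matrix.adjugate_fin_two, hα,
        show β = -1 by linear_combination hb, Matrix.trace_fin_two]
      ext i j
      fin_cases i <;> fin_cases j <;> simp [hA]
    have hg2 : Commute (g ^ 2) a := by
      refine mul_inv_eq_iff_eq_mul.1 ?_
      calc g ^ 2 * a * (g ^ 2)⁻¹ = g * (g * a * g⁻¹) * g⁻¹ := by rw [pow_two]; group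
        _ = g * a⁻¹ * g⁻¹ := by rw [hinv]
        _ = (g * a * g⁻¹)⁻¹ := by group
        _ = a := by rw [hinv, inv_inv]
    obtain ⟨j, hj⟩ := hg
    have h3 := hg2.pow_left (j + 1)
    rwa [← pow_mul, show 2 * (j + 1) = orderOf g + 1 by omega, pow_succ, pow_orderOf_eq_one,
      one_mul] at h3

/-- A nonzero nilpotent matrix kills one line only. -/
theorem exists_line_of_nilpotent {N : Matrix (Fin 2) (Fin 2) F} (h2 : N * N = 0) (hN : N ≠ 0) :
    ∃ v : Fin 2 → F, v ≠ 0 ∧ N *ᵥ v = 0 ∧ ∀ w, N *ᵥ w = 0 → ∃ c : F, w = c • v := by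
  have e00 := congrFun (congrFun h2 0) 0
  have e01 := congrFun (congrFun h2 0) 1
  have e11 := congrFun (congrFun h2 1) 1
  simp [Matrix.mul_apply, Fin.sum_univ_two] at e00 e01 e11
  by_cases h01 : N 0 1 = 0
  · have h00 : N 0 0 = 0 := mul_self_eq_zero.1 (by linear_combination e00 - N 1 0 * h01)
    have h11 : N 1 1 = 0 := mul_self_eq_zero.1 (by linear_combination e11 - N 1 0 * h01)
    have h10 : N 1 0 ≠ 0 := fun h => hN (by ext i j; fin_cases i <;> fin_cases j <;> assumption)
    refine ⟨![0, 1], fun h => by simpa using congrFun h 1, ?_, fun w hw => ⟨w 1, ?_⟩⟩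
    · ext i; fin_cases i <;> simp [Matrix.mulVec, dotProduct, Fin.sum_univ_two, h01, h11]
    · have h := congrFun hw 1
      simp [Matrix.mulVec, dotProduct, Fin.sum_univ_two, h11, h10] at h
      ext i; fin_cases i <;> simp [h]
  · have hs : N 0 0 + N 1 1 = 0 :=
      (mul_eq_zero.1 (show N 0 1 * (N 0 0 + N 1 1) = 0 by linear_combination e01)).resolve_left h01
    refine ⟨![N 0 1, N 1 1], fun h => h01 (by simpa using congrFun h 0), ?_,
      fun w hw => ⟨w 0 / N 0 1, ?_⟩⟩
    · ext i; fin_cases i <;> simp [Matrix.mulVec, dotProduct, Fin.sum_univ_two]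
      · linear_combination N 0 1 * hs
      · linear_combination e11
    · have h := congrFun hw 0
      simp [Matrix.mulVec, dotProduct, Fin.sum_univ_two] at h
      ext i; fin_cases i <;> simp [h01]
      field_simp
      linear_combination h - w 0 * hs

variable {r : ℕ} [Fact r.Prime]

theorem sub_one_pow_char (u : SL(2, ZMod r)) :
    ((u : Matrix (Fin 2) (Fin 2) (ZMod r)) - 1) ^ r = (u : Matrix (Fin 2) (Fin 2) (ZMod r)) ^ r - 1 := by
  rw [sub_pow_char_of_commute r (Commute.one_right _), one_pow]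

/-- An element of order `r` is unipotent. -/
theorem sq_sub_one_of_pow {u : SL(2, ZMod r)} (hu : u ^ r = 1) :
    ((u : Matrix (Fin 2) (Fin 2) (ZMod r)) - 1) * ((u : Matrix (Fin 2) (Fin 2) (ZMod r)) - 1) = 0 := by
  set N := (u : Matrix (Fin 2) (Fin 2) (ZMod r)) - 1 with hN
  have hnil : N ^ r = 0 := by
    rw [hN, sub_one_pow_char, ← Matrix.SpecialLinearGroup.coe_pow, hu, Matrix.SpecialLinearGroup.coe_one,
      sub_self]
  have hd : N.det = 0 := by
    have := congrArg Matrix.det hnil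
    rw [Matrix.det_pow, Matrix.det_zero] at this
    exact eq_zero_of_pow_eq_zero this
  have hcoe : (u : Matrix (Fin 2) (Fin 2) (ZMod r)) = N + 1 := by rw [hN]; simp
  have h1 : (N + 1).det = 1 := by rw [← hcoe]; exact u.2
  rw [Matrix.det_fin_two] at hd h1
  simp at h1
  have ht : N 0 0 + N 1 1 = 0 := by linear_combination h1 - hd
  ext i j
  fin_cases i <;> fin_cases j <;> simp [Matrix.mul_apply, Fin.sum_univ_two]
  · linear_combination N 0 0 * ht - hd
  · linear_combination N 0 1 * ht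
  · linear_combination N 1 0 * ht
  · linear_combination N 1 1 * ht - hd

/-- An element of odd order other than `1` whose trace squared is four has order dividing `r`. -/
theorem pow_eq_one_of_trace (hr2 : r ≠ 2) {a : SL(2, ZMod r)} (ha : Odd (orderOf a))
    (hT : (a : Matrix (Fin 2) (Fin 2) (ZMod r)).trace ^ 2 = 4) : a ^ r = 1 := by
  set A := (a : Matrix (Fin 2) (Fin 2) (ZMod r)) with hA
  have hr : 2 ≤ r := (Fact.out : r.Prime).two_le
  obtain ⟨c, hc, hT'⟩ : ∃ c : ZMod r, (c = 1 ∨ c = -1) ∧ A.trace = 2 * c := by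
    rcases mul_eq_zero.1 (show (A.trace - 2) * (A.trace + 2) = 0 by linear_combination hT) with h | h
    · exact ⟨1, Or.inl rfl, by linear_combination h⟩
    · exact ⟨-1, Or.inr rfl, by linear_combination h⟩
  have hsq : (A - c • 1) * (A - c • 1) = 0 := by
    have hd : A.det = 1 := a.2
    rw [Matrix.det_fin_two] at hd
    rw [Matrix.trace_fin_two] at hT'
    have hc2 : c * c = 1 := by rcases hc with rfl | rfl <;> ring
    ext i j
    fin_cases i <;> fin_cases j <;> simp [Matrix.mul_apply, Fin.sum_univ_two]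
    · linear_combination A 0 0 * hT' - hd + hc2
    · linear_combination A 0 1 * hT'
    · linear_combination A 1 0 * hT'
    · linear_combination A 1 1 * hT' - hd + hc2
  have hz : A ^ r = c • 1 := by
    have h0 : (A - c • 1) ^ r = 0 := pow_eq_zero_of_le hr (by rw [pow_two, hsq])
    rw [sub_pow_char_of_commute r ((Commute.one_right A).smul_right c), smul_pow, one_pow,
      ZMod.pow_card, sub_eq_zero] at h0
    exact h0
  rcases hc with rfl | rfl
  · exact Subtype.ext (by rw [Matrix.SpecialLinearGroup.coe_pow, ← hA, hz, one_smul]; rfl)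
  · exfalso
    have h1 : a ^ (2 * r) = 1 := Subtype.ext (by
      rw [Matrix.SpecialLinearGroup.coe_pow, ← hA, mul_comm, pow_mul, hz]; simp)
    have h3 : orderOf a ∣ r :=
      (Nat.coprime_two_right.2 ha).dvd_of_dvd_mul_left (orderOf_dvd_of_pow_eq_one h1)
    have h4 : (-1 : ZMod r) = 1 := by
      have h5 := hz
      rw [hA, ← Matrix.SpecialLinearGroup.coe_pow, orderOf_dvd_iff_pow_eq_one.1 h3] at h5
      have h6 := congrFun (congrFun h5 0) 0
      simp at h6
      linear_combination -h6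
    haveI : Fact (2 < r) := ⟨by omega⟩
    exact ZMod.neg_one_ne_one h4

/-- A subgroup of odd order of `SL(2, r)` is abelian of order at most `r + 1`, or the matrices normalising it
preserve one line. -/
theorem dichotomy (hr2 : r ≠ 2) (K : Subgroup SL(2, ZMod r)) (hK : Odd (Nat.card K)) :
    ((∀ a ∈ K, ∀ b ∈ K, Commute a b) ∧ Nat.card K ≤ r + 1) ∨
      ∃ v : Fin 2 → ZMod r, v ≠ 0 ∧ ∀ M : Matrix (Fin 2) (Fin 2) (ZMod r), IsUnit M →
        (∀ k ∈ K, ∃ k' ∈ K, M * (k : Matrix (Fin 2) (Fin 2) (ZMod r)) =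
          (k' : Matrix (Fin 2) (Fin 2) (ZMod r)) * M) → ∃ c : ZMod r, M *ᵥ v = c • v := by
  classical
  have h2 : (2 : ZMod r) ≠ 0 := fun h => hr2 <| ((Nat.prime_dvd_prime_iff_eq (Fact.out : r.Prime)
    Nat.prime_two).1 ((ZMod.natCast_eq_zero_iff 2 r).1 (by exact_mod_cast h)))
  by_cases hbot : K = ⊥
  · subst hbot
    exact Or.inl ⟨fun a ha b _ => by rw [mem_bot.1 ha]; exact Commute.one_left b, by simp⟩
  haveI : Group.IsSolvable K := S0205.result hK
  obtain ⟨n, hn1, hn2⟩ : ∃ n, derivedSeries K n ≠ ⊥ ∧ derivedSeries K (n + 1) = ⊥ := by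
    have hex : ∃ n, derivedSeries K n = ⊥ := Group.IsSolvable.solvable
    obtain ⟨m, hm⟩ : ∃ m, Nat.find hex = m + 1 := Nat.exists_eq_succ_of_ne_zero fun h0 => by
      have := Nat.find_spec hex
      rw [h0, derivedSeries_zero] at this
      refine hbot ((Subgroup.eq_bot_iff_forall K).2 fun x hx => ?_)
      exact congrArg Subtype.val (mem_bot.1 (this.le (mem_top (⟨x, hx⟩ : K))))
    exact ⟨m, Nat.find_min hex (by omega), hm ▸ Nat.find_spec hex⟩
  set A' := derivedSeries K n with hA'
  have hab : ∀ a ∈ A', ∀ c ∈ A', Commute a c := fun a ha c hc => by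
    rw [derivedSeries_succ] at hn2
    exact commutatorElement_eq_one_iff_commute.1 (mem_bot.1 (hn2 ▸ commutator_mem_commutator ha hc))
  -- the action of a normalising matrix
  have key : ∀ M : Matrix (Fin 2) (Fin 2) (ZMod r), IsUnit M →
      (∀ k ∈ K, ∃ k' ∈ K, M * (k : Matrix (Fin 2) (Fin 2) (ZMod r)) =
        (k' : Matrix (Fin 2) (Fin 2) (ZMod r)) * M) → ∀ a ∈ A', ∃ a' ∈ A',
      M * ((a : SL(2, ZMod r)) : Matrix (Fin 2) (Fin 2) (ZMod r)) =
        ((a' : SL(2, ZMod r)) : Matrix (Fin 2) (Fin 2) (ZMod r)) * M := by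
    intro M hM hn a ha
    choose f hf hf' using fun k : K => hn k k.2
    have huniq : ∀ (x y : SL(2, ZMod r)), (x : Matrix (Fin 2) (Fin 2) (ZMod r)) * M =
        (y : Matrix (Fin 2) (Fin 2) (ZMod r)) * M → x = y :=
      fun x y e => Subtype.ext (hM.mul_right_cancel e)
    let φ : K →* K := MonoidHom.mk' (fun k => ⟨f k, hf k⟩) fun k l => Subtype.ext (huniq _ _ (by
      show (f (k * l) : Matrix (Fin 2) (Fin 2) (ZMod r)) * M =
        ((f k * f l : SL(2, ZMod r)) : Matrix (Fin 2) (Fin 2) (ZMod r)) * M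
      rw [← hf', Subgroup.coe_mul, Matrix.SpecialLinearGroup.coe_mul, Matrix.SpecialLinearGroup.coe_mul,
        ← mul_assoc, hf', mul_assoc, hf', mul_assoc]))
    exact ⟨φ a, map_derivedSeries_le_derivedSeries φ n (mem_map_of_mem φ ha), hf' a⟩
  by_cases hu : ∃ a ∈ A', a ≠ 1 ∧ a ^ r = 1
  · refine Or.inr ?_
    obtain ⟨a, ha, ha1, har⟩ := hu
    set N := ((a : SL(2, ZMod r)) : Matrix (Fin 2) (Fin 2) (ZMod r)) - 1 with hN
    have hNN : N * N = 0 := sq_sub_one_of_pow (congrArg Subtype.val har)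
    have hN0 : N ≠ 0 := fun h => ha1 (Subtype.ext (Subtype.ext (sub_eq_zero.1 h)))
    obtain ⟨v, hv, hNv, huniqv⟩ := exists_line_of_nilpotent hNN hN0
    refine ⟨v, hv, fun M hM hn => ?_⟩
    obtain ⟨a', ha', hMa⟩ := key M hM hn a ha
    set N' := ((a' : SL(2, ZMod r)) : Matrix (Fin 2) (Fin 2) (ZMod r)) - 1 with hN'
    have hMN : M * N = N' * M := by rw [hN, hN', mul_sub, sub_mul, hMa, mul_one, one_mul]
    have hN'0 : N' ≠ 0 := fun h => hN0 (hM.mul_right_eq_zero.1 (by rw [hMN, h, zero_mul]))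
    have hN'N' : N' * N' = 0 := by
      refine hM.mul_left_eq_zero.1 ?_
      rw [mul_assoc, ← hMN, ← mul_assoc, ← hMN, mul_assoc, hNN, mul_zero]
    obtain ⟨v', -, -, huniq'⟩ := exists_line_of_nilpotent hN'N' hN'0
    have hcomm : N * N' = N' * N := by
      have h := congrArg (fun x : K => ((x : SL(2, ZMod r)) : Matrix (Fin 2) (Fin 2) (ZMod r)))
        (hab a ha a' ha').eq
      simp only [Subgroup.coe_mul, Matrix.SpecialLinearGroup.coe_mul] at h
      simp only [hN, hN', sub_mul, mul_sub, one_mul, mul_one, h]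
      abel
    have hN'v : N' *ᵥ v = 0 := by
      obtain ⟨c, hc⟩ := huniqv (N' *ᵥ v) (by rw [Matrix.mulVec_mulVec, hcomm, ← Matrix.mulVec_mulVec, hNv,
        Matrix.mulVec_zero])
      have h := congrArg (fun X => X *ᵥ v) hN'N'
      simp only [← Matrix.mulVec_mulVec, hc, Matrix.mulVec_smul, smul_smul, Matrix.zero_mulVec] at h
      rw [hc, mul_self_eq_zero.1 ((smul_eq_zero.1 h).resolve_right hv), zero_smul]
    obtain ⟨d, hd⟩ := huniq' v hN'v
    obtain ⟨e, he⟩ := huniq' (M *ᵥ v) (by
      rw [Matrix.mulVec_mulVec, ← hMN, ← Matrix.mulVec_mulVec, hNv, Matrix.mulVec_zero])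
    have hd0 : d ≠ 0 := fun h => hv (by rw [hd, h, zero_smul])
    exact ⟨e / d, by rw [he, hd, smul_smul, div_mul_cancel₀ _ hd0]⟩
  refine Or.inl ?_
  obtain ⟨a, ha, ha1⟩ := (Subgroup.ne_bot_iff_exists_ne_one.1 hn1) |> fun ⟨x, hx⟩ =>
    (⟨x.1, x.2, fun h => hx (Subtype.ext h)⟩ : ∃ a, a ∈ A' ∧ a ≠ 1)
  set A := ((a : SL(2, ZMod r)) : Matrix (Fin 2) (Fin 2) (ZMod r)) with hA
  have hodd : ∀ k : K, Odd (orderOf (k : SL(2, ZMod r))) := fun k =>
    hK.of_dvd_nat (Subgroup.orderOf_dvd_natCard _ k.2)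
  have hT : A.trace ^ 2 ≠ 4 := fun h =>
    hu ⟨a, ha, ha1, Subtype.ext (pow_eq_one_of_trace hr2 (hodd a) h)⟩
  have hns : ¬ ∃ c : ZMod r, A = c • 1 := by
    rintro ⟨c, hc⟩
    refine hT ?_
    have hd : A.det = 1 := (a : SL(2, ZMod r)).2
    rw [hc, Matrix.det_smul, Matrix.det_one, mul_one, Fintype.card_fin] at hd
    rw [hc, Matrix.trace_smul, Matrix.trace_one, Fintype.card_fin, smul_eq_mul, Nat.cast_ofNat]
    linear_combination (4 : ZMod r) * hd
  have hcent : ∀ g ∈ K, Commute g (a : SL(2, ZMod r)) := by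
    intro g hg
    refine conj_eq_of_comb h2 (hodd ⟨g, hg⟩) hns hT ?_
    exact congrArg Subtype.val ((hab _ (Subgroup.Normal.conj_mem inferInstance a ha ⟨g, hg⟩) a ha).eq)
  have hcomb : ∀ g : K, ∃ α β : ZMod r,
      ((g : SL(2, ZMod r)) : Matrix (Fin 2) (Fin 2) (ZMod r)) = α • 1 + β • A :=
    fun g => exists_comb hns (by
      rw [hA, ← Matrix.SpecialLinearGroup.coe_mul, ← Matrix.SpecialLinearGroup.coe_mul, (hcent g g.2).eq])
  choose α β hαβ using hcomb
  refine ⟨fun g hg c hc => Subtype.ext ?_, ?_⟩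
  · show ((g * c : SL(2, ZMod r)) : Matrix (Fin 2) (Fin 2) (ZMod r)) = ↑(c * g)
    rw [Matrix.SpecialLinearGroup.coe_mul, Matrix.SpecialLinearGroup.coe_mul, hαβ ⟨g, hg⟩, hαβ ⟨c, hc⟩]
    simp only [add_mul, mul_add, smul_mul_assoc, mul_smul_comm, one_mul, mul_one, smul_smul, smul_add,
      mul_comm (β ⟨g, hg⟩), mul_comm (α ⟨g, hg⟩)]
    abel
  -- the conic
  set T := A.trace with hTdef
  have hnorm : ∀ g : K, α g ^ 2 + T * α g * β g + β g ^ 2 = 1 := fun g => by
    have hd : (α g • (1 : Matrix (Fin 2) (Fin 2) (ZMod r)) + β g • A).det = 1 := by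
      rw [← hαβ]; exact (g : SL(2, ZMod r)).2
    have hdA : A.det = 1 := (a : SL(2, ZMod r)).2
    rw [Matrix.det_fin_two] at hd hdA
    simp at hd
    rw [hTdef, Matrix.trace_fin_two]
    linear_combination hd - β g ^ 2 * hdA
  have heq : ∀ g g' : K, α g = α g' → β g = β g' → g = g' := fun g g' e e' =>
    Subtype.ext (Subtype.ext (by rw [hαβ g, hαβ g', e, e']))
  let f : K → Option (ZMod r) := fun g => if α g = 1 then
      (if β g = 0 then (if T = 0 then none else some (-2 / T)) else none)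
    else some (β g / (α g - 1))
  have hslope : ∀ g : K, α g ≠ 1 → ∀ m : ZMod r, β g / (α g - 1) = m →
      ∃ u : ZMod r, u ≠ 0 ∧ α g = 1 + u ∧ β g = m * u ∧
        (1 + u) ^ 2 + T * (1 + u) * (m * u) + (m * u) ^ 2 = 1 := by
    intro g hg m hm
    have hu : α g - 1 ≠ 0 := sub_ne_zero.2 hg
    have hb : β g = m * (α g - 1) := by rw [← hm, div_mul_cancel₀ _ hu]
    refine ⟨α g - 1, hu, by ring, hb, ?_⟩
    have := hnorm g
    rw [hb] at this
    linear_combination this
  have htan : ∀ g : K, α g ≠ 1 → T ≠ 0 → β g / (α g - 1) ≠ -2 / T := by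
    intro g hg hT0 e
    obtain ⟨u, hu, -, -, hq⟩ := hslope g hg _ e
    have hm : 2 + T * (-2 / T) = 0 := by field_simp; ring
    generalize -2 / T = m at hq hm
    have h1 : 1 + T * m + m ^ 2 = 0 :=
      (mul_eq_zero.1 (show u ^ 2 * (1 + T * m + m ^ 2) = 0 by linear_combination hq - u * hm)).resolve_left
        (pow_ne_zero 2 hu)
    exact hT (by linear_combination (T * m + T * T - 2) * hm - (T * T) * h1)
  have hone : ∀ g : K, α g = 1 → β g = 0 ∨ β g = -T := fun g hg => by
    have := hnorm g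
    rw [hg] at this
    rcases mul_eq_zero.1 (show β g * (β g + T) = 0 by linear_combination this) with h | h
    · exact Or.inl h
    · exact Or.inr (by linear_combination h)
  have hf : Function.Injective f := by
    intro g g' e
    simp only [f] at e
    by_cases hg : α g = 1 <;> by_cases hg' : α g' = 1
    · refine heq g g' (hg.trans hg'.symm) ?_
      rcases hone g hg with hb | hb <;> rcases hone g' hg' with hb' | hb'
      · rw [hb, hb']
      · by_cases hT0 : T = 0
        · rw [hb, hb', hT0, neg_zero]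
        · simp [hg, hg', hb, hb', hT0] at e
      · by_cases hT0 : T = 0
        · rw [hb, hb', hT0, neg_zero]
        · simp [hg, hg', hb, hb', hT0] at e
      · rw [hb, hb']
    · exfalso
      by_cases hb : β g = 0
      · by_cases hT0 : T = 0
        · simp [hg, hg', hb, hT0] at e
        · simp [hg, hg', hb, hT0] at e
          exact htan g' hg' hT0 (by rw [← e])
      · simp [hg, hg', hb] at e
    · exfalso
      by_cases hb : β g' = 0
      · by_cases hT0 : T = 0
        · simp [hg, hg', hb, hT0] at e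
        · simp [hg, hg', hb, hT0] at e
          exact htan g hg hT0 e
      · simp [hg, hg', hb] at e
    · simp [hg, hg'] at e
      obtain ⟨u, hu, ha1, hb1, hq⟩ := hslope g hg _ e
      obtain ⟨u', hu', ha2, hb2, hq'⟩ := hslope g' hg' _ rfl
      obtain rfl := eq_of_slope hT hu hu' hq hq'
      exact heq g g' (ha1.trans ha2.symm) (hb1.trans hb2.symm)
  have := Nat.card_le_card_of_injective f hf
  rwa [Finite.card_option, Nat.card_zmod] at this

end Cfsg.Agent.GW.OddSL2
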