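import Cfsg.Agent.Lib.GW.PartII.CompExtra
import Cfsg.Agent.Lib.GW.PartII.CompSL2
import Cfsg.Agent.Lib.GW.PartII.CompInverted

/-!
# The inverted centre: the linear action on the extraspecial subgroup

`Extra.small`: `oCore t` modulo `fitCore t` embeds in `SL(2, r)` without an invariant line, so it is abelian of
order at most `r + 1`.
-/

set_option autoImplicit false
set_option linter.style.haveILetI false
set_option linter.unusedSectionVars false

namespace Cfsg.Agent.GW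

open Subgroup
open BSW (mem_cent)
open scoped MatrixGroups Matrix

universe u

variable {G : Type u} [Group G] [Finite G] {S : Sylow 2 G} {t : G}

namespace Extra

variable {τ : G} {W : Subgroup G} {u y x : G}

theorem W_le_oCore (e : Extra t τ W) : W ≤ oCore t := e.le.trans (fitCore_le_oCore t)

theorem comm_tau (e : Extra t τ W) {w z : G} (hw : w ∈ W) (hz : z ∈ zpowers τ) : Commute z w := by
  obtain ⟨n, rfl⟩ := mem_zpowers_iff.1 hz
  exact ((e.central.comm w (e.W_le_oCore hw)).zpow_right n).symm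

theorem br_mem (e : Extra t τ W) {a c : G} (ha : a ∈ W) (hc : c ∈ W) :
    a * c * a⁻¹ * c⁻¹ ∈ zpowers τ := e.bracket a ha c (e.le hc)

/-- The commutator with a fixed element, a homomorphism on `W`. -/
def brk (e : Extra t τ W) (c : W) : W →* G :=
  MonoidHom.mk' (fun a => (a : G) * c * (a : G)⁻¹ * (c : G)⁻¹) fun a a' => by
    have h := e.comm_tau a.2 (e.br_mem a'.2 c.2)
    have h' := e.comm_tau (mul_mem (mul_mem a.2 c.2) (inv_mem a.2)) (e.br_mem a'.2 c.2)
    have h'' := e.comm_tau (inv_mem c.2) (e.br_mem a'.2 c.2)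
    have hc := (h'.mul_right h'').eq
    show ((a * a' : W) : G) * c * ((a * a' : W) : G)⁻¹ * (c : G)⁻¹ = _
    calc ((a * a' : W) : G) * c * ((a * a' : W) : G)⁻¹ * (c : G)⁻¹
        = (a : G) * (a' * c * (a' : G)⁻¹ * (c : G)⁻¹) * (c * (a : G)⁻¹ * (c : G)⁻¹) := by
          push_cast; group
      _ = (a' * c * (a' : G)⁻¹ * (c : G)⁻¹) * (a * (c * (a : G)⁻¹ * (c : G)⁻¹)) := by rw [← h.eq, mul_assoc]
      _ = _ := by rw [← mul_assoc (a : G), ← mul_assoc (a : G), hc]

theorem brk_apply (e : Extra t τ W) (c a : W) :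
    e.brk c a = (a : G) * c * (a : G)⁻¹ * (c : G)⁻¹ := rfl

theorem brk_swap (e : Extra t τ W) (a c : W) : e.brk a c = (e.brk c a)⁻¹ := by
  rw [brk_apply, brk_apply]; group

theorem brk_eq_one (e : Extra t τ W) {z : G} (hz : z ∈ zpowers τ) (hzW : z ∈ W) (c : W) :
    e.brk c ⟨z, hzW⟩ = 1 := by
  rw [brk_apply]
  show z * c * z⁻¹ * (c : G)⁻¹ = 1
  rw [(e.comm_tau c.2 hz).eq, mul_inv_cancel_right, mul_inv_cancel]

/-- The value on coordinates. -/
theorem brk_coord (e : Extra t τ W) (f : Frame t τ W u y x) {w w' : W} {i j k i' j' k' : ℤ}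
    (hw : (w : G) = x ^ i * y ^ j * τ ^ k) (hw' : (w' : G) = x ^ i' * y ^ j' * τ ^ k') :
    e.brk w' w = (x * y * x⁻¹ * y⁻¹) ^ (i * j' - j * i') := by
  set X : W := ⟨x, f.x_mem⟩
  set Y : W := ⟨y, f.y_mem⟩
  set T : W := ⟨τ, e.mem⟩
  have key : ∀ (c v : W) (a b d : ℤ), (v : G) = x ^ a * y ^ b * τ ^ d →
      e.brk c v = e.brk c X ^ a * e.brk c Y ^ b := by
    intro c v a b d hv
    rw [show v = X ^ a * Y ^ b * T ^ d from Subtype.ext (by push_cast; exact hv), map_mul, map_mul,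
      map_zpow, map_zpow, map_zpow, e.brk_eq_one (mem_zpowers τ) e.mem, one_zpow, mul_one]
  have hYX : e.brk Y X = x * y * x⁻¹ * y⁻¹ := rfl
  have hXX : e.brk X X = 1 := by rw [brk_apply]; group
  have hYY : e.brk Y Y = 1 := by rw [brk_apply]; group
  rw [key w' w i j k hw, e.brk_swap w' X, e.brk_swap w' Y, key X w' i' j' k' hw', key Y w' i' j' k' hw',
    hXX, hYY, e.brk_swap X Y, hYX, one_zpow, one_zpow, one_mul, mul_one]
  simp only [← zpow_neg_one, ← zpow_mul, ← zpow_add]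
  congr 1
  ring

/-- Coordinates modulo `⟨τ⟩` are unique modulo `r`. -/
theorem coord_eq (hyp : Hyp S t) (e : Extra t τ W) (f : Frame t τ W u y x) {i j k i' j' k' : ℤ}
    (h : x ^ i * y ^ j * τ ^ k = x ^ i' * y ^ j' * τ ^ k') :
    ((i : ℤ) : ZMod (orderOf τ)) = i' ∧ ((j : ℤ) : ZMod (orderOf τ)) = j' := by
  haveI := Fact.mk e.central.prime
  set c := x * y * x⁻¹ * y⁻¹ with hc
  have hc1 : c ≠ 1 := fun h1 => f.not_commute (mul_inv_eq_iff_eq_mul.1 (mul_inv_eq_one.1 h1))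
  have hco : orderOf c = orderOf τ := orderOf_eq_prime (by
    obtain ⟨n, hn⟩ := mem_zpowers_iff.1 (e.br_mem f.x_mem f.y_mem)
    rw [← zpow_natCast, ← show τ ^ n = c from hn, ← zpow_mul, mul_comm, zpow_mul, zpow_natCast,
      pow_orderOf_eq_one, one_zpow]) hc1
  have hw : x ^ i * y ^ j * τ ^ k ∈ W :=
    mul_mem (mul_mem (zpow_mem f.x_mem i) (zpow_mem f.y_mem j)) (zpow_mem e.mem k)
  have hY : (y : G) = x ^ (0 : ℤ) * y ^ (1 : ℤ) * τ ^ (0 : ℤ) := by simp
  have hi : ((i : ℤ) : ZMod (orderOf τ)) = i' := by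
    have e1 := e.brk_coord f (w := ⟨_, hw⟩) (w' := ⟨y, f.y_mem⟩) rfl hY
    have e2 := e.brk_coord f (w := ⟨_, hw⟩) (w' := ⟨y, f.y_mem⟩) (show _ = _ from h) hY
    rw [e1, ← hc, mul_one, mul_zero, sub_zero, mul_one, mul_zero, sub_zero] at e2
    rw [ZMod.intCast_eq_intCast_iff, ← hco]
    exact zpow_eq_zpow_iff_modEq.1 e2
  refine ⟨hi, ?_⟩
  have hxi : x ^ i = x ^ i' := by
    refine zpow_eq_zpow_iff_modEq.2 ?_
    have hd : (orderOf x : ℤ) ∣ (orderOf τ : ℤ) :=
      Int.natCast_dvd_natCast.2 (orderOf_dvd_of_pow_eq_one (e.exp x f.x_mem))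
    exact (((ZMod.intCast_eq_intCast_iff i i' _).1 hi).of_dvd hd)
  rw [hxi, mul_assoc, mul_assoc] at h
  have h' := mul_left_cancel h
  have hyj : y ^ (j - j') = τ ^ (k' - k) := by
    calc y ^ (j - j') = (y ^ j')⁻¹ * (y ^ j * τ ^ k) * (τ ^ k)⁻¹ := by
          rw [sub_eq_neg_add, zpow_add, zpow_neg]; group
      _ = τ ^ (k' - k) := by rw [h', zpow_sub]; group
  have hfix : y ^ (j - j') = 1 := by
    refine CompInverted.eq_one_of_commute_inverted (a := u) ?_ ?_ ?_
    · exact (hyp.odd_oCore t).of_dvd_nat (Subgroup.orderOf_dvd_natCard _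
        (zpow_mem (e.W_le_oCore f.y_mem) _))
    · rw [hyj, ← conj_zpow, e.central.inverts u f.order_u f.ne f.comm, inv_zpow]
    · exact (show Commute y u from mem_cent.1 f.mem_y.2).zpow_left _
  rw [← f.order_y, ZMod.intCast_eq_intCast_iff]
  exact zpow_eq_zpow_iff_modEq.1 (by rwa [zpow_sub, mul_inv_eq_one] at hfix)

/-- The coordinates modulo `⟨τ⟩`. -/
theorem exists_col (hyp : Hyp S t) (e : Extra t τ W) (f : Frame t τ W u y x) :
    ∃ col : W →* Multiplicative (Fin 2 → ZMod (orderOf τ)),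
      (∀ (w : W) (i j k : ℤ), (w : G) = x ^ i * y ^ j * τ ^ k →
        Multiplicative.toAdd (col w) = ![(i : ZMod (orderOf τ)), (j : ZMod (orderOf τ))]) ∧
      ∀ w : W, col w = 1 → (w : G) ∈ zpowers τ := by
  haveI := Fact.mk e.central.prime
  choose I J K hIJK using fun w : W => f.gen w w.2
  let cf : W → Multiplicative (Fin 2 → ZMod (orderOf τ)) := fun w =>
    Multiplicative.ofAdd ![(I w : ZMod (orderOf τ)), (J w : ZMod (orderOf τ))]
  have hcf : ∀ (w : W) (i j k : ℤ), (w : G) = x ^ i * y ^ j * τ ^ k →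
      Multiplicative.toAdd (cf w) = ![(i : ZMod (orderOf τ)), (j : ZMod (orderOf τ))] := by
    intro w i j k hw
    obtain ⟨h1, h2⟩ := e.coord_eq hyp f ((hIJK w).symm.trans hw)
    simp [cf, h1, h2]
  refine ⟨MonoidHom.mk' cf fun a c => ?_, hcf, fun w hw => ?_⟩
  · have ha := hIJK a
    have hc := hIJK c
    -- collect modulo `⟨τ⟩`
    obtain ⟨n, hn⟩ := mem_zpowers_iff.1
      (e.br_mem (zpow_mem f.y_mem (J a)) (zpow_mem f.x_mem (I c)))
    have hswap : y ^ J a * x ^ I c = x ^ I c * y ^ J a * τ ^ n := by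
      rw [(e.comm_tau (mul_mem (zpow_mem f.x_mem (I c)) (zpow_mem f.y_mem (J a)))
        (zpow_mem (mem_zpowers τ) n)).eq.symm, hn]
      group
    have hac : ((a * c : W) : G) = x ^ (I a + I c) * y ^ (J a + J c) * τ ^ (n + K a + K c) := by
      have cX := (e.comm_tau (zpow_mem f.x_mem (I c)) (zpow_mem (mem_zpowers τ) (K a))).eq
      have cY := (e.comm_tau (zpow_mem f.y_mem (J c)) (zpow_mem (mem_zpowers τ) (n + K a))).eq
      rw [Subgroup.coe_mul, ha, hc]
      calc x ^ I a * y ^ J a * τ ^ K a * (x ^ I c * y ^ J c * τ ^ K c)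
          = x ^ I a * y ^ J a * (τ ^ K a * x ^ I c) * y ^ J c * τ ^ K c := by group
        _ = x ^ I a * (y ^ J a * x ^ I c) * τ ^ K a * y ^ J c * τ ^ K c := by rw [cX]; group
        _ = x ^ I a * x ^ I c * y ^ J a * (τ ^ (n + K a) * y ^ J c) * τ ^ K c := by
            rw [hswap, zpow_add τ n]; group
        _ = x ^ (I a + I c) * y ^ (J a + J c) * τ ^ (n + K a + K c) := by
            rw [cY, zpow_add x, zpow_add y, zpow_add τ (n + K a)]; group
    refine Multiplicative.toAdd.injective ?_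
    rw [toAdd_mul, hcf _ _ _ _ hac, hcf a _ _ _ ha, hcf c _ _ _ hc]
    simp
  · have h0 := congrArg Multiplicative.toAdd hw
    rw [toAdd_one] at h0
    have h1 : (I w : ZMod (orderOf τ)) = 0 := by simpa [cf] using congrFun h0 0
    have h2 : (J w : ZMod (orderOf τ)) = 0 := by simpa [cf] using congrFun h0 1
    rw [ZMod.intCast_zmod_eq_zero_iff_dvd] at h1 h2
    rw [hIJK w, orderOf_dvd_iff_zpow_eq_one.1 ((Int.natCast_dvd_natCast.2
        (orderOf_dvd_of_pow_eq_one (e.exp x f.x_mem))).trans h1),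
      orderOf_dvd_iff_zpow_eq_one.1 (f.order_y ▸ h2), one_mul, one_mul]
    exact zpow_mem (mem_zpowers τ) _

set_option maxHeartbeats 800000 in
-- coordinates in a quotient, many rewrites
theorem small (hyp : Hyp S t) (e : Extra t τ W) (hs : Split t τ W) : Small t τ := by
  haveI := Fact.mk e.central.prime
  obtain ⟨b, hb⟩ := hyp.exists_pair hyp.orderT
  obtain ⟨y, x, f⟩ := hs.frame b hb.hb hb.ne.symm hb.comm.symm
  obtain ⟨col, hcol, hker⟩ := e.exists_col hyp f
  have hr2 : orderOf τ ≠ 2 := fun h => by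
    have := (hyp.odd_oCore t).of_dvd_nat (Subgroup.orderOf_dvd_natCard _ (e.W_le_oCore e.mem))
    rw [h] at this
    exact absurd this (by decide)
  let cj : Cent t → W → W := fun g w =>
    ⟨(g : G) * w * (g : G)⁻¹, (mem_normalizer_iff.1 (e.normal g.2) w).1 w.2⟩
  have hcjmul : ∀ g g' w, cj (g * g') w = cj g (cj g' w) := fun g g' w => Subtype.ext (by
    simp [cj, mul_assoc])
  let X : W := ⟨x, f.x_mem⟩
  let Y : W := ⟨y, f.y_mem⟩
  let ρ : Cent t → Matrix (Fin 2) (Fin 2) (ZMod (orderOf τ)) := fun g =>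
    Matrix.of fun i j => ![Multiplicative.toAdd (col (cj g X)) i, Multiplicative.toAdd (col (cj g Y)) i] j
  -- the action on coordinates
  have hact : ∀ (g : Cent t) (w : W),
      Multiplicative.toAdd (col (cj g w)) = ρ g *ᵥ Multiplicative.toAdd (col w) := by
    intro g w
    obtain ⟨i, j, k, hw⟩ := f.gen w w.2
    let φ : W →* Multiplicative (Fin 2 → ZMod (orderOf τ)) :=
      col.comp (MonoidHom.mk' (cj g) fun a c => Subtype.ext (by simp [cj, mul_assoc]))
    have hTφ : φ ⟨τ, e.mem⟩ = 1 := by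
      set z := cj g ⟨τ, e.mem⟩ with hz
      obtain ⟨a, c, d, hz'⟩ := f.gen z z.2
      have hgi : (g : G)⁻¹ ∈ normalizer (W : Set G) := e.normal (inv_mem g.2)
      have hcen : ∀ v : W, e.brk v z = 1 := fun v => by
        have hv : (g : G)⁻¹ * v * (g : G) ∈ W := by
          have := (mem_normalizer_iff.1 hgi v).1 v.2
          rwa [inv_inv] at this
        have hc := ((e.comm_tau hv (mem_zpowers τ)).map (MulAut.conj (g : G))).eq
        rw [MulAut.conj_apply, MulAut.conj_apply,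
          show (g : G) * ((g : G)⁻¹ * v * g) * (g : G)⁻¹ = v by group] at hc
        rw [brk_apply]
        show (g : G) * τ * (g : G)⁻¹ * v * ((g : G) * τ * (g : G)⁻¹)⁻¹ * (v : G)⁻¹ = 1
        rw [hc, mul_inv_cancel_right, mul_inv_cancel]
      set q := x * y * x⁻¹ * y⁻¹ with hq
      have hqo : orderOf q = orderOf τ := orderOf_eq_prime (by
          obtain ⟨n, hn⟩ := mem_zpowers_iff.1 (e.br_mem f.x_mem f.y_mem)
          rw [← zpow_natCast, hq, ← hn, ← zpow_mul, mul_comm, zpow_mul, zpow_natCast, pow_orderOf_eq_one,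
            one_zpow])
        (fun h => f.not_commute (mul_inv_eq_iff_eq_mul.1 (mul_inv_eq_one.1 h)))
      have eY := e.brk_coord f (w := z) (w' := Y) (i' := 0) (j' := 1) (k' := 0) hz' (by simp [Y])
      have eX := e.brk_coord f (w := z) (w' := X) (i' := 1) (j' := 0) (k' := 0) hz' (by simp [X])
      rw [hcen, mul_one, mul_zero, sub_zero] at eY
      rw [hcen, mul_zero, mul_one, zero_sub] at eX
      have hd : ∀ m : ℤ, 1 = q ^ m → (m : ZMod (orderOf τ)) = 0 := fun m hm => by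
        rw [ZMod.intCast_zmod_eq_zero_iff_dvd, ← hqo]
        exact orderOf_dvd_iff_zpow_eq_one.2 hm.symm
      have hc0 := hd _ eX
      push_cast at hc0
      refine Multiplicative.toAdd.injective ?_
      show Multiplicative.toAdd (col z) = _
      rw [hcol z a c d hz', hd a eY, neg_eq_zero.1 hc0]
      simp
    have hwX : w = X ^ i * Y ^ j * (⟨τ, e.mem⟩ : W) ^ k := Subtype.ext (by push_cast; exact hw)
    show Multiplicative.toAdd (φ w) = _
    have hφ : φ w = φ X ^ i * φ Y ^ j := by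
      rw [hwX, map_mul φ, map_mul φ, map_zpow φ, map_zpow φ, map_zpow φ, hTφ, one_zpow, mul_one]
    rw [hcol w i j k hw, hφ]
    ext l
    simp only [toAdd_mul, toAdd_zpow, Pi.add_apply, Pi.smul_apply, Matrix.mulVec, dotProduct,
      Fin.sum_univ_two, zsmul_eq_mul]
    show (i : ZMod (orderOf τ)) * Multiplicative.toAdd (col (cj g X)) l +
      (j : ZMod (orderOf τ)) * Multiplicative.toAdd (col (cj g Y)) l = _
    simp [ρ, mul_comm]
  have heX : Multiplicative.toAdd (col X) = ![1, 0] := by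
    rw [hcol X 1 0 0 (by simp [X])]; simp
  have heY : Multiplicative.toAdd (col Y) = ![0, 1] := by
    rw [hcol Y 0 1 0 (by simp [Y])]; simp
  have hone : ρ 1 = 1 := by
    ext i j
    have h1 : cj 1 X = X := Subtype.ext (by simp [cj])
    have h2 : cj 1 Y = Y := Subtype.ext (by simp [cj])
    simp only [ρ, h1, h2, heX, heY]
    fin_cases i <;> fin_cases j <;> simp
  have hmul : ∀ g g', ρ (g * g') = ρ g * ρ g' := by
    intro g g'
    ext i j
    have key : ∀ v : W, Multiplicative.toAdd (col (cj (g * g') v)) i =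
        ρ g i 0 * Multiplicative.toAdd (col (cj g' v)) 0 + ρ g i 1 * Multiplicative.toAdd (col (cj g' v)) 1 := by
      intro v
      rw [hcjmul, hact g (cj g' v)]
      simp only [Matrix.mulVec, dotProduct, Fin.sum_univ_two]
    rw [Matrix.mul_apply, Fin.sum_univ_two]
    fin_cases j
    · exact key X
    · exact key Y
  have hdet : ∀ g : Cent t, (g : G) ∈ oCore t → (ρ g).det = 1 := by
    intro g hg
    obtain ⟨a, c, d, hX'⟩ := f.gen _ (cj g X).2
    obtain ⟨a', c', d', hY'⟩ := f.gen _ (cj g Y).2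
    set z := x * y * x⁻¹ * y⁻¹ with hz
    have h1 := e.brk_coord f (w := cj g X) (w' := cj g Y) hX' hY'
    have h2 : e.brk (cj g Y) (cj g X) = z := by
      have hcz : Commute (g : G) z := by
        obtain ⟨n, hn⟩ := mem_zpowers_iff.1 (e.br_mem f.x_mem f.y_mem)
        rw [hz, ← hn]
        exact (e.central.comm g hg).zpow_right n
      rw [brk_apply]
      show (g : G) * x * (g : G)⁻¹ * ((g : G) * y * (g : G)⁻¹) * ((g : G) * x * (g : G)⁻¹)⁻¹ *
        ((g : G) * y * (g : G)⁻¹)⁻¹ = z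
      calc _ = (g : G) * z * (g : G)⁻¹ := by rw [hz]; group
        _ = z := by rw [hcz.eq, mul_inv_cancel_right]
    rw [h2] at h1
    have hzo : orderOf z = orderOf τ := orderOf_eq_prime (by
        obtain ⟨n, hn⟩ := mem_zpowers_iff.1 (e.br_mem f.x_mem f.y_mem)
        rw [← zpow_natCast, hz, ← hn, ← zpow_mul, mul_comm, zpow_mul, zpow_natCast, pow_orderOf_eq_one,
          one_zpow])
      (fun h => f.not_commute (mul_inv_eq_iff_eq_mul.1 (mul_inv_eq_one.1 h)))
    have h3 : (orderOf z : ℤ) ∣ (a * c' - c * a') - 1 :=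
      orderOf_dvd_sub_iff_zpow_eq_zpow.2 (by rw [zpow_one]; exact h1.symm)
    rw [hzo, ← ZMod.intCast_zmod_eq_zero_iff_dvd] at h3
    push_cast at h3
    rw [Matrix.det_fin_two]
    simp only [ρ, hcol _ _ _ _ hX', hcol _ _ _ _ hY', Matrix.of_apply]
    simp
    linear_combination h3
  let θ : oCore t →* SL(2, ZMod (orderOf τ)) := MonoidHom.mk'
    (fun o => ⟨ρ ⟨o, Hyp.oCore_le_cent t o.2⟩, hdet _ o.2⟩) fun a c => Subtype.ext
      (hmul ⟨a, Hyp.oCore_le_cent t a.2⟩ ⟨c, Hyp.oCore_le_cent t c.2⟩)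
  have hθ : ∀ o : oCore t, θ o = 1 ↔ (o : G) ∈ fitCore t := by
    intro o
    constructor
    · intro h
      refine hs.mem_fit o o.2 fun w hw => ?_
      have h' : ρ ⟨o, Hyp.oCore_le_cent t o.2⟩ = 1 := congrArg Subtype.val h
      have h1 := hact ⟨o, Hyp.oCore_le_cent t o.2⟩ ⟨w, hw⟩
      rw [h', Matrix.one_mulVec] at h1
      have h2 := hker (cj _ ⟨w, hw⟩ * (⟨w, hw⟩ : W)⁻¹) (by
        rw [map_mul, map_inv, Multiplicative.toAdd.injective h1, mul_inv_cancel])
      simpa [cj] using h2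
    · intro h
      refine Subtype.ext ?_
      show ρ ⟨o, Hyp.oCore_le_cent t o.2⟩ = 1
      have hfix : ∀ w : W, col (cj ⟨o, Hyp.oCore_le_cent t o.2⟩ w) = col w := by
        intro w
        obtain ⟨n, hn⟩ := mem_zpowers_iff.1 (hs.fit_bracket o h w w.2)
        have h1 : cj ⟨o, Hyp.oCore_le_cent t o.2⟩ w = (⟨τ, e.mem⟩ : W) ^ n * w := Subtype.ext (by
          simp [cj, hn])
        have h2 : col (⟨τ, e.mem⟩ : W) = 1 := Multiplicative.toAdd.injective (by
          rw [hcol _ 0 0 1 (by simp)]; simp)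
        rw [h1, map_mul, map_zpow, h2, one_zpow, one_mul]
      rw [← hone]
      ext i j
      simp only [ρ, hfix]
      simp [cj, X, Y]
  have hK : Nat.card θ.range = (fitCore t).relIndex (oCore t) := by
    rw [← Subgroup.index_ker]
    exact congrArg Subgroup.index (Subgroup.ext fun o => by rw [MonoidHom.mem_ker, hθ, mem_subgroupOf])
  rcases OddSL2.dichotomy hr2 θ.range ((hyp.odd_oCore t).of_dvd_nat (Subgroup.card_range_dvd θ)) with
    ⟨hab, hcard⟩ | ⟨v, hv, hline⟩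
  · refine ⟨hK ▸ hcard, fun a ha c hc => ?_⟩
    exact (hθ (⟨a, ha⟩ * ⟨c, hc⟩ * (⟨a, ha⟩ : oCore t)⁻¹ * (⟨c, hc⟩ : oCore t)⁻¹)).1 (by
      rw [map_mul, map_mul, map_mul, map_inv, map_inv, (hab _ ⟨_, rfl⟩ _ ⟨_, rfl⟩).eq]
      group)
  exfalso
  have hn : ∀ g : Cent t, ∃ c : ZMod (orderOf τ), ρ g *ᵥ v = c • v := by
    intro g
    refine hline (ρ g) (IsUnit.of_mul_eq_one (ρ g⁻¹) (by rw [← hmul, mul_inv_cancel, hone])) ?_
    rintro _ ⟨o, rfl⟩
    have ho' : (g : G) * o * (g : G)⁻¹ ∈ oCore t :=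
      (mem_normalizer_iff.1 (Hyp.cent_le_normalizer t g.2) o).1 o.2
    refine ⟨θ ⟨_, ho'⟩, ⟨_, rfl⟩, ?_⟩
    show ρ g * ρ ⟨o, _⟩ = ρ ⟨(g : G) * o * (g : G)⁻¹, _⟩ * ρ g
    rw [← hmul, ← hmul]
    congr 1
    exact Subtype.ext (by simp)
  obtain ⟨A, hA⟩ : ∃ A : Subgroup G, ∀ w, w ∈ A ↔ ∃ h : w ∈ W, ∃ s : ZMod (orderOf τ),
      Multiplicative.toAdd (col ⟨w, h⟩) = s • v := ⟨{
      carrier := {w | ∃ h : w ∈ W, ∃ s : ZMod (orderOf τ), Multiplicative.toAdd (col ⟨w, h⟩) = s • v}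
      one_mem' := ⟨one_mem _, 0, by
        rw [zero_smul, show (⟨1, one_mem _⟩ : W) = 1 from rfl, map_one, toAdd_one]⟩
      mul_mem' := fun {a c} ⟨ha, s, hs'⟩ ⟨hc, s', hs''⟩ => ⟨mul_mem ha hc, s + s', by
        rw [show (⟨a * c, mul_mem ha hc⟩ : W) = ⟨a, ha⟩ * ⟨c, hc⟩ from rfl, map_mul, toAdd_mul, hs', hs'',
          add_smul]⟩
      inv_mem' := fun {a} ⟨ha, s, hs'⟩ => ⟨inv_mem ha, -s, by
        rw [show (⟨a⁻¹, inv_mem ha⟩ : W) = (⟨a, ha⟩)⁻¹ from rfl, map_inv, toAdd_inv, hs', neg_smul]⟩ },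
    fun w => Iff.rfl⟩
  have hτA : τ ∈ A := (hA τ).2 ⟨e.mem, 0, by rw [hcol _ 0 0 1 (by simp), zero_smul]; simp⟩
  have hAW : A ≤ W := fun w hw => ((hA w).1 hw).choose
  refine e.noLine ⟨A, hτA, hAW, ?_, ?_⟩
  · obtain ⟨n, hn', hAn⟩ := (Nat.dvd_prime_pow e.central.prime).1 (e.card ▸ card_dvd_of_le hAW)
    suffices n = 2 by rw [hAn, this]
    have hzA : zpowers τ ≤ A := zpowers_le.2 hτA
    have hn1 : ¬ n ≤ 1 := fun hle => by
      have he : A = zpowers τ := (eq_of_le_of_card_ge hzA (by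
        rw [hAn, Nat.card_zpowers]
        exact (Nat.pow_le_pow_right e.central.prime.pos hle).trans_eq (pow_one _))).symm
      set i : ℤ := ((v 0).val : ℤ)
      set j : ℤ := ((v 1).val : ℤ)
      have hw : x ^ i * y ^ j * τ ^ (0 : ℤ) ∈ W :=
        mul_mem (mul_mem (zpow_mem f.x_mem i) (zpow_mem f.y_mem j)) (zpow_mem e.mem 0)
      have hv' : Multiplicative.toAdd (col ⟨_, hw⟩) = v := by
        rw [hcol _ i j 0 rfl]
        ext l
        fin_cases l <;> simp [i, j]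
      obtain ⟨m, hm⟩ := mem_zpowers_iff.1 (he.le ((hA _).2 ⟨hw, 1, by rw [one_smul, hv']⟩))
      rw [hcol ⟨_, hw⟩ 0 0 m (hm.symm.trans (by simp))] at hv'
      exact hv (by rw [← hv']; ext l; fin_cases l <;> simp)
    have hn3 : n ≠ 3 := fun h3 => by
      have he : A = W := eq_of_le_of_card_ge hAW (by rw [hAn, h3, e.card])
      obtain ⟨_, s, hsX⟩ := (hA x).1 (he.ge f.x_mem)
      obtain ⟨_, s', hsY⟩ := (hA y).1 (he.ge f.y_mem)
      rw [show col (⟨x, _⟩ : W) = col X from rfl, heX] at hsX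
      rw [show col (⟨y, _⟩ : W) = col Y from rfl, heY] at hsY
      have a0 := congrFun hsX 0
      have a1 := congrFun hsX 1
      have b1 := congrFun hsY 1
      simp at a0 a1 b1
      rcases a1 with h | h
      · rw [h, zero_mul] at a0; exact one_ne_zero a0
      · rw [h, mul_zero] at b1; exact one_ne_zero b1
    omega
  · intro c hc
    refine mem_normalizer_iff.2 fun w => ?_
    have key : ∀ (g : Cent t) (w : G), (∃ h : w ∈ W, ∃ s : ZMod (orderOf τ),
        Multiplicative.toAdd (col ⟨w, h⟩) = s • v) → ∃ h : (g : G) * w * (g : G)⁻¹ ∈ W,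
          ∃ s : ZMod (orderOf τ), Multiplicative.toAdd (col ⟨_, h⟩) = s • v := by
      rintro g w ⟨hw, s, hs'⟩
      obtain ⟨k, hk⟩ := hn g
      refine ⟨(cj g ⟨w, hw⟩).2, s * k, ?_⟩
      show Multiplicative.toAdd (col (cj g ⟨w, hw⟩)) = _
      rw [hact, hs', Matrix.mulVec_smul, hk, smul_smul]
    rw [hA, hA]
    refine ⟨fun h => key ⟨c, hc⟩ w h, fun h => ?_⟩
    have h' := key ⟨c, hc⟩⁻¹ _ h
    simpa [mul_assoc] using h'

end Extra

end Cfsg.Agent.GW
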