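import Cfsg.Agent.Lib.GW.PartII.CompExtra
import Cfsg.Agent.Lib.GW.PartII.CompShape

/-!
# The inverted centre: the extraspecial shape, the action on `W` modulo `⟨τ⟩`

`Extra.split`: every reflection splits `W` modulo `⟨τ⟩` into a fixed line `⟨y⟩ = qFix t u` and an
inverted line, `fitCore t` centralises `W` modulo `⟨τ⟩`, and it is the whole centraliser in `oCore t`.
-/

set_option autoImplicit false
set_option linter.unusedSectionVars false
set_option linter.style.haveILetI false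

namespace Cfsg.Agent.GW

open Subgroup
open BSW (mem_cent)

universe u

variable {G : Type u} [Group G] [Finite G] {S : Sylow 2 G} {t τ : G} {W : Subgroup G}

namespace CompExtraSplit

open CompShape

variable (X : Ctx S t τ) (e : Extra t τ W)
include X e

theorem le_brW : W ≤ X.brW := fun w hw => by
  refine ⟨⟨e.le hw, fun f hf => ?_⟩, e.exp w hw⟩
  rw [show f * w * f⁻¹ * w⁻¹ = (w * f * w⁻¹ * f⁻¹)⁻¹ by group]
  exact inv_mem (e.bracket w hw f hf)

theorem sub_fit {w : G} (hw : w ∈ W) : fitCore t ≤ X.brSub w := fun f hf =>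
  ⟨fitCore_le_oCore t hf, by
    rw [show f * w * f⁻¹ * w⁻¹ = (w * f * w⁻¹ * f⁻¹)⁻¹ by group]
    exact inv_mem (e.bracket w hw f hf)⟩

theorem exists_frame {u : G} (hu : Refl t u) : ∃ y x, Extra.Frame t τ W u y x := by
  haveI := X.fact
  have hr := X.h.prime
  have hmul : Nat.card W ≤ Nat.card ↥(W ⊓ Cent u) * Nat.card ↥(W ⊓ X.brInv hu) := by
    rw [← Nat.card_prod]
    refine Nat.card_le_card_of_surjective
      (fun p => (⟨(p.1 : G) * p.2, mul_mem p.1.2.1 p.2.2.1⟩ : W)) fun w => ?_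
    obtain ⟨c, p, hc, hcu, hp, hpu, he⟩ :=
      X.decomp (e.le.trans (fitCore_le_oCore t)) e.normal hu w.2
    exact ⟨(⟨c, hc, mem_cent.2 (mul_inv_eq_iff_eq_mul.1 hcu).symm⟩,
      ⟨p, hp, le_brW X e hp, hpu⟩), Subtype.ext he.symm⟩
  rw [e.card] at hmul
  have hplus : Nat.card ↥(W ⊓ Cent u) ≤ orderOf τ :=
    (card_le_of_le (inf_le_inf_right _ (le_brW X e))).trans (X.card_fix_le hu)
  have hminus : Nat.card ↥(W ⊓ X.brInv hu) ≤ orderOf τ ^ 2 :=
    (card_le_of_le inf_le_right).trans (X.card_inv_le hu)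
  have hne : W ⊓ Cent u ≠ ⊥ := fun h0 => by
    rw [h0, Subgroup.card_bot, one_mul] at hmul
    have := (Nat.pow_le_pow_iff_right hr.one_lt).1 (hmul.trans hminus)
    omega
  obtain ⟨⟨y, hy⟩, hy1⟩ := ne_bot_iff_exists_ne_one.1 hne
  have hy1' : y ≠ 1 := fun h0 => hy1 (Subtype.ext h0)
  have hyQ : y ∈ qFix t u := ⟨e.le hy.1, hy.2⟩
  have hyo : orderOf y = orderOf τ := orderOf_eq_prime (e.exp y hy.1) hy1'
  obtain ⟨x, hxM, hxz⟩ : ∃ x ∈ W ⊓ X.brInv hu, x ∉ zpowers τ := by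
    by_contra hcon
    push Not at hcon
    have h1 := card_le_of_le (K := zpowers τ) hcon
    rw [Nat.card_zpowers] at h1
    have h2 := hmul.trans (Nat.mul_le_mul hplus h1)
    rw [← pow_two] at h2
    have := (Nat.pow_le_pow_iff_right hr.one_lt).1 h2
    omega
  have hnc : ∀ q ∈ qFix t u, q ≠ 1 → ¬ Commute x q := fun q hq hq1 hc =>
    hxz (X.inv_commute_le hu hq hq1 hxM.2 hc)
  -- the fixed points
  have hD : qFix t u ≤ X.brSub x := inf_le_left.trans (sub_fit X e hxM.1)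
  have hinj : Function.Injective (X.brHom hD) := by
    rw [injective_iff_map_eq_one]
    intro q hq
    by_contra hq1
    have h1 : (q : G) * x * (q : G)⁻¹ * x⁻¹ = 1 := congrArg Subtype.val hq
    exact hnc q q.2 (fun h0 => hq1 (Subtype.ext h0))
      (mul_inv_eq_iff_eq_mul.1 (mul_inv_eq_one.1 h1)).symm
  have hqFix : qFix t u = zpowers y := by
    refine (eq_of_le_of_card_ge (zpowers_le.2 hyQ) ?_).symm
    rw [Nat.card_zpowers, hyo, ← Nat.card_zpowers]
    exact Nat.card_le_card_of_injective _ hinj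
  -- the inverted part is spanned by `x` and `τ`
  have hM : W ⊓ X.brInv hu = zpowers x ⊔ zpowers τ := by
    have hle : zpowers x ⊔ zpowers τ ≤ W ⊓ X.brInv hu := sup_le (zpowers_le.2 hxM)
      (zpowers_le.2 ⟨e.mem, X.τ_brW, X.h.inverts u hu.ord hu.ne hu.comm⟩)
    refine (eq_of_le_of_card_ge hle (hminus.trans ?_)).symm
    have hdvd := card_dvd_of_le (hle.trans inf_le_left)
    rw [e.card] at hdvd
    obtain ⟨i, -, hi⟩ := (Nat.dvd_prime_pow hr).1 hdvd
    rw [hi]
    refine Nat.pow_le_pow_right hr.pos ?_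
    by_contra hlt
    have hge : Nat.card ↥(zpowers x ⊔ zpowers τ) ≤ Nat.card (zpowers τ) := by
      rw [hi, Nat.card_zpowers]
      exact (Nat.pow_le_pow_right hr.pos (show i ≤ 1 by omega)).trans (pow_one _).le
    exact hxz ((eq_of_le_of_card_ge le_sup_right hge).ge (mem_sup_left (mem_zpowers x)))
  refine ⟨y, x, hu.ord, hu.ne, hu.comm, hyQ, hy.1, hyo, hqFix, hxM.1, hxM.2.2, hnc y hyQ hy1',
    fun w hw => ?_⟩
  obtain ⟨c, p, hc, hcu, hp, hpu, rfl⟩ := X.decomp (e.le.trans (fitCore_le_oCore t)) e.normal hu hw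
  obtain ⟨j, rfl⟩ := mem_zpowers_iff.1 (hqFix.le (mem_qfix (e.le hc) hcu))
  obtain ⟨a, ha, b, hb, rfl⟩ := CompQuad.mem_sup_of_commute
    (fun a ha b hb => X.comm_z hb
      (fitCore_le_oCore t (e.le (zpowers_le.2 hxM.1 ha))))
    (hM.le ⟨hp, le_brW X e hp, hpu⟩)
  obtain ⟨i, rfl⟩ := mem_zpowers_iff.1 ha
  have hyW : y ∈ W := hy.1
  have hxW : x ∈ W := hxM.1
  have hk : y ^ j * x ^ i * (y ^ j)⁻¹ * (x ^ i)⁻¹ ∈ zpowers τ :=
    e.bracket _ (zpow_mem hyW j) _ (zpow_mem (e.le hxW) i)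
  obtain ⟨k, hk'⟩ := mem_zpowers_iff.1 (mul_mem hk hb)
  refine ⟨i, j, k, ?_⟩
  have hO : x ^ i * y ^ j ∈ oCore t :=
    fitCore_le_oCore t (e.le (mul_mem (zpow_mem hxW i) (zpow_mem hyW j)))
  rw [hk', ← mul_assoc (x ^ i * y ^ j), (X.comm_z hk hO).eq]
  group

theorem mem_fit {o : G} (ho : o ∈ oCore t)
    (how : ∀ w ∈ W, o * w * o⁻¹ * w⁻¹ ∈ zpowers τ) : o ∈ fitCore t := by
  haveI := X.fact
  obtain ⟨u, hu⟩ := X.exists_refl
  obtain ⟨y, x, F⟩ := exists_frame X e hu
  set C := fitCore t ⊓ centralizer (W : Set G) with hC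
  have hcommW : ∀ {g : G}, g ∈ oCore t → Commute g x → Commute g y → ∀ w ∈ W, Commute g w := by
    intro g hg hgx hgy w hw
    obtain ⟨i, j, k, rfl⟩ := F.gen w hw
    exact ((hgx.zpow_right i).mul_right (hgy.zpow_right j)).mul_right
      (X.comm_z (zpow_mem (mem_zpowers τ) k) hg)
  -- `fitCore t = W * C`
  have hdec : ∀ f ∈ fitCore t, ∃ w ∈ W, w⁻¹ * f ∈ C := by
    intro f hf
    set θx := X.brHom (sub_fit X e F.x_mem) with hθx
    set θy := X.brHom (sub_fit X e F.y_mem) with hθy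
    let x' : fitCore t := ⟨x, e.le F.x_mem⟩
    let y' : fitCore t := ⟨y, e.le F.y_mem⟩
    have hxx : θx x' = 1 := Subtype.ext (by
      show x * x * x⁻¹ * x⁻¹ = 1
      group)
    have hyy : θy y' = 1 := Subtype.ext (by
      show y * y * y⁻¹ * y⁻¹ = 1
      group)
    have hz : ∀ c : zpowers τ, c ≠ 1 → ∀ d : zpowers τ, ∃ k : ℤ, c ^ k = d := fun c hc d => by
      refine mem_zpowers_iff.1 ?_
      rw [zpowers_eq_top_of_prime_card (p := orderOf τ) (Nat.card_zpowers τ) hc]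
      exact mem_top d
    have h1 : θx y' ≠ 1 := fun h0 => F.not_commute (mul_inv_eq_iff_eq_mul.1
      (mul_inv_eq_one.1 (show y * x * y⁻¹ * x⁻¹ = 1 from congrArg Subtype.val h0))).symm
    have h2 : θy x' ≠ 1 := fun h0 => F.not_commute (mul_inv_eq_iff_eq_mul.1
      (mul_inv_eq_one.1 (show x * y * x⁻¹ * y⁻¹ = 1 from congrArg Subtype.val h0)))
    obtain ⟨j, hj⟩ := hz _ h1 (θx ⟨f, hf⟩)
    obtain ⟨i, hi⟩ := hz _ h2 (θy ⟨f, hf⟩)
    refine ⟨x ^ i * y ^ j, mul_mem (zpow_mem F.x_mem i) (zpow_mem F.y_mem j), ?_⟩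
    have hfC : (x ^ i * y ^ j)⁻¹ * f ∈ fitCore t :=
      mul_mem (inv_mem (mul_mem (zpow_mem (e.le F.x_mem) i) (zpow_mem (e.le F.y_mem) j))) hf
    refine mem_inf.2 ⟨hfC, mem_centralizer_iff.2 fun w hw => ?_⟩
    refine (hcommW (fitCore_le_oCore t hfC) ?_ ?_ w hw).symm.eq
    · have h3 : θx ((x' ^ i * y' ^ j)⁻¹ * ⟨f, hf⟩) = 1 := by
        rw [map_mul, map_inv, map_mul, map_zpow, map_zpow, hxx, one_zpow, one_mul, hj,
          inv_mul_cancel]
      exact mul_inv_eq_iff_eq_mul.1 (mul_inv_eq_one.1 (congrArg Subtype.val h3))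
    · have h3 : θy ((x' ^ i * y' ^ j)⁻¹ * ⟨f, hf⟩) = 1 := by
        rw [map_mul, map_inv, map_mul, map_zpow, map_zpow, hyy, one_zpow, mul_one, hi,
          inv_mul_cancel]
      exact mul_inv_eq_iff_eq_mul.1 (mul_inv_eq_one.1 (congrArg Subtype.val h3))
  -- `oCore t` centralises `C`
  have hCn : Cent t ≤ normalizer (C : Set G) :=
    (le_inf (cent_le_normalizer_fitCore t)
      (e.normal.trans fun g hg => mem_normalizer_iff.2 fun c => by
        constructor <;> intro hc <;> refine mem_centralizer_iff.2 fun w hw => ?_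
        · have hw' : g⁻¹ * w * g ∈ W := by
            have := (mem_normalizer_iff.1 (inv_mem hg) w).1 hw
            rwa [inv_inv] at this
          calc w * (g * c * g⁻¹) = g * (g⁻¹ * w * g * c) * g⁻¹ := by group
            _ = g * (c * (g⁻¹ * w * g)) * g⁻¹ := by rw [mem_centralizer_iff.1 hc _ hw']
            _ = g * c * g⁻¹ * w := by group
        · have hw' := mem_centralizer_iff.1 hc _ ((mem_normalizer_iff.1 hg w).1 hw)
          rw [conj_mul, conj_mul] at hw'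
          exact mul_left_cancel (mul_right_cancel hw'))).trans inf_normalizer_le_normalizer_inf
  have hcen : ∀ g ∈ oCore t, ∀ c ∈ C, Commute g c := by
    have hy1 : y ≠ 1 := fun h0 => F.not_commute (h0 ▸ Commute.one_right x)
    have hinv : ∀ c ∈ C, u * c * u⁻¹ = c⁻¹ := inverts_of_inf_eq_bot hu.ord (hCn hu.cent) <|
      eq_bot_iff.2 fun c hc => mem_bot.2 <| by
        obtain ⟨k, rfl⟩ := mem_zpowers_iff.1 (F.qFix_eq.le ⟨hc.1.1, hc.2⟩)
        by_contra h0
        have hko : zpowers (y ^ k) = zpowers y := eq_of_le_of_card_ge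
          (zpowers_le.2 (zpow_mem (mem_zpowers y) k)) (by
            rw [Nat.card_zpowers, Nat.card_zpowers, F.order_y,
              orderOf_eq_prime (e.exp _ (zpow_mem F.y_mem k)) h0])
        obtain ⟨l, hl⟩ := mem_zpowers_iff.1 (hko.ge (mem_zpowers y))
        refine F.not_commute ?_
        rw [← hl]
        exact (show Commute x (y ^ k) from mem_centralizer_iff.1 hc.1.2 x F.x_mem).zpow_right l
    obtain ⟨T, hTc, -, hT⟩ := (X.pin hu F.mem_y hy1).exists_torus X.hyp X.hk X.hM X.hm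
    haveI := hTc
    haveI : IsCyclic C := isCyclic_of_injective (inclusion (show C ≤ T from fun c hc =>
      (hT c).2 ⟨fitCore_le_oCore t hc.1, (mem_centralizer_iff.1 hc.2 y F.y_mem).symm, hinv c hc⟩))
      (inclusion_injective _)
    exact fun g hg c hc => commute_of_cyclic X.hyp X.h.cycle hCn hg hc
  -- the centraliser of `W` modulo `⟨τ⟩`
  set N := oCore t ⊓ ⨅ w ∈ W, X.brSub w with hN
  have memN : ∀ {g : G}, g ∈ N → g ∈ oCore t ∧ ∀ w ∈ W, g ∈ X.brSub w := fun hg =>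
    ⟨hg.1, fun w hw => mem_iInf.1 (mem_iInf.1 hg.2 w) hw⟩
  have hcop : ∀ g ∈ N, (orderOf g).Coprime (orderOf τ) → ∀ o' ∈ oCore t, Commute g o' := by
    intro g hg hcp
    obtain ⟨hgO, hgW⟩ := memN hg
    have hw : ∀ w ∈ W, Commute g w := by
      intro w hw
      let φ := X.brHom (D := zpowers g) (zpowers_le.2 (hgW w hw))
      have h1 : φ ⟨g, mem_zpowers g⟩ = 1 := by
        refine orderOf_eq_one_iff.1 (Nat.eq_one_of_dvd_coprimes hcp ?_ ?_)
        · exact (orderOf_map_dvd φ _).trans (by rw [orderOf_mk])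
        · exact (_root_.orderOf_dvd_natCard _).trans (by rw [Nat.card_zpowers])
      exact mul_inv_eq_iff_eq_mul.1 (mul_inv_eq_one.1 (congrArg Subtype.val h1))
    have hgF : g ∈ fitCore t := by
      haveI : Group.IsSolvable ↥(oCore t) := S0205.result X.odd
      refine ⟨⟨g, hgO⟩, Components.centralizer_fittingSubgroup_le
        (mem_centralizer_iff.2 fun f hf => Subtype.ext ?_), rfl⟩
      obtain ⟨w, hwW, hwC⟩ := hdec (f : G) ⟨f, hf, rfl⟩
      have h2 := (hw w hwW).mul_right (hcen g hgO _ hwC)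
      rw [mul_inv_cancel_left] at h2
      exact h2.symm.eq
    exact fun o' ho' => (hcen o' ho' g (mem_inf.2 ⟨hgF, mem_centralizer_iff.2 fun w hw' =>
      (hw w hw').symm.eq⟩)).symm
  have hNn : oCore t ≤ normalizer (N : Set G) := le_normalizer_of_conj fun g hg n hn => by
    obtain ⟨hnO, hnW⟩ := memN hn
    refine mem_inf.2 ⟨conj_O (Hyp.oCore_le_cent t hg) hnO, mem_iInf.2 fun w => mem_iInf.2 fun hw =>
      ⟨conj_O (Hyp.oCore_le_cent t hg) hnO, ?_⟩⟩
    have hw' : g⁻¹ * w * g ∈ W := by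
      have := (mem_normalizer_iff.1 (e.normal (inv_mem (Hyp.oCore_le_cent t hg))) w).1 hw
      rwa [inv_inv] at this
    have h1 := (hnW _ hw').2
    have h2 := (mem_normalizer_iff.1 (X.z_normal (Hyp.oCore_le_cent t hg)) _).1 h1
    rwa [show g * (n * (g⁻¹ * w * g) * n⁻¹ * (g⁻¹ * w * g)⁻¹) * g⁻¹ =
      g * n * g⁻¹ * w * (g * n * g⁻¹)⁻¹ * w⁻¹ by group] at h2
  have hp : IsPGroup (orderOf τ) (↥N ⧸ center ↥N) := by
    intro q
    obtain ⟨k, rfl⟩ := QuotientGroup.mk'_surjective _ q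
    obtain ⟨a, m, hm, hn⟩ :=
      Nat.exists_eq_pow_mul_and_not_dvd (orderOf_pos k).ne' (orderOf τ) X.h.prime.ne_one
    refine ⟨a, ?_⟩
    rw [← map_pow]
    refine (QuotientGroup.eq_one_iff _).2 (mem_center_iff.2 fun w => Subtype.ext ?_)
    have hc : (orderOf ((k : G) ^ orderOf τ ^ a)).Coprime (orderOf τ) :=
      ((X.h.prime.coprime_iff_not_dvd).2 hm).symm.coprime_dvd_left (orderOf_dvd_of_pow_eq_one (by
        rw [← pow_mul, ← hn, ← orderOf_coe, pow_orderOf_eq_one]))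
    exact ((hcop _ (pow_mem k.2 _) hc (w : G) (memN w.2).1).symm).eq
  haveI : Group.IsNilpotent ↥N := Group.of_quotient_center_nilpotent hp.isNilpotent
  haveI : Group.IsNilpotent ↥(N.subgroupOf (oCore t)) :=
    Group.nilpotent_of_mulEquiv (subgroupOfEquivOfLe inf_le_left).symm
  have hoN : o ∈ N :=
    mem_inf.2 ⟨ho, mem_iInf.2 fun w => mem_iInf.2 fun hw => ⟨ho, how w hw⟩⟩
  exact ⟨⟨o, ho⟩, Components.le_fittingSubgroup (normal_subgroupOf_of_le_normalizer hNn)
    (show (⟨o, ho⟩ : oCore t) ∈ N.subgroupOf (oCore t) from hoN), rfl⟩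

end CompExtraSplit

open CompShape in
/-- **The action on `W` modulo `⟨τ⟩`**. -/
theorem Extra.split (hyp : Hyp S t) (hk : ProperKnown G) (hM : IsCoatom (Cent t))
    (hm : CompLocal.FixModel.{u}) (e : Extra t τ W) : Extra.Split t τ W := by
  have X : Ctx S t τ := ⟨hyp, hk, hM, hm, e.central⟩
  exact
    { mem_fit := fun o ho how => CompExtraSplit.mem_fit X e ho how
      fit_bracket := fun f hf w hw => (CompExtraSplit.sub_fit X e hw hf).2
      frame := fun v hv hne hc => CompExtraSplit.exists_frame X e ⟨hv, hne, hc⟩ }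

end Cfsg.Agent.GW
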