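import Cfsg.Agent.Lib.GW.PartII.CompInverted

/-!
# Component configuration: facts on groups with a known normal simple subgroup

* `four_mem`: a four group permuted cyclically lies in the simple normal subgroup;
* `exists_cyclic_odd`: the odd elements centralising an involution of a known group lie in one cyclic group;
* `eq_one_of_outer`: commuting inner and outer involutions centralise no common nontrivial odd inner element.
-/

set_option autoImplicit false
set_option linter.unusedSectionVars false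
set_option linter.style.haveILetI false

namespace Cfsg.Agent.GW.CompLocal

open Subgroup
open scoped MatrixGroups
open Cfsg.Agent.AutPSL (conjP)

universe u

variable {X : Type u} [Group X] [Finite X]

theorem four_mem (hd : SubDihedral X) (E : Subgroup X) [E.Normal] (hk : IsKnown E) {a b g : X}
    (h : Pair a b) (hg : g * a * g⁻¹ = b) (hg' : g * b * g⁻¹ = a * b) : a ∈ E ∧ b ∈ E := by
  haveI : Fact (Nat.Prime 2) := ⟨Nat.prime_two⟩
  obtain ⟨S, hWS⟩ := h.isPGroup.exists_le_sylow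
  obtain ⟨i, hi⟩ := exists_prime_orderOf_dvd_card' (G := E) 2 hk.even_card
  obtain ⟨T, hT⟩ := (IsPGroup.of_card (p := 2) (n := 1) (G := zpowers (i : X))
    (by rw [Nat.card_zpowers, orderOf_coe, hi, pow_one])).exists_le_sylow
  obtain ⟨k, hk'⟩ := MulAction.exists_smul_eq X T S
  have hK : (S : Subgroup X) ⊓ E ≠ ⊥ := by
    intro h0
    have hm : k * (i : X) * k⁻¹ ∈ (S : Subgroup X) ⊓ E := by
      refine ⟨?_, Subgroup.Normal.conj_mem ‹E.Normal› _ i.2 k⟩
      rw [← hk']
      exact Subgroup.smul_mem_pointwise_smul _ (MulAut.conj k) _ (hT (mem_zpowers (i : X)))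
    rw [h0, mem_bot, conj_eq_one_iff] at hm
    rw [show i = 1 from Subtype.ext hm, orderOf_one] at hi
    omega
  have hn : h.four ≤ normalizer (((S : Subgroup X) ⊓ E : Subgroup X) : Set X) := fun w hw =>
    inf_normalizer_le_normalizer_inf ⟨Subgroup.le_normalizer (hWS hw), by
      rw [normalizer_eq_top (H := E)]; exact mem_top w⟩
  obtain ⟨z, hz, hz1⟩ : ∃ z ∈ E ⊓ centralizer (h.four : Set X), orderOf z = 2 := by
    have hne := LocalStructure.inf_centralizer_ne_bot (S.2.to_le inf_le_left) hK h.isPGroup hn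
    have hp : IsPGroup 2 (((S : Subgroup X) ⊓ E) ⊓ centralizer (h.four : Set X) : Subgroup X) :=
      S.2.to_le (inf_le_left.trans inf_le_left)
    haveI := (nontrivial_iff_ne_bot _).2 hne
    obtain ⟨j, hj, hc⟩ := hp.nontrivial_iff_card.1 inferInstance
    obtain ⟨w, hw⟩ := exists_prime_orderOf_dvd_card'
      (G := (((S : Subgroup X) ⊓ E) ⊓ centralizer (h.four : Set X) : Subgroup X)) 2
      (hc ▸ dvd_pow_self 2 hj.ne')
    exact ⟨w, ⟨w.2.1.2, w.2.2⟩, by rw [orderOf_coe]; exact hw⟩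
  have hzW : z ∈ h.four := by
    obtain ⟨V, hV, hVle, -, -⟩ :=
      exists_four_of_commute h.ha h.hb h.comm h.ne h.left_mem h.right_mem
    haveI := hV
    exact hVle (hd.mem_four V (IsPGroup.of_card (p := 2) (n := 1) (by rw [Nat.card_zpowers, hz1, pow_one]))
      (centralizer_le hVle hz.2))
  have hg'' : g * (a * b) * g⁻¹ = a := by
    rw [show g * (a * b) * g⁻¹ = g * a * g⁻¹ * (g * b * g⁻¹) by group, hg, hg', ← mul_assoc, ← h.comm,
      mul_assoc, BSW.sq_of_order h.hb, mul_one]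
  have hE : ∀ x ∈ E, g * x * g⁻¹ ∈ E := fun x hx => Subgroup.Normal.conj_mem ‹E.Normal› x hx g
  rcases hzW with rfl | rfl | rfl | rfl
  · rw [orderOf_one] at hz1; omega
  · exact ⟨hz.1, hg ▸ hE _ hz.1⟩
  · have hab := hg' ▸ hE _ hz.1
    exact ⟨by simpa using E.mul_mem hab (E.inv_mem hz.1), hz.1⟩
  · have ha := hg'' ▸ hE _ hz.1
    exact ⟨ha, hg ▸ hE _ ha⟩

theorem commute_three : ∀ f : Equiv.Perm {i : Fin 7 // ¬ i.val < 4}, f ^ 3 = 1 →
    f = 1 ∨ f = Equiv.swap ⟨4, by decide⟩ ⟨5, by decide⟩ * Equiv.swap ⟨5, by decide⟩ ⟨6, by decide⟩ ∨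
      f = (Equiv.swap ⟨4, by decide⟩ ⟨5, by decide⟩ * Equiv.swap ⟨5, by decide⟩ ⟨6, by decide⟩) ^ 2 := by
  decide +kernel

theorem perm_odd_three : ∀ f : Equiv.Perm {i : Fin 7 // ¬ i.val < 4}, f ^ 6 = 1 := by
  decide +kernel

/-- The odd elements of `A₇` centralising `(01)(23)` are powers of `(456)`. -/
theorem alt_seven_odd {k : Equiv.Perm (Fin 7)} (hk : Odd (orderOf k))
    (hc : k * (Equiv.swap 0 1 * Equiv.swap 2 3) = Equiv.swap 0 1 * Equiv.swap 2 3 * k) :
    k ∈ zpowers (Equiv.swap 4 5 * Equiv.swap 5 6 : Equiv.Perm (Fin 7)) := by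
  classical
  have hvsupp : ∀ i : Fin 7,
      (Equiv.swap 0 1 * Equiv.swap 2 3 : Equiv.Perm (Fin 7)) i ≠ i ↔ i.val < 4 := by decide
  have hpres : ∀ i : Fin 7, (k i).val < 4 ↔ i.val < 4 := by
    intro i
    rw [← hvsupp, ← hvsupp, ← Equiv.Perm.mul_apply, ← hc, Equiv.Perm.mul_apply]
    exact k.injective.ne_iff
  have hvv : ∀ i : Fin 7, (Equiv.swap 0 1 * Equiv.swap 2 3 : Equiv.Perm (Fin 7))
      ((Equiv.swap 0 1 * Equiv.swap 2 3 : Equiv.Perm (Fin 7)) i) = i := by decide
  have hfix : ∀ i : Fin 7, i.val < 4 → k i = i := by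
    intro i hi
    have hvpres : ∀ i : Fin 7, ((Equiv.swap 0 1 * Equiv.swap 2 3 : Equiv.Perm (Fin 7)) i).val < 4 ↔
        i.val < 4 := by decide
    have hf4 : (k.subtypePerm (p := fun i : Fin 7 => i.val < 4) hpres) ^ 4 = 1 := by
      refine perm_four_commute_double _ ((Equiv.swap 0 1 * Equiv.swap 2 3 : Equiv.Perm (Fin 7)).subtypePerm
        (p := fun i : Fin 7 => i.val < 4) hvpres) ?_ ?_ ?_
      · ext ⟨j, hj⟩
        exact congrArg Fin.val (Equiv.Perm.congr_fun hc j)
      · exact fun j => Subtype.ext (hvv j.1)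
      · exact fun j h => (hvsupp j.1).2 j.2 (congrArg Subtype.val h)
    rw [Equiv.Perm.subtypePerm_pow] at hf4
    have h4 : (k ^ 4) i = i := congrArg Subtype.val (Equiv.Perm.congr_fun hf4 ⟨i, hi⟩)
    obtain ⟨j, hj⟩ : ∃ j : ℕ, k = (k ^ 4) ^ j := by
      obtain ⟨j, hj⟩ := exists_pow_eq_self_of_coprime (x := k) (n := 4)
        ((Nat.coprime_two_left.2 hk).pow_left 2)
      exact ⟨j, hj.symm⟩
    rw [hj]
    exact Function.IsFixedPt.perm_pow h4 j
  have hpres' : ∀ i : Fin 7, ¬ (k i).val < 4 ↔ ¬ i.val < 4 := fun i => not_congr (hpres i)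
  set f := k.subtypePerm (p := fun i : Fin 7 => ¬ i.val < 4) hpres' with hf
  have hk' : Equiv.Perm.ofSubtype f = k :=
    Equiv.Perm.ofSubtype_subtypePerm hpres' fun i hi hlt => hi (hfix i hlt)
  have hinj : Function.Injective
      (Equiv.Perm.ofSubtype (p := fun i : Fin 7 => ¬ i.val < 4)) := Equiv.Perm.ofSubtype_injective
  have h3 : f ^ 3 = 1 := by
    have hfo : Odd (orderOf f) := by
      rw [← orderOf_injective _ hinj f, hk']; exact hk
    refine orderOf_dvd_iff_pow_eq_one.1 ((Nat.coprime_two_right.2 hfo).dvd_of_dvd_mul_left ?_)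
    exact orderOf_dvd_of_pow_eq_one (perm_odd_three f)
  have hc' : Equiv.Perm.ofSubtype
      (Equiv.swap (⟨4, by decide⟩ : {i : Fin 7 // ¬ i.val < 4}) ⟨5, by decide⟩ *
        Equiv.swap ⟨5, by decide⟩ ⟨6, by decide⟩) =
      (Equiv.swap 4 5 * Equiv.swap 5 6 : Equiv.Perm (Fin 7)) := by decide
  rw [← hk']
  rcases commute_three f h3 with e | e | e <;> rw [e]
  · rw [map_one]; exact one_mem _
  · rw [hc']; exact mem_zpowers _
  · rw [map_pow, hc']; exact npow_mem_zpowers _ _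

/-- Odd elements of a dihedral group are rotations. -/
theorem dihedral_odd_mem {n : ℕ} {x : DihedralGroup n} (hx : Odd (orderOf x)) :
    x ∈ zpowers (DihedralGroup.r 1) := by
  rcases x with i | i
  · obtain ⟨z, rfl⟩ := ZMod.intCast_surjective i
    exact ⟨z, DihedralGroup.r_one_zpow z⟩
  · rw [DihedralGroup.orderOf_sr] at hx
    exact absurd hx (by decide)

/-- The odd elements centralising an involution of a known simple group lie in one cyclic group. -/
theorem exists_cyclic_odd (hd : SubDihedral X) [IsSimpleGroup X] (hk : IsKnown X) {a : X}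
    (ha : orderOf a = 2) :
    ∃ u : X, ∀ x : X, Odd (orderOf x) → Commute x a → x ∈ zpowers u := by
  rcases id hk with ⟨F, iF, iF', hodd, h3, ⟨e⟩⟩ | ⟨⟨e⟩⟩
  · obtain ⟨n, -, ⟨eC⟩⟩ := PSL2.dihedral_centralizer_involution (PSL2.odd_card_iff.1 hodd)
      (show orderOf (e a) = 2 from (MulEquiv.orderOf_eq e a).trans ha)
    refine ⟨e.symm (eC.symm (DihedralGroup.r 1) : Matrix.ProjectiveSpecialLinearGroup (Fin 2) F),
      fun x hx hc => ?_⟩
    let x' : centralizer ({e a} : Set (Matrix.ProjectiveSpecialLinearGroup (Fin 2) F)) :=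
      ⟨e x, mem_centralizer_singleton_iff.2 (hc.map e).eq⟩
    have ho : Odd (orderOf (eC x')) := by
      rwa [MulEquiv.orderOf_eq, ← orderOf_coe, show (x' : Matrix.ProjectiveSpecialLinearGroup (Fin 2) F) = e x
        from rfl, MulEquiv.orderOf_eq]
    obtain ⟨z, hz⟩ := mem_zpowers_iff.1 (dihedral_odd_mem ho)
    refine ⟨z, e.injective ?_⟩
    show e (e.symm _ ^ z) = e x
    rw [map_zpow, e.apply_symm_apply, ← SubgroupClass.coe_zpow, ← map_zpow, hz, eC.symm_apply_apply]
  · let t₀ : alternatingGroup (Fin 7) := ⟨Equiv.swap 0 1 * Equiv.swap 2 3,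
      Equiv.Perm.mem_alternatingGroup.2 (by decide)⟩
    let c₀ : alternatingGroup (Fin 7) := ⟨Equiv.swap 4 5 * Equiv.swap 5 6,
      Equiv.Perm.mem_alternatingGroup.2 (by decide)⟩
    have ht : orderOf (e.symm t₀) = 2 := by
      rw [MulEquiv.orderOf_eq]
      exact orderOf_eq_prime (by rw [pow_two]; exact Subtype.ext (by decide))
        fun h => absurd (congrArg Subtype.val h) (by decide)
    obtain ⟨w, hw⟩ := isConj_iff.1 (isConj_invol_of_simple hd hk.not_comm hk.even_card ha ht)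
    refine ⟨w⁻¹ * e.symm c₀ * w, fun x hx hc => ?_⟩
    have hc' : Commute (e (w * x * w⁻¹)) t₀ := by
      have h1 := hc.map (MulAut.conj w)
      rw [MulAut.conj_apply, MulAut.conj_apply, hw] at h1
      have h2 := h1.map e
      rwa [e.apply_symm_apply] at h2
    have ho : Odd (orderOf ((e (w * x * w⁻¹) : alternatingGroup (Fin 7)) : Equiv.Perm (Fin 7))) := by
      rwa [orderOf_coe, MulEquiv.orderOf_eq, ← MulAut.conj_apply, MulEquiv.orderOf_eq]
    obtain ⟨z, hz⟩ := mem_zpowers_iff.1 (alt_seven_odd ho (congrArg Subtype.val hc'.eq))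
    refine ⟨z, ?_⟩
    have h3 : c₀ ^ z = e (w * x * w⁻¹) := Subtype.ext hz
    have h4 : (e.symm c₀) ^ z = w * x * w⁻¹ := by rw [← map_zpow, h3, e.symm_apply_apply]
    show (w⁻¹ * e.symm c₀ * w) ^ z = x
    rw [show w⁻¹ * e.symm c₀ * w = w⁻¹ * e.symm c₀ * (w⁻¹)⁻¹ by rw [inv_inv], conj_zpow, h4]
    group

/-- Commuting inner and outer involutions centralise no common nontrivial odd inner element. -/
theorem eq_one_of_outer (hd : SubDihedral X) (E : Subgroup X) [E.Normal] (hk : IsKnown E) {a c x : X}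
    (ha : orderOf a = 2) (haE : a ∉ E) (hc : orderOf c = 2) (hcE : c ∈ E) (hxE : x ∈ E)
    (hx : Odd (orderOf x)) (hxa : Commute x a) (hxc : Commute x c) : x = 1 := by
  by_contra hx1
  obtain ⟨r, hr, hrd⟩ := Nat.exists_prime_and_dvd (fun h => hx1 (orderOf_eq_one_iff.1 h))
  have hr2 : r ≠ 2 := by
    rintro rfl
    exact Nat.not_even_iff_odd.2 hx (even_iff_two_dvd.2 hrd)
  obtain ⟨F, _, _, c₀, g₀, e, hF, h3, hg₀, he, hN⟩ := CompInverted.outer_form E hd hk ha haE
  have h2 : (2 : F) ≠ 0 := PSL2.odd_card_iff.1 hF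
  obtain ⟨m, -, hm, hcard, -⟩ := OuterCirc.fix_spec h2 h3 hg₀ hN
  have hxfix : e ⟨x, hxE⟩ ∈ OuterPair.fix (conjP g₀ : MulAut _) := by
    rw [← he, OuterPair.mem_fix]
    show e ((MulAut.conjNormal a : MulAut E) (e.symm (e ⟨x, hxE⟩))) = e ⟨x, hxE⟩
    rw [e.symm_apply_apply]
    refine congrArg e (Subtype.ext ?_)
    rw [MulAut.conjNormal_apply]
    show a * x * a⁻¹ = x
    rw [← hxa.eq, mul_inv_cancel_right]
  have hco : orderOf (e ⟨c, hcE⟩) = 2 := by rw [MulEquiv.orderOf_eq, orderOf_mk, hc]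
  have hxcent : e ⟨x, hxE⟩ ∈ centralizer ({e ⟨c, hcE⟩} : Set _) :=
    mem_centralizer_singleton_iff.2 (by rw [← map_mul, ← map_mul]; exact congrArg e (Subtype.ext hxc.eq))
  have hord : orderOf (e ⟨x, hxE⟩) = orderOf x := by rw [MulEquiv.orderOf_eq, orderOf_mk]
  have r1 : r ∣ 2 * m := by
    rw [← hcard]
    exact hrd.trans (hord ▸ Subgroup.orderOf_dvd_natCard _ hxfix)
  have r2 : r ∣ Nat.card (centralizer ({e ⟨c, hcE⟩} : Set _)) :=
    hrd.trans (hord ▸ Subgroup.orderOf_dvd_natCard _ hxcent)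
  obtain ⟨hn1, hn3⟩ := PSL2.card_centralizer_involution h2 hco
  have hdiv : r ∣ 2 := by
    rcases hm with ⟨h4, hm⟩ | ⟨h4, hm⟩
    · rw [hn1 h4] at r2
      have := Nat.dvd_sub r1 r2
      rwa [hm, show Fintype.card F + 1 - (Fintype.card F - 1) = 2 by omega] at this
    · rw [hn3 h4] at r2
      have := Nat.dvd_sub r2 r1
      rwa [show Fintype.card F + 1 - 2 * m = 2 by omega] at this
  exact hr2 ((Nat.prime_dvd_prime_iff_eq hr Nat.prime_two).1 hdiv)

end Cfsg.Agent.GW.CompLocal
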