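import Cfsg.Agent.Lib.GW.PartII.CompDefs
import Cfsg.Agent.Lib.GW.PartII.CompLocalModel
import Cfsg.Agent.Lib.GW.PartII.MaxCentral

/-!
# Component configuration: the frame of a maximal subgroup over `N⟨y⟩`

`Frame H E a b`: `H` is a proper subgroup with a layer, `E` the simple normal subgroup of `H / O(H)`, and
the commuting involutions `a`, `b` lie in the layer.
-/

set_option autoImplicit false
set_option linter.unusedSectionVars false
set_option linter.style.haveILetI false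

namespace Cfsg.Agent.GW.CompLocal

open Subgroup Cfsg.Agent.S1856 Cfsg.Agent.S1312
open BSW (mem_cent)

universe u

variable {G : Type u} [Group G] [Finite G] {S : Sylow 2 G} {t : G}

/-- The quotient map by the odd core. -/
abbrev proj (H : Subgroup G) : H →* H ⧸ Cfsg.oddCore ↥H := QuotientGroup.mk' _

/-- A subgroup with a layer containing the involutions `a`, `b`, and its simple section. -/
structure Frame (H : Subgroup G) (E : Subgroup (↥H ⧸ Cfsg.oddCore ↥H)) (a b : G) : Prop where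
  normal : E.Normal
  simple : IsSimpleGroup E
  known : IsKnown E
  cent : centralizer (E : Set (↥H ⧸ Cfsg.oddCore ↥H)) = ⊥
  le_layer : E ≤ (Cfsg.layer ↥H).map (proj H)
  iff : ∀ z : H, (∀ e ∈ Cfsg.layer ↥H, Commute z e) ↔ z ∈ Cfsg.oddCore ↥H
  dih : SubDihedral (↥H ⧸ Cfsg.oddCore ↥H)
  pair : Pair a b
  ha : a ∈ layerOf H
  hb : b ∈ layerOf H
  haE : ∀ h : a ∈ H, proj H ⟨a, h⟩ ∈ E
  hbE : ∀ h : b ∈ H, proj H ⟨b, h⟩ ∈ E

theorem layerOf_le (H : Subgroup G) : layerOf H ≤ H := map_subtype_le _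

theorem commute_of_sq {x z : G} (hx : Odd (orderOf x)) (h : Commute (x * x) z) : Commute x z := by
  have hx2 : x ∈ centralizer ({z} : Set G) :=
    CompInverted.mem_of_sq_mem hx (mem_centralizer_singleton_iff.2 h.eq)
  exact mem_centralizer_singleton_iff.1 hx2

theorem layerOf_normal {H : Subgroup G} {x l : G} (hx : x ∈ H) (hl : l ∈ layerOf H) :
    x * l * x⁻¹ ∈ layerOf H := by
  obtain ⟨l, hl', rfl⟩ := hl
  exact ⟨⟨x, hx⟩ * l * ⟨x, hx⟩⁻¹,
    (inferInstance : (Cfsg.layer ↥H).Normal).conj_mem l hl' _, rfl⟩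

/-- An involution mapped into `E` lies in the layer. -/
theorem mem_layerOf {H : Subgroup G} {E : Subgroup (↥H ⧸ Cfsg.oddCore ↥H)}
    (hE : E ≤ (Cfsg.layer ↥H).map (proj H))
    (hiff : ∀ z : H, (∀ e ∈ Cfsg.layer ↥H, Commute z e) ↔ z ∈ Cfsg.oddCore ↥H) {a : H}
    (ha : a * a = 1) (haE : proj H a ∈ E) : (a : G) ∈ layerOf H := by
  obtain ⟨l, hl, hla⟩ := hE haE
  have ho : l⁻¹ * a ∈ Cfsg.oddCore ↥H := QuotientGroup.eq.1 hla
  set o := l⁻¹ * a with hodef
  have hao : a = l * o := by rw [hodef]; group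
  have hc : Commute l o := ((hiff o).2 ho l hl).symm
  obtain ⟨j, hj⟩ : Odd (orderOf o) :=
    PCore.odd_card_oddCore.of_dvd_nat (Subgroup.orderOf_dvd_natCard _ ho)
  have h1 : a ^ orderOf o = a := by rw [hj, pow_succ, pow_mul, pow_two, ha, one_pow, one_mul]
  refine ⟨a, ?_, rfl⟩
  rw [← h1, hao, hc.mul_pow, pow_orderOf_eq_one, mul_one]
  exact pow_mem hl _

/-- A maximal subgroup over `N⟨y⟩` has a layer containing `t` and `b`. -/
theorem exists_frame (hyp : Hyp S t) (hk : ProperKnown G) (hM : IsCoatom (Cent t)) {b y g : G}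
    (h : Pair t b) (hg : Cycles g t b) (hyF : y ∈ fitCore t) (hy1 : y ≠ 1) (hyb : Commute y b)
    (hyg : Commute y g) :
    ∃ (H : Subgroup G) (E : Subgroup (↥H ⧸ Cfsg.oddCore ↥H)), IsCoatom H ∧
      normalizer (zpowers y : Set G) ≤ H ∧ Frame H E t b := by
  haveI : Fact (Nat.Prime 2) := ⟨Nat.prime_two⟩
  obtain ⟨H, hH, hle⟩ := exists_max hyp hyF hy1
  have htH : t ∈ H := hle (mem_normalizer_zpowers_of_commute (commute_of_fitCore hyF).symm)
  have hbH : b ∈ H := hle (mem_normalizer_zpowers_of_commute hyb.symm)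
  have hgH : g ∈ H := hle (mem_normalizer_zpowers_of_commute hyg.symm)
  obtain ⟨r, hr, hr2, hrd⟩ := exists_odd_prime_dvd hyp hyF hy1
  haveI := Fact.mk hr
  have hL : Cfsg.generalizedFittingSubgroup ↥H ≠ Cfsg.fittingSubgroup ↥H := by
    intro hF
    obtain ⟨V, hV, hVle, htV, hbV⟩ :=
      exists_four_of_commute h.ha h.hb h.comm h.ne htH hbH
    haveI := hV
    have htb : t * b ∈ V := V.mul_mem htV hbV
    have htrans : ∀ w ∈ V, w ≠ 1 → ∃ x ∈ H, x * t * x⁻¹ = w := by
      have hset : ∀ w ∈ V, w = 1 ∨ w = t ∨ w = b ∨ w = t * b := fun w hw => by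
        have h4 : h.four = V := eq_of_le_of_card_ge (h.four_le htV hbV) (by
          rw [hV.card_four]
          refine le_trans (le_of_eq ?_) (Nat.le_of_dvd Nat.card_pos (dvd_refl (Nat.card h.four)))
          obtain ⟨W, hW, hWle, htW, hbW⟩ :=
            exists_four_of_commute h.ha h.hb h.comm h.ne h.left_mem h.right_mem
          rw [le_antisymm (h.four_le htW hbW) hWle, hW.card_four])
        exact h.mem_four.1 (h4 ▸ hw)
      intro w hw hw1
      rcases hset w hw with rfl | rfl | rfl | rfl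
      · exact absurd rfl hw1
      · exact ⟨1, one_mem H, by group⟩
      · exact ⟨g, hgH, hg.left⟩
      · exact ⟨g * g, mul_mem hgH hgH, by
          rw [show g * g * t * (g * g)⁻¹ = g * (g * t * g⁻¹) * g⁻¹ by group, hg.left, hg.right]⟩
    have hCH := eq_of_leadsTo_four hyp hM hH le_rfl ⟨zpowers y, zpowers_ne_bot.2 hy1, zpowers_le.2 (fitCore_le_fitOf t hyF), inf_le_right.trans hle⟩ (Ne.symm hr2)
      (two_dvd_card_fitting_cent hyp.orderT) hrd htV hVle htrans hF
    have hgt : g * t * g⁻¹ = t := by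
      rw [mem_cent.1 (hCH.symm ▸ hgH : g ∈ Cent t), mul_inv_cancel_right]
    exact h.ne (hgt.symm.trans hg.left)
  obtain ⟨E, hE, hEs, hEk, hC, hEL, hiff⟩ := structure_of_layer (hyp.subDihedral H) (hk H hH.1) hL
  haveI := hE
  haveI := hEs
  have hd := (hyp.subDihedral H).quotient_oddCore
  have ht' : orderOf (⟨t, htH⟩ : H) = 2 := by rw [orderOf_mk]; exact h.ha
  have hb' : orderOf (⟨b, hbH⟩ : H) = 2 := by rw [orderOf_mk]; exact h.hb
  have htb' : orderOf (⟨t * b, mul_mem htH hbH⟩ : H) = 2 := by rw [orderOf_mk]; exact h.order_mul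
  have hp : Pair (proj H ⟨t, htH⟩) (proj H ⟨b, hbH⟩) := by
    refine ⟨mk_orderOf ht', mk_orderOf hb', ?_, fun e => ?_⟩
    · rw [← map_mul, ← map_mul]; exact congrArg _ (Subtype.ext h.comm)
    · have h2 := mk_orderOf htb'
      rw [show (⟨t * b, mul_mem htH hbH⟩ : H) = ⟨t, htH⟩ * ⟨b, hbH⟩ from rfl, map_mul,
        show proj H ⟨t, htH⟩ = proj H ⟨b, hbH⟩ from e, BSW.sq_of_order (mk_orderOf hb'), orderOf_one] at h2
      omega
  obtain ⟨hta, htb⟩ := four_mem hd E hEk hp (g := proj H ⟨g, hgH⟩)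
    (by rw [← map_mul, ← map_inv, ← map_mul]; exact congrArg _ (Subtype.ext hg.left))
    (by rw [← map_mul, ← map_inv, ← map_mul, ← map_mul]; exact congrArg _ (Subtype.ext hg.right))
  exact ⟨H, E, hH, hle, hE, hEs, hEk, hC, hEL, hiff, hd, h,
    mem_layerOf hEL hiff (Subtype.ext (BSW.sq_of_order h.ha)) hta,
    mem_layerOf hEL hiff (Subtype.ext (BSW.sq_of_order h.hb)) htb,
    fun _ => hta, fun _ => htb⟩

namespace Frame

variable {H : Subgroup G} {E : Subgroup (↥H ⧸ Cfsg.oddCore ↥H)} {a b : G}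

theorem a_mem (f : Frame H E a b) : a ∈ H := layerOf_le H f.ha

theorem b_mem (f : Frame H E a b) : b ∈ H := layerOf_le H f.hb

theorem mem_oddCore_commute (f : Frame H E a b) {x : H} (hx : x ∈ Cfsg.oddCore ↥H) {l : G}
    (hl : l ∈ layerOf H) : Commute (x : G) l := by
  obtain ⟨e, he, rfl⟩ := hl
  exact congrArg Subtype.val ((f.iff x).2 hx e he).eq

/-- An odd element inverted by `b` lies in the layer. -/
theorem inverted_mem (f : Frame H E a b) {x : G} (hxH : x ∈ H) (hx : Odd (orderOf x))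
    (hinv : b * x * b⁻¹ = x⁻¹) : x ∈ layerOf H := by
  refine CompInverted.mem_of_sq_mem hx ?_
  have h1 : x * b * x⁻¹ * b⁻¹ = x * x := by
    rw [show x * b * x⁻¹ * b⁻¹ = x * (b * x * b⁻¹)⁻¹ by group, hinv, inv_inv]
  exact h1 ▸ mul_mem (layerOf_normal hxH f.hb) (inv_mem f.hb)

/-- An element inverted by `b` and trivial modulo the odd core is trivial. -/
theorem eq_one_of_proj (f : Frame H E a b) {x : H} (hx : proj H x = 1) (ho : Odd (orderOf x))
    (hinv : b * (x : G) * b⁻¹ = (x : G)⁻¹) : (x : G) = 1 :=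
  CompInverted.eq_one_of_commute_inverted (by rwa [orderOf_coe]) hinv
    (f.mem_oddCore_commute ((QuotientGroup.eq_one_iff x).1 hx) f.hb)

theorem proj_mem (f : Frame H E a b) {x : H} (ho : Odd (orderOf x))
    (hinv : b * (x : G) * b⁻¹ = (x : G)⁻¹) : proj H x ∈ E := by
  haveI := f.normal
  haveI := f.simple
  refine CompInverted.mem_of_inverted E f.dih f.known f.cent (a := proj H ⟨b, f.b_mem⟩)
    (mk_orderOf (by rw [orderOf_mk]; exact f.pair.hb)) (ho.of_dvd_nat (orderOf_map_dvd _ x)) ?_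
  rw [← map_inv, ← map_mul, ← map_mul, ← map_inv]
  exact congrArg _ (Subtype.ext hinv)

/-- The elements of odd order commuting with `a` and inverted by `b` have images in one cyclic group. -/
theorem exists_gen (f : Frame H E a b) :
    ∃ u ∈ E, ∀ x : H, Odd (orderOf x) → Commute (x : G) a → b * (x : G) * b⁻¹ = (x : G)⁻¹ →
      proj H x ∈ zpowers u := by
  haveI := f.normal
  haveI := f.simple
  have haE := f.haE f.a_mem
  obtain ⟨u, hu⟩ := exists_cyclic_odd (f.dih.subgroup E) f.known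
    (a := (⟨proj H ⟨a, f.a_mem⟩, haE⟩ : E))
    (by rw [orderOf_mk]; exact mk_orderOf (by rw [orderOf_mk]; exact f.pair.ha))
  refine ⟨u, u.2, fun x ho hxa hinv => ?_⟩
  obtain ⟨i, hi⟩ := mem_zpowers_iff.1 (hu ⟨proj H x, f.proj_mem ho hinv⟩
    (by rw [orderOf_mk]; exact ho.of_dvd_nat (orderOf_map_dvd _ x))
    (Subtype.ext ((show Commute x ⟨a, f.a_mem⟩ from Subtype.ext hxa.eq).map (proj H)).eq))
  exact ⟨i, congrArg Subtype.val hi⟩

/-- The torus is commutative. -/
theorem torus_comm (f : Frame H E a b) {x x' : G} (hxH : x ∈ H) (hxH' : x' ∈ H)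
    (ho : Odd (orderOf x)) (ho' : Odd (orderOf x')) (hxa : Commute x a) (hxa' : Commute x' a)
    (hinv : b * x * b⁻¹ = x⁻¹) (hinv' : b * x' * b⁻¹ = x'⁻¹) : Commute x x' := by
  obtain ⟨u, huE, hu⟩ := f.exists_gen
  obtain ⟨w, hw, hwu⟩ := f.le_layer huE
  obtain ⟨i, hi⟩ := mem_zpowers_iff.1
    (hu ⟨x, hxH⟩ (by rw [orderOf_mk]; exact ho) hxa hinv)
  obtain ⟨j, hj⟩ := mem_zpowers_iff.1
    (hu ⟨x', hxH'⟩ (by rw [orderOf_mk]; exact ho') hxa' hinv')
  rw [← hwu, ← map_zpow] at hi hj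
  have key : ∀ (i : ℤ) {x : G} (hxH : x ∈ H), proj H (w ^ i) = proj H ⟨x, hxH⟩ →
      ∃ o : H, o ∈ Cfsg.oddCore ↥H ∧ x = (w : G) ^ i * o := fun i x hxH e =>
    ⟨(w ^ i)⁻¹ * ⟨x, hxH⟩, (QuotientGroup.eq (a := w ^ i) (b := (⟨x, hxH⟩ : H))).1 e, by
      rw [Subgroup.coe_mul, Subgroup.coe_inv, SubgroupClass.coe_zpow, mul_inv_cancel_left]⟩
  obtain ⟨o, ho1, ex⟩ := key i hxH hi
  obtain ⟨o', ho2, ex'⟩ := key j hxH' hj
  have hwL : (w : G) ∈ layerOf H := ⟨w, hw, rfl⟩
  have c1 : Commute (o : G) x' := f.mem_oddCore_commute ho1 (f.inverted_mem hxH' ho' hinv')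
  have c2 : Commute ((w : G) ^ i) x' := by
    rw [ex']
    exact (Commute.zpow_zpow_self _ i j).mul_right
      (f.mem_oddCore_commute ho2 (zpow_mem hwL i)).symm
  rw [ex]
  exact c2.mul_left c1

end Frame

end Cfsg.Agent.GW.CompLocal
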