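import Cfsg.Agent.Lib.PSL2.Centralizer
import Cfsg.Agent.Lib.PSL2.MaximalShape

/-!
# Coordinates of a Heisenberg group and odd subgroups of `SL(2, p)`

* `HeisCoord W τ x y p e`: `e` is the coordinate map of `W` modulo `⟨τ⟩` in the basis `x`, `y`;
  `HeisCoord.exists` gives it for a group of order `p ^ 3`, exponent `p`, with `x`, `y` not commuting.
* `HeisCoord.mat`: the matrix of an element normalising `W`; its determinant is the action on `τ`.
* `exists_fixed_vec`, `fixed_vec_of_commute`: the fixed line of an element of order `p`.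
* `odd_sl_two`: an odd subgroup with a nontrivial abelian invariant `p'`-subgroup is abelian, of order
  at most `p + 1`, and does not exist for `p = 3`.
-/

set_option autoImplicit false
set_option linter.unusedSectionVars false

namespace Cfsg.Agent.GW

open Subgroup Matrix
open scoped MatrixGroups

section SL

variable {p : ℕ} [Fact p.Prime]

theorem zmod_two_ne_zero (hp2 : p ≠ 2) : (2 : ZMod p) ≠ 0 := by
  intro h
  have hd : p ∣ 2 := (ZMod.natCast_eq_zero_iff 2 p).1 (by exact_mod_cast h)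
  exact hp2 ((Nat.prime_dvd_prime_iff_eq (Fact.out : p.Prime) Nat.prime_two).1 hd)

theorem sl_ne_neg_one_of_odd (hp2 : p ≠ 2) {a : SL(2, ZMod p)} (ha : Odd (orderOf a)) : a ≠ -1 := by
  intro h
  rw [h, PSL2.orderOf_neg_one (zmod_two_ne_zero hp2)] at ha
  exact absurd ha (by decide)

theorem sl_not_central_of_odd (hp2 : p ≠ 2) {a : SL(2, ZMod p)} (ha : Odd (orderOf a)) (ha1 : a ≠ 1) :
    a ∉ Subgroup.center SL(2, ZMod p) := fun h =>
  (PSL2.mem_center_iff_pm.1 h).elim ha1 (sl_ne_neg_one_of_odd hp2 ha)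

/-- An element of order dividing `p` fixes a vector. -/
theorem exists_fixed_vec {a : SL(2, ZMod p)} (ha : a ^ p = 1) :
    ∃ v : Fin 2 → ZMod p, v ≠ 0 ∧ (a : Matrix (Fin 2) (Fin 2) (ZMod p)) *ᵥ v = v := by
  have hp : p.Prime := Fact.out
  have h0 : ((a : Matrix (Fin 2) (Fin 2) (ZMod p)) - 1) ^ p = 0 := by
    rw [sub_pow_char_of_commute p (Commute.one_right (a : Matrix (Fin 2) (Fin 2) (ZMod p))),
      ← Matrix.SpecialLinearGroup.coe_pow, ha, one_pow, Matrix.SpecialLinearGroup.coe_one, sub_self]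
  have hd : ((a : Matrix (Fin 2) (Fin 2) (ZMod p)) - 1).det = 0 := by
    have := congrArg Matrix.det h0
    rw [Matrix.det_pow, Matrix.det_zero] at this
    exact eq_zero_of_pow_eq_zero this
  obtain ⟨v, hv, hv0⟩ := Matrix.exists_mulVec_eq_zero_iff.2 hd
  refine ⟨v, hv, ?_⟩
  rw [Matrix.sub_mulVec, Matrix.one_mulVec, sub_eq_zero] at hv0
  exact hv0

/-- An element of order dividing `p` commuting with the nontrivial `a` fixes the fixed vectors of `a`. -/
theorem fixed_vec_of_commute (hp2 : p ≠ 2) {a b : SL(2, ZMod p)} (ha : a ^ p = 1) (ha1 : a ≠ 1)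
    (hb : b ^ p = 1) (hc : Commute b a) {v : Fin 2 → ZMod p}
    (hv : (a : Matrix (Fin 2) (Fin 2) (ZMod p)) *ᵥ v = v) :
    (b : Matrix (Fin 2) (Fin 2) (ZMod p)) *ᵥ v = v := by
  rcases eq_or_ne v 0 with rfl | hv0
  · exact mulVec_zero _
  have hp : p.Prime := Fact.out
  have hao : Odd (orderOf a) :=
    (hp.odd_of_ne_two hp2).of_dvd_nat (orderOf_dvd_of_pow_eq_one ha)
  obtain ⟨α, β, e1, e2, e3, e4⟩ := PSL2.exists_coords (sl_not_central_of_odd hp2 hao ha1) hc
  have hb' : (b : Matrix (Fin 2) (Fin 2) (ZMod p)) =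
      α • (1 : Matrix (Fin 2) (Fin 2) (ZMod p)) + β • (a : Matrix (Fin 2) (Fin 2) (ZMod p)) := by
    ext i j
    fin_cases i <;> fin_cases j <;> simp [e1, e2, e3, e4]
  have h1 : (b : Matrix (Fin 2) (Fin 2) (ZMod p)) *ᵥ v = (α + β) • v := by
    rw [hb', add_mulVec, smul_mulVec, smul_mulVec, one_mulVec, hv, add_smul]
  have hn : ∀ n : ℕ, ((b ^ n : SL(2, ZMod p)) : Matrix (Fin 2) (Fin 2) (ZMod p)) *ᵥ v =
      (α + β) ^ n • v := by
    intro n
    induction n with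
    | zero => rw [pow_zero, pow_zero, one_smul, Matrix.SpecialLinearGroup.coe_one, one_mulVec]
    | succ n ih =>
      rw [pow_succ, Matrix.SpecialLinearGroup.coe_mul, ← mulVec_mulVec, h1, mulVec_smul, ih, smul_smul,
        pow_succ']
  have h2 := hn p
  rw [hb, Matrix.SpecialLinearGroup.coe_one, one_mulVec, ZMod.pow_card] at h2
  rw [h1, ← h2]

/-- An odd subgroup of `SL(2, p)` with a nontrivial invariant abelian subgroup without elements of
order `p`. -/
theorem odd_sl_two (hp2 : p ≠ 2) {K A : Subgroup SL(2, ZMod p)} (hodd : Odd (Nat.card K))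
    (hAK : A ≤ K) (hA : ∀ a ∈ A, ∀ b ∈ A, Commute a b) (hn : ∀ k ∈ K, ∀ a ∈ A, k * a * k⁻¹ ∈ A)
    (hne : A ≠ ⊥) (hp : ∀ a ∈ A, a ^ p = 1 → a = 1) :
    (∀ k ∈ K, ∀ l ∈ K, Commute k l) ∧ Nat.card K ≤ p + 1 ∧ p ≠ 3 := by
  have hpp : p.Prime := Fact.out
  obtain ⟨a, ha, ha1⟩ : ∃ a ∈ A, a ≠ 1 := by
    by_contra hno
    push Not at hno
    exact hne ((Subgroup.eq_bot_iff_forall _).2 hno)
  have hoddK : ∀ k ∈ K, Odd (orderOf k) := fun k hk =>
    hodd.of_dvd_nat (Subgroup.orderOf_dvd_natCard _ hk)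
  have hnc := sl_not_central_of_odd hp2 (hoddK a (hAK ha)) ha1
  have hpo : ¬ p ∣ orderOf a := by
    intro hd
    have h1 := orderOf_pow_of_dvd (Nat.div_ne_zero_iff.2
      ⟨hpp.ne_zero, Nat.le_of_dvd (orderOf_pos a) hd⟩) (Nat.div_dvd_of_dvd hd)
    rw [Nat.div_div_self hd (orderOf_pos a).ne'] at h1
    have h2 := hp _ (pow_mem ha _) (orderOf_dvd_iff_pow_eq_one.1 (dvd_of_eq h1))
    rw [h2, orderOf_one] at h1
    exact hpp.ne_one h1.symm
  have hmk : PSL2.mk a ≠ 1 := fun e => by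
    rcases PSL2.mk_eq_one.1 e with e | e
    · exact ha1 e
    · exact sl_ne_neg_one_of_odd hp2 (hoddK a (hAK ha)) e
  have h4 : PSL2.tr a ^ 2 ≠ 4 :=
    PSL2.Maximal.tr_sq_ne_four_of_orderOf p hmk fun hd => hpo (hd.trans (orderOf_map_dvd PSL2.mk a))
  have hKc : K ≤ PSL2.cent a := by
    intro k hk
    refine PSL2.mem_cent.2 ?_
    rcases PSL2.eq_or_eq_inv_of_tr_eq h4 (hA _ (hn k hk a ha) a ha) (PSL2.tr_conj k a) with e | e
    · exact mul_inv_eq_iff_eq_mul.1 e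
    · exfalso
      have h2 : k ^ 2 * a * (k ^ 2)⁻¹ = a := by
        calc k ^ 2 * a * (k ^ 2)⁻¹ = k * (k * a * k⁻¹) * k⁻¹ := by rw [pow_two]; group
          _ = (k * a * k⁻¹)⁻¹ := by rw [e, ← conj_inv, e]
          _ = a := by rw [e, inv_inv]
      obtain ⟨m, hm⟩ := hoddK k hk
      have hk2 : k = (k ^ 2) ^ (m + 1) := by
        rw [← pow_mul, show 2 * (m + 1) = orderOf k + 1 by omega, pow_succ, pow_orderOf_eq_one, one_mul]
      have h3 : Commute k a := by
        rw [hk2]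
        exact (show Commute (k ^ 2) a from mul_inv_eq_iff_eq_mul.1 h2).pow_left _
      rw [h3.eq, mul_inv_cancel_right] at e
      have hsq : orderOf a ∣ 2 := orderOf_dvd_of_pow_eq_one (by rw [pow_two]; nth_rw 1 [e]; group)
      exact ha1 (orderOf_eq_one_iff.1
        (Nat.eq_one_of_dvd_coprimes (Nat.coprime_two_right.2 (hoddK a (hAK ha))) dvd_rfl hsq))
  refine ⟨fun k hk l hl => PSL2.cent_comm hnc (PSL2.mem_cent.1 (hKc hk)) (PSL2.mem_cent.1 (hKc hl)),
    ?_⟩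
  have hKd : Nat.card K ∣ Nat.card (PSL2.cent a) := card_dvd_of_le hKc
  have had : orderOf a ∣ Nat.card K := Subgroup.orderOf_dvd_natCard _ (hAK ha)
  have hao : orderOf a ≠ 1 := fun e => ha1 (orderOf_eq_one_iff.1 e)
  have h3 : p = 3 → ∀ n, Nat.card (PSL2.cent a) = n → (n = 2 ∨ n = 4) → False := by
    intro h3 n hn' hcases
    have hc : Nat.Coprime (Nat.card K) n := by
      rcases hcases with rfl | rfl
      · exact Nat.coprime_two_right.2 hodd
      · exact Nat.Coprime.pow_right 2 (Nat.coprime_two_right.2 hodd)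
    have h1 : Nat.card K = 1 := Nat.eq_one_of_dvd_coprimes hc dvd_rfl (hn' ▸ hKd)
    exact hao (Nat.dvd_one.1 (h1 ▸ had))
  rcases PSL2.card_cent hnc with e | e | e <;> rw [ZMod.card] at e
  · refine ⟨(Nat.le_of_dvd (by have := hpp.two_le; omega) (e ▸ hKd)).trans (by omega), fun hp3 => ?_⟩
    exact h3 hp3 _ e (Or.inl (by omega))
  · exfalso
    have h1 : orderOf a ∣ Nat.gcd 2 (p - 1) * p := e ▸ had.trans hKd
    have hc : Nat.Coprime (orderOf a) (Nat.gcd 2 (p - 1) * p) :=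
      Nat.Coprime.mul_right
        (Nat.Coprime.coprime_dvd_right (Nat.gcd_dvd_left _ _) (Nat.coprime_two_right.2 (hoddK a (hAK ha))))
        ((hpp.coprime_iff_not_dvd.2 hpo).symm)
    exact hao (Nat.eq_one_of_dvd_coprimes hc dvd_rfl h1)
  · refine ⟨Nat.le_of_dvd (by omega) (e ▸ hKd), fun hp3 => ?_⟩
    exact h3 hp3 _ e (Or.inr (by omega))

end SL

/-- Coordinates of `W` modulo `⟨τ⟩` in the basis `x`, `y`. -/
structure HeisCoord {G : Type*} [Group G] (W : Subgroup G) (τ x y : G) (p : ℕ)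
    (e : G → Fin 2 → ZMod p) : Prop where
  memX : x ∈ W
  memY : y ∈ W
  add : ∀ w ∈ W, ∀ w' ∈ W, e (w * w') = e w + e w'
  apX : e x = ![1, 0]
  apY : e y = ![0, 1]
  gen : ∀ w ∈ W, ∃ i j k : ℕ, w = x ^ i * y ^ j * τ ^ k
  zero : ∀ w ∈ W, e w = 0 ↔ w ∈ zpowers τ
  cross : ∀ w ∈ W, ∀ w' ∈ W, w * w' * w⁻¹ * w'⁻¹ =
    (x * y * x⁻¹ * y⁻¹) ^ (e w 0 * e w' 1 - e w 1 * e w' 0).val

namespace HeisCoord

variable {G : Type*} [Group G] {W : Subgroup G} {τ x y : G} {p : ℕ} {e : G → Fin 2 → ZMod p}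

/-- Coordinates exist. -/
protected theorem exists' [Finite G] [Fact p.Prime] (hτ : orderOf τ = p) (hτW : τ ∈ W)
    (hW : Nat.card W = p ^ 3) (hexp : ∀ w ∈ W, w ^ p = 1)
    (hc : ∀ w ∈ W, ∀ w' ∈ W, w * w' * w⁻¹ * w'⁻¹ ∈ zpowers τ) (hτc : ∀ w ∈ W, Commute τ w)
    (hx : x ∈ W) (hy : y ∈ W) (hxy : ¬ Commute x y) :
    ∃ e, HeisCoord W τ x y p e := by
  classical
  have hp : p.Prime := Fact.out
  set τ₁ := x * y * x⁻¹ * y⁻¹ with hτ₁
  have hτ₁1 : τ₁ ≠ 1 := fun h =>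
    hxy (mul_inv_eq_iff_eq_mul.1 (mul_inv_eq_one.1 h))
  have hτ₁z : τ₁ ∈ zpowers τ := hc x hx y hy
  have hτ₁o : orderOf τ₁ = p := by
    have hd : orderOf τ₁ ∣ p := hτ ▸ orderOf_dvd_of_mem_zpowers hτ₁z
    exact (hp.eq_one_or_self_of_dvd _ hd).resolve_left fun h => hτ₁1 (orderOf_eq_one_iff.1 h)
  have hz : zpowers τ₁ = zpowers τ := eq_of_le_of_card_ge (zpowers_le.2 hτ₁z)
    (by rw [Nat.card_zpowers, Nat.card_zpowers, hτ, hτ₁o])
  have hP : ∀ a b : ZMod p, τ₁ ^ (a + b).val = τ₁ ^ a.val * τ₁ ^ b.val := fun a b => by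
    rw [← pow_add, ZMod.val_add, ← pow_mod_orderOf τ₁ (a.val + b.val), hτ₁o]
  have hinj : Function.Injective fun a : ZMod p => τ₁ ^ a.val := fun a b h =>
    ZMod.val_injective p (pow_injOn_Iio_orderOf (by simpa [hτ₁o] using ZMod.val_lt a)
      (by simpa [hτ₁o] using ZMod.val_lt b) h)
  set L := Function.invFun fun a : ZMod p => τ₁ ^ a.val with hL
  have hLr : ∀ a : ZMod p, L (τ₁ ^ a.val) = a := fun a => Function.leftInverse_invFun hinj a
  have hLl : ∀ z ∈ zpowers τ, τ₁ ^ (L z).val = z := fun z hzm => by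
    obtain ⟨n, hn⟩ := mem_powers_iff_mem_zpowers.2 (hz ▸ hzm)
    refine Function.invFun_eq (f := fun a : ZMod p => τ₁ ^ a.val) ⟨(n : ZMod p), ?_⟩
    show τ₁ ^ (n : ZMod p).val = z
    rw [ZMod.val_natCast]
    have h2 := pow_mod_orderOf τ₁ n
    rw [hτ₁o] at h2
    rw [h2]
    exact hn
  have hLm : ∀ z ∈ zpowers τ, ∀ z' ∈ zpowers τ, L (z * z') = L z + L z' := fun z h z' h' => by
    conv_lhs => rw [← hLl z h, ← hLl z' h', ← hP, hLr]
  have hcent : ∀ z ∈ zpowers τ, ∀ w ∈ W, Commute z w := fun z h w hw => by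
    obtain ⟨k, rfl⟩ := mem_zpowers_iff.1 h
    exact (hτc w hw).zpow_left k
  let c : G → G → ZMod p := fun w w' => L (w * w' * w⁻¹ * w'⁻¹)
  have hcl : ∀ w ∈ W, ∀ w' ∈ W, ∀ v ∈ W, c (w * w') v = c w v + c w' v := by
    intro w hw w' hw' v hv
    have e1 : w * w' * v * (w * w')⁻¹ * v⁻¹ =
        w * (w' * v * w'⁻¹ * v⁻¹) * (v * w⁻¹ * v⁻¹) := by group
    have e2 : w * w' * v * (w * w')⁻¹ * v⁻¹ =
        (w * v * w⁻¹ * v⁻¹) * (w' * v * w'⁻¹ * v⁻¹) := by
      rw [e1, ← (hcent _ (hc w' hw' v hv) w hw).eq, mul_assoc,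
        (hcent _ (hc w' hw' v hv) _ (mul_mem hw (mul_mem (mul_mem hv (inv_mem hw)) (inv_mem hv)))).eq]
      group
    show L _ = _
    rw [e2, hLm _ (hc w hw v hv) _ (hc w' hw' v hv)]
  have hcs : ∀ w ∈ W, ∀ v ∈ W, c v w = -c w v := by
    intro w hw v hv
    have h1 : L 1 = 0 := by
      have := hLr 0
      rwa [ZMod.val_zero, pow_zero] at this
    rw [eq_neg_iff_add_eq_zero]
    show L _ + L _ = 0
    rw [← hLm _ (hc v hv w hw) _ (hc w hw v hv), ← h1]
    congr 1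
    group
  have hc0 : ∀ w v : G, Commute w v → c w v = 0 := by
    intro w v h
    show L _ = 0
    rw [h.eq, mul_inv_cancel_right, mul_inv_cancel]
    have := hLr 0
    rwa [ZMod.val_zero, pow_zero] at this
  have hcr : ∀ w ∈ W, ∀ w' ∈ W, ∀ v ∈ W, c v (w * w') = c v w + c v w' := fun w hw w' hw' v hv => by
    rw [hcs (w * w') (mul_mem hw hw') v hv, hcl w hw w' hw' v hv, hcs w hw v hv, hcs w' hw' v hv]
    ring
  have hxyc : c x y = 1 := by
    have := hLr 1
    rwa [ZMod.val_one, pow_one] at this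
  let e : G → Fin 2 → ZMod p := fun w => ![c w y, c x w]
  have hadd : ∀ w ∈ W, ∀ w' ∈ W, e (w * w') = e w + e w' := fun w hw w' hw' => by
    funext i
    fin_cases i
    · exact hcl w hw w' hw' y hy
    · exact hcr w hw w' hw' x hx
  have hex : e x = ![1, 0] := by
    funext i
    fin_cases i
    · exact hxyc
    · exact hc0 x x (Commute.refl x)
  have hey : e y = ![0, 1] := by
    funext i
    fin_cases i
    · exact hc0 y y (Commute.refl y)
    · exact hxyc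
  have he0 : ∀ z ∈ zpowers τ, e z = 0 := fun z h => by
    funext i
    fin_cases i
    · exact hc0 z y (hcent z h y hy)
    · exact hc0 x z (hcent z h x hx).symm
  have hpow : ∀ w ∈ W, ∀ n : ℕ, e (w ^ n) = n • e w := by
    intro w hw n
    induction n with
    | zero => rw [pow_zero, zero_smul, he0 1 (one_mem _)]
    | succ n ih => rw [pow_succ, hadd _ (pow_mem hw n) _ hw, ih, succ_nsmul]
  have hev : ∀ i j k : ℕ, e (x ^ i * y ^ j * τ ^ k) = ![(i : ZMod p), (j : ZMod p)] := by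
    intro i j k
    rw [hadd _ (mul_mem (pow_mem hx i) (pow_mem hy j)) _ (pow_mem hτW k), hadd _ (pow_mem hx i) _
      (pow_mem hy j), hpow x hx, hpow y hy, he0 _ (pow_mem (mem_zpowers τ) k), hex, hey]
    funext m
    fin_cases m <;> simp
  have hgen : ∀ w ∈ W, ∃ i j k : ℕ, w = x ^ i * y ^ j * τ ^ k := by
    let f : ZMod p × ZMod p × ZMod p → W := fun q => ⟨x ^ q.1.val * y ^ q.2.1.val * τ ^ q.2.2.val,
      mul_mem (mul_mem (pow_mem hx _) (pow_mem hy _)) (pow_mem hτW _)⟩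
    have hf : Function.Injective f := by
      rintro ⟨i, j, k⟩ ⟨i', j', k'⟩ h
      have h' : x ^ i.val * y ^ j.val * τ ^ k.val = x ^ i'.val * y ^ j'.val * τ ^ k'.val :=
        congrArg Subtype.val h
      have h1 := congrArg e h'
      rw [hev, hev, ZMod.natCast_zmod_val, ZMod.natCast_zmod_val, ZMod.natCast_zmod_val,
        ZMod.natCast_zmod_val] at h1
      obtain rfl : i = i' := congrFun h1 0
      obtain rfl : j = j' := congrFun h1 1
      have h2 := mul_left_cancel h'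
      obtain rfl : k = k' := ZMod.val_injective p (pow_injOn_Iio_orderOf
        (by simpa [hτ] using ZMod.val_lt k) (by simpa [hτ] using ZMod.val_lt k') h2)
      rfl
    have hsurj := (Nat.bijective_iff_injective_and_card f).2 ⟨hf, by
      rw [Nat.card_prod, Nat.card_prod, Nat.card_zmod, hW]; ring⟩
    intro w hw
    obtain ⟨q, hq⟩ := hsurj.2 ⟨w, hw⟩
    exact ⟨_, _, _, (congrArg Subtype.val hq).symm⟩
  refine ⟨e, ⟨hx, hy, hadd, hex, hey, hgen, fun w hw => ⟨fun h => ?_, he0 w⟩, ?_⟩⟩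
  · obtain ⟨i, j, k, rfl⟩ := hgen w hw
    rw [hev] at h
    have hi : x ^ i = 1 := by
      obtain ⟨m, rfl⟩ := (ZMod.natCast_eq_zero_iff i p).1 (congrFun h 0)
      rw [pow_mul, hexp x hx, one_pow]
    have hj : y ^ j = 1 := by
      obtain ⟨m, rfl⟩ := (ZMod.natCast_eq_zero_iff j p).1 (congrFun h 1)
      rw [pow_mul, hexp y hy, one_pow]
    rw [hi, hj, one_mul, one_mul]
    exact pow_mem (mem_zpowers τ) k
  · intro w hw w' hw'
    have key : c w w' = e w 0 * e w' 1 - e w 1 * e w' 0 := by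
      obtain ⟨i, j, k, hwe⟩ := hgen w hw
      have hpl : ∀ v ∈ W, ∀ n : ℕ, c (v ^ n) w' = n * c v w' := by
        intro v hv n
        induction n with
        | zero => rw [pow_zero, Nat.cast_zero, zero_mul]; exact hc0 1 w' (Commute.one_left w')
        | succ n ih => rw [pow_succ, hcl _ (pow_mem hv n) v hv w' hw', ih]; push_cast; ring
      have h1 : c w w' = i * c x w' + j * c y w' := by
        rw [hwe, hcl _ (mul_mem (pow_mem hx i) (pow_mem hy j)) _ (pow_mem hτW k) w' hw',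
          hcl _ (pow_mem hx i) _ (pow_mem hy j) w' hw', hpl x hx, hpl y hy,
          hc0 _ w' (hcent _ (pow_mem (mem_zpowers τ) k) w' hw'), add_zero]
      have h2 : e w = ![(i : ZMod p), (j : ZMod p)] := by rw [hwe, hev]
      rw [h1, h2, hcs w' hw' y hy]
      show (i : ZMod p) * c x w' + (j : ZMod p) * -c w' y = (i : ZMod p) * c x w' - (j : ZMod p) * c w' y
      ring
    rw [← key]
    exact (hLl _ (hc w hw w' hw')).symm

variable (h : HeisCoord W τ x y p e)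
include h

theorem map_one : e 1 = 0 := (h.zero 1 W.one_mem).2 (one_mem _)

theorem map_pow {w : G} (hw : w ∈ W) (n : ℕ) : e (w ^ n) = n • e w := by
  induction n with
  | zero => rw [pow_zero, zero_smul, h.map_one]
  | succ n ih => rw [pow_succ, h.add _ (pow_mem hw n) _ hw, ih, succ_nsmul]

theorem map_inv {w : G} (hw : w ∈ W) : e w⁻¹ = -e w := by
  refine eq_neg_of_add_eq_zero_left ?_
  rw [← h.add _ (inv_mem hw) _ hw, inv_mul_cancel, h.map_one]

theorem surj [NeZero p] (v : Fin 2 → ZMod p) : ∃ w ∈ W, e w = v := by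
  refine ⟨x ^ (v 0).val * y ^ (v 1).val, mul_mem (pow_mem h.memX _) (pow_mem h.memY _), ?_⟩
  rw [h.add _ (pow_mem h.memX _) _ (pow_mem h.memY _), h.map_pow h.memX, h.map_pow h.memY, h.apX, h.apY]
  funext m
  fin_cases m <;> simp

/-- The centraliser of `y` in `W`. -/
theorem mem_sup_of_commute [Fact p.Prime] (hexp : x ^ p = 1) (hτc : ∀ w ∈ W, Commute τ w)
    (hne : ¬ Commute x y) {w : G} (hw : w ∈ W) (hwy : Commute w y) :
    w ∈ zpowers y ⊔ zpowers τ := by
  obtain ⟨i, j, k, rfl⟩ := h.gen w hw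
  have hxi : Commute (x ^ i) y := by
    have h1 : x ^ i = (x ^ i * y ^ j * τ ^ k) * (τ ^ k)⁻¹ * (y ^ j)⁻¹ := by group
    rw [h1]
    exact (hwy.mul_left ((hτc y h.memY).pow_left k).inv_left).mul_left
      ((Commute.refl y).pow_left j).inv_left
  have hi : p ∣ i := by
    by_contra hd
    refine hne ?_
    have hc : Nat.Coprime i p := ((Fact.out : p.Prime).coprime_iff_not_dvd.2 hd).symm
    obtain ⟨m, -, hm⟩ := Nat.exists_mul_mod_eq_one_of_coprime hc (Fact.out : p.Prime).one_lt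
    have hxm : x = (x ^ i) ^ m := by
      rw [← pow_mul, ← Nat.mod_add_div (i * m) p, hm, pow_add, pow_one, pow_mul, hexp, one_pow, mul_one]
    rw [hxm]
    exact hxi.pow_left m
  obtain ⟨m, rfl⟩ := hi
  rw [pow_mul, hexp, one_pow, one_mul]
  exact mul_mem (mem_sup_left (pow_mem (mem_zpowers y) j)) (mem_sup_right (pow_mem (mem_zpowers τ) k))

variable (e) in
omit h in
/-- The matrix of conjugation by `c`. -/
def mat (x y c : G) : Matrix (Fin 2) (Fin 2) (ZMod p) :=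
  !![e (c * x * c⁻¹) 0, e (c * y * c⁻¹) 0; e (c * x * c⁻¹) 1, e (c * y * c⁻¹) 1]

theorem conj_eq {c : G} (hcW : ∀ w ∈ W, c * w * c⁻¹ ∈ W) (hcτ : c * τ * c⁻¹ ∈ zpowers τ) (hτW : τ ∈ W)
    {w : G} (hw : w ∈ W) : e (c * w * c⁻¹) = mat e x y c *ᵥ e w := by
  obtain ⟨i, j, k, hwe⟩ := h.gen w hw
  have hx := h.memX
  have hy := h.memY
  have h1 : e (c * w * c⁻¹) = i • e (c * x * c⁻¹) + j • e (c * y * c⁻¹) := by
    rw [hwe, show c * (x ^ i * y ^ j * τ ^ k) * c⁻¹ =
      (c * x * c⁻¹) ^ i * (c * y * c⁻¹) ^ j * (c * τ * c⁻¹) ^ k by rw [conj_pow, conj_pow, conj_pow]; group,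
      h.add _ (mul_mem (pow_mem (hcW x hx) i) (pow_mem (hcW y hy) j)) _ (pow_mem (hcW τ hτW) k),
      h.add _ (pow_mem (hcW x hx) i) _ (pow_mem (hcW y hy) j), h.map_pow (hcW x hx),
      h.map_pow (hcW y hy), (h.zero _ (pow_mem (hcW τ hτW) k)).2 (pow_mem hcτ k), add_zero]
  have h2 : e w = i • e x + j • e y := by
    rw [hwe, h.add _ (mul_mem (pow_mem hx i) (pow_mem hy j)) _ (pow_mem hτW k),
      h.add _ (pow_mem hx i) _ (pow_mem hy j), h.map_pow hx, h.map_pow hy,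
      (h.zero _ (pow_mem hτW k)).2 (pow_mem (mem_zpowers τ) k), add_zero]
  rw [h1, h2, h.apX, h.apY]
  funext m
  fin_cases m <;> simp [mat, Matrix.mulVec, dotProduct, Fin.sum_univ_two] <;> ring

theorem mat_mul [NeZero p] {c d : G} (hcW : ∀ w ∈ W, c * w * c⁻¹ ∈ W) (hcτ : c * τ * c⁻¹ ∈ zpowers τ)
    (hτW : τ ∈ W) (hdW : ∀ w ∈ W, d * w * d⁻¹ ∈ W) :
    mat e x y (c * d) = mat e x y c * mat e x y d := by
  have hk : ∀ w : G, c * d * w * (c * d)⁻¹ = c * (d * w * d⁻¹) * c⁻¹ := fun w => by group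
  have h1 := h.conj_eq hcW hcτ hτW (hdW x h.memX)
  have h2 := h.conj_eq hcW hcτ hτW (hdW y h.memY)
  rw [← hk] at h1 h2
  unfold mat
  rw [h1, h2]
  ext a b
  fin_cases a <;> fin_cases b <;>
    simp [mat, Matrix.mul_apply, Matrix.mulVec, dotProduct, Fin.sum_univ_two]

theorem mat_one : mat e x y 1 = 1 := by
  simp only [mat, one_mul, inv_one, mul_one, h.apX, h.apY]
  ext a b
  fin_cases a <;> fin_cases b <;> rfl

/-- The determinant is the action on `⟨τ⟩`. -/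
theorem conj_cross {c : G} (hcW : ∀ w ∈ W, c * w * c⁻¹ ∈ W) :
    c * (x * y * x⁻¹ * y⁻¹) * c⁻¹ = (x * y * x⁻¹ * y⁻¹) ^ (mat e x y c).det.val := by
  have h1 := h.cross _ (hcW x h.memX) _ (hcW y h.memY)
  rw [Matrix.det_fin_two]
  simp only [mat, Matrix.of_apply, Matrix.cons_val', Matrix.cons_val_zero, Matrix.cons_val_one,
    Matrix.cons_val_fin_one]
  rw [show e (c * x * c⁻¹) 0 * e (c * y * c⁻¹) 1 - e (c * y * c⁻¹) 0 * e (c * x * c⁻¹) 1 =
    e (c * x * c⁻¹) 0 * e (c * y * c⁻¹) 1 - e (c * x * c⁻¹) 1 * e (c * y * c⁻¹) 0 by ring, ← h1]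
  group

/-- The elements acting trivially modulo `⟨τ⟩`. -/
theorem mat_eq_one_iff {c : G} (hcW : ∀ w ∈ W, c * w * c⁻¹ ∈ W) (hcτ : c * τ * c⁻¹ ∈ zpowers τ)
    (hτW : τ ∈ W) : mat e x y c = 1 ↔ ∀ w ∈ W, c * w * c⁻¹ * w⁻¹ ∈ zpowers τ := by
  constructor
  · intro hm w hw
    refine (h.zero _ (mul_mem (hcW w hw) (inv_mem hw))).1 ?_
    rw [h.add _ (hcW w hw) _ (inv_mem hw), h.map_inv hw, h.conj_eq hcW hcτ hτW hw, hm,
      Matrix.one_mulVec, add_neg_cancel]
  · intro hm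
    have key : ∀ w ∈ W, e (c * w * c⁻¹) = e w := fun w hw => by
      have h1 := (h.zero _ (mul_mem (hcW w hw) (inv_mem hw))).2 (hm w hw)
      rw [h.add _ (hcW w hw) _ (inv_mem hw), h.map_inv hw] at h1
      exact add_neg_eq_zero.1 h1
    rw [show mat e x y c = mat e x y 1 by
      simp only [mat, key x h.memX, key y h.memY, one_mul, inv_one, mul_one]]
    exact h.mat_one

end HeisCoord

end Cfsg.Agent.GW
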