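import Cfsg.Agent.Lib.GW.PartII.CompCentral
import Cfsg.Agent.Lib.GW.PartII.CompLocal
import Cfsg.Agent.Lib.GW.PartII.CompHeisCoord

/-!
# The extraspecial shape: the Fitting group

`Extra t τ W`: `W ≤ fitCore t` is extraspecial of order `r ^ 3` and exponent `r = orderOf τ`.

* `Extra.base`: for every reflection `u`, `qFix t u = ⟨y⟩` and some `x ∈ W` inverted by `u` does not
  commute with `y`;
* `Extra.mem_fitCore_iff`: `fitCore t` consists of the elements of `oCore t` acting trivially on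
  `W` modulo `⟨τ⟩`;
* `Central.conj_cases`: an element of `Cent t` centralises `τ` or is `oCore t` times a reflection.
-/

set_option autoImplicit false
set_option linter.style.haveILetI false
set_option linter.unusedSectionVars false

namespace Cfsg.Agent.GW

open Subgroup
open BSW (mem_cent sq_of_order)
open BSW.DihedralTI (Gens exists_decomp)
open CompLocal (FixModel)

universe u

variable {G : Type u} [Group G] [Finite G] {S : Sylow 2 G} {t τ : G} {W : Subgroup G}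

/-- An element of the cyclic group `T` of order dividing that of `τ ∈ T` is a power of `τ`. -/
theorem mem_zpowers_of_cyclic {T : Subgroup G} [IsCyclic T] {τ x : G} (hτ : τ ∈ T) (hx : x ∈ T)
    (h : x ^ orderOf τ = 1) : x ∈ zpowers τ := by
  classical
  haveI := Fintype.ofFinite T
  have hle := IsCyclic.card_pow_eq_one_le (α := T) (orderOf_pos τ)
  set Φ := Finset.univ.filter fun a : T => a ^ orderOf τ = 1 with hΦ
  let Ψ : Finset T := Finset.image (fun i : Fin (orderOf τ) => (⟨τ, hτ⟩ : T) ^ (i : ℕ)) Finset.univ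
  have hsub : Ψ ⊆ Φ := by
    intro a ha
    obtain ⟨i, -, rfl⟩ := Finset.mem_image.1 ha
    refine Finset.mem_filter.2 ⟨Finset.mem_univ _, Subtype.ext ?_⟩
    show (τ ^ (i : ℕ)) ^ orderOf τ = 1
    rw [← pow_mul, mul_comm, pow_mul, pow_orderOf_eq_one, one_pow]
  have hcard : Ψ.card = orderOf τ := by
    rw [Finset.card_image_of_injective, Finset.card_univ, Fintype.card_fin]
    intro i j hij
    exact Fin.ext (pow_injOn_Iio_orderOf i.2 j.2 (congrArg Subtype.val hij))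
  have heq : Ψ = Φ := Finset.eq_of_subset_of_card_le hsub (hle.trans hcard.ge)
  have hxΦ : (⟨x, hx⟩ : T) ∈ Φ := Finset.mem_filter.2 ⟨Finset.mem_univ _, Subtype.ext h⟩
  obtain ⟨i, -, hi⟩ := Finset.mem_image.1 (heq ▸ hxΦ)
  have hv : τ ^ (i : ℕ) = x := congrArg Subtype.val hi
  rw [← hv]
  exact pow_mem (mem_zpowers τ) _

theorem orderOf_odd_of_mem (hyp : Hyp S t) {z : G} (hz : z ∈ oCore t) : Odd (orderOf z) :=
  (hyp.odd_oCore t).of_dvd_nat (Subgroup.orderOf_dvd_natCard _ hz)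

/-- An element of `oCore t` centralised and inverted is trivial. -/
theorem eq_one_of_fixed_inverted (hyp : Hyp S t) {u z : G} (hz : z ∈ oCore t) (hc : Commute u z)
    (hi : u * z * u⁻¹ = z⁻¹) : z = 1 := by
  rw [hc.eq, mul_inv_cancel_right] at hi
  have h2 : orderOf z ∣ 2 := orderOf_dvd_of_pow_eq_one (by rw [pow_two]; nth_rw 1 [hi]; group)
  exact orderOf_eq_one_iff.1
    (Nat.eq_one_of_dvd_coprimes (Nat.coprime_two_right.2 (orderOf_odd_of_mem hyp hz)) dvd_rfl h2)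

theorem Central.r_ne_two (hyp : Hyp S t) (h : Central t τ) : orderOf τ ≠ 2 := fun e => by
  have h2 := orderOf_odd_of_mem hyp (fitCore_le_oCore t h.mem)
  rw [e] at h2
  exact absurd h2 (by decide)

theorem Central.not_commute_refl (hyp : Hyp S t) (h : Central t τ) {u : G} (hu : orderOf u = 2)
    (hne : u ≠ t) (hc : Commute u t) : ¬ Commute u τ := fun hcτ =>
  h.prime.ne_one (orderOf_eq_one_iff.2
    (eq_one_of_fixed_inverted hyp (fitCore_le_oCore t h.mem) hcτ (h.inverts u hu hne hc)))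

/-- The rotations centralise `τ`. -/
theorem Central.commute_rotation (hyp : Hyp S t) (h : Central t τ) (g : Gens S t) (i : ℤ) :
    Commute (g.σ ^ i) τ := by
  have hr : ∀ j : ℤ, g.σ ^ j * g.τ * τ * (g.σ ^ j * g.τ)⁻¹ = τ⁻¹ := fun j =>
    h.inverts _ (refl_order g j) (refl_ne g j)
      (hyp.centralS _ (mul_mem (zpow_mem g.hσ j) g.hτ))
  have h0 := hr 0
  rw [zpow_zero, one_mul] at h0
  have h1 := hr 1
  rw [zpow_one] at h1
  refine Commute.zpow_left ?_ i
  refine mul_inv_eq_iff_eq_mul.1 ?_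
  calc g.σ * τ * g.σ⁻¹ = g.σ * g.τ * (g.τ⁻¹ * τ * g.τ) * (g.σ * g.τ)⁻¹ := by group
    _ = g.σ * g.τ * τ⁻¹ * (g.σ * g.τ)⁻¹ := by
      congr 2
      have h2 : τ = g.τ * τ⁻¹ * g.τ⁻¹ := by rw [← conj_inv, h0, inv_inv]
      nth_rw 1 [h2]
      group
    _ = τ := by rw [← conj_inv, h1, inv_inv]

/-- An element of `Cent t` is an element of `oCore t` times an element of `S`. -/
theorem Hyp.exists_oCore_mul (hyp : Hyp S t) {c : G} (hc : c ∈ Cent t) :
    ∃ v ∈ oCore t, ∃ s ∈ (S : Subgroup G), c = v * s := by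
  obtain ⟨g⟩ := hyp.exists_gens
  obtain ⟨V, hV, hVo, -, hd⟩ := exists_decomp g hyp.memS hyp.centralS hyp.orderT
  obtain ⟨v, hv, s, hs, e⟩ := hd c hc
  exact ⟨v, (hyp.mem_oCore_iff hyp.orderT).2
    ⟨hV hv, hVo.of_dvd_nat (Subgroup.orderOf_dvd_natCard _ hv)⟩, s, hs, e⟩

/-- An element of `Cent t` centralises `τ`, or inverts it and is `oCore t` times a reflection. -/
theorem Central.conj_cases (hyp : Hyp S t) (h : Central t τ) {c : G} (hc : c ∈ Cent t) :
    Commute c τ ∨ (c * τ * c⁻¹ = τ⁻¹ ∧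
      ∃ v ∈ oCore t, ∃ u, orderOf u = 2 ∧ u ≠ t ∧ Commute u t ∧ c = v * u) := by
  obtain ⟨g⟩ := hyp.exists_gens
  obtain ⟨v, hv, s, hs, rfl⟩ := hyp.exists_oCore_mul hc
  obtain ⟨i, rfl | rfl⟩ := g.hform s hs
  · exact Or.inl ((h.comm v hv).mul_left (h.commute_rotation hyp g i))
  · have hct : Commute (g.σ ^ i * g.τ) t := hyp.centralS _ hs
    refine Or.inr ⟨?_, v, hv, _, refl_order g i, refl_ne g i, hct, rfl⟩
    rw [show v * (g.σ ^ i * g.τ) * τ * (v * (g.σ ^ i * g.τ))⁻¹ =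
      v * (g.σ ^ i * g.τ * τ * (g.σ ^ i * g.τ)⁻¹) * v⁻¹ by group,
      h.inverts _ (refl_order g i) (refl_ne g i) hct, (h.comm v hv).inv_right.eq, mul_inv_cancel_right]

theorem Central.conj_mem_zpowers (hyp : Hyp S t) (h : Central t τ) {c : G} (hc : c ∈ Cent t) :
    c * τ * c⁻¹ ∈ zpowers τ := by
  rcases h.conj_cases hyp hc with e | ⟨e, -⟩
  · rw [e.eq, mul_inv_cancel_right]; exact mem_zpowers τ
  · rw [e]; exact inv_mem (mem_zpowers τ)

/-- The extraspecial subgroup. -/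
structure Extra (t τ : G) (W : Subgroup G) : Prop where
  le : W ≤ fitCore t
  mem : τ ∈ W
  card : Nat.card W = orderOf τ ^ 3
  exp : ∀ w ∈ W, w ^ orderOf τ = 1
  comm : ∀ w ∈ W, ∀ f ∈ fitCore t, w * f * w⁻¹ * f⁻¹ ∈ zpowers τ
  norm : Cent t ≤ normalizer (W : Set G)
  noncomm : ¬ ∀ a ∈ W, ∀ b ∈ W, Commute a b
  noA : ∀ A : Subgroup G, τ ∈ A → A ≤ W → Nat.card A = orderOf τ ^ 2 →
    ¬ Cent t ≤ normalizer (A : Set G)

namespace Extra

theorem le_oCore (E : Extra t τ W) : W ≤ oCore t := E.le.trans (fitCore_le_oCore t)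

theorem commute_τ (h : Central t τ) (E : Extra t τ W) {w : G} (hw : w ∈ W) : Commute τ w :=
  (h.comm w (E.le_oCore hw)).symm

theorem conj_mem (E : Extra t τ W) {c : G} (hc : c ∈ Cent t) {w : G} (hw : w ∈ W) :
    c * w * c⁻¹ ∈ W := (mem_normalizer_iff.1 (E.norm hc) w).1 hw

theorem orderOf_eq (h : Central t τ) (E : Extra t τ W) {w : G} (hw : w ∈ W) (h1 : w ≠ 1) :
    orderOf w = orderOf τ :=
  (h.prime.eq_one_or_self_of_dvd _ (orderOf_dvd_of_pow_eq_one (E.exp w hw))).resolve_left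
    fun e => h1 (orderOf_eq_one_iff.1 e)

/-- Only the identity of `qFix t u` commutes with an inverted element of `W` outside `⟨τ⟩`. -/
theorem eq_one_of_commute (hyp : Hyp S t) (hk : ProperKnown G) (hM : IsCoatom (Cent t))
    (hm : FixModel.{u}) (h : Central t τ) (E : Extra t τ W) {u : G} (hu : orderOf u = 2) (hne : u ≠ t)
    (hc : Commute u t) {x q : G} (hx : x ∈ W) (hxτ : x ∉ zpowers τ) (hxi : u * x * u⁻¹ = x⁻¹)
    (hq : q ∈ qFix t u) (hxq : Commute x q) : q = 1 := by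
  by_contra hq1
  have p := h.pin hyp hu hne hc hq hq1
  obtain ⟨T, hT, -, hTm⟩ := p.exists_torus hyp hk hM hm
  haveI := hT
  exact hxτ (mem_zpowers_of_cyclic ((hTm τ).2 ⟨p.mem_τ, p.comm, p.inv_τ⟩)
    ((hTm x).2 ⟨E.le_oCore hx, hxq, hxi⟩) (E.exp x hx))

/-- The fixed points of a reflection and an element inverted by it. -/
theorem base (hyp : Hyp S t) (hk : ProperKnown G) (hM : IsCoatom (Cent t))
    (hm : FixModel.{u}) (h : Central t τ) (E : Extra t τ W) {u : G} (hu : orderOf u = 2) (hne : u ≠ t)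
    (hc : Commute u t) :
    ∃ x y, x ∈ W ∧ y ∈ W ∧ u * x * u⁻¹ = x⁻¹ ∧ Commute u y ∧ ¬ Commute x y ∧ orderOf y = orderOf τ ∧
      y ∈ qFix t u ∧ qFix t u = zpowers y ∧ ∀ q ∈ qFix t u, Commute x q → q = 1 := by
  have huC : u ∈ Cent t := mem_cent.2 hc.eq
  obtain ⟨y, hy, hy1⟩ : ∃ y ∈ W ⊓ Cent u, y ≠ 1 := by
    by_contra hno
    push Not at hno
    have hinv := inverts_of_inf_eq_bot hu (E.norm huC) ((Subgroup.eq_bot_iff_forall _).2 hno)
    refine E.noncomm fun a ha b hb => ?_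
    have h1 := hinv _ (mul_mem ha hb)
    rw [show u * (a * b) * u⁻¹ = u * a * u⁻¹ * (u * b * u⁻¹) by group, hinv a ha, hinv b hb] at h1
    have h2 : (a⁻¹ * b⁻¹)⁻¹ = ((a * b)⁻¹)⁻¹ := congrArg _ h1
    rw [inv_inv, mul_inv_rev, inv_inv, inv_inv] at h2
    exact h2.symm
  have huy : Commute u y := (show Commute y u from mem_cent.1 hy.2).symm
  obtain ⟨x, hx, hxτ, hxi⟩ : ∃ x ∈ W, x ∉ zpowers τ ∧ u * x * u⁻¹ = x⁻¹ := by
    by_contra hno
    push Not at hno
    have key : ∀ w ∈ W, ∃ a ∈ W ⊓ Cent u, ∃ z ∈ zpowers τ, w = a * z := by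
      intro w hw
      set d := w⁻¹ * (u * w * u⁻¹) with hd
      have hdW : d ∈ W := mul_mem (inv_mem hw) (E.conj_mem huC hw)
      have hdi : u * d * u⁻¹ = d⁻¹ := by
        have huu : u⁻¹ = u := BSW.inv_of_order hu
        rw [hd, huu, show u * (w⁻¹ * (u * w * u)) * u = u * w⁻¹ * u * w * (u * u) by group,
          sq_of_order hu, mul_one]
        simp [mul_assoc, huu]
      have hdz : d ∈ zpowers τ := by
        by_contra hd'
        exact hno d hdW hd' hdi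
      obtain ⟨m, hm'⟩ := orderOf_odd_of_mem hyp (fitCore_le_oCore t h.mem)
      have hdd : d ^ (m + 1) * d ^ (m + 1) = d := by
        rw [← pow_add, show m + 1 + (m + 1) = orderOf τ + 1 by omega, pow_succ, E.exp d hdW, one_mul]
      set z := d ^ (m + 1) with hz
      have hzi : u * z * u⁻¹ = z⁻¹ := by rw [hz, ← conj_pow, hdi, inv_pow]
      refine ⟨w * z, ⟨mul_mem hw (pow_mem hdW _), mem_cent.2 ?_⟩, z⁻¹,
        inv_mem (pow_mem hdz _), by group⟩
      have h1 : u * (w * z) * u⁻¹ = w * z := by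
        rw [show u * (w * z) * u⁻¹ = u * w * u⁻¹ * (u * z * u⁻¹) by group, hzi,
          show u * w * u⁻¹ = w * d by rw [hd]; group]
        conv_lhs => rw [← hdd]
        group
      exact (mul_inv_eq_iff_eq_mul.1 h1).symm
    refine E.noncomm fun w hw w' hw' => ?_
    obtain ⟨a, ha, z, hz, rfl⟩ := key w hw
    obtain ⟨a', ha', z', hz', rfl⟩ := key w' hw'
    have hzc : ∀ z ∈ zpowers τ, ∀ v ∈ W, Commute z v := fun z hz v hv => by
      obtain ⟨k, rfl⟩ := mem_zpowers_iff.1 hz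
      exact (E.commute_τ h hv).zpow_left k
    have haa : Commute a a' := by
      have hmem := E.comm a ha.1 a' (E.le ha'.1)
      have hfix : Commute u (a * a' * a⁻¹ * a'⁻¹) :=
        (((show Commute a u from mem_cent.1 ha.2).mul_left (mem_cent.1 ha'.2)).mul_left
          (show Commute a u from mem_cent.1 ha.2).inv_left).mul_left
          (show Commute a' u from mem_cent.1 ha'.2).inv_left |>.symm
      obtain ⟨k, hk'⟩ := mem_zpowers_iff.1 hmem
      have h1 := eq_one_of_fixed_inverted hyp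
        (z := a * a' * a⁻¹ * a'⁻¹) (E.le_oCore (mul_mem (mul_mem (mul_mem ha.1 ha'.1)
          (inv_mem ha.1)) (inv_mem ha'.1))) hfix
        (by rw [← hk', ← conj_zpow, h.inverts u hu hne hc, inv_zpow])
      exact mul_inv_eq_iff_eq_mul.1 (mul_inv_eq_one.1 h1)
    have hzW : ∀ z ∈ zpowers τ, z ∈ W := zpowers_le.2 E.mem
    exact ((haa.mul_right (hzc z' hz' a ha.1).symm)).mul_left
      ((hzc z hz a' ha'.1).mul_right (hzc z hz z' (hzW z' hz')))
  have hker : ∀ q ∈ qFix t u, Commute x q → q = 1 := fun q hq hxq =>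
    E.eq_one_of_commute hyp hk hM hm h hu hne hc hx hxτ hxi hq hxq
  have hyq : y ∈ qFix t u := ⟨E.le hy.1, mem_cent.2 huy.symm.eq⟩
  have hoy : orderOf y = orderOf τ := E.orderOf_eq h hy.1 hy1
  refine ⟨x, y, hx, hy.1, hxi, huy, fun hxy => hy1 (hker y hyq hxy), hoy, hyq, ?_, hker⟩
  refine (eq_of_le_of_card_ge (zpowers_le.2 hyq) ?_).symm
  rw [Nat.card_zpowers, hoy, ← Nat.card_zpowers]
  refine Nat.card_le_card_of_injective
    (fun q : qFix t u => (⟨x * q * x⁻¹ * (q : G)⁻¹, E.comm x hx q q.2.1⟩ : zpowers τ)) ?_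
  intro q q' hqq
  have h1 : x * q * x⁻¹ * (q : G)⁻¹ = x * q' * x⁻¹ * (q' : G)⁻¹ := congrArg Subtype.val hqq
  have h2 : Commute x ((q' : G)⁻¹ * q) := by
    refine mul_inv_eq_iff_eq_mul.1 ?_
    calc x * ((q' : G)⁻¹ * q) * x⁻¹
        = (q' : G)⁻¹ * (x * q' * x⁻¹ * (q' : G)⁻¹)⁻¹ * ((x * q * x⁻¹ * (q : G)⁻¹) * q) := by group
      _ = (q' : G)⁻¹ * q := by rw [h1]; group
  exact Subtype.ext (inv_mul_eq_one.1 (hker _ (mul_mem (inv_mem q'.2) q.2) h2)).symm

/-- Coordinates. -/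
theorem coord (h : Central t τ) (E : Extra t τ W) {x y : G} (hx : x ∈ W) (hy : y ∈ W)
    (hxy : ¬ Commute x y) : ∃ e, HeisCoord W τ x y (orderOf τ) e :=
  haveI := Fact.mk h.prime
  HeisCoord.exists' rfl E.mem E.card E.exp (fun w hw w' hw' => E.comm w hw w' (E.le hw'))
    (fun _ hw => E.commute_τ h hw) hx hy hxy

/-- The elements of `oCore t` trivial on `W` modulo `⟨τ⟩` are those of `fitCore t`. -/
theorem mem_fitCore_iff (hyp : Hyp S t) (hk : ProperKnown G) (hM : IsCoatom (Cent t))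
    (hm : FixModel.{u}) (h : Central t τ) (E : Extra t τ W) {n : G} (hn : n ∈ oCore t) :
    n ∈ fitCore t ↔ ∀ w ∈ W, n * w * n⁻¹ * w⁻¹ ∈ zpowers τ := by
  have fwd : ∀ f ∈ fitCore t, ∀ w ∈ W, f * w * f⁻¹ * w⁻¹ ∈ zpowers τ := fun f hf w hw => by
    have := inv_mem (E.comm w hw f hf)
    rwa [show (w * f * w⁻¹ * f⁻¹)⁻¹ = f * w * f⁻¹ * w⁻¹ by group] at this
  refine ⟨fun hf => fwd n hf, fun hnW => ?_⟩
  haveI := Fact.mk h.prime
  obtain ⟨g⟩ := hyp.exists_gens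
  have hu : orderOf (g.σ ^ (0 : ℤ) * g.τ) = 2 := refl_order g 0
  have hne := refl_ne g 0
  have hc : Commute (g.σ ^ (0 : ℤ) * g.τ) t := hyp.centralS _ (mul_mem (zpow_mem g.hσ 0) g.hτ)
  set u := g.σ ^ (0 : ℤ) * g.τ
  obtain ⟨x, y, hx, hy, hxi, huy, hxy, hoy, hyq, -, hker⟩ := E.base hyp hk hM hm h hu hne hc
  obtain ⟨e, he⟩ := E.coord h hx hy hxy
  set τ₁ := x * y * x⁻¹ * y⁻¹ with hτ₁
  have hτ₁m : τ₁ ∈ zpowers τ := E.comm x hx y (E.le hy)
  have hτ₁o : orderOf τ₁ = orderOf τ :=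
    E.orderOf_eq h (zpowers_le.2 E.mem hτ₁m) fun h1 =>
      hxy (mul_inv_eq_iff_eq_mul.1 (mul_inv_eq_one.1 h1))
  have hgen : zpowers τ₁ = zpowers τ := eq_of_le_of_card_ge (zpowers_le.2 hτ₁m)
    (by rw [Nat.card_zpowers, Nat.card_zpowers, hτ₁o])
  have hval : ∀ z ∈ zpowers τ, ∃ a : ZMod (orderOf τ), z = τ₁ ^ a.val := by
    intro z hz
    obtain ⟨k, hk'⟩ := mem_powers_iff_mem_zpowers.2 (hgen ▸ hz)
    refine ⟨(k : ZMod _), ?_⟩
    have h1 := pow_mod_orderOf τ₁ k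
    rw [hτ₁o] at h1
    rw [ZMod.val_natCast, h1]
    exact hk'.symm
  -- such elements are inner up to the centraliser of `W`
  have split : ∀ m : G, (∀ w ∈ W, m * w * m⁻¹ * w⁻¹ ∈ zpowers τ) → m ∈ oCore t →
      ∃ w₀ ∈ W, w₀⁻¹ * m ∈ centralizer (W : Set G) := by
    intro m hmW hmO
    obtain ⟨a, ha⟩ := hval _ (hmW x hx)
    obtain ⟨b, hb⟩ := hval _ (hmW y hy)
    obtain ⟨w₀, hw₀, hew⟩ := he.surj ![b, -a]
    refine ⟨w₀, hw₀, mem_centralizer_iff.2 fun w hw => ?_⟩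
    have h1 := he.cross w₀ hw₀ x hx
    have h2 := he.cross w₀ hw₀ y hy
    rw [hew, he.apX] at h1
    rw [hew, he.apY] at h2
    simp only [Matrix.cons_val_zero, Matrix.cons_val_one, Matrix.cons_val_fin_one] at h1 h2
    rw [show b * 0 - -a * 1 = a by ring, ← ha] at h1
    rw [show b * 1 - -a * 0 = b by ring, ← hb] at h2
    have hmx : Commute (w₀⁻¹ * m) x := by
      have h3 : m * x * m⁻¹ = w₀ * x * w₀⁻¹ := mul_right_cancel (b := x⁻¹) h1.symm
      refine mul_inv_eq_iff_eq_mul.1 ?_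
      rw [show w₀⁻¹ * m * x * (w₀⁻¹ * m)⁻¹ = w₀⁻¹ * (m * x * m⁻¹) * w₀ by group, h3]
      group
    have hmy : Commute (w₀⁻¹ * m) y := by
      have h3 : m * y * m⁻¹ = w₀ * y * w₀⁻¹ := mul_right_cancel (b := y⁻¹) h2.symm
      refine mul_inv_eq_iff_eq_mul.1 ?_
      rw [show w₀⁻¹ * m * y * (w₀⁻¹ * m)⁻¹ = w₀⁻¹ * (m * y * m⁻¹) * w₀ by group, h3]
      group
    have hmτ : Commute (w₀⁻¹ * m) τ := h.comm _ (mul_mem (inv_mem (E.le_oCore hw₀)) hmO)
    obtain ⟨i, j, k, rfl⟩ := he.gen w hw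
    exact (((hmx.pow_right i).mul_right (hmy.pow_right j)).mul_right (hmτ.pow_right k)).eq.symm
  set K := fitCore t ⊓ centralizer (W : Set G) with hK
  have huC : u ∈ Cent t := mem_cent.2 hc.eq
  have hnK : Cent t ≤ normalizer (K : Set G) := by
    rw [le_normalizer_iff]
    intro c hc' k hk'
    refine ⟨(mem_normalizer_iff.1 (cent_le_normalizer_fitCore t hc') k).1 hk'.1,
      mem_centralizer_iff.2 fun w hw => ?_⟩
    have h1 := mem_centralizer_iff.1 hk'.2 _ (E.conj_mem (inv_mem hc') hw)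
    rw [inv_inv] at h1
    calc w * (c * k * c⁻¹) = c * (c⁻¹ * w * c * k) * c⁻¹ := by group
      _ = c * (k * (c⁻¹ * w * c)) * c⁻¹ := by rw [h1]
      _ = c * k * c⁻¹ * w := by group
  have hKu : K ⊓ Cent u = ⊥ := (Subgroup.eq_bot_iff_forall _).2 fun k hk' =>
    hker k ⟨hk'.1.1, hk'.2⟩ (mem_centralizer_iff.1 hk'.1.2 x hx)
  have hKi := inverts_of_inf_eq_bot hu (hnK huC) hKu
  obtain ⟨T, hT, -, hTm⟩ :=
    (h.pin hyp hu hne hc hyq (fun e1 => hxy (e1 ▸ Commute.one_right x))).exists_torus hyp hk hM hm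
  haveI := hT
  haveI : IsCyclic K := Subgroup.isCyclic_of_le (H' := T) fun k hk' =>
    (hTm k).2 ⟨fitCore_le_oCore t hk'.1, (mem_centralizer_iff.1 hk'.2 y hy).symm, hKi k hk'⟩
  obtain ⟨w₀, hw₀, hm₀⟩ := split n hnW hn
  set m := w₀⁻¹ * n with hmdef
  have hmO : m ∈ oCore t := mul_mem (inv_mem (E.le_oCore hw₀)) hn
  have hcentF : ∀ f ∈ fitCore t, Commute f m := by
    intro f hf
    obtain ⟨w₁, hw₁, hk₁⟩ := split f (fwd f hf) (fitCore_le_oCore t hf)
    have h1 : Commute w₁ m := mem_centralizer_iff.1 hm₀ w₁ hw₁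
    have h2 : Commute (w₁⁻¹ * f) m := (commute_of_cyclic hyp h.cycle hnK hmO
      (show w₁⁻¹ * f ∈ K from Subgroup.mem_inf.2 ⟨(fitCore t).mul_mem ((fitCore t).inv_mem (E.le hw₁)) hf, hk₁⟩)).symm
    have h3 := h1.mul_left h2
    rwa [mul_inv_cancel_left] at h3
  haveI : Group.IsSolvable (oCore t) := S0205.result (hyp.odd_oCore t)
  have hmF : (⟨m, hmO⟩ : oCore t) ∈ Cfsg.fittingSubgroup ↥(oCore t) :=
    Components.centralizer_fittingSubgroup_le (mem_centralizer_iff.2 fun f hf =>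
      Subtype.ext (hcentF f (mem_map_of_mem _ hf)).eq)
  have : n = w₀ * m := by rw [hmdef, mul_inv_cancel_left]
  rw [this]
  exact mul_mem (E.le hw₀) (mem_map_of_mem _ hmF)

end Extra

end Cfsg.Agent.GW
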