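import Cfsg.Agent.Lib.GW.PartII.CompHeisBase
import Cfsg.Agent.Lib.GW.PartII.CompBound

/-!
# The extraspecial shape: the action on `W` modulo `⟨τ⟩`

* `Extra.mat_mul'`, `Extra.det_mat`, `Extra.mat_eq_one'`: `Cent t` acts by matrices of determinant
  `±1`, `oCore t` by `SL(2, r)` with kernel `fitCore t`;
* `Extra.oCore_small`: `oCore t` is abelian modulo `fitCore t`, of index at most `r + 1`, trivial for
  `r = 3`;
* `Extra.dFix_eq`: every reflection has exactly `r` fixed points on `oCore t`.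
-/

set_option autoImplicit false
set_option linter.style.haveILetI false
set_option linter.unusedSectionVars false

namespace Cfsg.Agent.GW

open Subgroup Matrix
open BSW (mem_cent sq_of_order)
open CompLocal (FixModel)
open scoped MatrixGroups commutatorElement

universe u

variable {G : Type u} [Group G] [Finite G] {S : Sylow 2 G} {t τ : G} {W : Subgroup G} {x y : G}
  {e : G → Fin 2 → ZMod (orderOf τ)}

/-- `A` is of order `r ^ 2` if it lies strictly between `⟨τ⟩` and `W`. -/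
theorem Extra.card_eq_sq (h : Central t τ) (E : Extra t τ W) {A : Subgroup G} (hA : A ≤ W) (hτ : τ ∈ A)
    {w : G} (hw : w ∈ A) (hwτ : w ∉ zpowers τ) {v : G} (hv : v ∈ W) (hvA : v ∉ A) :
    Nat.card A = orderOf τ ^ 2 := by
  obtain ⟨i, hi, hAi⟩ := (Nat.dvd_prime_pow h.prime).1 (E.card ▸ card_dvd_of_le hA)
  have h1 : orderOf τ ^ 1 < orderOf τ ^ i := by
    rw [← hAi, pow_one, ← Nat.card_zpowers]
    exact lt_of_le_of_ne (Subgroup.card_le_of_le (zpowers_le.2 hτ)) fun e1 =>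
      hwτ ((eq_of_le_of_card_ge (zpowers_le.2 hτ) e1.ge) ▸ hw)
  have h2 : orderOf τ ^ i < orderOf τ ^ 3 := by
    rw [← hAi, ← E.card]
    exact lt_of_le_of_ne (Subgroup.card_le_of_le hA) fun e1 =>
      hvA ((eq_of_le_of_card_ge hA e1.ge) ▸ hv)
  have h1' := (Nat.pow_lt_pow_iff_right h.prime.one_lt).1 h1
  have h2' := (Nat.pow_lt_pow_iff_right h.prime.one_lt).1 h2
  rw [hAi, show i = 2 by omega]

namespace Extra

theorem mat_mul' (hyp : Hyp S t) (h : Central t τ) (E : Extra t τ W)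
    (he : HeisCoord W τ x y (orderOf τ) e) {c d : G} (hc : c ∈ Cent t) (hd : d ∈ Cent t) :
    HeisCoord.mat e x y (c * d) = HeisCoord.mat e x y c * HeisCoord.mat e x y d :=
  haveI : NeZero (orderOf τ) := ⟨h.prime.ne_zero⟩
  he.mat_mul (fun _ hw => E.conj_mem hc hw) (h.conj_mem_zpowers hyp hc) E.mem
    (fun _ hw => E.conj_mem hd hw)

theorem conj_eq' (hyp : Hyp S t) (h : Central t τ) (E : Extra t τ W)
    (he : HeisCoord W τ x y (orderOf τ) e) {c : G} (hc : c ∈ Cent t) {w : G} (hw : w ∈ W) :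
    e (c * w * c⁻¹) = HeisCoord.mat e x y c *ᵥ e w :=
  he.conj_eq (fun _ hw => E.conj_mem hc hw) (h.conj_mem_zpowers hyp hc) E.mem hw

theorem det_mat (h : Central t τ) (E : Extra t τ W)
    (he : HeisCoord W τ x y (orderOf τ) e) (hxy : ¬ Commute x y) {c : G} (hc : c ∈ Cent t) :
    (Commute c τ → (HeisCoord.mat e x y c).det = 1) ∧
      (c * τ * c⁻¹ = τ⁻¹ → (HeisCoord.mat e x y c).det = -1) := by
  haveI := Fact.mk h.prime
  have h1 := he.conj_cross (fun _ hw => E.conj_mem hc hw)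
  set τ₁ := x * y * x⁻¹ * y⁻¹ with hτ₁
  have hτ₁m : τ₁ ∈ zpowers τ := E.comm x he.memX y (E.le he.memY)
  have hτ₁o : orderOf τ₁ = orderOf τ := E.orderOf_eq h (zpowers_le.2 E.mem hτ₁m) fun e1 =>
    hxy (mul_inv_eq_iff_eq_mul.1 (mul_inv_eq_one.1 e1))
  have hval : ∀ a b : ZMod (orderOf τ), τ₁ ^ a.val = τ₁ ^ b.val → a = b := fun a b hab =>
    ZMod.val_injective _ (pow_injOn_Iio_orderOf (by simpa [hτ₁o] using ZMod.val_lt a)
      (by simpa [hτ₁o] using ZMod.val_lt b) hab)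
  obtain ⟨k, hk⟩ := mem_zpowers_iff.1 hτ₁m
  constructor
  · intro hcτ
    refine hval _ 1 ?_
    rw [← h1, ZMod.val_one, pow_one]
    refine mul_inv_eq_iff_eq_mul.2 ?_
    rw [← hk]
    exact hcτ.zpow_right k
  · intro hcτ
    refine hval _ (-1) ?_
    have h3 : c * τ₁ * c⁻¹ = τ₁⁻¹ := by rw [← hk, ← conj_zpow, hcτ, _root_.inv_zpow]
    rw [← h1, h3, inv_eq_iff_mul_eq_one]
    have h4 := pow_mod_orderOf τ₁ ((1 : ZMod (orderOf τ)).val + (-1 : ZMod (orderOf τ)).val)
    rw [hτ₁o, ← ZMod.val_add, add_neg_cancel, ZMod.val_zero, pow_zero, pow_add, ZMod.val_one,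
      pow_one] at h4
    exact h4.symm

theorem mat_eq_one' (hyp : Hyp S t) (hk : ProperKnown G) (hM : IsCoatom (Cent t))
    (hm : FixModel.{u}) (h : Central t τ) (E : Extra t τ W)
    (he : HeisCoord W τ x y (orderOf τ) e) {n : G} (hn : n ∈ oCore t) :
    HeisCoord.mat e x y n = 1 ↔ n ∈ fitCore t := by
  rw [E.mem_fitCore_iff hyp hk hM hm h hn, he.mat_eq_one_iff
    (fun _ hw => E.conj_mem (Hyp.oCore_le_cent t hn) hw)
    (h.conj_mem_zpowers hyp (Hyp.oCore_le_cent t hn)) E.mem]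

/-- The representation of `oCore t`. -/
theorem exists_slHom (hyp : Hyp S t) (hk : ProperKnown G) (hM : IsCoatom (Cent t))
    (hm : FixModel.{u}) (h : Central t τ) (E : Extra t τ W)
    (he : HeisCoord W τ x y (orderOf τ) e) (hxy : ¬ Commute x y) :
    ∃ ρ : oCore t →* SL(2, ZMod (orderOf τ)),
      (∀ k : oCore t, (ρ k : Matrix (Fin 2) (Fin 2) (ZMod (orderOf τ))) = HeisCoord.mat e x y (k : G)) ∧
      ∀ k : oCore t, ρ k = 1 ↔ (k : G) ∈ fitCore t := by
  let ρ : oCore t →* SL(2, ZMod (orderOf τ)) :=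
    { toFun := fun k => ⟨HeisCoord.mat e x y (k : G),
        (E.det_mat h he hxy (Hyp.oCore_le_cent t k.2)).1 (h.comm _ k.2)⟩
      map_one' := Subtype.ext he.mat_one
      map_mul' := fun k l => Subtype.ext
        (E.mat_mul' hyp h he (Hyp.oCore_le_cent t k.2) (Hyp.oCore_le_cent t l.2)) }
  refine ⟨ρ, fun k => rfl, fun k => ?_⟩
  rw [← E.mat_eq_one' hyp hk hM hm h he k.2]
  exact ⟨fun h1 => (congrArg Subtype.val h1 :), fun h1 => Subtype.ext h1⟩

/-- `oCore t` modulo `fitCore t` is an abelian group of order at most `r + 1`. -/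
theorem oCore_small (hyp : Hyp S t) (hk : ProperKnown G) (hM : IsCoatom (Cent t))
    (hm : FixModel.{u}) (h : Central t τ) (E : Extra t τ W)
    (he : HeisCoord W τ x y (orderOf τ) e) (hxy : ¬ Commute x y) :
    (∀ k ∈ oCore t, ∀ l ∈ oCore t,
        HeisCoord.mat e x y k * HeisCoord.mat e x y l = HeisCoord.mat e x y l * HeisCoord.mat e x y k) ∧
      (fitCore t).relIndex (oCore t) ≤ orderOf τ + 1 ∧ (orderOf τ = 3 → oCore t ≤ fitCore t) := by
  classical
  haveI := Fact.mk h.prime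
  haveI : NeZero (orderOf τ) := ⟨h.prime.ne_zero⟩
  have hr2 := h.r_ne_two hyp
  obtain ⟨ρ, hρ, hρ1⟩ := E.exists_slHom hyp hk hM hm h he hxy
  have hker : ρ.ker = (fitCore t).subgroupOf (oCore t) := by
    ext k
    rw [MonoidHom.mem_ker, mem_subgroupOf]
    exact hρ1 k
  have hrel : (fitCore t).relIndex (oCore t) = Nat.card ρ.range := by
    rw [← Subgroup.index_ker, hker]
    rfl
  have hfst : Nat.card ρ.range = 1 → oCore t ≤ fitCore t := fun h1 =>
    relIndex_eq_one.1 (hrel.trans h1)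
  suffices hmain : ρ.range = ⊥ ∨ ((∀ k ∈ ρ.range, ∀ l ∈ ρ.range, Commute k l) ∧
      Nat.card ρ.range ≤ orderOf τ + 1 ∧ orderOf τ ≠ 3) by
    have hcomm : (∀ k ∈ ρ.range, ∀ l ∈ ρ.range, Commute k l) → ∀ k ∈ oCore t, ∀ l ∈ oCore t,
        HeisCoord.mat e x y k * HeisCoord.mat e x y l =
          HeisCoord.mat e x y l * HeisCoord.mat e x y k := by
      intro hc k hk' l hl
      have h1 := congrArg Subtype.val (hc _ ⟨⟨k, hk'⟩, rfl⟩ _ ⟨⟨l, hl⟩, rfl⟩).eq
      simp only [Matrix.SpecialLinearGroup.coe_mul, hρ] at h1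
      exact h1
    rcases hmain with h0 | ⟨h1, h2, h3⟩
    · refine ⟨hcomm fun k hk' l hl => ?_, ?_, fun _ => hfst (by rw [h0, Subgroup.card_bot])⟩
      · rw [h0, mem_bot] at hk'
        rw [hk']
        exact Commute.one_left l
      · rw [hrel, h0, Subgroup.card_bot]; omega
    · exact ⟨hcomm h1, hrel ▸ h2, fun e3 => absurd e3 h3⟩
  rcases eq_or_ne ρ.range ⊥ with h0 | h0
  · exact Or.inl h0
  right
  haveI : Group.IsSolvable (oCore t) := S0205.result (hyp.odd_oCore t)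
  have hex : ∃ n, (derivedSeries ↥(oCore t) n).map ρ = ⊥ := by
    obtain ⟨n, hn⟩ := (inferInstance : Group.IsSolvable (oCore t)).solvable
    exact ⟨n, by rw [hn, Subgroup.map_bot]⟩
  obtain ⟨m, hm1⟩ : ∃ m, Nat.find hex = m + 1 := Nat.exists_eq_add_one_of_ne_zero fun e0 => by
    have h1 := Nat.find_spec hex
    rw [e0, derivedSeries_zero, ← MonoidHom.range_eq_map] at h1
    exact h0 h1
  set D := derivedSeries ↥(oCore t) m with hD
  have hA0 : D.map ρ ≠ ⊥ := Nat.find_min hex (by omega)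
  have hA1 : ⁅D, D⁆.map ρ = ⊥ := by
    have h1 := Nat.find_spec hex
    rwa [hm1, derivedSeries_succ] at h1
  haveI : D.Characteristic := derivedSeries_characteristic _ m
  haveI : D.Normal := inferInstance
  have hAcomm : ∀ a ∈ D.map ρ, ∀ b ∈ D.map ρ, Commute a b := by
    rintro _ ⟨a, ha, rfl⟩ _ ⟨b, hb, rfl⟩
    have h1 : ρ ⁅a, b⁆ = 1 := by
      have := mem_map_of_mem ρ (commutator_mem_commutator ha hb)
      rwa [hA1, mem_bot] at this
    rw [map_commutatorElement] at h1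
    exact commutatorElement_eq_one_iff_mul_comm.1 h1
  have hAK : D.map ρ ≤ ρ.range := map_le_range _ _
  have hAn : ∀ k ∈ ρ.range, ∀ a ∈ D.map ρ, k * a * k⁻¹ ∈ D.map ρ := by
    rintro _ ⟨k, rfl⟩ _ ⟨a, ha, rfl⟩
    exact ⟨k * a * k⁻¹, (inferInstance : D.Normal).conj_mem a ha k, by
      rw [map_mul, map_mul, map_inv]⟩
  refine odd_sl_two hr2 ((hyp.odd_oCore t).of_dvd_nat (Subgroup.card_range_dvd ρ)) hAK hAcomm hAn hA0 ?_
  intro a ha hap
  by_contra ha1
  obtain ⟨n, hnD, hna⟩ := ha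
  obtain ⟨v, hv0, hv⟩ := exists_fixed_vec hap
  obtain ⟨w, hw, hwv⟩ := he.surj v
  let B : Subgroup G :=
    { carrier := {z | z ∈ W ∧ (a : Matrix (Fin 2) (Fin 2) (ZMod (orderOf τ))) *ᵥ e z = e z}
      one_mem' := ⟨W.one_mem, by rw [he.map_one, mulVec_zero]⟩
      mul_mem' := fun {z z'} h1 h2 => ⟨mul_mem h1.1 h2.1, by
        rw [he.add z h1.1 z' h2.1, mulVec_add, h1.2, h2.2]⟩
      inv_mem' := fun {z} h1 => ⟨inv_mem h1.1, by rw [he.map_inv h1.1, mulVec_neg, h1.2]⟩ }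
  have hBW : B ≤ W := fun z hz => hz.1
  have hτB : τ ∈ B := ⟨E.mem, by rw [(he.zero τ E.mem).2 (mem_zpowers τ), mulVec_zero]⟩
  have hwB : w ∈ B := ⟨hw, by rw [hwv]; exact hv⟩
  have hwτ : w ∉ zpowers τ := fun h1 => hv0 (hwv ▸ (he.zero w hw).2 h1)
  obtain ⟨v', hv', hv'B⟩ : ∃ v' ∈ W, v' ∉ B := by
    by_contra hno
    push Not at hno
    refine ha1 (Subtype.ext (Matrix.ext_iff_mulVec.2 fun u => ?_))
    obtain ⟨z, hz, rfl⟩ := he.surj u
    rw [(hno z hz).2, Matrix.SpecialLinearGroup.coe_one, one_mulVec]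
  refine E.noA B hτB hBW (E.card_eq_sq h hBW hτB hwB hwτ hv' hv'B) ?_
  rw [le_normalizer_iff]
  rintro c hc z ⟨hz, hzfix⟩
  refine ⟨E.conj_mem hc hz, ?_⟩
  have hcn : ∀ {o : G}, o ∈ oCore t → c⁻¹ * o * c ∈ oCore t := fun ho => by
    have := (mem_normalizer_iff.1 (Hyp.cent_le_normalizer t (inv_mem hc)) _).1 ho
    rwa [inv_inv] at this
  let n' : oCore t := ⟨c⁻¹ * n * c, hcn n.2⟩
  have hn'D : n' ∈ D := by
    have h1 : (n' : G) ∈ D.map (oCore t).subtype := by
      have h2 := (mem_normalizer_iff.1 (Components.normalizer_le_normalizer_map_of_characteristic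
        (oCore t) D (Hyp.cent_le_normalizer t (inv_mem hc))) (n : G)).1 ⟨n, hnD, rfl⟩
      rwa [inv_inv] at h2
    obtain ⟨z', hz', hz'e⟩ := h1
    exact (Subtype.ext hz'e : z' = n') ▸ hz'
  have hn'p : (ρ n') ^ orderOf τ = 1 := by
    rw [← map_pow, hρ1]
    have h1 : ((n ^ orderOf τ : oCore t) : G) ∈ fitCore t := by
      rw [← hρ1, map_pow, hna, hap]
    have h2 := (mem_normalizer_iff.1 (cent_le_normalizer_fitCore t (inv_mem hc)) _).1 h1
    rw [SubgroupClass.coe_pow, inv_inv] at h2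
    show ((c⁻¹ * (n : G) * c) ^ orderOf τ) ∈ fitCore t
    have h3 : (c⁻¹ * (n : G) * c) ^ orderOf τ = c⁻¹ * (n : G) ^ orderOf τ * c := by
      conv_lhs => rw [show c⁻¹ * (n : G) * c = c⁻¹ * (n : G) * c⁻¹⁻¹ by rw [inv_inv]]
      rw [conj_pow, inv_inv]
    rw [h3]
    exact h2
  have hfix := fixed_vec_of_commute hr2 hap ha1 hn'p
    (hAcomm _ (mem_map_of_mem ρ hn'D) _ ⟨n, hnD, hna⟩) hzfix
  rw [← hna, hρ, E.conj_eq' hyp h he hc hz, mulVec_mulVec,
    ← E.mat_mul' hyp h he (Hyp.oCore_le_cent t n.2) hc,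
    show (n : G) * c = c * (n' : G) by show _ = c * (c⁻¹ * (n : G) * c); group,
    E.mat_mul' hyp h he hc (Hyp.oCore_le_cent t n'.2), ← mulVec_mulVec, ← hρ n', hfix]

/-- Every reflection has exactly `r` fixed points on `oCore t`. -/
theorem dFix_eq (hyp : Hyp S t) (hk : ProperKnown G) (hM : IsCoatom (Cent t))
    (hm : FixModel.{u}) (h : Central t τ) (E : Extra t τ W) {u : G} (hu : orderOf u = 2) (hne : u ≠ t)
    (hc : Commute u t) : dFix t u = qFix t u := by
  haveI := Fact.mk h.prime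
  haveI : NeZero (orderOf τ) := ⟨h.prime.ne_zero⟩
  have h2 : (2 : ZMod (orderOf τ)) ≠ 0 := zmod_two_ne_zero (h.r_ne_two hyp)
  refine le_antisymm (fun d hd => ?_) (inf_le_inf_right _ (fitCore_le_oCore t))
  by_contra hdq
  have hdF : d ∉ fitCore t := fun h1 => hdq ⟨h1, hd.2⟩
  obtain ⟨x, y, hx, hy, hxi, huy, hxy, hoy, hyq, hqy, -⟩ := E.base hyp hk hM hm h hu hne hc
  obtain ⟨e, he⟩ := E.coord h hx hy hxy
  obtain ⟨hab, -, -⟩ := E.oCore_small hyp hk hM hm h he hxy
  obtain ⟨ρ, hρ, hρ1⟩ := E.exists_slHom hyp hk hM hm h he hxy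
  have huC : u ∈ Cent t := mem_cent.2 hc.eq
  set Mx := HeisCoord.mat e x y with hMx
  have hmul : ∀ {c c' : G}, c ∈ Cent t → c' ∈ Cent t → Mx (c * c') = Mx c * Mx c' :=
    fun hc hc' => E.mat_mul' hyp h he hc hc'
  have hU : Mx u = !![-1, 0; 0, 1] := by
    simp only [hMx, HeisCoord.mat]
    rw [hxi, huy.eq, mul_inv_cancel_right, he.map_inv hx, he.apX, he.apY]
    ext i j
    fin_cases i <;> fin_cases j <;> simp
  -- an element of `oCore t` commuting with `u` is diagonal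
  have hdiag : Mx d 0 1 = 0 ∧ Mx d 1 0 = 0 := by
    have h1 : Mx d * Mx u = Mx u * Mx d := by
      rw [← hmul (Hyp.oCore_le_cent t hd.1) huC, ← hmul huC (Hyp.oCore_le_cent t hd.1),
        (show Commute d u from mem_cent.1 hd.2).eq]
    rw [hU] at h1
    have e01 := congrFun (congrFun h1 0) 1
    have e10 := congrFun (congrFun h1 1) 0
    simp [Matrix.mul_apply, Fin.sum_univ_two] at e01 e10
    exact ⟨(mul_eq_zero.1 (show 2 * Mx d 0 1 = 0 by linear_combination e01)).resolve_left h2,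
      (mul_eq_zero.1 (show 2 * Mx d 1 0 = 0 by linear_combination -e10)).resolve_left h2⟩
  -- a diagonal element of `oCore t` outside `fitCore t` is not scalar
  have hns : ∀ k ∈ oCore t, k ∉ fitCore t → Mx k 0 1 = 0 → Mx k 1 0 = 0 → Mx k 0 0 ≠ Mx k 1 1 := by
    intro k hk' hkF h01 h10 heq
    have hdet := (E.det_mat h he hxy (Hyp.oCore_le_cent t hk')).1 (h.comm k hk')
    rw [Matrix.det_fin_two, ← hMx, h01, h10, ← heq, zero_mul, sub_zero] at hdet
    have hodd : Odd (orderOf (ρ ⟨k, hk'⟩)) := (orderOf_odd_of_mem hyp hk').of_dvd_nat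
      (by simpa using orderOf_map_dvd ρ (⟨k, hk'⟩ : oCore t))
    have hne1 : ρ ⟨k, hk'⟩ ≠ 1 := fun h1 => hkF ((hρ1 _).1 h1)
    refine sl_not_central_of_odd (h.r_ne_two hyp) hodd hne1
      (PSL2.mem_center_iff_entries.2 ⟨?_, ?_, ?_⟩) <;> rw [hρ] <;> assumption
  have hd01 := hdiag.1
  have hd10 := hdiag.2
  have hμν := hns d hd.1 hdF hd01 hd10
  -- all of `oCore t` is diagonal
  have hall : ∀ k ∈ oCore t, Mx k 0 1 = 0 ∧ Mx k 1 0 = 0 := by
    intro k hk'
    have h1 := hab k hk' d hd.1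
    have e01 := congrFun (congrFun h1 0) 1
    have e10 := congrFun (congrFun h1 1) 0
    simp [Matrix.mul_apply, Fin.sum_univ_two, hd01, hd10] at e01 e10
    exact ⟨(mul_eq_zero.1 (show (Mx d 1 1 - Mx d 0 0) * Mx k 0 1 = 0 by
        linear_combination e01)).resolve_left (sub_ne_zero.2 hμν.symm),
      (mul_eq_zero.1 (show (Mx d 0 0 - Mx d 1 1) * Mx k 1 0 = 0 by
        linear_combination e10)).resolve_left (sub_ne_zero.2 hμν)⟩
  -- `Cent t` fixes or interchanges the two lines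
  have hmono : ∀ c ∈ Cent t, Mx c 0 1 = 0 ∨ (Mx c 0 0 = 0 ∧ Mx c 1 1 = 0) := by
    intro c hc'
    by_contra hno
    push Not at hno
    obtain ⟨h01, himp⟩ := hno
    have hd' : c * d * c⁻¹ ∈ oCore t :=
      (mem_normalizer_iff.1 (Hyp.cent_le_normalizer t hc') d).1 hd.1
    obtain ⟨p01, p10⟩ := hall _ hd'
    have h1 : Mx c * Mx d = Mx (c * d * c⁻¹) * Mx c := by
      rw [← hmul hc' (Hyp.oCore_le_cent t hd.1), ← hmul (Hyp.oCore_le_cent t hd') hc',
        inv_mul_cancel_right]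
    have e00 := congrFun (congrFun h1 0) 0
    have e01 := congrFun (congrFun h1 0) 1
    have e10 := congrFun (congrFun h1 1) 0
    have e11 := congrFun (congrFun h1 1) 1
    simp [Matrix.mul_apply, Fin.sum_univ_two, hd01, hd10, p01, p10] at e00 e01 e10 e11
    have hp : Mx (c * d * c⁻¹) 0 0 = Mx d 1 1 := by
      refine mul_left_cancel₀ h01 ?_
      linear_combination -e01
    have h00 : Mx c 0 0 = 0 := (mul_eq_zero.1 (show (Mx d 0 0 - Mx d 1 1) * Mx c 0 0 = 0 by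
      linear_combination e00 + Mx c 0 0 * hp)).resolve_left (sub_ne_zero.2 hμν)
    have h11 := himp h00
    have hq : Mx (c * d * c⁻¹) 1 1 = Mx d 1 1 := by
      refine mul_left_cancel₀ h11 ?_
      linear_combination -e11
    exact hns _ hd' (fun h3 => hdF (by
      have := (mem_normalizer_iff.1 (cent_le_normalizer_fitCore t (inv_mem hc')) _).1 h3
      rwa [show c⁻¹ * (c * d * c⁻¹) * c⁻¹⁻¹ = d by group] at this)) p01 p10 (hp.trans hq.symm)
  -- some element interchanges them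
  obtain ⟨c, hc', hc01⟩ : ∃ c ∈ Cent t, Mx c 0 1 ≠ 0 := by
    by_contra hno
    push Not at hno
    let A : Subgroup G :=
      { carrier := {z | z ∈ W ∧ e z 0 = 0}
        one_mem' := ⟨W.one_mem, by rw [he.map_one, Pi.zero_apply]⟩
        mul_mem' := fun {z z'} h1 h3 => ⟨mul_mem h1.1 h3.1, by
          rw [he.add z h1.1 z' h3.1, Pi.add_apply, h1.2, h3.2, add_zero]⟩
        inv_mem' := fun {z} h1 => ⟨inv_mem h1.1, by rw [he.map_inv h1.1, Pi.neg_apply, h1.2, neg_zero]⟩ }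
    have hτA : τ ∈ A := ⟨E.mem, by rw [(he.zero τ E.mem).2 (mem_zpowers τ), Pi.zero_apply]⟩
    have hyA : y ∈ A := ⟨hy, by rw [he.apY]; rfl⟩
    have hyτ : y ∉ zpowers τ := fun h1 => by
      have h3 := congrFun ((he.zero y hy).2 h1) 1
      rw [he.apY] at h3
      simp at h3
    have hxA : x ∉ A := fun h1 => by
      have h3 := h1.2
      rw [he.apX] at h3
      simp at h3
    refine E.noA A hτA (fun z hz => hz.1)
      (E.card_eq_sq h (fun z hz => hz.1) hτA hyA hyτ hx hxA) ?_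
    rw [le_normalizer_iff]
    rintro c hc' z ⟨hz, hz0⟩
    refine ⟨E.conj_mem hc' hz, ?_⟩
    rw [E.conj_eq' hyp h he hc' hz]
    simp [Matrix.mulVec, dotProduct, Fin.sum_univ_two, hz0, ← hMx, hno c hc']
  -- one inverting `τ` and interchanging the lines
  obtain ⟨c, hc', hci, hc00, hc11⟩ : ∃ c ∈ Cent t, c * τ * c⁻¹ = τ⁻¹ ∧ Mx c 0 0 = 0 ∧ Mx c 1 1 = 0 := by
    obtain ⟨h00, h11⟩ := (hmono c hc').resolve_left hc01
    rcases h.conj_cases hyp hc' with e1 | ⟨e1, -⟩
    · refine ⟨c * u, mul_mem hc' huC, ?_, ?_, ?_⟩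
      · rw [show c * u * τ * (c * u)⁻¹ = c * (u * τ * u⁻¹) * c⁻¹ by group, h.inverts u hu hne hc,
          e1.inv_right.eq, mul_inv_cancel_right]
      · rw [hmul hc' huC, hU]; simp [Matrix.mul_apply, Fin.sum_univ_two, h00]
      · rw [hmul hc' huC, hU]; simp [Matrix.mul_apply, Fin.sum_univ_two, h11]
    · exact ⟨c, hc', e1, h00, h11⟩
  obtain ⟨v, hv, u', hu', hne', hc'', rfl⟩ := ((h.conj_cases hyp hc').resolve_left fun e1 => by
    rw [e1.eq, mul_inv_cancel_right] at hci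
    have h3 : orderOf τ ∣ 2 := orderOf_dvd_of_pow_eq_one (by rw [pow_two]; nth_rw 1 [hci]; group)
    exact h.r_ne_two hyp ((Nat.prime_dvd_prime_iff_eq h.prime Nat.prime_two).1 h3)).2
  have hu'C : u' ∈ Cent t := mem_cent.2 hc''.eq
  obtain ⟨v01, v10⟩ := hall v hv
  have hvC := Hyp.oCore_le_cent t hv
  have hvdet := (E.det_mat h he hxy hvC).1 (h.comm v hv)
  rw [Matrix.det_fin_two, ← hMx, v01, v10, zero_mul, sub_zero] at hvdet
  have hu'00 : Mx u' 0 0 = 0 ∧ Mx u' 1 1 = 0 := by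
    rw [hmul hvC hu'C] at hc00 hc11
    simp [Matrix.mul_apply, Fin.sum_univ_two, v01, v10] at hc00 hc11
    exact ⟨hc00.resolve_left (left_ne_zero_of_mul_eq_one hvdet),
      hc11.resolve_left (right_ne_zero_of_mul_eq_one hvdet)⟩
  have hu'det := (E.det_mat h he hxy hu'C).2 (h.inverts u' hu' hne' hc'')
  rw [Matrix.det_fin_two, ← hMx, hu'00.1, zero_mul, zero_sub, neg_inj] at hu'det
  -- the reflection `u'` has only `r` fixed points
  have hu'fix : dFix t u' ≤ qFix t u' := fun k hk' => by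
    by_contra hkq
    obtain ⟨k01, k10⟩ := hall k hk'.1
    refine hns k hk'.1 (fun h1 => hkq ⟨h1, hk'.2⟩) k01 k10 ?_
    have h1 : Mx k * Mx u' = Mx u' * Mx k := by
      rw [← hmul (Hyp.oCore_le_cent t hk'.1) hu'C, ← hmul hu'C (Hyp.oCore_le_cent t hk'.1),
        (show Commute k u' from mem_cent.1 hk'.2).eq]
    have e01 := congrFun (congrFun h1 0) 1
    simp [Matrix.mul_apply, Fin.sum_univ_two, k01, hu'00] at e01
    exact mul_left_cancel₀ (left_ne_zero_of_mul_eq_one hu'det) (by linear_combination e01)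
  have hcard' : Nat.card (dFix t u') ≤ orderOf τ := by
    obtain ⟨-, y', -, -, -, -, -, hoy', -, hqy', -⟩ := E.base hyp hk hM hm h hu' hne' hc''
    refine (Subgroup.card_le_of_le hu'fix).trans ?_
    rw [hqy', Nat.card_zpowers, hoy']
  -- `u` has at least `3 r`
  have hbig : 3 * orderOf τ ≤ Nat.card (dFix t u) := by
    have hle : qFix t u ≤ dFix t u := inf_le_inf_right _ (fitCore_le_oCore t)
    obtain ⟨k, hk'⟩ := card_dvd_of_le hle
    have hoddk : Odd k := Nat.Odd.of_mul_right (m := Nat.card (qFix t u))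
      (hk' ▸ (hyp.odd_oCore t).of_dvd_nat (card_dvd_of_le inf_le_left))
    have hk1 : k ≠ 1 := fun e1 => hdq (by
      rw [eq_of_le_of_card_ge hle (by rw [hk', e1, mul_one])]
      exact hd)
    rw [hk', hqy, Nat.card_zpowers, hoy, mul_comm 3]
    refine Nat.mul_le_mul_left _ ?_
    obtain ⟨j, rfl⟩ := hoddk
    omega
  -- the Sylow 2-subgroup is large
  refine not_ratio hyp ?_ hu hne hc hu' hne' hc''
    ((Nat.mul_le_mul_left 3 hcard').trans hbig)
  by_contra h16
  obtain ⟨g⟩ := hyp.exists_gens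
  have hn4 : orderOf g.σ ∣ 4 := by
    have hk2 : g.k ≤ 1 := by
      by_contra hk3
      refine h16 ?_
      rw [g.hcard, g.hn]
      exact ⟨2 ^ (g.k - 2), by
        conv_lhs => rw [show g.k + 1 = 3 + (g.k - 2) by omega, pow_add]
        ring⟩
    rw [g.hord, g.hn, show (4 : ℕ) = 2 ^ 2 by norm_num]
    exact pow_dvd_pow 2 (by omega)
  have hsq : ∀ s ∈ (S : Subgroup G), s * s = 1 ∨ s * s = t := by
    intro s hs
    obtain ⟨i, rfl | rfl⟩ := g.hform s hs
    · have h4 : (g.σ ^ i * g.σ ^ i) * (g.σ ^ i * g.σ ^ i) = 1 := by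
        rw [← _root_.zpow_add, ← _root_.zpow_add, show i + i + (i + i) = (4 : ℤ) * i by ring, _root_.zpow_mul,
          show g.σ ^ (4 : ℤ) = 1 by
            rw [show (4 : ℤ) = ((4 : ℕ) : ℤ) by norm_num, zpow_natCast]
            exact orderOf_dvd_iff_pow_eq_one.1 hn4, _root_.one_zpow]
      by_cases h1 : g.σ ^ i * g.σ ^ i = 1
      · exact Or.inl h1
      · exact Or.inr (eq_of_invol_zpowers (mul_mem (zpow_mem (mem_zpowers _) i)
          (zpow_mem (mem_zpowers _) i)) g.htσ (BSW.order_of_sq h4 h1) hyp.orderT)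
    · exact Or.inl (refl_sq g i)
  have hc0 : u' * u ∈ Cent t := mul_mem hu'C huC
  obtain ⟨w, hw, s, hs, he0⟩ := hyp.exists_oCore_mul hc0
  obtain ⟨w01, w10⟩ := hall w hw
  have hwC := Hyp.oCore_le_cent t hw
  have hwdet := (E.det_mat h he hxy hwC).1 (h.comm w hw)
  rw [Matrix.det_fin_two, ← hMx, w01, w10, zero_mul, sub_zero] at hwdet
  have hsC := hyp.sylow_le_cent hs
  have h1 : Mx u' * Mx u = Mx w * Mx s := by
    rw [← hmul hu'C huC, ← hmul hwC hsC, he0]
  have e00 := congrFun (congrFun h1 0) 0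
  have e01 := congrFun (congrFun h1 0) 1
  have e10 := congrFun (congrFun h1 1) 0
  simp [Matrix.mul_apply, Fin.sum_univ_two, hU, hu'00, w01, w10] at e00 e01 e10
  have hs00 : Mx s 0 0 = 0 := e00.resolve_left (left_ne_zero_of_mul_eq_one hwdet)
  have hss : Mx (s * s) = 1 := by
    rcases hsq s hs with e1 | e1 <;> rw [e1]
    · exact he.mat_one
    · rw [hMx, he.mat_eq_one_iff (fun _ hz => E.conj_mem (mem_cent.2 rfl) hz)
        (h.conj_mem_zpowers hyp (mem_cent.2 rfl)) E.mem]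
      intro z hz
      rw [(commute_of_fitCore (E.le hz)).symm.eq, mul_inv_cancel_right, mul_inv_cancel]
      exact one_mem _
  rw [hmul hsC hsC] at hss
  have f00 := congrFun (congrFun hss 0) 0
  simp [Matrix.mul_apply, Fin.sum_univ_two, hs00] at f00
  refine h2 ?_
  have h3 : (Mx w 0 0 * Mx s 0 1) * (Mx w 1 1 * Mx s 1 0) = 1 := by
    linear_combination (Mx w 0 0 * Mx w 1 1) * f00 + hwdet
  rw [← e01, ← e10] at h3
  linear_combination -hu'det - h3

end Extra

end Cfsg.Agent.GW
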