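import Cfsg.Agent.Lib.GW.PartII.CompLocal
import Cfsg.Agent.Lib.GW.PartII.CompRho
import Cfsg.Agent.Lib.GW.KFacts

/-!
# Component configuration, case I: a central element of `fitCore t` fixed by `b`

* `exists_inverted_mul_fixed`: inverted times fixed, for an involution on an odd group;
* `CaseOne.of_central`: then `fitCore t` is abelian;
* `CaseOne.conj_mem`: an element commuting with a fixed point normalises the fixed points;
* `CaseOne.exists_line`: the inverted part of the elements of prime exponent is one line.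
-/

set_option autoImplicit false
set_option linter.style.haveILetI false

namespace Cfsg.Agent.GW

open Subgroup CompLocal
open BSW (mem_cent sq_of_order)
open scoped commutatorElement

universe u

variable {G : Type u} [Group G] [Finite G] {S : Sylow 2 G} {t : G}

/-- An element of a group of odd order normalised by the involution `b` is inverted times fixed. -/
theorem exists_inverted_mul_fixed {b : G} (hb : orderOf b = 2) {K : Subgroup G}
    (hK : Odd (Nat.card K)) (hbK : b ∈ normalizer (K : Set G)) {f : G} (hf : f ∈ K) :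
    ∃ i ∈ K, ∃ q ∈ K, f = i * q ∧ b * i * b⁻¹ = i⁻¹ ∧ Commute q b := by
  have hbb := sq_of_order hb
  have hbi : b⁻¹ = b := inv_eq_of_mul_eq_one_right hbb
  set x := f * (b * f⁻¹ * b⁻¹) with hx
  have hxK : x ∈ K := mul_mem hf ((mem_normalizer_iff.1 hbK _).1 (inv_mem hf))
  have hxinv : b * x * b⁻¹ = x⁻¹ := by
    calc b * x * b⁻¹ = b * f * (b * f⁻¹ * (b * b)⁻¹) := by rw [hx]; group
      _ = b * f * b⁻¹ * f⁻¹ := by rw [hbb, hbi, inv_one, mul_one]; group
      _ = x⁻¹ := by rw [hx]; group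
  obtain ⟨j, hj⟩ : Odd (orderOf x) := hK.of_dvd_nat (Subgroup.orderOf_dvd_natCard _ hxK)
  set i := x ^ (j + 1) with hi
  have hii : i * i = x := by
    rw [hi, ← pow_add, show j + 1 + (j + 1) = (2 * j + 1) + 1 by ring, pow_succ, ← hj,
      pow_orderOf_eq_one, one_mul]
  have hiinv : b * i * b⁻¹ = i⁻¹ := by rw [hi, ← conj_pow, hxinv, inv_pow]
  refine ⟨i, pow_mem hxK _, i⁻¹ * f, mul_mem (inv_mem (pow_mem hxK _)) hf, by group, hiinv, ?_⟩
  refine (mul_inv_eq_iff_eq_mul.1 ?_).symm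
  calc b * (i⁻¹ * f) * b⁻¹ = (b * i * b⁻¹)⁻¹ * (b * f * b⁻¹ * f⁻¹) * f := by group
    _ = i * x⁻¹ * f := by rw [hiinv, inv_inv, hx]; group
    _ = i⁻¹ * f := by rw [← hii]; group

/-- Case I at `t, b`. -/
structure CaseOne (t b : G) : Prop where
  pair : Pair t b
  cycle : FixedCycle t b
  abelian : ∀ f ∈ fitCore t, ∀ f' ∈ fitCore t, Commute f f'
  exists_fixed : ∃ y ∈ qFix t b, y ≠ 1
  exists_inverted : ∃ τ ∈ fitCore t, τ ≠ 1 ∧ b * τ * b⁻¹ = τ⁻¹

/-- A fixed central element of `fitCore t` gives case I. -/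
theorem CaseOne.of_central (hyp : Hyp S t) (hk : ProperKnown G) (hM : IsCoatom (Cent t))
    (hm : FixModel.{u}) {b : G} (h : Pair t b) (hfc : FixedCycle t b) {y : G} (hy : y ∈ qFix t b)
    (hy1 : y ≠ 1) (hcen : ∀ f ∈ fitCore t, Commute y f) : CaseOne t b := by
  have hbb := sq_of_order h.hb
  have hbC : b ∈ Cent t := mem_cent.2 h.comm.symm
  have hbF : ∀ f ∈ fitCore t, b * f * b⁻¹ ∈ fitCore t := fun f hf =>
    (mem_normalizer_iff.1 (cent_le_normalizer_fitCore t hbC) _).1 hf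
  have hne : fitCore t ≠ ⊥ := fun e => hy1 (mem_bot.1 (e ▸ hy.1))
  obtain ⟨z, hz, hzc, hzb⟩ : ∃ z ∈ fitCore t, (∀ f ∈ fitCore t, Commute z f) ∧ ¬ Commute z b := by
    by_contra hno
    push Not at hno
    exact fixed_center_false hyp hM h hne hno
  set w := b * z * b⁻¹ * z⁻¹ with hw
  have hwF : w ∈ fitCore t := mul_mem (hbF z hz) (inv_mem hz)
  have hw1 : w ≠ 1 := fun e => hzb (mul_inv_eq_iff_eq_mul.1 (mul_inv_eq_one.1 e)).symm
  have hwinv : b * w * b⁻¹ = w⁻¹ := by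
    calc b * w * b⁻¹ = b * b * z * (b * b)⁻¹ * (b * z⁻¹ * b⁻¹) * 1 := by rw [hw]; group
      _ = w⁻¹ := by rw [hbb, hw]; group
  have hwc : ∀ f ∈ fitCore t, Commute w f := by
    intro f hf
    refine Commute.mul_left ?_ (hzc f hf).inv_left
    have h1 := (hzc _ (hbF f hf)).map (MulAut.conj b)
    rwa [MulAut.conj_apply, MulAut.conj_apply, show b * (b * f * b⁻¹) * b⁻¹ = f by
      rw [show b * (b * f * b⁻¹) * b⁻¹ = b * b * f * (b * b)⁻¹ by group, hbb]; simp] at h1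
  have p : Pin t b y w :=
    ⟨h, hfc, hy, hy1, fitCore_le_oCore t hwF, hw1, hwinv, hwc y hy.1⟩
  obtain ⟨T, hTcyc, hTL, hT⟩ := p.exists_torus hyp hk hM hm
  letI := hTcyc.commGroup
  have hQT : ∀ q ∈ qFix t b, ∀ i ∈ T, Commute q i := fun q hq i hi =>
    p.commute_layer hyp hk hM hm hq (hcen q hq.1).symm i (hTL hi)
  have hdec : ∀ f ∈ fitCore t, ∃ i ∈ T, ∃ q ∈ qFix t b, f = i * q := fun f hf => by
    obtain ⟨i, hi, q, hq, e, hinv, hqb⟩ := exists_inverted_mul_fixed h.hb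
      ((hyp.odd_oCore t).of_dvd_nat (card_dvd_of_le (fitCore_le_oCore t)))
      (cent_le_normalizer_fitCore t hbC) hf
    exact ⟨i, (hT i).2 ⟨fitCore_le_oCore t hi, (hcen i hi).symm, hinv⟩, q, ⟨hq, mem_cent.2 hqb.eq⟩, e⟩
  have hD : ⁅fitCore t, fitCore t⁆ ≤ qFix t b := by
    refine commutator_le.2 fun f hf f' hf' => ?_
    obtain ⟨i, hi, q, hq, rfl⟩ := hdec f hf
    obtain ⟨i', hi', q', hq', rfl⟩ := hdec f' hf'
    have cii : Commute i i' := congrArg Subtype.val (mul_comm (⟨i, hi⟩ : T) ⟨i', hi'⟩)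
    have key : ⁅i * q, i' * q'⁆ = ⁅q, q'⁆ := by
      have c1 : Commute i (q * (i' * q') * q⁻¹) := by
        exact ((hQT q hq i hi).symm.mul_right (cii.mul_right (hQT q' hq' i hi).symm)).mul_right
          (hQT q hq i hi).symm.inv_right
      calc ⁅i * q, i' * q'⁆ = i * (q * (i' * q') * q⁻¹) * i⁻¹ * (i' * q')⁻¹ := by
            rw [commutatorElement_def]; group
        _ = q * i' * q' * q⁻¹ * (q'⁻¹ * i'⁻¹) := by rw [c1.eq]; group
        _ = i' * ⁅q, q'⁆ * i'⁻¹ := by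
            rw [(hQT q hq i' hi').eq, commutatorElement_def]; group
        _ = ⁅q, q'⁆ := by
            have hm' : ⁅q, q'⁆ ∈ qFix t b := by
              rw [commutatorElement_def]
              exact mul_mem (mul_mem (mul_mem hq hq') (inv_mem hq)) (inv_mem hq')
            rw [← (hQT _ hm' i' hi').eq, mul_inv_cancel_right]
    rw [key, commutatorElement_def]
    exact mul_mem (mul_mem (mul_mem hq hq') (inv_mem hq)) (inv_mem hq')
  have hn : Cent t ≤ normalizer ((⁅fitCore t, fitCore t⁆ : Subgroup G) : Set G) := fun c hc => by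
    rw [mem_normalizer_iff_map_conj_eq, map_commutator,
      mem_normalizer_iff_map_conj_eq.1 (cent_le_normalizer_fitCore t hc)]
  refine ⟨h, hfc, fun f hf f' hf' => ?_, ⟨y, hy, hy1⟩, ⟨w, hwF, hw1, hwinv⟩⟩
  by_contra hne'
  refine not_normal hyp hM h hfc (hD.trans (qFix_le_dFix t b)) (fun e => hne' ?_) hn
  exact commutatorElement_eq_one_iff_commute.1 (mem_bot.1 (e ▸ commutator_mem_commutator hf hf'))

namespace CaseOne

variable {b : G} (h : CaseOne t b)
include h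

theorem pin {y τ : G} (hy : y ∈ qFix t b) (hy1 : y ≠ 1) (hτ : τ ∈ fitCore t) (hτ1 : τ ≠ 1)
    (hinv : b * τ * b⁻¹ = τ⁻¹) : Pin t b y τ :=
  ⟨h.pair, h.cycle, hy, hy1, fitCore_le_oCore t hτ, hτ1, hinv, h.abelian τ hτ y hy.1⟩

/-- An inverted element commuting with a fixed point centralises the fixed points. -/
theorem comm_fix (hyp : Hyp S t) (hk : ProperKnown G) (hM : IsCoatom (Cent t)) (hm : FixModel.{u})
    {x y : G} (hx : x ∈ oCore t) (hinv : b * x * b⁻¹ = x⁻¹) (hy : y ∈ qFix t b) (hy1 : y ≠ 1)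
    (hxy : Commute x y) {z : G} (hz : z ∈ qFix t b) : Commute x z := by
  obtain ⟨τ, hτ, hτ1, hτinv⟩ := h.exists_inverted
  have p := h.pin hy hy1 hτ hτ1 hτinv
  obtain ⟨T, -, hTL, hT⟩ := p.exists_torus hyp hk hM hm
  exact (p.commute_layer hyp hk hM hm hz (h.abelian z hz.1 y hy.1) x
    (hTL ((hT x).2 ⟨hx, hxy, hinv⟩))).symm

/-- An element commuting with a fixed point normalises the fixed points. -/
theorem conj_mem (hyp : Hyp S t) (hk : ProperKnown G) (hM : IsCoatom (Cent t)) (hm : FixModel.{u})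
    {x y : G} (hx : x ∈ oCore t) (hy : y ∈ qFix t b) (hy1 : y ≠ 1) (hxy : Commute x y) {z : G}
    (hz : z ∈ qFix t b) : x * z * x⁻¹ ∈ qFix t b := by
  have hbC : b ∈ Cent t := mem_cent.2 h.pair.comm.symm
  have hby : Commute b y := (mem_cent.1 hy.2).symm
  obtain ⟨i, hi, q, hq, rfl, hinv, hqb⟩ := exists_inverted_mul_fixed h.pair.hb
    (K := oCore t ⊓ Cent y) ((hyp.odd_oCore t).of_dvd_nat (card_dvd_of_le inf_le_left))
    (inf_normalizer_le_normalizer_inf ⟨Hyp.cent_le_normalizer t hbC, le_normalizer (mem_cent.2 hby.eq)⟩)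
    (show x ∈ oCore t ⊓ Cent y from ⟨hx, mem_cent.2 hxy.eq⟩)
  have hqz : q * z * q⁻¹ ∈ qFix t b := by
    have hqC : q ∈ Cent b := mem_cent.2 hqb.eq
    exact ⟨(mem_normalizer_iff.1 (cent_le_normalizer_fitCore t (Hyp.oCore_le_cent t hq.1)) _).1 hz.1,
      (Cent b).mul_mem ((Cent b).mul_mem hqC hz.2) ((Cent b).inv_mem hqC)⟩
  rw [show i * q * z * (i * q)⁻¹ = i * (q * z * q⁻¹) * i⁻¹ by group,
    (h.comm_fix hyp hk hM hm hi.1 hinv hy hy1 (mem_cent.1 hi.2) hqz).eq, mul_inv_cancel_right]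
  exact hqz

/-- The elements of exponent `r` of `fitCore t`. -/
def omega (r : ℕ) : Subgroup G where
  carrier := {f | f ∈ fitCore t ∧ f ^ r = 1}
  one_mem' := ⟨one_mem _, one_pow r⟩
  mul_mem' := fun {f f'} ⟨hf, e⟩ ⟨hf', e'⟩ => ⟨mul_mem hf hf', by
    rw [(h.abelian f hf f' hf').mul_pow, e, e', one_mul]⟩
  inv_mem' := fun {f} ⟨hf, e⟩ => ⟨inv_mem hf, by rw [inv_pow, e, inv_one]⟩

theorem cent_le_normalizer_omega (r : ℕ) : Cent t ≤ normalizer (h.omega r : Set G) := by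
  intro c hc
  have hF := mem_normalizer_iff.1 (cent_le_normalizer_fitCore t hc)
  refine mem_normalizer_iff.2 fun f => ⟨fun ⟨hf, e⟩ => ⟨(hF f).1 hf, ?_⟩,
    fun ⟨hf, e⟩ => ⟨(hF f).2 hf, ?_⟩⟩
  · rw [conj_pow, e]; group
  · rw [conj_pow, mul_inv_eq_one] at e
    exact mul_left_cancel (e.trans (mul_one c).symm)

/-- The inverted elements of exponent `r` form one line. -/
theorem exists_line (hyp : Hyp S t) (hk : ProperKnown G) (hM : IsCoatom (Cent t)) (hm : FixModel.{u})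
    {r : ℕ} (hr : r.Prime) {y : G} (hy : y ∈ qFix t b) (hyr : orderOf y = r) :
    ∃ τ ∈ h.omega r, orderOf τ = r ∧ b * τ * b⁻¹ = τ⁻¹ ∧
      ∀ f ∈ h.omega r, b * f * b⁻¹ = f⁻¹ → f ∈ zpowers τ := by
  haveI := Fact.mk hr
  have hy1 : y ≠ 1 := fun e => hr.ne_one (by rw [← hyr, e, orderOf_one])
  have hyO : y ∈ h.omega r := ⟨hy.1, hyr ▸ pow_orderOf_eq_one y⟩
  have hbC : b ∈ Cent t := mem_cent.2 h.pair.comm.symm
  obtain ⟨f, hf, hfb⟩ : ∃ f ∈ h.omega r, ¬ Commute f b := by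
    by_contra hno
    push Not at hno
    refine not_normal hyp hM h.pair h.cycle (X := h.omega r)
      (fun f hf => ⟨fitCore_le_oCore t hf.1, mem_cent.2 (hno f hf).eq⟩)
      (fun e => hy1 (mem_bot.1 (e ▸ hyO))) (h.cent_le_normalizer_omega r)
  have hodd : Odd (Nat.card (h.omega r)) := (hyp.odd_oCore t).of_dvd_nat
    (card_dvd_of_le fun f hf => fitCore_le_oCore t hf.1)
  obtain ⟨τ, hτ, q, -, rfl, hτinv, hqb⟩ := exists_inverted_mul_fixed h.pair.hb hodd
    (h.cent_le_normalizer_omega r hbC) hf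
  have hτ1 : τ ≠ 1 := fun e => hfb (by rw [e, one_mul]; exact hqb)
  have hτr : orderOf τ = r := orderOf_eq_prime hτ.2 hτ1
  refine ⟨τ, hτ, hτr, hτinv, fun x hx hxinv => ?_⟩
  by_cases hx1 : x = 1
  · exact hx1 ▸ one_mem _
  obtain ⟨T, hTcyc, -, hT⟩ := (h.pin hy hy1 hτ.1 hτ1 hτinv).exists_torus hyp hk hM hm
  haveI := hTcyc
  let τ' : T := ⟨τ, (hT τ).2 ⟨fitCore_le_oCore t hτ.1, h.abelian τ hτ.1 y hy.1, hτinv⟩⟩
  let x' : T := ⟨x, (hT x).2 ⟨fitCore_le_oCore t hx.1, h.abelian x hx.1 y hy.1, hxinv⟩⟩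
  have he : zpowers x' = zpowers τ' := eq_of_card_eq_of_cyclic (by
    rw [Nat.card_zpowers, Nat.card_zpowers, orderOf_mk, orderOf_mk, hτr, orderOf_eq_prime hx.2 hx1])
  obtain ⟨n, hn⟩ := mem_zpowers_iff.1 (show x' ∈ zpowers τ' from he ▸ mem_zpowers x')
  exact mem_zpowers_iff.2 ⟨n, congrArg Subtype.val hn⟩

end CaseOne

end Cfsg.Agent.GW
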