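import Cfsg.Agent.Lib.GW.PartII.CompOne
import Cfsg.Agent.Lib.GW.PartII.CompCount
import Cfsg.Agent.Lib.GW.NoFixedPairs

/-!
# Component configuration, case I: the orbit of a fixed line

For a prime `r` and `y ∈ qFix t b` of order `r`, with `τ` spanning the inverted elements of exponent
`r` of `fitCore t`:

* `exists_normalising`: a Sylow 2-subgroup of `Cent t` normalises the fixed elements of exponent `r`;
* `omega_fixed`: these are the powers of `y`;
* `orbit_cases`: the number `M` of conjugates of `⟨y⟩` under `Cent t` is odd, at least 3, at most `r`,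
  and if it is `r` then `Cent t` normalises `⟨τ⟩`.
-/

set_option autoImplicit false
set_option linter.style.haveILetI false

namespace Cfsg.Agent.GW

open Subgroup CompLocal
open BSW (mem_cent sq_of_order inv_of_order)
open BSW.DihedralTI (Gens)

universe u

variable {G : Type u} [Group G] [Finite G] {S : Sylow 2 G} {t : G}

/-- A line for the prime `r`. -/
structure OneLine (t b y τ : G) : Prop where
  one : CaseOne t b
  prime : (orderOf y).Prime
  mem_y : y ∈ qFix t b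
  mem_τ : τ ∈ fitCore t
  order_τ : orderOf τ = orderOf y
  inv_τ : b * τ * b⁻¹ = τ⁻¹
  line : ∀ f ∈ fitCore t, f ^ orderOf y = 1 → b * f * b⁻¹ = f⁻¹ → f ∈ zpowers τ

theorem CaseOne.exists_oneLine (hyp : Hyp S t) (hk : ProperKnown G) (hM : IsCoatom (Cent t))
    (hm : FixModel.{u}) {b : G} (h : CaseOne t b) {y : G} (hy : y ∈ qFix t b)
    (hyp' : (orderOf y).Prime) : ∃ τ, OneLine t b y τ := by
  obtain ⟨τ, hτ, hτr, hτinv, hline⟩ := h.exists_line hyp hk hM hm hyp' hy rfl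
  exact ⟨τ, h, hyp', hy, hτ.1, hτr, hτinv, fun f hf hfr hinv => hline f ⟨hf, hfr⟩ hinv⟩

namespace OneLine

variable {b y τ : G} (l : OneLine t b y τ)
include l

theorem ne_y : y ≠ 1 := fun e => l.prime.ne_one (e ▸ orderOf_one)

theorem ne_τ : τ ≠ 1 := fun e => l.prime.ne_one (l.order_τ ▸ e ▸ orderOf_one)

theorem b_mem : b ∈ Cent t := mem_cent.2 l.one.pair.comm.symm

theorem conj_mem_omega {c : G} (hc : c ∈ Cent t) {f : G} (hf : f ∈ l.one.omega (orderOf y)) :
    c * f * c⁻¹ ∈ l.one.omega (orderOf y) :=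
  (mem_normalizer_iff.1 (l.one.cent_le_normalizer_omega _ hc) f).1 hf

/-- An element of exponent `r` is a power of `τ` times a fixed one. -/
theorem decomp (hyp : Hyp S t) {f : G} (hf : f ∈ l.one.omega (orderOf y)) :
    ∃ i ∈ zpowers τ, ∃ q ∈ l.one.omega (orderOf y), Commute q b ∧ f = i * q := by
  obtain ⟨i, hi, q, hq, e, hinv, hqb⟩ := exists_inverted_mul_fixed l.one.pair.hb
    (K := l.one.omega (orderOf y))
    ((hyp.odd_oCore t).of_dvd_nat (card_dvd_of_le fun f hf => fitCore_le_oCore t hf.1))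
    (l.one.cent_le_normalizer_omega _ l.b_mem) hf
  exact ⟨i, l.line i hi.1 hi.2 hinv, q, hq, hqb, e⟩

/-- The square of an element of `Cent t` inverted by `b` centralises the elements of exponent `r`
once its square does. -/
theorem commute_square (hyp : Hyp S t) (hk : ProperKnown G) (hM : IsCoatom (Cent t))
    (hm : FixModel.{u}) {v : G} (hv : v ∈ Cent t) (hbv : b * v * b⁻¹ = v⁻¹)
    (hww : ∀ z ∈ l.one.omega (orderOf y), Commute (v * v * (v * v)) z) :
    ∀ z ∈ l.one.omega (orderOf y), Commute (v * v) z := by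
  set Z := l.one.omega (orderOf y) with hZ
  set w := v * v with hw
  have hbC := l.b_mem
  have hwC : w ∈ Cent t := mul_mem hv hv
  have hbw : b * w * b⁻¹ = w⁻¹ := by
    rw [hw, show b * (v * v) * b⁻¹ = b * v * b⁻¹ * (b * v * b⁻¹) by group, hbv, mul_inv_rev]
  have hwz : ∀ z ∈ Z, w⁻¹ * z * w = w * z * w⁻¹ := fun z hz => by
    calc w⁻¹ * z * w = w⁻¹ * (z * (w * w)) * w⁻¹ := by group
      _ = w⁻¹ * (w * w * z) * w⁻¹ := by rw [(hww z hz).eq]
      _ = w * z * w⁻¹ := by group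
  have hcomm : ∀ z ∈ Z, b * (w * z * w⁻¹) * b⁻¹ = w * (b * z * b⁻¹) * w⁻¹ := fun z hz => by
    calc b * (w * z * w⁻¹) * b⁻¹ = b * w * b⁻¹ * (b * z * b⁻¹) * (b * w * b⁻¹)⁻¹ := by group
      _ = w⁻¹ * (b * z * b⁻¹) * w := by rw [hbw, inv_inv]
      _ = _ := hwz _ (l.conj_mem_omega hbC hz)
  have hab : ∀ z ∈ Z, ∀ z' ∈ Z, Commute z z' := fun z hz z' hz' => l.one.abelian z hz.1 z' hz'.1
  have hodd : ∀ z ∈ Z, z⁻¹ = z → z = 1 := fun z hz e => by
    have h2 : z * z = 1 := by nth_rewrite 1 [← e]; exact inv_mul_cancel z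
    obtain ⟨j, hj⟩ := (hyp.odd_oCore t).of_dvd_nat
      (Subgroup.orderOf_dvd_natCard _ (fitCore_le_oCore t hz.1))
    have := pow_orderOf_eq_one z
    rwa [hj, pow_succ, pow_mul, pow_two, h2, one_pow, one_mul] at this
  have hτZ : τ ∈ Z := ⟨l.mem_τ, l.order_τ ▸ pow_orderOf_eq_one τ⟩
  have hiτ : ∀ {a : G}, w * τ * w⁻¹ = a → ∀ i ∈ zpowers τ, ∃ n : ℤ, i = τ ^ n ∧ w * i * w⁻¹ = a ^ n := by
    rintro a ha i hi
    obtain ⟨n, rfl⟩ := mem_zpowers_iff.1 hi
    exact ⟨n, rfl, by rw [← conj_zpow, ha]⟩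
  have hwτ : w * τ * w⁻¹ ∈ zpowers τ := by
    refine l.line _ (l.conj_mem_omega hwC hτZ).1 (l.conj_mem_omega hwC hτZ).2 ?_
    rw [hcomm τ hτZ, l.inv_τ]; group
  have hcases : w * τ * w⁻¹ = τ ∨ w * τ * w⁻¹ = τ⁻¹ := by
    set i := τ * (w * τ⁻¹ * w⁻¹) with hi
    have hiinv : w * i * w⁻¹ = i⁻¹ := by
      have := hwz _ (inv_mem hτZ)
      calc w * i * w⁻¹ = w * τ * w⁻¹ * (w * (w * τ⁻¹ * w⁻¹) * w⁻¹) := by rw [hi]; group
        _ = w * τ * w⁻¹ * (w * (w⁻¹ * τ⁻¹ * w) * w⁻¹) := by rw [this]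
        _ = i⁻¹ := by rw [hi]; group
    by_cases h1 : i = 1
    · left
      rw [hi, mul_eq_one_iff_eq_inv] at h1
      nth_rewrite 2 [h1]
      group
    right
    have himem : i ∈ zpowers τ := mul_mem (mem_zpowers τ) (by
      rw [show w * τ⁻¹ * w⁻¹ = (w * τ * w⁻¹)⁻¹ by group]; exact inv_mem hwτ)
    have hgen : zpowers i = zpowers τ := by
      refine eq_of_le_of_card_ge (zpowers_le.2 himem) ?_
      have hd := Subgroup.orderOf_dvd_natCard _ himem
      rw [Nat.card_zpowers, l.order_τ] at hd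
      rw [Nat.card_zpowers, Nat.card_zpowers, l.order_τ]
      exact ((Nat.dvd_prime l.prime).1 hd).resolve_left
        (fun e => h1 (orderOf_eq_one_iff.1 e)) |>.ge
    obtain ⟨n, hn⟩ := mem_zpowers_iff.1 (hgen.ge (mem_zpowers τ))
    rw [← hn, ← conj_zpow, hiinv, inv_zpow]
  -- fixed elements inverted by `w` are trivial
  have hfix : ∀ q ∈ Z, Commute q b → w * q * w⁻¹ = q := by
    intro q hq hqb
    set x := q * (w * q⁻¹ * w⁻¹) with hx
    have hxZ : x ∈ Z := mul_mem hq (l.conj_mem_omega hwC (inv_mem hq))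
    have hxb : b * x * b⁻¹ = x := by
      calc b * x * b⁻¹ = b * q * b⁻¹ * (b * (w * q⁻¹ * w⁻¹) * b⁻¹) := by rw [hx]; group
        _ = x := by rw [hcomm _ (inv_mem hq), ← hqb.eq, ← hqb.inv_left.eq, hx]; group
    have hxw : w * x * w⁻¹ = x⁻¹ := by
      calc w * x * w⁻¹ = w * q * w⁻¹ * (w * (w * q⁻¹ * w⁻¹) * w⁻¹) := by rw [hx]; group
        _ = w * q * w⁻¹ * (w * (w⁻¹ * q⁻¹ * w) * w⁻¹) := by rw [hwz _ (inv_mem hq)]
        _ = x⁻¹ := by rw [hx]; group
    suffices hx1 : x = 1 by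
      rw [hx, mul_eq_one_iff_eq_inv] at hx1
      nth_rewrite 2 [hx1]
      group
    by_contra hx1
    rcases hcases with hfixτ | hinvτ
    · -- `v * x * v⁻¹` is inverted by `w`, so fixed by `b`
      set z := v * x * v⁻¹ with hz
      have hzZ : z ∈ Z := l.conj_mem_omega hv hxZ
      have hwzinv : w * z * w⁻¹ = z⁻¹ := by
        calc w * z * w⁻¹ = v * (w * x * w⁻¹) * v⁻¹ := by rw [hz, hw]; group
          _ = z⁻¹ := by rw [hxw, hz]; group
      set z' := z * (b * z⁻¹ * b⁻¹) with hz'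
      have hz'Z : z' ∈ Z := mul_mem hzZ (l.conj_mem_omega hbC (inv_mem hzZ))
      have hz'inv : b * z' * b⁻¹ = z'⁻¹ := by
        calc b * z' * b⁻¹ = b * z * b⁻¹ * (b * b * z⁻¹ * (b * b)⁻¹) := by rw [hz']; group
          _ = z'⁻¹ := by rw [sq_of_order l.one.pair.hb, hz']; group
      obtain ⟨n, hn, hn'⟩ := hiτ hfixτ z' (l.line _ hz'Z.1 hz'Z.2 hz'inv)
      have hz'w : w * z' * w⁻¹ = z'⁻¹ := by
        have hc := hab z⁻¹ (inv_mem hzZ) (b * z * b⁻¹) (l.conj_mem_omega hbC hzZ)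
        calc w * z' * w⁻¹ = w * z * w⁻¹ * (w * (b * z⁻¹ * b⁻¹) * w⁻¹) := by rw [hz']; group
          _ = w * z * w⁻¹ * (b * (w * z * w⁻¹)⁻¹ * b⁻¹) := by
              rw [← hcomm _ (inv_mem hzZ)]; group
          _ = z'⁻¹ := by rw [hwzinv, inv_inv, hc.eq, hz']; group
      have hzb : b * z * b⁻¹ = z := by
        have h1 : z' = 1 := hodd z' hz'Z (by rw [← hz'w, hn', hn])
        rw [hz', mul_eq_one_iff_eq_inv] at h1
        nth_rewrite 2 [h1]
        group
      refine hx1 (hodd x hxZ ?_)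
      rw [← hxw]
      calc w * x * w⁻¹ = v * (v * x * v⁻¹) * v⁻¹ := by rw [hw]; group
        _ = v * (b * v * b⁻¹ * (b * x * b⁻¹) * (b * v * b⁻¹)⁻¹) * v⁻¹ := by
            rw [← hz, ← hzb, hz]; group
        _ = x := by rw [hbv, hxb]; group
    · have hu2 : b * w * (b * w) = 1 := by
        have e : b * w * b⁻¹ * w = 1 := by rw [hbw, inv_mul_cancel]
        rw [inv_of_order l.one.pair.hb] at e
        rw [← mul_assoc]
        exact e
      have hux : b * w * x * (b * w)⁻¹ = x⁻¹ := by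
        calc b * w * x * (b * w)⁻¹ = b * (w * x * w⁻¹) * b⁻¹ := by group
          _ = x⁻¹ := by rw [hxw, show b * x⁻¹ * b⁻¹ = (b * x * b⁻¹)⁻¹ by group, hxb]
      have hut : b * w ≠ t := fun e => by
        rw [e, ← (commute_of_fitCore hxZ.1).eq, mul_inv_cancel_right] at hux
        exact hx1 (hodd x hxZ hux.symm)
      have hu1 : b * w ≠ 1 := fun e => by
        rw [e, one_mul, inv_one, mul_one] at hux
        exact hx1 (hodd x hxZ hux.symm)
      refine (l.one.pin (y := x) ⟨hxZ.1, mem_cent.2 ?_⟩ hx1 l.mem_τ l.ne_τ l.inv_τ).not_refl hyp hk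
        hM hm (orderOf_eq_prime (by rw [pow_two]; exact hu2) hu1) hut
        (mem_cent.1 (mul_mem hbC hwC)) hux ?_
      · exact (mul_inv_eq_iff_eq_mul.1 hxb).symm
      · refine mul_inv_eq_iff_eq_mul.1 ?_
        calc b * w * τ * (b * w)⁻¹ = b * (w * τ * w⁻¹) * b⁻¹ := by group
          _ = τ := by rw [hinvτ, show b * τ⁻¹ * b⁻¹ = (b * τ * b⁻¹)⁻¹ by group, l.inv_τ, inv_inv]
  rcases hcases with hfixτ | hinvτ
  · intro z hz
    obtain ⟨i, hi, q, hq, hqb, rfl⟩ := l.decomp hyp hz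
    obtain ⟨n, rfl, hn⟩ := hiτ hfixτ i hi
    exact Commute.mul_right (mul_inv_eq_iff_eq_mul.1 hn)
      (mul_inv_eq_iff_eq_mul.1 (hfix q hq hqb))
  · have heq : ∀ z ∈ Z, w * z * w⁻¹ = b * z * b⁻¹ := by
      intro z hz
      obtain ⟨i, hi, q, hq, hqb, rfl⟩ := l.decomp hyp hz
      obtain ⟨n, rfl, hn⟩ := hiτ hinvτ i hi
      calc w * (τ ^ n * q) * w⁻¹ = w * τ ^ n * w⁻¹ * (w * q * w⁻¹) := by group
        _ = b * τ ^ n * b⁻¹ * (b * q * b⁻¹) := by
            rw [hn, hfix q hq hqb, ← conj_zpow, l.inv_τ, ← hqb.eq, mul_inv_cancel_right]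
        _ = b * (τ ^ n * q) * b⁻¹ := by group
    intro z hz
    set z₀ := b * z * b⁻¹ with hz₀
    have hz₀Z : z₀ ∈ Z := l.conj_mem_omega hbC hz
    have e1 : v * z * v⁻¹ = v⁻¹ * z * v := by
      calc v * z * v⁻¹ = v * (b * z₀ * b⁻¹) * v⁻¹ := by
            rw [hz₀, show b * (b * z * b⁻¹) * b⁻¹ = b * b * z * (b * b)⁻¹ by group,
              sq_of_order l.one.pair.hb]
            simp
        _ = v * (w * z₀ * w⁻¹) * v⁻¹ := by rw [heq z₀ hz₀Z]
        _ = w * (v * z₀ * v⁻¹) * w⁻¹ := by rw [hw]; group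
        _ = b * (v * z₀ * v⁻¹) * b⁻¹ := heq _ (l.conj_mem_omega hv hz₀Z)
        _ = b * v * b⁻¹ * (b * z₀ * b⁻¹) * (b * v * b⁻¹)⁻¹ := by group
        _ = v⁻¹ * z * v := by
            rw [hbv, hz₀, show b * (b * z * b⁻¹) * b⁻¹ = b * b * z * (b * b)⁻¹ by group,
              sq_of_order l.one.pair.hb]
            simp
    calc w * z = v * (v * z * v⁻¹) * v := by rw [hw]; group
      _ = z * w := by rw [e1, hw]; group

/-- A Sylow 2-subgroup of `Cent t` containing `b` normalises the fixed elements of exponent `r`. -/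
theorem exists_normalising (hyp : Hyp S t) (hk : ProperKnown G) (hM : IsCoatom (Cent t))
    (hm : FixModel.{u}) :
    ∃ T : Sylow 2 G, (T : Subgroup G) ≤ Cent t ∧ Cent t ≤ oCore t ⊔ (T : Subgroup G) ∧
      (T : Subgroup G) ≤ normalizer ((l.one.omega (orderOf y) ⊓ Cent b : Subgroup G) : Set G) := by
  haveI : Fact (Nat.Prime 2) := ⟨Nat.prime_two⟩
  obtain ⟨T, hT, hbT⟩ := hyp.exists_at hyp.orderT (zpowers b)
    (IsPGroup.of_card (n := 1) (by rw [Nat.card_zpowers, l.one.pair.hb, pow_one]))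
    (zpowers_le.2 l.b_mem)
  refine ⟨T, hT.sylow_le_cent, hyp.cent_le_sup hyp.orderT hT, ?_⟩
  obtain ⟨g⟩ := hT.exists_gens
  obtain ⟨i, hi | hi⟩ := g.hform b (hbT (mem_zpowers b))
  · exact absurd (eq_of_invol_zpowers (hi ▸ zpow_mem (mem_zpowers _) i) g.htσ l.one.pair.hb hyp.orderT)
      l.one.pair.ne.symm
  have hbσ : b * g.σ * b⁻¹ = g.σ⁻¹ := by
    rw [hi, show g.σ ^ i * g.τ * g.σ * (g.σ ^ i * g.τ)⁻¹ =
      g.σ ^ i * (g.τ * g.σ * g.τ⁻¹) * (g.σ ^ i)⁻¹ by group, g.hrel]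
    group
  have hσC : g.σ ∈ Cent t := hT.sylow_le_cent g.hσ
  have key : ∀ n j : ℕ, g.k + 1 ≤ j + n → 1 ≤ j →
      ∀ z ∈ l.one.omega (orderOf y), Commute (g.σ ^ 2 ^ j) z := by
    intro n
    induction n with
    | zero =>
      intro j hj _ z _
      rw [orderOf_dvd_iff_pow_eq_one.1 (g.hord ▸ g.hn ▸ pow_dvd_pow 2 (by omega : g.k + 1 ≤ j))]
      exact Commute.one_left z
    | succ n ih =>
      intro j hj hj1
      obtain ⟨j, rfl⟩ : ∃ j', j = j' + 1 := ⟨j - 1, by omega⟩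
      have e : g.σ ^ 2 ^ (j + 1) = g.σ ^ 2 ^ j * g.σ ^ 2 ^ j := by rw [← pow_add, pow_succ, mul_two]
      rw [e]
      refine l.commute_square hyp hk hM hm (pow_mem hσC _) (by rw [← conj_pow, hbσ, inv_pow]) ?_
      intro z hz
      have := ih (j + 2) (by omega) (by omega) z hz
      rwa [pow_succ, mul_two, pow_add, e] at this
  have hσ2 : ∀ z ∈ l.one.omega (orderOf y), Commute (g.σ * g.σ) z := fun z hz => by
    have := key (g.k + 1) 1 (by omega) le_rfl z hz
    rwa [pow_one, pow_two] at this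
  set X := l.one.omega (orderOf y) ⊓ Cent b with hX
  have hσX : g.σ ∈ normalizer (X : Set G) := by
    rw [mem_normalizer_iff_map_conj_eq]
    refine eq_of_le_of_card_ge ?_ (card_map_of_injective (MulAut.conj g.σ).injective).ge
    rintro _ ⟨z, ⟨hz, hzb⟩, rfl⟩
    refine ⟨l.conj_mem_omega hσC hz, mem_cent.2 (mul_inv_eq_iff_eq_mul.1 ?_).symm⟩
    calc b * (g.σ * z * g.σ⁻¹) * b⁻¹
        = b * g.σ * b⁻¹ * (b * z * b⁻¹) * (b * g.σ * b⁻¹)⁻¹ := by group
      _ = g.σ⁻¹ * z * g.σ := by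
          rw [hbσ, inv_inv, ← (show Commute z b from mem_cent.1 hzb).eq, mul_inv_cancel_right]
      _ = g.σ⁻¹ * (z * (g.σ * g.σ)) * g.σ⁻¹ := by group
      _ = g.σ * z * g.σ⁻¹ := by rw [← (hσ2 z hz).eq]; group
  have hbX : b ∈ normalizer (X : Set G) :=
    inf_normalizer_le_normalizer_inf ⟨l.one.cent_le_normalizer_omega _ l.b_mem,
      le_normalizer (mem_cent.2 rfl)⟩
  intro s hs
  obtain ⟨n, rfl | rfl⟩ := g.hform s hs
  · exact zpow_mem hσX n
  · rw [show g.σ ^ n * g.τ = g.σ ^ n * (g.σ ^ i)⁻¹ * b by rw [hi]; group]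
    exact mul_mem (mul_mem (zpow_mem hσX n) (inv_mem (zpow_mem hσX i))) hbX

/-- The fixed elements of exponent `r` are the powers of `y`, some inverted element moves `⟨y⟩`, and
a Sylow 2-subgroup normalises it. -/
theorem omega_fixed (hyp : Hyp S t) (hk : ProperKnown G) (hM : IsCoatom (Cent t))
    (hm : FixModel.{u}) :
    (∀ z ∈ l.one.omega (orderOf y), Commute z b → z ∈ zpowers y) ∧
      (∃ x ∈ oCore t, b * x * b⁻¹ = x⁻¹ ∧ x ∉ normalizer (zpowers y : Set G)) ∧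
      ∃ T : Sylow 2 G, (T : Subgroup G) ≤ Cent t ∧ Cent t ≤ oCore t ⊔ (T : Subgroup G) ∧
        (T : Subgroup G) ≤ normalizer (zpowers y : Set G) := by
  set X := l.one.omega (orderOf y) ⊓ Cent b with hX
  obtain ⟨T, hTC, hcov, hTX⟩ := l.exists_normalising hyp hk hM hm
  have hyX : y ∈ X := ⟨⟨l.mem_y.1, pow_orderOf_eq_one y⟩, l.mem_y.2⟩
  have hXQ : X ≤ qFix t b := fun z hz => ⟨hz.1.1, hz.2⟩
  obtain ⟨x, hx, hxinv, hxX⟩ : ∃ x ∈ oCore t, b * x * b⁻¹ = x⁻¹ ∧
      x ∉ normalizer (X : Set G) := by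
    by_contra hno
    push Not at hno
    refine not_normal hyp hM l.one.pair l.one.cycle (hXQ.trans (qFix_le_dFix t b))
      (fun e => l.ne_y (mem_bot.1 (e ▸ hyX))) (hcov.trans (sup_le (fun o ho => ?_) hTX))
    obtain ⟨i, hi, q, hq, rfl, hinv, hqb⟩ := exists_inverted_mul_fixed l.one.pair.hb
      (hyp.odd_oCore t) (Hyp.cent_le_normalizer t l.b_mem) ho
    exact mul_mem (hno i hi hinv) (inf_normalizer_le_normalizer_inf
      ⟨l.one.cent_le_normalizer_omega _ (Hyp.oCore_le_cent t hq),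
        le_normalizer (mem_cent.2 hqb.eq)⟩)
  have hxC := Hyp.oCore_le_cent t hx
  have hfree : ∀ q ∈ X, Commute x q → q = 1 := by
    intro q hq hxq
    by_contra hq1
    refine hxX ?_
    rw [mem_normalizer_iff_map_conj_eq]
    refine eq_of_le_of_card_ge ?_ (card_map_of_injective (MulAut.conj x).injective).ge
    rintro _ ⟨z, hz, rfl⟩
    exact ⟨l.conj_mem_omega hxC hz.1,
      (l.one.conj_mem hyp hk hM hm hx (hXQ hq) hq1 hxq (hXQ hz)).2⟩
  have hodd : Odd (orderOf x) := (hyp.odd_oCore t).of_dvd_nat (Subgroup.orderOf_dvd_natCard _ hx)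
  let φ : X → zpowers τ := fun q => ⟨x * q * x⁻¹ * (x⁻¹ * q * x)⁻¹, by
    have h1 := l.conj_mem_omega hxC q.2.1
    have h2 := l.conj_mem_omega (inv_mem hxC) q.2.1
    rw [inv_inv] at h2
    have h := mul_mem h1 (inv_mem h2)
    refine l.line _ h.1 h.2 ?_
    have hqb : b * (q : G) * b⁻¹ = q := by
      rw [← (show Commute (q : G) b from mem_cent.1 q.2.2).eq, mul_inv_cancel_right]
    calc b * (x * q * x⁻¹ * (x⁻¹ * q * x)⁻¹) * b⁻¹
        = b * x * b⁻¹ * (b * q * b⁻¹) * (b * x * b⁻¹)⁻¹ *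
          ((b * x * b⁻¹)⁻¹ * (b * q * b⁻¹) * (b * x * b⁻¹))⁻¹ := by group
      _ = _ := by rw [hxinv, hqb]; simp only [mul_inv_rev, inv_inv, mul_assoc]⟩
  have hφ : Function.Injective φ := by
    intro q q' e
    have e' : x * q * x⁻¹ * (x⁻¹ * q * x)⁻¹ = x * q' * x⁻¹ * (x⁻¹ * q' * x)⁻¹ :=
      congrArg Subtype.val e
    set d := (q' : G)⁻¹ * q with hd
    have hdX : d ∈ X := mul_mem (inv_mem q'.2) q.2
    have h1 := l.conj_mem_omega hxC (q'.2.1)
    have h2 := l.conj_mem_omega (inv_mem hxC) hdX.1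
    rw [inv_inv] at h2
    have hc := l.one.abelian _ h1.1 _ h2.1
    have hd1 : x * d * x⁻¹ = x⁻¹ * d * x := by
      have e2 : x * q * x⁻¹ = x * q' * x⁻¹ * (x⁻¹ * q' * x)⁻¹ * (x⁻¹ * q * x) := by
        rw [← e']; group
      calc x * d * x⁻¹ = (x * q' * x⁻¹)⁻¹ * (x * q * x⁻¹) := by rw [hd]; group
        _ = (x⁻¹ * q' * x)⁻¹ * (x⁻¹ * q * x) := by rw [e2]; group
        _ = x⁻¹ * d * x := by rw [hd]; group
    have hxxd : Commute (x * x) d := by
      calc x * x * d = x * (x * d * x⁻¹) * x := by group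
        _ = d * (x * x) := by rw [hd1]; group
    have h3 := hfree d hdX (commute_of_sq hodd hxxd)
    rw [hd, inv_mul_eq_one] at h3
    exact Subtype.ext h3.symm
  have hXy : X = zpowers y := by
    refine (eq_of_le_of_card_ge (zpowers_le.2 hyX) ?_).symm
    refine (Nat.card_le_card_of_injective φ hφ).trans (le_of_eq ?_)
    rw [Nat.card_zpowers, Nat.card_zpowers, l.order_τ]
  exact ⟨fun z hz hzb => hXy ▸ ⟨hz, mem_cent.2 hzb.eq⟩, ⟨x, hx, hxinv, hXy ▸ hxX⟩, T, hTC, hcov,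
    hXy ▸ hTX⟩

/-- The orbit of `⟨y⟩` under `Cent t`. -/
theorem orbit_cases (hyp : Hyp S t) (hk : ProperKnown G) (hM : IsCoatom (Cent t))
    (hm : FixModel.{u}) :
    let M := (normalizer (zpowers y : Set G) ⊓ Cent t).relIndex (Cent t)
    3 ≤ M ∧ (M + 2 ≤ orderOf y ∨
      (M = orderOf y ∧ Cent t ≤ normalizer (zpowers τ : Set G))) := by
  intro M
  classical
  obtain ⟨hfix, ⟨x, hx, hxinv, hxN⟩, T, hTC, hcov, hTN⟩ := l.omega_fixed hyp hk hM hm
  set r := orderOf y with hr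
  haveI := Fact.mk l.prime
  set K := normalizer (zpowers y : Set G) with hK
  let f : G → Subgroup G := fun g => (zpowers y).map (MulAut.conj g).toMonoidHom
  have hfz : ∀ g : G, f g = zpowers (g * y * g⁻¹) := fun g => MonoidHom.map_zpowers _ y
  have hmem : ∀ g : G, g ∈ K ↔ f g = zpowers y := fun g => mem_normalizer_iff_map_conj_eq
  have hf : ∀ a c : G, f a = f c ↔ a⁻¹ * c ∈ K := fun a c => by
    rw [hmem]
    constructor
    · intro e
      show (zpowers y).map (MulAut.conj (a⁻¹ * c)).toMonoidHom = zpowers y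
      rw [← map_conj_map_conj (zpowers y) c a⁻¹]
      show (f c).map _ = _
      rw [← e, map_conj_map_conj, inv_mul_cancel, map_conj_one]
    · intro e
      calc f a = (f (a⁻¹ * c)).map (MulAut.conj a).toMonoidHom := by rw [e]
        _ = f c := by
          show ((zpowers y).map _).map _ = _
          rw [map_conj_map_conj, mul_inv_cancel_left]
  -- `Cent t` and its odd core have the same orbit
  have hO : ∀ c ∈ Cent t, ∃ o ∈ oCore t, f c = f o := by
    intro c hc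
    have hc' : c ∈ ((oCore t ⊔ (T : Subgroup G) : Subgroup G) : Set G) := hcov hc
    rw [coe_mul_of_right_le_normalizer_left _ _ (hTC.trans (Hyp.cent_le_normalizer t))] at hc'
    obtain ⟨o, ho, s, hs, rfl⟩ := hc'
    exact ⟨o, ho, ((hf o (o * s)).2 (by rw [inv_mul_cancel_left]; exact hTN hs)).symm⟩
  have hMC : (Set.range fun c : Cent t => f c).ncard = M := by
    refine ncard_range_eq_index _ ((K ⊓ Cent t).subgroupOf (Cent t)) fun a c => ?_
    rw [hf, mem_subgroupOf]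
    exact ⟨fun h => ⟨h, (a⁻¹ * c).2⟩, fun h => h.1⟩
  have hrange : (Set.range fun c : Cent t => f c) = Set.range fun o : oCore t => f o := by
    ext Y
    constructor
    · rintro ⟨c, rfl⟩
      obtain ⟨o, ho, e⟩ := hO c c.2
      exact ⟨⟨o, ho⟩, e.symm⟩
    · rintro ⟨o, rfl⟩
      exact ⟨⟨o, Hyp.oCore_le_cent t o.2⟩, rfl⟩
  have hMO : M = (K.subgroupOf (oCore t)).index := by
    rw [← hMC, hrange]
    refine ncard_range_eq_index _ _ fun a c => (hf a c).trans ?_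
    rw [mem_subgroupOf]
    rfl
  have hModd : Odd M := hMO ▸ (hyp.odd_oCore t).of_dvd_nat (index_dvd_card _)
  have hM1 : M ≠ 1 := fun e => hxN (by
    rw [hMO, index_eq_one] at e
    exact mem_subgroupOf.1 (e.ge (mem_top (⟨x, hx⟩ : oCore t))))
  have hτy : ∀ z ∈ zpowers τ, Commute z b → z = 1 := by
    intro z hz hzb
    obtain ⟨n, rfl⟩ := mem_zpowers_iff.1 hz
    refine CompInverted.eq_one_of_commute_inverted (a := b) ?_ ?_ hzb
    · exact (hyp.odd_oCore t).of_dvd_nat (Subgroup.orderOf_dvd_natCard _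
        (zpow_mem (fitCore_le_oCore t l.mem_τ) n))
    · rw [← conj_zpow, l.inv_τ, inv_zpow]
  have hbY : f b = zpowers y := by
    rw [hfz, ← (show Commute y b from mem_cent.1 l.mem_y.2).eq, mul_inv_cancel_right]
  -- `⟨τ⟩` is not a conjugate
  have hτnot : ∀ c ∈ Cent t, f c ≠ zpowers τ := by
    intro c hc e
    obtain ⟨o, ho, e'⟩ := hO c hc
    rw [e'] at e
    have hbb := sq_of_order l.one.pair.hb
    have hbi := inv_of_order l.one.pair.hb
    set g := b * o * b⁻¹ with hg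
    have hgτ : f g = f o := by
      rw [e]
      calc f g = f (b * o) := ((hf (b * o) g).2 (by
            rw [hg, show (b * o)⁻¹ * (b * o * b⁻¹) = b⁻¹ by group]
            exact inv_mem ((hmem b).2 hbY))).symm
        _ = (f o).map (MulAut.conj b).toMonoidHom := (map_conj_map_conj (zpowers y) o b).symm
        _ = zpowers τ := by
            rw [e, MonoidHom.map_zpowers]
            show zpowers (b * τ * b⁻¹) = zpowers τ
            rw [l.inv_τ, zpowers_inv]
    set i := o⁻¹ * g with hi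
    have hiK : i ∈ K := (hf o g).1 hgτ.symm
    have hiinv : b * i * b⁻¹ = i⁻¹ := by
      calc b * i * b⁻¹ = b * o⁻¹ * b⁻¹ * (b * b * o * (b * b)⁻¹) := by rw [hi, hg]; group
        _ = i⁻¹ := by rw [hbb, hi, hg]; group
    have hio : i ∈ oCore t := mul_mem (inv_mem ho)
      ((mem_normalizer_iff.1 (Hyp.cent_le_normalizer t l.b_mem) o).1 ho)
    obtain ⟨k, hk'⟩ := (hyp.odd_oCore t).of_dvd_nat (Subgroup.orderOf_dvd_natCard _ hio)
    set j := i ^ (k + 1) with hj
    have hjj : j * j = i := by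
      rw [hj, ← pow_add, show k + 1 + (k + 1) = 2 * k + 1 + 1 by ring, pow_succ, ← hk',
        pow_orderOf_eq_one, one_mul]
    have hjinv : b * j * b⁻¹ = j⁻¹ := by rw [hj, ← conj_pow, hiinv, inv_pow]
    have hd : b * (o * j) * b⁻¹ = o * j := by
      calc b * (o * j) * b⁻¹ = o * i * (b * j * b⁻¹) := by rw [hi, hg]; group
        _ = o * j := by rw [hjinv, ← hjj]; group
    have hdb : Commute (o * j) b := (mul_inv_eq_iff_eq_mul.1 hd).symm
    have hdC : o * j ∈ Cent t :=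
      Hyp.oCore_le_cent t (mul_mem ho (pow_mem hio _))
    have hdy : o * j * y * (o * j)⁻¹ ∈ zpowers y :=
      hfix _ (l.conj_mem_omega hdC ⟨l.mem_y.1, pow_orderOf_eq_one y⟩)
        ((hdb.mul_left (mem_cent.1 l.mem_y.2)).mul_left hdb.inv_left)
    have hdK : o * j ∈ K := by
      rw [hmem, hfz]
      refine eq_of_le_of_card_ge (zpowers_le.2 hdy) ?_
      rw [Nat.card_zpowers, Nat.card_zpowers, ← MulAut.conj_apply, MulEquiv.orderOf_eq]
    have hoK : o ∈ K := by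
      have h1 := mul_mem hdK (inv_mem (pow_mem hiK (k + 1)))
      rwa [← hj, mul_inv_cancel_right] at h1
    rw [(hmem o).1 hoK] at e
    exact l.ne_y (hτy y (e ▸ mem_zpowers y) (mem_cent.1 l.mem_y.2))
  -- every line outside `⟨τ⟩` is `⟨y * a⟩`
  set L : Set (Subgroup G) := (fun a => zpowers (y * a)) '' (zpowers τ : Set G) with hL
  have hline : ∀ c ∈ Cent t, ∀ z ∈ l.one.omega r, z ∉ zpowers τ → zpowers z ∈ L := by
    intro c _ z hz hzτ
    obtain ⟨i, hi, q, hq, hqb, rfl⟩ := l.decomp hyp hz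
    have hqy := hfix q hq hqb
    have hq1 : q ≠ 1 := fun e => hzτ (by rw [e, mul_one]; exact hi)
    have hgen : zpowers q = zpowers y := by
      refine eq_of_le_of_card_ge (zpowers_le.2 hqy) ?_
      rw [Nat.card_zpowers, Nat.card_zpowers, orderOf_eq_prime hq.2 hq1]
    obtain ⟨n, hn⟩ := mem_zpowers_iff.1 (hgen.ge (mem_zpowers y))
    refine ⟨i ^ n, zpow_mem hi n, ?_⟩
    have hiZ : i ∈ l.one.omega r := zpowers_le.2
      (⟨l.mem_τ, (show orderOf τ = r from l.order_τ) ▸ pow_orderOf_eq_one τ⟩ : τ ∈ l.one.omega r) hi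
    have e : (i * q) ^ n = y * i ^ n := by
      rw [(l.one.abelian i hiZ.1 q hq.1).mul_zpow, hn, (l.one.abelian _ l.mem_y.1 _ (zpow_mem hiZ.1 n)).eq]
    refine eq_of_le_of_card_ge (zpowers_le.2 (e ▸ zpow_mem (mem_zpowers _) n)) ?_
    have h1 : y * i ^ n ≠ 1 := fun h1 => l.ne_y (hτy y (by
      rw [mul_eq_one_iff_eq_inv.1 h1]; exact inv_mem (zpow_mem hi n)) (mem_cent.1 l.mem_y.2))
    have h2 : (y * i ^ n) ^ r = 1 :=
      (mul_mem (⟨l.mem_y.1, pow_orderOf_eq_one y⟩ : y ∈ l.one.omega r) (zpow_mem hiZ n)).2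
    rw [Nat.card_zpowers, Nat.card_zpowers, orderOf_eq_prime h2 h1,
      orderOf_eq_prime hz.2 fun e => hzτ (e ▸ one_mem _)]
  have hsub : (Set.range fun c : Cent t => f c) ⊆ L := by
    rintro _ ⟨c, rfl⟩
    show f c ∈ L
    rw [hfz]
    refine hline c c.2 _ (l.conj_mem_omega c.2 ⟨l.mem_y.1, pow_orderOf_eq_one y⟩) fun h => ?_
    refine hτnot c c.2 ?_
    rw [hfz]
    refine eq_of_le_of_card_ge (zpowers_le.2 h) ?_
    rw [Nat.card_zpowers, Nat.card_zpowers, ← MulAut.conj_apply, MulEquiv.orderOf_eq, l.order_τ]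
  have hLr : L.ncard ≤ r := by
    refine (Set.ncard_image_le (Set.toFinite _)).trans (le_of_eq ?_)
    rw [← Nat.card_coe_set_eq]
    exact (Nat.card_zpowers τ).trans l.order_τ
  have hMr : M ≤ r := by
    rw [← hMC]
    exact (Set.ncard_le_ncard hsub (Set.toFinite _)).trans hLr
  obtain ⟨k, hk'⟩ := hModd
  obtain ⟨k', hk''⟩ : Odd r := (hyp.odd_oCore t).of_dvd_nat
    (Subgroup.orderOf_dvd_natCard _ (fitCore_le_oCore t l.mem_y.1))
  refine ⟨by omega, ?_⟩
  by_cases hlt : M < r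
  · exact Or.inl (by omega)
  refine Or.inr ⟨by omega, fun c hc => ?_⟩
  have heq : (Set.range fun c : Cent t => f c) = L :=
    Set.eq_of_subset_of_ncard_le hsub (hLr.trans (by rw [hMC]; omega)) (Set.toFinite _)
  have hτZ : τ ∈ l.one.omega r :=
    ⟨l.mem_τ, (show orderOf τ = r from l.order_τ) ▸ pow_orderOf_eq_one τ⟩
  rw [mem_normalizer_iff_map_conj_eq, MonoidHom.map_zpowers]
  show zpowers (c * τ * c⁻¹) = zpowers τ
  refine eq_of_le_of_card_ge (zpowers_le.2 ?_) ?_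
  · by_contra hn
    obtain ⟨c', hc'⟩ := heq.ge (hline c hc _ (l.conj_mem_omega hc hτZ) hn)
    refine hτnot (c⁻¹ * c') (mul_mem (inv_mem hc) c'.2) ?_
    show (zpowers y).map (MulAut.conj (c⁻¹ * (c' : G))).toMonoidHom = _
    rw [← map_conj_map_conj]
    show (f c').map _ = _
    rw [show f c' = zpowers (c * τ * c⁻¹) from hc', MonoidHom.map_zpowers]
    show zpowers (c⁻¹ * (c * τ * c⁻¹) * c⁻¹⁻¹) = zpowers τ
    group
  · rw [Nat.card_zpowers, Nat.card_zpowers, ← MulAut.conj_apply, MulEquiv.orderOf_eq]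

end OneLine

end Cfsg.Agent.GW
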