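import Cfsg.Agent.Lib.GW.PartII.CompLocal
import Cfsg.Agent.Lib.GW.PartII.CompCount
import Cfsg.Agent.Lib.PSL2.Circle

/-!
# Component configuration: counting facts on the layer

* `Pin.noRefl`: for a torus element of prime order at least 5, no reflection centralises `y` and `τ`;
* `Pin.layer_counts`: blocks through a point, and the bound on the reflection class.
-/

set_option autoImplicit false
set_option linter.unusedSectionVars false
set_option linter.unusedVariables false
set_option linter.style.haveILetI false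

namespace Cfsg.Agent.GW

open Subgroup
open BSW (mem_cent)
open scoped MatrixGroups

universe u

namespace CompLocal

/-- An involution of a dihedral group commuting with a nontrivial odd element is a rotation. -/
theorem dihedral_invol_mem {n : ℕ} {u x : DihedralGroup n} (hx : Odd (orderOf x))
    (hx1 : x ≠ 1) (hc : Commute u x) : u ∈ zpowers (DihedralGroup.r 1) := by
  rcases u with i | i
  · obtain ⟨z, rfl⟩ := ZMod.intCast_surjective i
    exact ⟨z, DihedralGroup.r_one_zpow z⟩
  · rcases x with j | j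
    · exfalso
      have h := hc.eq
      simp only [DihedralGroup.sr_mul_r, DihedralGroup.r_mul_sr, DihedralGroup.sr.injEq] at h
      have h2 : DihedralGroup.r j * DihedralGroup.r j = 1 := by
        rw [DihedralGroup.r_mul_r, DihedralGroup.one_def, DihedralGroup.r.injEq]
        linear_combination h
      exact hx1 (orderOf_eq_one_iff.1 (Nat.eq_one_of_dvd_coprimes (Nat.coprime_two_right.2 hx) dvd_rfl
        (orderOf_dvd_of_pow_eq_one (by rw [pow_two, h2]))))
    · rw [DihedralGroup.orderOf_sr] at hx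
      exact absurd hx (by decide)

/-- In `A₇` the odd elements centralising an involution have order dividing 3. -/
theorem alt_seven_cube {X : Type u} [Group X] [Finite X] [IsSimpleGroup X] (hd : SubDihedral X)
    (hk : IsKnown X) (e : X ≃* alternatingGroup (Fin 7)) {a τ : X} (ha : orderOf a = 2)
    (hτ : Odd (orderOf τ)) (hτa : Commute τ a) : orderOf τ ∣ 3 := by
  let t₀ : alternatingGroup (Fin 7) := ⟨Equiv.swap 0 1 * Equiv.swap 2 3,
    Equiv.Perm.mem_alternatingGroup.2 (by decide)⟩
  have ht : orderOf (e.symm t₀) = 2 := by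
    rw [MulEquiv.orderOf_eq]
    exact orderOf_eq_prime (by rw [pow_two]; exact Subtype.ext (by decide))
      fun h => absurd (congrArg Subtype.val h) (by decide)
  obtain ⟨w, hw⟩ := isConj_iff.1 (isConj_invol_of_simple hd hk.not_comm hk.even_card ha ht)
  have hc : Commute (e (w * τ * w⁻¹)) t₀ := by
    have h1 := hτa.map (MulAut.conj w)
    rw [MulAut.conj_apply, MulAut.conj_apply, hw] at h1
    have h2 := h1.map e
    rwa [e.apply_symm_apply] at h2
  have ho : orderOf ((e (w * τ * w⁻¹) : alternatingGroup (Fin 7)) : Equiv.Perm (Fin 7)) = orderOf τ := by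
    rw [orderOf_coe, MulEquiv.orderOf_eq, ← MulAut.conj_apply, MulEquiv.orderOf_eq]
  rw [← ho]
  refine (orderOf_dvd_of_mem_zpowers (alt_seven_odd (ho ▸ hτ) (congrArg Subtype.val hc.eq))).trans ?_
  exact orderOf_dvd_of_pow_eq_one (by decide)

/-- In `PSL₂(q)` an involution commuting with the involution `a` and a nontrivial odd element of `C(a)`
is `a`. -/
theorem psl_no_refl {F : Type} [Field F] [Fintype F] (hodd : Odd (Fintype.card F)) {a u x : PSL(2, F)}
    (ha : orderOf a = 2) (hu : orderOf u = 2) (hua : Commute u a) (hx : Odd (orderOf x)) (hx1 : x ≠ 1)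
    (hxa : Commute x a) (hux : Commute u x) : u = a := by
  obtain ⟨n, -, ⟨eC⟩⟩ := PSL2.dihedral_centralizer_involution (PSL2.odd_card_iff.1 hodd) ha
  haveI : NeZero n := ⟨fun h => (Nat.card_pos (α := centralizer ({a} : Set PSL(2, F)))).ne' (by
    rw [Nat.card_congr eC.toEquiv, h, DihedralGroup.nat_card, mul_zero])⟩
  let a' : centralizer ({a} : Set PSL(2, F)) := ⟨a, mem_centralizer_singleton_iff.2 rfl⟩
  let u' : centralizer ({a} : Set PSL(2, F)) := ⟨u, mem_centralizer_singleton_iff.2 hua.eq⟩
  let x' : centralizer ({a} : Set PSL(2, F)) := ⟨x, mem_centralizer_singleton_iff.2 hxa.eq⟩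
  have hxo : Odd (orderOf (eC x')) := by rw [MulEquiv.orderOf_eq, orderOf_mk]; exact hx
  have hx' : eC x' ≠ 1 := fun h => hx1 (congrArg Subtype.val (eC.map_eq_one_iff.1 h))
  have h1 := dihedral_invol_mem hxo hx' ((show Commute a' x' from Subtype.ext hxa.symm.eq).map eC)
  have h2 := dihedral_invol_mem hxo hx' ((show Commute u' x' from Subtype.ext hux.eq).map eC)
  have h3 : eC u' = eC a' := eq_of_invol_zpowers h2 h1
    (by rw [MulEquiv.orderOf_eq, orderOf_mk, hu]) (by rw [MulEquiv.orderOf_eq, orderOf_mk, ha])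
  exact congrArg Subtype.val (eC.injective h3)

end CompLocal

open CompLocal

namespace Pin

variable {G : Type u} [Group G] [Finite G] {S : Sylow 2 G} {t b y τ : G}

/-- No reflection centralises `y` and a torus element of prime order at least 5. -/
theorem noRefl (hyp : Hyp S t) (hk : ProperKnown G) (hM : IsCoatom (Cent t)) (hm : FixModel.{u})
    (p : Pin t b y τ) (hτ : (orderOf τ).Prime) (h5 : 5 ≤ orderOf τ) {u : G} (hu : orderOf u = 2)
    (hne : u ≠ t) (hc : Commute u t) (huy : Commute u y) : ¬ Commute u τ := by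
  intro huτ
  obtain ⟨H, E, hle, f, -, -, -⟩ := p.exists_local hyp hk hM hm
  haveI := f.normal
  haveI := f.simple
  have huH : u ∈ H := hle (mem_normalizer_zpowers_of_commute huy)
  have hτH : τ ∈ H := hle (mem_normalizer_zpowers_of_commute p.comm)
  let u' : H := ⟨u, huH⟩
  let t' : H := ⟨t, f.a_mem⟩
  let τ' : H := ⟨τ, hτH⟩
  have hτt : Commute τ t := mem_cent.1 (Hyp.oCore_le_cent t p.mem_τ)
  have hτo : Odd (orderOf τ') := by
    rw [orderOf_mk]; exact hτ.odd_of_ne_two (by omega)
  have hu' : orderOf u' = 2 := by rw [orderOf_mk]; exact hu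
  have ht' : orderOf t' = 2 := by rw [orderOf_mk]; exact f.pair.ha
  have hxE := f.proj_mem hτo p.inv_τ
  have hx1 : proj H τ' ≠ 1 := fun h => p.ne_τ (f.eq_one_of_proj h hτo p.inv_τ)
  have cτu : Commute τ' u' := Subtype.ext huτ.symm.eq
  have cτt : Commute τ' t' := Subtype.ext hτt.eq
  have cut : Commute u' t' := Subtype.ext hc.eq
  by_cases huE : proj H u' ∈ E
  swap
  · exact hx1 (eq_one_of_outer f.dih E f.known (mk_orderOf hu') huE (mk_orderOf ht') (f.haE f.a_mem) hxE
      (hτo.of_dvd_nat (orderOf_map_dvd _ _)) (cτu.map _) (cτt.map _))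
  let a : E := ⟨proj H t', f.haE f.a_mem⟩
  let x : E := ⟨proj H τ', hxE⟩
  let v : E := ⟨proj H u', huE⟩
  have ha : orderOf a = 2 := by rw [orderOf_mk]; exact mk_orderOf ht'
  have hv : orderOf v = 2 := by rw [orderOf_mk]; exact mk_orderOf hu'
  have hxa : Commute x a := Subtype.ext (cτt.map (proj H)).eq
  have hxo : Odd (orderOf x) := by rw [orderOf_mk]; exact hτo.of_dvd_nat (orderOf_map_dvd _ _)
  rcases id f.known with ⟨F, iF, iF', hodd, -, ⟨e⟩⟩ | ⟨⟨e⟩⟩
  · have h := psl_no_refl hodd (a := e a) (u := e v) (x := e x) (by rw [MulEquiv.orderOf_eq, ha])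
      (by rw [MulEquiv.orderOf_eq, hv]) ((show Commute v a from Subtype.ext (cut.map (proj H)).eq).map e)
      (by rw [MulEquiv.orderOf_eq]; exact hxo)
      (fun h => hx1 (congrArg Subtype.val (e.map_eq_one_iff.1 h))) (hxa.map e)
      ((show Commute v x from Subtype.ext (cτu.symm.map (proj H)).eq).map e)
    have h1 : proj H u' = proj H t' := congrArg Subtype.val (e.injective h)
    have hp : orderOf (u' * t') = 2 := by
      refine orderOf_eq_prime ?_ ?_
      · rw [cut.mul_pow, pow_two, pow_two, BSW.sq_of_order hu', BSW.sq_of_order ht', one_mul]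
      · exact fun h => hne (congrArg Subtype.val
          ((eq_inv_of_mul_eq_one_left h).trans (BSW.inv_of_order ht')))
    have h2 := mk_orderOf hp
    rw [map_mul, show QuotientGroup.mk' _ u' = proj H t' from h1, BSW.sq_of_order (mk_orderOf ht'),
      orderOf_one] at h2
    omega
  · have h3 := alt_seven_cube (f.dih.subgroup E) f.known e ha hxo hxa
    have h4 : orderOf x ∣ orderOf τ := by
      rw [orderOf_mk]; exact (orderOf_map_dvd _ _).trans (by rw [orderOf_mk])
    have h5' : orderOf x ≠ 1 := fun h => hx1 (congrArg Subtype.val (orderOf_eq_one_iff.1 h))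
    have h6 : orderOf x = orderOf τ := (hτ.eq_one_or_self_of_dvd _ h4).resolve_left h5'
    have := Nat.le_of_dvd (by norm_num) (h6 ▸ h3)
    omega

/-- Blocks through a point and the size of the reflection class. -/
theorem layer_counts (hyp : Hyp S t) (hk : ProperKnown G) (hM : IsCoatom (Cent t)) (hm : FixModel.{u})
    (p : Pin t b y τ) {F : Type} [Field F] [Fintype F] (hodd : Odd (Fintype.card F))
    (e : layerN y ≃* PSL(2, F)) :
    ∃ X : ℕ, (X = Fintype.card F + 1 ∨ X + 1 = Fintype.card F) ∧ 4 ∣ X ∧ orderOf τ ∣ X ∧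
      2 * (normalizer (zpowers y : Set G) ⊓ Cent t).relIndex (normalizer (zpowers y : Set G)) =
        Fintype.card F * (2 * Fintype.card F - X) ∧
      ((Cent b).subgroupOf (Cent t)).index ≤
        (normalizer (zpowers y : Set G) ⊓ Cent t).relIndex (Cent t) * (X / 2) := by
  classical
  set L := layerN y with hLdef
  set K := normalizer (zpowers y : Set G) with hKdef
  obtain ⟨htL, hbL⟩ := p.mem_layer hyp hk hM hm
  obtain ⟨T, -, hTL, hT⟩ := p.exists_torus hyp hk hM hm
  have hτL : τ ∈ L := hTL ((hT τ).2 ⟨p.mem_τ, p.comm, p.inv_τ⟩)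
  have hLK : L ≤ K := layerOf_le K
  have h2 : (2 : F) ≠ 0 := PSL2.odd_card_iff.1 hodd
  let t' : L := ⟨t, htL⟩
  have hea : orderOf (e t') = 2 := by rw [MulEquiv.orderOf_eq, orderOf_mk]; exact p.pair.ha
  obtain ⟨n, hn, ⟨eC⟩⟩ := PSL2.dihedral_centralizer_involution h2 hea
  have hCmem : ∀ v : L, Commute (v : G) t → e v ∈ centralizer ({e t'} : Set PSL(2, F)) := fun v hv =>
    mem_centralizer_singleton_iff.2 ((show Commute v t' from Subtype.ext hv.eq).map e).eq
  have hcardC : Nat.card (centralizer ({e t'} : Set PSL(2, F))) = 2 * n := by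
    rw [Nat.card_congr eC.toEquiv, DihedralGroup.nat_card]
  have hτt : Commute τ t := mem_cent.1 (Hyp.oCore_le_cent t p.mem_τ)
  have hτd : orderOf τ ∣ 2 * n := by
    rw [← hcardC, show orderOf τ = orderOf (e ⟨τ, hτL⟩) by rw [MulEquiv.orderOf_eq, orderOf_mk]]
    exact Subgroup.orderOf_dvd_natCard _ (hCmem _ hτt)
  have hτo : Odd (orderOf τ) :=
    (hyp.odd_oCore t).of_dvd_nat (Subgroup.orderOf_dvd_natCard _ p.mem_τ)
  have hn0 : n ≠ 0 := fun h => (Nat.card_pos (α := centralizer ({e t'} : Set PSL(2, F)))).ne' (by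
    rw [hcardC, h, mul_zero])
  obtain ⟨j, hj⟩ := hodd
  -- blocks through `⟨y⟩`
  have hrange : (Set.range fun k : K => (k : G) * t * (k : G)⁻¹) =
      Set.range fun l : L => (l : G) * t * (l : G)⁻¹ := by
    refine Set.Subset.antisymm ?_ ?_
    · rintro _ ⟨k, rfl⟩
      have hv : (k : G) * t * (k : G)⁻¹ ∈ L := layerOf_normal k.2 htL
      have hvo : orderOf (e ⟨_, hv⟩) = 2 := by
        rw [MulEquiv.orderOf_eq, orderOf_mk, ← MulAut.conj_apply, MulEquiv.orderOf_eq]
        exact p.pair.ha
      obtain ⟨l, hl⟩ := PSL2.Circle.involutions_conj h2 (e t') (e ⟨_, hv⟩) hea hvo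
      refine ⟨e.symm l, ?_⟩
      have h := congrArg e.symm hl
      rw [map_mul, map_mul, map_inv, e.symm_apply_apply, e.symm_apply_apply] at h
      exact congrArg Subtype.val h
    · rintro _ ⟨l, rfl⟩
      exact ⟨⟨l, hLK l.2⟩, rfl⟩
  have hconj : ∀ (Z : Subgroup G) (s : G) (a c : Z), (a : G) * s * (a : G)⁻¹ = (c : G) * s * (c : G)⁻¹ ↔
      a⁻¹ * c ∈ (Cent s).subgroupOf Z := fun Z s a c => by
    rw [mem_subgroupOf, mem_cent, Subgroup.coe_mul, Subgroup.coe_inv]
    constructor
    · intro h
      calc (a : G)⁻¹ * c * s = (a : G)⁻¹ * ((c : G) * s * (c : G)⁻¹) * c := by group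
        _ = (a : G)⁻¹ * ((a : G) * s * (a : G)⁻¹) * c := by rw [h]
        _ = s * ((a : G)⁻¹ * c) := by group
    · intro h
      calc (a : G) * s * (a : G)⁻¹ = (a : G) * (s * ((a : G)⁻¹ * c)) * (c : G)⁻¹ := by group
        _ = (a : G) * ((a : G)⁻¹ * c * s) * (c : G)⁻¹ := by rw [h]
        _ = (c : G) * s * (c : G)⁻¹ := by group
  have hidx : (K ⊓ Cent t).relIndex K = (centralizer ({e t'} : Set PSL(2, F))).index := by
    rw [Subgroup.inf_relIndex_left, Subgroup.relIndex, ← ncard_range_eq_index _ _ (hconj K t), hrange,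
      ncard_range_eq_index _ _ (hconj L t)]
    rw [← Subgroup.index_map_equiv ((Cent t).subgroupOf L) e]
    refine congrArg Subgroup.index (le_antisymm ?_ fun v hv => ?_)
    · rintro _ ⟨v, hv, rfl⟩
      exact hCmem v (mem_cent.1 hv)
    · refine ⟨e.symm v, mem_cent.2 ?_, e.apply_symm_apply v⟩
      have h := congrArg e.symm (mem_centralizer_singleton_iff.1 hv)
      rw [map_mul, map_mul, e.symm_apply_apply] at h
      exact congrArg Subtype.val h
  have hmul : (2 * n) * (K ⊓ Cent t).relIndex K = Nat.card PSL(2, F) := by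
    rw [hidx, ← hcardC, Subgroup.card_mul_index]
  have hq := PSL2.two_mul_card_PSL (F := F) h2
  have hτ3 : 3 ≤ orderOf τ := by
    obtain ⟨i, hi⟩ := hτo
    rcases i with _ | i
    · exact absurd (orderOf_eq_one_iff.1 (by simpa using hi)) p.ne_τ
    · omega
  -- the reflection class
  have hbound : (K ⊓ Cent t ⊓ Cent b).relIndex (K ⊓ Cent t) ≤ n := by
    rw [Subgroup.inf_relIndex_left, Subgroup.relIndex, ← ncard_range_eq_index _ _ (hconj (K ⊓ Cent t) b),
      ← Nat.card_coe_set_eq]
    haveI : NeZero n := ⟨hn0⟩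
    have hspec : ∀ v : Set.range (fun k : ↥(K ⊓ Cent t) => (k : G) * b * (k : G)⁻¹),
        ∃ (hv : (v : G) ∈ L) (hc : Commute (v : G) t) (i : ZMod n),
          eC ⟨e ⟨v, hv⟩, hCmem _ hc⟩ = DihedralGroup.sr i := by
      rintro ⟨_, k, rfl⟩
      have hv : (k : G) * b * (k : G)⁻¹ ∈ L := layerOf_normal k.2.1 hbL
      have hkt : Commute (k : G) t := mem_cent.1 k.2.2
      have hbt : Commute b t := p.pair.comm.symm
      have hc : Commute ((k : G) * b * (k : G)⁻¹) t := (hkt.mul_left hbt).mul_left hkt.inv_left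
      refine ⟨hv, hc, ?_⟩
      generalize hg : eC ⟨e ⟨_, hv⟩, hCmem _ hc⟩ = g
      rcases g with i | i
      · exfalso
        let a' : centralizer ({e t'} : Set PSL(2, F)) := ⟨e t', mem_centralizer_singleton_iff.2 rfl⟩
        let x' : centralizer ({e t'} : Set PSL(2, F)) := ⟨e ⟨τ, hτL⟩, hCmem _ hτt⟩
        have ha' : eC a' ∈ zpowers (DihedralGroup.r 1) := dihedral_invol_mem (x := eC x')
          (by rw [MulEquiv.orderOf_eq, orderOf_mk, MulEquiv.orderOf_eq, orderOf_mk]; exact hτo)
          (fun h => p.ne_τ (congrArg Subtype.val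
            (e.map_eq_one_iff.1 (congrArg Subtype.val (eC.map_eq_one_iff.1 h) :)) :))
          ((show Commute a' x' from Subtype.ext
            (mem_centralizer_singleton_iff.1 x'.2).symm).map eC)
        have hvz : eC ⟨e ⟨_, hv⟩, hCmem _ hc⟩ ∈ zpowers (DihedralGroup.r 1) := by
          rw [hg]
          obtain ⟨z, rfl⟩ := ZMod.intCast_surjective i
          exact ⟨z, DihedralGroup.r_one_zpow z⟩
        have h := eq_of_invol_zpowers hvz ha'
          (by rw [MulEquiv.orderOf_eq, orderOf_mk, MulEquiv.orderOf_eq, orderOf_mk, ← MulAut.conj_apply,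
                MulEquiv.orderOf_eq]; exact p.pair.hb)
          (by rw [MulEquiv.orderOf_eq, orderOf_mk]; exact hea)
        have h' : (k : G) * b * (k : G)⁻¹ = t :=
          congrArg Subtype.val (e.injective (congrArg Subtype.val (eC.injective h)))
        refine p.pair.ne ?_
        calc t = (k : G)⁻¹ * ((k : G) * t) := by group
          _ = (k : G)⁻¹ * (t * k) := by rw [hkt.eq]
          _ = (k : G)⁻¹ * ((k : G) * b * (k : G)⁻¹) * k := by rw [h']; group
          _ = b := by group
      · exact ⟨i, rfl⟩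
    choose hv hc i hi using hspec
    refine le_of_le_of_eq (Nat.card_le_card_of_injective i fun v w h => ?_) (Nat.card_zmod n)
    have h1 := (hi v).trans ((congrArg DihedralGroup.sr h).trans (hi w).symm)
    exact Subtype.ext (congrArg Subtype.val (e.injective (congrArg Subtype.val (eC.injective h1))) :)
  have hrefl : ((Cent b).subgroupOf (Cent t)).index ≤ (K ⊓ Cent t).relIndex (Cent t) * n := by
    show (Cent b).relIndex (Cent t) ≤ _
    rw [← Subgroup.inf_relIndex_left]
    exact (relIndex_le_mul _ K _).trans (Nat.mul_le_mul_left _ hbound)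
  rcases hn with ⟨hn, hmod⟩ | ⟨hn, hmod⟩
  · have hn2 : 2 * n = 2 * j := by omega
    refine ⟨2 * j, Or.inr (by omega), by omega, hn2 ▸ hτd, ?_, ?_⟩
    · have hj0 : 0 < 2 * j := by omega
      refine Nat.eq_of_mul_eq_mul_left hj0 ?_
      rw [hn2] at hmul
      rw [hj, show 2 * (2 * j + 1) - 2 * j = 2 * j + 2 by omega]
      calc 2 * j * (2 * (K ⊓ Cent t).relIndex K) = 2 * (2 * j * (K ⊓ Cent t).relIndex K) := by ring
        _ = (2 * j + 1) * ((2 * j + 1) ^ 2 - 1) := by rw [hmul, hq, hj]
        _ = 2 * j * ((2 * j + 1) * (2 * j + 2)) := by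
          rw [show (2 * j + 1) ^ 2 - 1 = 2 * j * (2 * j + 2) by
            rw [Nat.sub_eq_iff_eq_add (Nat.one_le_pow _ _ (by omega))]; ring]
          ring
    · rw [show 2 * j / 2 = n by omega]
      exact hrefl
  · have hn2 : 2 * n = 2 * j + 2 := by omega
    refine ⟨2 * j + 2, Or.inl (by omega), by omega, hn2 ▸ hτd, ?_, ?_⟩
    · have hj0 : 0 < 2 * j + 2 := by omega
      refine Nat.eq_of_mul_eq_mul_left hj0 ?_
      rw [hn2] at hmul
      rw [hj, show 2 * (2 * j + 1) - (2 * j + 2) = 2 * j by omega]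
      calc (2 * j + 2) * (2 * (K ⊓ Cent t).relIndex K) = 2 * ((2 * j + 2) * (K ⊓ Cent t).relIndex K) := by
            ring
        _ = (2 * j + 1) * ((2 * j + 1) ^ 2 - 1) := by rw [hmul, hq, hj]
        _ = (2 * j + 2) * ((2 * j + 1) * (2 * j)) := by
          rw [show (2 * j + 1) ^ 2 - 1 = 2 * j * (2 * j + 2) by
            rw [Nat.sub_eq_iff_eq_add (Nat.one_le_pow _ _ (by omega))]; ring]
          ring
    · rw [show (2 * j + 2) / 2 = n by omega]
      exact hrefl

end Pin

end Cfsg.Agent.GW
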