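import Cfsg.Agent.Lib.GW.PartII.CompOneOrbit
import Cfsg.Agent.Lib.GW.PartII.CompPsl

/-!
# Component configuration, case I: a short orbit gives a plane

`OneLine.plane`: if `⟨y⟩` has at most `r - 2` conjugates under `Cent t`, it is the point of a `Plane`, all
its other conjugates under `Cent t` being commuting neighbours.
-/

set_option autoImplicit false
set_option linter.style.haveILetI false

namespace Cfsg.Agent.GW

open Subgroup CompLocal
open BSW (mem_cent)

universe u

variable {G : Type u} [Group G] [Finite G] {S : Sylow 2 G} {t : G}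

theorem OneLine.plane {b y τ : G} (l : OneLine t b y τ) (hyp : Hyp S t) (hk : ProperKnown G)
    (hM : IsCoatom (Cent t)) (hm : FixModel.{u})
    (hlt : (normalizer (zpowers y : Set G) ⊓ Cent t).relIndex (Cent t) + 2 ≤ orderOf y) :
    Plane t b y τ ∧
      (normalizer (zpowers y : Set G) ⊓ Cent t).relIndex (Cent t) - 1 ≤ (nbrs t y).ncard := by
  haveI := hyp.simple
  obtain ⟨hfix, -, -⟩ := l.omega_fixed hyp hk hM hm
  have h3 := (l.orbit_cases hyp hk hM hm).1
  haveI := Fact.mk l.prime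
  set Z := l.one.omega (orderOf y) with hZ
  set A := zpowers y ⊔ zpowers τ with hA
  have hyZ : y ∈ Z := ⟨l.mem_y.1, pow_orderOf_eq_one y⟩
  have hτZ : τ ∈ Z := ⟨l.mem_τ, l.order_τ ▸ pow_orderOf_eq_one τ⟩
  have hZA : Z ≤ A := fun z hz => by
    obtain ⟨i, hi, q, hq, hqb, rfl⟩ := l.decomp hyp hz
    exact mul_mem (mem_sup_right hi) (mem_sup_left (hfix q hq hqb))
  have hconj : ∀ {Y : Subgroup G}, Inc t y Y t →
      ∃ g ∈ Cent t, Y = zpowers (g * y * g⁻¹) ∧ g * y * g⁻¹ ∈ Z := by
    rintro Y ⟨g, rfl, hg⟩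
    have hgC : g ∈ Cent t := mem_cent.2 (mul_inv_eq_iff_eq_mul.1 hg.symm)
    exact ⟨g, hgC, MonoidHom.map_zpowers _ y, l.conj_mem_omega hgC hyZ⟩
  have hp : Pin t b y τ := l.one.pin l.mem_y l.ne_y l.mem_τ l.ne_τ l.inv_τ
  have hnorm : normalizer (Z : Set G) = Cent t := by
    refine (hM.le_iff.1 (l.one.cent_le_normalizer_omega _)).resolve_left fun e => ?_
    rcases (normalizer_eq_top_iff.1 e).eq_bot_or_eq_top with e' | e'
    · exact l.ne_y (mem_bot.1 (e' ▸ hyZ))
    · have h2 : Odd (Nat.card G) := by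
        rw [← card_top, ← e']
        exact (hyp.odd_oCore t).of_dvd_nat (card_dvd_of_le fun f hf => fitCore_le_oCore t hf.1)
      have := h2.of_dvd_nat (orderOf_dvd_natCard t)
      rw [hyp.orderT] at this
      exact absurd this (by decide)
  refine ⟨⟨hp, l.prime, l.order_τ, fun u hu hne hc huy => hp.noRefl hyp hk hM hm
    (l.order_τ ▸ l.prime) (by rw [l.order_τ]; omega) hu hne hc huy, ?_, ?_⟩, ?_⟩
  · intro Y hY hne x hxy hxY
    obtain ⟨g, -, hYe, hz⟩ := hconj hY
    obtain ⟨i, hi, q, hq, hqb, e⟩ := l.decomp hyp hz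
    obtain ⟨n, rfl⟩ := mem_zpowers_iff.1 (hfix q hq hqb)
    have hi1 : i ≠ 1 := fun h1 => by
      rw [h1, one_mul] at e
      refine hne (hYe.trans (eq_of_le_of_card_ge (zpowers_le.2 (e ▸ zpow_mem (mem_zpowers y) n)) ?_))
      rw [Nat.card_zpowers, Nat.card_zpowers, ← MulAut.conj_apply, MulEquiv.orderOf_eq]
    have hxi : Commute x i := by
      have h1 := hxY (g * y * g⁻¹) (hYe ▸ mem_zpowers _)
      rw [e] at h1
      have h2 := h1.mul_right ((hxy.zpow_right n).inv_right)
      rwa [mul_inv_cancel_right] at h2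
    have hgen : zpowers i = zpowers τ := by
      refine eq_of_le_of_card_ge (zpowers_le.2 hi) ?_
      have hd := Subgroup.orderOf_dvd_natCard _ hi
      rw [Nat.card_zpowers, l.order_τ] at hd
      rw [Nat.card_zpowers, Nat.card_zpowers, l.order_τ]
      exact ((Nat.dvd_prime l.prime).1 hd).resolve_left
        (fun e => hi1 (orderOf_eq_one_iff.1 e)) |>.ge
    obtain ⟨m, hm'⟩ := mem_zpowers_iff.1 (hgen.ge (mem_zpowers τ))
    have hxτ : Commute x τ := hm' ▸ hxi.zpow_right m
    refine ⟨hnorm ▸ centralizer_le_normalizer _ (mem_centralizer_iff.2 fun z hz => ?_), hxτ⟩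
    obtain ⟨j, hj, q', hq', hqb', rfl⟩ := l.decomp hyp hz
    obtain ⟨a, rfl⟩ := mem_zpowers_iff.1 hj
    obtain ⟨c, rfl⟩ := mem_zpowers_iff.1 (hfix q' hq' hqb')
    exact ((hxτ.zpow_right a).mul_right (hxy.zpow_right c)).symm.eq
  · rintro Y ⟨hY, -, -⟩
    obtain ⟨g, -, rfl, hz⟩ := hconj hY
    exact zpowers_le.2 (hZA hz)
  · set K := normalizer (zpowers y : Set G) with hK
    have hMC : (Set.range fun c : Cent t => (zpowers y).map (MulAut.conj (c : G)).toMonoidHom).ncard =
        (K ⊓ Cent t).relIndex (Cent t) := by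
      refine ncard_range_eq_index _ ((K ⊓ Cent t).subgroupOf (Cent t)) fun a c => ?_
      rw [mem_subgroupOf]
      have key : (zpowers y).map (MulAut.conj (a : G)).toMonoidHom =
          (zpowers y).map (MulAut.conj (c : G)).toMonoidHom ↔ ((a⁻¹ * c : Cent t) : G) ∈ K := by
        rw [hK, mem_normalizer_iff_map_conj_eq]
        show _ ↔ (zpowers y).map (MulAut.conj ((a : G)⁻¹ * c)).toMonoidHom = zpowers y
        rw [← map_conj_map_conj]
        constructor
        · intro e
          rw [← e, map_conj_map_conj, inv_mul_cancel, map_conj_one]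
        · intro e
          conv_lhs => rw [← e]
          rw [map_conj_map_conj, map_conj_map_conj, mul_inv_cancel, one_mul]
      exact key.trans ⟨fun h => ⟨h, (a⁻¹ * c).2⟩, fun h => h.1⟩
    rw [← hMC]
    refine (Set.pred_ncard_le_ncard_diff_singleton _ (zpowers y)).trans
      (Set.ncard_le_ncard ?_ (Set.toFinite _))
    rintro _ ⟨⟨c, rfl⟩, hne⟩
    refine ⟨⟨c, rfl, (mul_inv_eq_iff_eq_mul.2 (mem_cent.1 c.2)).symm⟩, hne, ?_⟩
    rintro _ ⟨a, ha, rfl⟩
    obtain ⟨n, rfl⟩ := mem_zpowers_iff.1 ha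
    exact l.one.abelian _ (l.conj_mem_omega c.2 (zpow_mem hyZ n)).1 y l.mem_y.1

end Cfsg.Agent.GW
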