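import Cfsg.Agent.Lib.GW.PartII.CompQuad

/-!
# The component configuration: unipotent groups of the layer normalised by the torus at `t`

* `Uni`: an element of order dividing `q` of the layer, inverted by `t`, whose centraliser in the layer
  is normalised by `τ`;
* `exists_uni`: two neighbours of `⟨y⟩` on two blocks, one of them `t`, with a common further neighbour
  give such an element centralising both ends.
-/

set_option autoImplicit false
set_option linter.unusedSectionVars false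
set_option linter.style.haveILetI false

namespace Cfsg.Agent.GW.CompQuad

open Subgroup
open BSW (mem_cent)
open scoped MatrixGroups

universe u

variable {G : Type u} [Group G] [Finite G] {F : Type} [Field F] [Fintype F]

section Layer

variable {L : Subgroup G} (e : L ≃* PSL(2, F))

include e

theorem commute_image {a c : G} (ha : a ∈ L) (hc : c ∈ L) :
    Commute (e ⟨a, ha⟩) (e ⟨c, hc⟩) ↔ Commute a c := by
  refine ⟨fun h => ?_, fun h => (show Commute (⟨a, ha⟩ : L) ⟨c, hc⟩ from Subtype.ext h.eq).map e⟩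
  have := h.map e.symm
  rw [e.symm_apply_apply, e.symm_apply_apply] at this
  exact congrArg Subtype.val this.eq

theorem image_ne_one {a : G} (ha : a ∈ L) (h1 : a ≠ 1) : e ⟨a, ha⟩ ≠ 1 := fun h =>
  h1 (congrArg Subtype.val ((map_eq_one_iff e e.injective).1 h) :)

theorem conj_image {a c : G} (ha : a ∈ L) (hc : c ∈ L) :
    e ⟨a * c * a⁻¹, mul_mem (mul_mem ha hc) (inv_mem ha)⟩ = e ⟨a, ha⟩ * e ⟨c, hc⟩ * (e ⟨a, ha⟩)⁻¹ := by
  rw [← map_inv, ← map_mul, ← map_mul]
  rfl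

theorem commute_of_commute (h2 : (2 : F) ≠ 0) {x s v : G} (hx : x ∈ L) (hs : s ∈ L) (hv : v ∈ L)
    (hx1 : x ≠ 1) (hxo : Odd (orderOf x)) (hso : orderOf s = 2) (hc : Commute s x) (hvx : Commute v x) :
    Commute s v :=
  (commute_image e hs hv).1 (psl_commute_of_commute h2 (image_ne_one e hx hx1)
    (by rwa [orderOf_image e]) (by rwa [orderOf_image e]) ((commute_image e hs hx).2 hc)
    ((commute_image e hv hx).2 hvx))

theorem uni_props (h2 : (2 : F) ≠ 0) {v : G} (hv : v ∈ L) (h1 : v ≠ 1) (hd : orderOf v ∣ Fintype.card F) :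
    Nat.card (L ⊓ Cent v : Subgroup G) = Fintype.card F ∧
    (∀ u ∈ L, Commute u v → orderOf u ∣ Fintype.card F) ∧
    (∀ u ∈ L, ∀ u' ∈ L, u ≠ 1 → Commute u v → (Commute u' u ↔ Commute u' v)) ∧
    (∀ u ∈ L, orderOf u = 2 → ¬ Commute u v) := by
  obtain ⟨hcard, hdvd, hiff, hno⟩ := psl_uni h2 (image_ne_one e hv h1) (by rwa [orderOf_image e])
  refine ⟨?_, fun u hu huv => ?_, fun u hu u' hu' hu1 huv => ?_, fun u hu huo huv => ?_⟩
  · rw [← hcard, ← Nat.card_congr (subgroupOfEquivOfLe (inf_le_left : L ⊓ Cent v ≤ L)).toEquiv,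
      ← card_map_of_injective (f := e.toMonoidHom) e.injective]
    congr 2
    ext z
    obtain ⟨⟨z, hz⟩, rfl⟩ := e.surjective z
    rw [mem_centralizer_singleton_iff]
    constructor
    · rintro ⟨⟨w, hw⟩, hwm, he⟩
      obtain rfl : w = z := congrArg Subtype.val (e.injective he)
      exact ((commute_image e hz hv).2 (mem_cent.1 hwm.2)).eq
    · intro h
      exact ⟨⟨z, hz⟩, ⟨hz, mem_cent.2 ((commute_image e hz hv).1 h).eq⟩, rfl⟩
  · have := hdvd _ ((commute_image e hu hv).2 huv)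
    rwa [orderOf_image e] at this
  · have := hiff _ (e ⟨u', hu'⟩) (image_ne_one e hu hu1) ((commute_image e hu hv).2 huv)
    rwa [commute_image e, commute_image e] at this
  · exact hno _ (by rwa [orderOf_image e]) ((commute_image e hu hv).2 huv)

theorem commutator_props (h2 : (2 : F) ≠ 0) {K : Subgroup G} (hKL : K ≤ L) (hK : Odd (Nat.card K))
    {x x' s : G} (hx : x ∈ K) (hx' : x' ∈ K) (hs : s ∈ L) (hso : orderOf s = 2) (hsx : Commute s x)
    (hne : ¬ Commute x x') :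
    orderOf (x * x' * x⁻¹ * x'⁻¹) ∣ Fintype.card F ∧ x * x' * x⁻¹ * x'⁻¹ ≠ 1 ∧
    s * (x * x' * x⁻¹ * x'⁻¹) * s⁻¹ = (x * x' * x⁻¹ * x'⁻¹)⁻¹ ∧
    ∀ g ∈ L, Odd (orderOf g) → Commute g s → ∀ u ∈ L, Commute u (x * x' * x⁻¹ * x'⁻¹) →
      Commute (g * u * g⁻¹) (x * x' * x⁻¹ * x'⁻¹) := by
  have hK' : Odd (Nat.card ((K.subgroupOf L).map e.toMonoidHom)) := by
    rw [card_map_of_injective e.injective, Nat.card_congr (subgroupOfEquivOfLe hKL).toEquiv]
    exact hK
  have hvL : x * x' * x⁻¹ * x'⁻¹ ∈ L :=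
    mul_mem (mul_mem (mul_mem (hKL hx) (hKL hx')) (inv_mem (hKL hx))) (inv_mem (hKL hx'))
  have hev : e ⟨_, hvL⟩ = e ⟨x, hKL hx⟩ * e ⟨x', hKL hx'⟩ * (e ⟨x, hKL hx⟩)⁻¹ * (e ⟨x', hKL hx'⟩)⁻¹ := by
    rw [← map_inv, ← map_inv, ← map_mul, ← map_mul, ← map_mul]
    rfl
  obtain ⟨hd, h1, hinv, hnorm⟩ := psl_commutator h2 hK' (x := e ⟨x, hKL hx⟩) (x' := e ⟨x', hKL hx'⟩)
    (s := e ⟨s, hs⟩) ⟨_, hx, rfl⟩ ⟨_, hx', rfl⟩ (by rwa [orderOf_image e])
    ((commute_image e hs (hKL hx)).2 hsx) (fun h => hne ((commute_image e _ _).1 h))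
  rw [← hev] at hd h1 hinv hnorm
  refine ⟨by rwa [orderOf_image e] at hd, fun h => h1 ?_, ?_, fun g hg hgo hgs u hu huv => ?_⟩
  · rw [show (⟨_, hvL⟩ : L) = 1 from Subtype.ext h, map_one]
  · rw [← conj_image e hs hvL, ← map_inv] at hinv
    exact congrArg Subtype.val (e.injective hinv)
  · have := hnorm _ (by rwa [orderOf_image e]) ((commute_image e hg hs).2 hgs) _
      ((commute_image e hu hvL).2 huv)
    rwa [← conj_image e hg hu, commute_image e] at this

theorem uni_pair (h2 : (2 : F) ≠ 0) {τ b s v v' : G} (hτL : τ ∈ L) (hbL : b ∈ L) (hsL : s ∈ L)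
    (hvL : v ∈ L) (hv'L : v' ∈ L) (hτ : (orderOf τ).Prime) (hτ2 : orderOf τ ≠ 2) (hb : orderOf b = 2)
    (hinv : b * τ * b⁻¹ = τ⁻¹) (hs : orderOf s = 2) (hsτ : Commute s τ) (hv : v ≠ 1)
    (hvd : orderOf v ∣ Fintype.card F) (hvτ : Commute (τ * v * τ⁻¹) v) (hv' : v' ≠ 1)
    (hv'd : orderOf v' ∣ Fintype.card F) (hv'τ : Commute (τ * v' * τ⁻¹) v') :
    Commute v v' ∨ Commute (b * v * b⁻¹) v' := by
  have h := psl_uni_pair h2 (τ := e ⟨τ, hτL⟩) (b := e ⟨b, hbL⟩) (v := e ⟨v, hvL⟩) (v' := e ⟨v', hv'L⟩)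
    (by rwa [orderOf_image e]) (by rwa [orderOf_image e]) (by rwa [orderOf_image e])
    (by rw [← conj_image e hbL hτL, ← map_inv]; exact congrArg e (Subtype.ext hinv))
    (s := e ⟨s, hsL⟩) (by rwa [orderOf_image e]) ((commute_image e hsL hτL).2 hsτ)
    (image_ne_one e hvL hv) (by rwa [orderOf_image e])
    (by rw [← conj_image e hτL hvL, commute_image e]; exact hvτ)
    (image_ne_one e hv'L hv') (by rwa [orderOf_image e])
    (by rw [← conj_image e hτL hv'L, commute_image e]; exact hv'τ)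
  rcases h with h | h
  · exact Or.inl ((commute_image e hv'L hvL).1 ((h _).1 (Commute.refl _))).symm
  · have h' := (h _).1 (Commute.refl _)
    rw [← conj_image e hbL hvL, commute_image e] at h'
    exact Or.inr h'.symm

theorem uni_of_inverted (h2 : (2 : F) ≠ 0) {a s τ : G} (haL : a ∈ L) (hsL : s ∈ L) (hτL : τ ∈ L)
    (ha : a ≠ 1) (hao : Odd (orderOf a)) (hs : orderOf s = 2) (hinv : s * a * s⁻¹ = a⁻¹) (hτ : τ ≠ 1)
    (hτo : Odd (orderOf τ)) (hsτ : Commute s τ) (hc : Commute (τ * a * τ⁻¹) a) :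
    orderOf a ∣ Fintype.card F := by
  have := psl_uni_of_inverted h2 (a := e ⟨a, haL⟩) (s := e ⟨s, hsL⟩) (τ := e ⟨τ, hτL⟩)
    (image_ne_one e haL ha) (by rwa [orderOf_image e]) (by rwa [orderOf_image e])
    (by rw [← conj_image e hsL haL, ← map_inv]; exact congrArg e (Subtype.ext hinv))
    (image_ne_one e hτL hτ) (by rwa [orderOf_image e]) ((commute_image e hsL hτL).2 hsτ)
    (by rw [← conj_image e hτL haL, commute_image e]; exact hc)
  rwa [orderOf_image e] at this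

end Layer

theorem commute_conj {a c : G} (g : G) (h : Commute a c) : Commute (g * a * g⁻¹) (g * c * g⁻¹) :=
  h.map (MulAut.conj g)

variable {t b y τ : G}

theorem adj_conj {A B : Subgroup G} (g : G) (h : Adj t y A B) : Adj t y (cj g A) (cj g B) := by
  obtain ⟨hne, hc, s, hs, hs'⟩ := h
  refine ⟨fun h' => hne ?_, ?_, _, inc_conj g hs, inc_conj g hs'⟩
  · rw [← cj_inv g A, h', cj_inv]
  · rintro _ ⟨a, ha, rfl⟩ _ ⟨c, hc', rfl⟩
    exact (hc a ha c hc').map (MulAut.conj g)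

theorem adj_symm {A B : Subgroup G} (h : Adj t y A B) : Adj t y B A := by
  obtain ⟨hne, hc, s, hs, hs'⟩ := h
  exact ⟨hne.symm, fun a ha c hc' => (hc c hc' a ha).symm, s, hs', hs⟩

/-- An element of order dividing `q` of the layer, inverted by `t`, with centraliser normalised by `τ`. -/
structure Uni (t y τ : G) (F : Type) [Field F] [Fintype F] (v : G) : Prop where
  mem : v ∈ layerN y
  ne : v ≠ 1
  dvd : orderOf v ∣ Fintype.card F
  inv : t * v * t⁻¹ = v⁻¹
  fix : ∀ u ∈ layerN y, Commute u v → Commute (τ * u * τ⁻¹) v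

namespace Loc

variable (c : Loc t y τ F) (e : layerN y ≃* PSL(2, F))

include c

theorem τ_ne : τ ≠ 1 := fun h => c.prime.ne_one (by rw [← c.order_τ, h, orderOf_one])

theorem odd_τ : Odd (orderOf τ) := c.order_τ ▸ c.odd

theorem odd_q : Odd (Fintype.card F) := PSL2.odd_card_iff.2 c.two

theorem y_mem_cent {l : G} (hl : l ∈ layerN y) : Commute y l := c.comm_layer l hl

include e

/-- The prime of `y` does not divide `q`. -/
theorem coprime_q : (orderOf y).Coprime (Fintype.card F) := by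
  rw [c.prime.coprime_iff_not_dvd, ← c.order_τ]
  intro h
  exact (uni_props e c.two c.mem_τ c.τ_ne h).2.2.2 t c.mem_t c.order_t c.comm_τ.symm

/-- An element of odd order commuting with `y` and inverted by `t` lies in the layer. -/
theorem mem_of_inverted {g : G} (hgy : Commute g y) (hgo : Odd (orderOf g))
    (hinv : t * g * t⁻¹ = g⁻¹) : g ∈ layerN y := by
  refine CompInverted.mem_of_sq_mem hgo ?_
  have h1 : g * t * g⁻¹ * t⁻¹ = g * g := by
    rw [show g * t * g⁻¹ * t⁻¹ = g * (t * g * t⁻¹)⁻¹ by group, hinv, inv_inv]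
  exact h1 ▸ mul_mem (layerN_conj (mem_normalizer_zpowers_of_commute hgy) c.mem_t) (inv_mem c.mem_t)

/-- The layer is closed under conjugation by the elements commuting with `y`. -/
theorem conj_mem {g l : G} (hgy : Commute g y) (hl : l ∈ layerN y) : g * l * g⁻¹ ∈ layerN y :=
  layerN_conj (mem_normalizer_zpowers_of_commute hgy) hl

/-- A common neighbour is determined by its block. -/
theorem eq_of_block (hmeet : ∀ Y : Subgroup G, Inc t y Y t → Y ≠ zpowers y →
      ∀ x : G, Commute x y → (∀ a ∈ Y, Commute x a) → x ∈ Cent t ∧ Commute x τ)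
    {Y₂ : Subgroup G} (hno : ∀ s, Inc t y (zpowers y) s → ¬ Inc t y Y₂ s) {Y₁ Y₁' : Subgroup G}
    (h1 : Adj t y Y₁ Y₂) (h1' : Adj t y Y₁' Y₂) {s : G} (hs : Inc t y (zpowers y) s)
    (hs1 : Inc t y Y₁ s) (hs1' : Inc t y Y₁' s) : Y₁ = Y₁' := by
  by_contra hne
  refine hno s hs ?_
  obtain ⟨k, hk, rfl⟩ := hs1
  change Y₁ = cj k (zpowers y) at hk
  have hadj : Adj t y (zpowers y) (cj k⁻¹ Y₂) := by
    have := adj_conj k⁻¹ h1
    rwa [hk, cj_inv] at this
  have hYt : Inc t y (cj k⁻¹ Y₁') t := by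
    have := inc_conj k⁻¹ hs1'
    rwa [show k⁻¹ * (k * t * k⁻¹) * k⁻¹⁻¹ = t by group] at this
  have hYne : cj k⁻¹ Y₁' ≠ zpowers y := fun h => hne (by rw [hk, ← h, cj_inv'])
  obtain ⟨hne', hc, s₂, hs2, hs2'⟩ := hadj
  obtain ⟨w, a, x, hw, -, ha, hx, hxo, hsx, hwax⟩ := c.exists_proj e hne' hc hs2 hs2'
  obtain ⟨hs2L, hs2o⟩ := (c.inc_self e).1 hs2
  have hwy : Commute w y := (hc y (mem_zpowers y) w hw).symm
  have hwY : ∀ a' ∈ cj k⁻¹ Y₁', Commute w a' := by
    rintro _ ⟨a', ha', rfl⟩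
    obtain ⟨w', hw', rfl⟩ := hw
    exact ((h1'.2.1 a' ha' w' hw').symm).map (MulAut.conj k⁻¹)
  obtain ⟨hwt, -⟩ := hmeet _ hYt hYne w hwy hwY
  have hat : Commute a t := by
    obtain ⟨i, rfl⟩ := mem_zpowers_iff.1 ha
    exact (c.comm_layer t c.mem_t).zpow_left i
  have hxt : Commute t x := by
    rw [show x = a⁻¹ * w by rw [hwax, inv_mul_cancel_left]]
    exact (hat.inv_left.mul_left (mem_cent.1 hwt)).symm
  have hst : s₂ = t := unique_involution e c.two hx
    (fun h => c.prime.ne_one (by rw [← hxo, h, orderOf_one])) (hxo ▸ c.odd) hs2L c.mem_t hs2o c.order_t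
    hsx hxt
  have := inc_conj k (hst ▸ hs2')
  rwa [cj_inv'] at this

/-- Two neighbours on different blocks, one of them `t`, give a unipotent element centralising both
ends. -/
theorem exists_uni {h : G} {Y₁ Y₁' : Subgroup G}
    (hno : ∀ s, Inc t y (zpowers y) s → ¬ Inc t y (cj h (zpowers y)) s)
    (hY : Adj t y (zpowers y) Y₁) (hY₂ : Adj t y Y₁ (cj h (zpowers y)))
    (hY' : Adj t y (zpowers y) Y₁') (hY₂' : Adj t y Y₁' (cj h (zpowers y)))
    (hYt : Inc t y Y₁ t) {s : G} (hs : Inc t y (zpowers y) s) (hY's : Inc t y Y₁' s) (hst : s ≠ t) :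
    ∃ v, Uni t y τ F v ∧ Commute v (h * y * h⁻¹) := by
  have hYt0 : Inc t y (zpowers y) t := (c.inc_self e).2 ⟨c.mem_t, c.order_t⟩
  obtain ⟨w, a, x, hw, -, ha, hx, hxo, htx, hwax⟩ := c.exists_proj e hY.1 hY.2.1 hYt0 hYt
  obtain ⟨w', a', x', hw', -, ha', hx', hxo', hsx', hwax'⟩ := c.exists_proj e hY'.1 hY'.2.1 hs hY's
  obtain ⟨hsL, hso⟩ := (c.inc_self e).1 hs
  set W := (zpowers y ⊔ layerN y) ⊓ (cj h (zpowers y) ⊔ cj h (layerN y))
  set K := (W ⊔ zpowers y) ⊓ layerN y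
  have hK : Odd (Nat.card K) := c.odd_K e hno
  have hxK : x ∈ K := ⟨by
    rw [show x = a⁻¹ * w by rw [hwax, inv_mul_cancel_left]]
    exact mul_mem (mem_sup_right (inv_mem ha))
      (mem_sup_left ⟨c.le_sup e hY hw, c.le_sup_conj e hY₂ hw⟩), hx⟩
  have hxK' : x' ∈ K := ⟨by
    rw [show x' = a'⁻¹ * w' by rw [hwax', inv_mul_cancel_left]]
    exact mul_mem (mem_sup_right (inv_mem ha'))
      (mem_sup_left ⟨c.le_sup e hY' hw', c.le_sup_conj e hY₂' hw'⟩), hx'⟩
  have hx1 : x ≠ 1 := fun h0 => c.prime.ne_one (by rw [← hxo, h0, orderOf_one])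
  have hx1' : x' ≠ 1 := fun h0 => c.prime.ne_one (by rw [← hxo', h0, orderOf_one])
  have hne : ¬ Commute x x' := fun hcc => hst (unique_involution e c.two hx' hx1' (hxo' ▸ c.odd) hsL
    c.mem_t hso c.order_t hsx' (commute_of_commute e c.two hx c.mem_t hx' hx1 (hxo ▸ c.odd) c.order_t htx
      hcc.symm))
  obtain ⟨hd, hv1, hinv, hnorm⟩ := commutator_props e c.two inf_le_right hK hxK hxK' c.mem_t c.order_t
    htx hne
  refine ⟨_, ⟨mul_mem (mul_mem (mul_mem hx hx') (inv_mem hx)) (inv_mem hx'), hv1, hd, hinv,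
    fun u hu huv => hnorm τ c.mem_τ c.odd_τ c.comm_τ u hu huv⟩, ?_⟩
  have hcy : ∀ {a' z : G}, a' ∈ zpowers y → z ∈ layerN y → Commute a' z := fun {a' z} ha' hz => by
    obtain ⟨i, rfl⟩ := mem_zpowers_iff.1 ha'
    exact (c.comm_layer z hz).zpow_left i
  have e1 : w * w' * w⁻¹ * w'⁻¹ = x * x' * x⁻¹ * x'⁻¹ := by
    have haa : Commute a a' := by
      obtain ⟨i, rfl⟩ := mem_zpowers_iff.1 ha
      obtain ⟨j, rfl⟩ := mem_zpowers_iff.1 ha'
      exact Commute.zpow_zpow_self y i j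
    calc w * w' * w⁻¹ * w'⁻¹ = a * (x * a') * x' * x⁻¹ * a⁻¹ * x'⁻¹ * a'⁻¹ := by rw [hwax, hwax']; group
      _ = a * a' * (x * x' * x⁻¹) * a⁻¹ * x'⁻¹ * a'⁻¹ := by rw [← (hcy ha' hx).eq]; group
      _ = a * a' * a⁻¹ * (x * x' * x⁻¹ * x'⁻¹) * a'⁻¹ := by
        rw [mul_assoc (a * a') (x * x' * x⁻¹) a⁻¹,
          ← ((hcy ha (mul_mem (mul_mem hx hx') (inv_mem hx))).inv_left).eq]
        group
      _ = a' * (x * x' * x⁻¹ * x'⁻¹) * a'⁻¹ := by rw [haa.eq, mul_inv_cancel_right]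
      _ = _ := by
        rw [(hcy ha' (mul_mem (mul_mem (mul_mem hx hx') (inv_mem hx)) (inv_mem hx'))).eq,
          mul_inv_cancel_right]
  rw [← e1]
  have c1 : Commute w (h * y * h⁻¹) := hY₂.2.1 w hw _ (conj_mem_cj (mem_zpowers y))
  have c2 : Commute w' (h * y * h⁻¹) := hY₂'.2.1 w' hw' _ (conj_mem_cj (mem_zpowers y))
  exact ((c1.mul_left c2).mul_left c1.inv_left).mul_left c2.inv_left

end Loc

end Cfsg.Agent.GW.CompQuad
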