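import Cfsg.Agent.Lib.GW.PartII.Setting
import Cfsg.Agent.Lib.GW.Bender
import Cfsg.Agent.Lib.GW.Cores
import Cfsg.Agent.Lib.Coprime.Commutator

/-!
# The Fitting subgroups `fitCore` and the cycles of four groups

* `fitCore x` is normalised by `Cent x`, lies in `F(Cent x)`, is moved by conjugation;
* `exists_cycles`: every four group has an element permuting its involutions cyclically;
* `commute_of_inverted`: an inverted element of odd order coprime to `R` that fixes the fixed
  points of the inverting involution on `R` centralises `R`;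
* `inverts_of_inf_eq_bot`: a fixed-point-free involution inverts.
-/

set_option autoImplicit false
set_option linter.style.haveILetI false
set_option linter.unusedSectionVars false
set_option linter.unusedTactic false
set_option linter.unreachableTactic false

namespace Cfsg.Agent.GW

open Subgroup Cfsg.Agent.S1856 Cfsg.Agent.S1312
open BSW (sq_of_order inv_of_order ne_one_of_order order_of_sq mem_cent)
open BSW.DihedralTI (Gens)
open scoped Pointwise commutatorElement

universe u

variable {G : Type u} [Group G] [Finite G] {S : Sylow 2 G} {t : G}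

/-- A fixed-point-free involution inverts. -/
theorem inverts_of_inf_eq_bot {K : Subgroup G} {b : G} (hb : orderOf b = 2)
    (hbK : b ∈ normalizer (K : Set G)) (h : K ⊓ Cent b = ⊥) : ∀ x ∈ K, b * x * b⁻¹ = x⁻¹ := by
  intro x hx
  let φ : K →* K :=
    { toFun := fun y => ⟨b * y * b⁻¹, (mem_normalizer_iff.1 hbK y).1 y.2⟩
      map_one' := Subtype.ext (by simp)
      map_mul' := fun y y' => Subtype.ext (by simp [mul_assoc]) }
  have hinv : Function.Involutive φ := fun y => Subtype.ext (by
    show b * (b * (y : G) * b⁻¹) * b⁻¹ = y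
    rw [show b * (b * (y : G) * b⁻¹) * b⁻¹ = b * b * y * (b * b)⁻¹ by group, sq_of_order hb]
    simp)
  have hfpf : MonoidHom.FixedPointFree φ := fun y hy => Subtype.ext <| by
    have h1 : (y : G) ∈ K ⊓ Cent b :=
      ⟨y.2, mem_cent.2 (mul_inv_eq_iff_eq_mul.1 (congrArg Subtype.val hy)).symm⟩
    rwa [h, mem_bot] at h1
  exact congrArg Subtype.val (congrFun (hfpf.coe_eq_inv_of_involutive hinv) ⟨x, hx⟩)

/-- An element of odd order prime to `|R|`, inverted by the involution `w` and centralising the
fixed points of `w` on the odd group `R`, centralises `R`. -/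
theorem commute_of_inverted {R : Subgroup G} (hodd : Odd (Nat.card R)) {x w : G}
    (hw : orderOf w = 2) (hwR : w ∈ normalizer (R : Set G)) (hxR : x ∈ normalizer (R : Set G))
    (hxo : Odd (orderOf x)) (hcop : (orderOf x).Coprime (Nat.card R)) (hinv : w * x * w⁻¹ = x⁻¹)
    (h : R ⊓ Cent w ≤ Cent x) : R ≤ Cent x := by
  induction hn : Nat.card R using Nat.strong_induction_on generalizing R with
  | _ n ih =>
  by_cases hR : R = ⊥
  · rw [hR]; exact bot_le
  haveI : Group.IsSolvable R := S0205.result hodd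
  haveI := (nontrivial_iff_ne_bot R).2 hR
  set X := zpowers x with hX
  have hXR : X ≤ normalizer (R : Set G) := zpowers_le.2 hxR
  have hcopX : (Nat.card X).Coprime (Nat.card R) := by rwa [hX, Nat.card_zpowers]
  have hWR : zpowers w ≤ normalizer (R : Set G) := zpowers_le.2 hwR
  set D := (commutator R).map R.subtype with hD
  have hDR : D ≤ R := map_subtype_le _
  have hDlt : D < R := by
    refine lt_of_le_of_ne hDR fun he => ?_
    refine (Group.IsSolvable.commutator_lt_top_of_nontrivial R).ne ?_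
    refine map_injective R.subtype_injective ?_
    rw [← hD, he, ← MonoidHom.range_eq_map, range_subtype]
  have hND : normalizer (R : Set G) ≤ normalizer (D : Set G) :=
    Components.normalizer_le_normalizer_map_of_characteristic R _
  -- `x` centralises `R` modulo its derived subgroup
  let conjR : normalizer (R : Set G) → (R →* R) := fun g => (R.normalizerMonoidHom g).toMonoidHom
  let φ : R →* R := conjR ⟨x, hxR⟩
  let ψ : R →* R := conjR ⟨w, hwR⟩
  have hφv : ∀ r : R, (φ r : G) = x * r * x⁻¹ := fun r => rfl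
  have hψv : ∀ r : R, (ψ r : G) = w * r * w⁻¹ := fun r => rfl
  set X' := Abelianization.map φ with hX'
  set W' := Abelianization.map ψ with hW'
  have hXof : ∀ r : R, X' (Abelianization.of r) = Abelianization.of (φ r) :=
    fun r => Abelianization.map_of φ r
  have hWof : ∀ r : R, W' (Abelianization.of r) = Abelianization.of (ψ r) :=
    fun r => Abelianization.map_of ψ r
  have hWW : ∀ v, W' (W' v) = v := by
    intro v
    obtain ⟨r, rfl⟩ := QuotientGroup.mk_surjective v
    show W' (W' (Abelianization.of r)) = Abelianization.of r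
    rw [hWof, hWof]
    congr 1
    refine Subtype.ext ?_
    rw [hψv, hψv, show w * (w * (r : G) * w⁻¹) * w⁻¹ = w * w * r * (w * w)⁻¹ by group, sq_of_order hw]
    simp
  have hXWX : ∀ v, X' (W' (X' v)) = W' v := by
    intro v
    obtain ⟨r, rfl⟩ := QuotientGroup.mk_surjective v
    show X' (W' (X' (Abelianization.of r))) = W' (Abelianization.of r)
    rw [hXof, hWof, hXof, hWof]
    congr 1
    refine Subtype.ext ?_
    rw [hφv, hψv, hφv, hψv]
    have e : w * x = x⁻¹ * w := mul_inv_eq_iff_eq_mul.1 hinv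
    calc x * (w * (x * (r : G) * x⁻¹) * w⁻¹) * x⁻¹
        = x * ((w * x) * r * (w * x)⁻¹) * x⁻¹ := by group
      _ = w * r * w⁻¹ := by rw [e]; group
  -- fixed points of `w` modulo `D` come from fixed points
  have hfix : ∀ v, W' v = v → X' v = v := by
    intro v hv
    obtain ⟨r, rfl⟩ := QuotientGroup.mk_surjective v
    change W' (Abelianization.of r) = Abelianization.of r at hv
    show X' (Abelianization.of r) = Abelianization.of r
    rw [hWof] at hv
    have hD' : ((r⁻¹ * ψ r : R) : G) ∈ D := ⟨_, QuotientGroup.eq.1 hv.symm, rfl⟩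
    obtain ⟨d, hd, hc⟩ := Coprime.exists_mul_mem_centralizer (A := zpowers w) (N := D) (k := (r : G))
      (hWR.trans hND) (by
        rw [Nat.card_zpowers, hw]
        exact Nat.coprime_two_left.2 (hodd.of_dvd_nat (card_dvd_of_le hDR)))
      (Or.inl (Group.isSolvable_of_comm fun y z => mul_comm' y z)) (fun c hc => by
        obtain ⟨i, rfl⟩ := mem_zpowers_iff.1 hc
        rw [← zpow_mod_orderOf, hw]
        rcases Int.emod_two_eq_zero_or_one i with e | e <;>
          rw [show ((2 : ℕ) : ℤ) = 2 from rfl, e]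
        · rw [zpow_zero]; simpa using D.one_mem
        · rw [zpow_one]; simpa [mul_assoc, hψv] using hD')
    obtain ⟨d₀, hd₀, rfl⟩ := hd
    have hrw : (r : G) * (d₀ : G) ∈ R ⊓ Cent w :=
      ⟨R.mul_mem r.2 d₀.2, mem_centralizer_singleton_iff.2
        (mem_centralizer_iff.1 hc w (mem_zpowers w)).symm⟩
    have hxc := mem_cent.1 (h hrw)
    have hone : Abelianization.of d₀ = 1 := (QuotientGroup.eq_one_iff d₀).2 hd₀
    rw [show Abelianization.of r = Abelianization.of (r * d₀) by rw [map_mul, hone, mul_one]]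
    rw [hXof]
    congr 1
    refine Subtype.ext ?_
    rw [hφv]
    exact mul_inv_eq_iff_eq_mul.2 hxc.symm
  have hXit : ∀ (i : ℕ) (r : R), X'^[i] (Abelianization.of r) = Abelianization.of (φ^[i] r) := by
    intro i r
    induction i with
    | zero => rfl
    | succ i hi => rw [Function.iterate_succ_apply', Function.iterate_succ_apply', hi, hXof]
  have hφit : ∀ (i : ℕ) (r : R), (φ^[i] r : G) = x ^ i * r * (x ^ i)⁻¹ := by
    intro i r
    induction i with
    | zero => simp
    | succ i hi => rw [Function.iterate_succ_apply', hφv, hi, pow_succ']; group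
  have hXn : ∀ v, X'^[orderOf x] v = v := by
    intro v
    obtain ⟨r, rfl⟩ := QuotientGroup.mk_surjective v
    show X'^[orderOf x] (Abelianization.of r) = Abelianization.of r
    rw [hXit]
    congr 1
    exact Subtype.ext (by rw [hφit, pow_orderOf_eq_one]; simp)
  have htriv : ∀ v, X' v = v := by
    intro v
    set a := X' v * v⁻¹ with ha
    have hw1 : W' (X' v * W' (X' v)) = X' v * W' (X' v) := by rw [map_mul, hWW, mul_comm]
    have hu1 : W' (v * W' v) = v * W' v := by rw [map_mul, hWW, mul_comm]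
    have e1 := hfix _ hw1
    have e2 := hfix _ hu1
    rw [map_mul, hXWX] at e1
    rw [map_mul] at e2
    -- `X a = W a`
    have hXa : X' a = W' a := by
      rw [ha, map_mul, map_mul, map_inv, map_inv, ← div_eq_mul_inv, ← div_eq_mul_inv,
        div_eq_div_iff_mul_eq_mul, e1, mul_comm]
    have e3 := hfix (a * W' a) (by rw [map_mul, hWW, mul_comm])
    rw [← hXa, map_mul, mul_comm a] at e3
    have hXXa : X' (X' a) = a := by
      have := e3
      rwa [mul_left_cancel_iff] at this
    have hXa1 : X' a = a := by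
      obtain ⟨j, hj⟩ := hxo
      have h2 : ∀ i : ℕ, X'^[2 * i] a = a := fun i => by
        induction i with
        | zero => rfl
        | succ i hi =>
          rw [show 2 * (i + 1) = (2 * i + 1) + 1 by ring, Function.iterate_succ_apply',
            Function.iterate_succ_apply', hi, hXXa]
      have := hXn a
      rw [hj] at this
      change X'^[(2 * j).succ] a = a at this
      rw [Function.iterate_succ_apply', h2] at this
      exact this
    have hit : ∀ i : ℕ, X'^[i] v = v * a ^ i := by
      intro i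
      induction i with
      | zero => simp
      | succ i hi =>
        rw [Function.iterate_succ_apply', hi, map_mul, map_pow, hXa1, pow_succ', ← mul_assoc,
          ha, mul_comm (X' v) v⁻¹, ← mul_assoc, mul_inv_cancel, one_mul]
    have h1 : a ^ orderOf x = 1 := mul_eq_left.1 ((hit _).symm.trans (hXn v))
    have h2 : orderOf a ∣ Nat.card R :=
      (orderOf_dvd_natCard a).trans (card_dvd_of_surjective Abelianization.of QuotientGroup.mk_surjective)
    have h3 : a = 1 := orderOf_eq_one_iff.1
      (Nat.eq_one_of_dvd_coprimes hcop (orderOf_dvd_of_pow_eq_one h1) h2)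
    exact mul_inv_eq_one.1 h3
  -- descend to `[R, X]`
  have hRX : ⁅R, X⁆ ≤ D := by
    refine commutator_le.2 fun r hr c hc => ?_
    obtain ⟨i, rfl⟩ : ∃ i : ℕ, x ^ i = c := mem_powers_iff_mem_zpowers.2 hc
    have h1 : Abelianization.of (φ^[i] ⟨r, hr⟩) = Abelianization.of (⟨r, hr⟩ : R) := by
      rw [← hXit]
      exact Function.iterate_fixed (htriv _) i
    have h2 : ((⟨r, hr⟩ : R) * (φ^[i] ⟨r, hr⟩)⁻¹ : R) ∈ commutator R := by
      rw [← QuotientGroup.eq_one_iff]
      show Abelianization.of ((⟨r, hr⟩ : R) * (φ^[i] ⟨r, hr⟩)⁻¹) = 1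
      rw [map_mul, map_inv, h1, mul_inv_cancel]
    refine ⟨_, h2, ?_⟩
    show r * ((φ^[i] ⟨r, hr⟩ : R) : G)⁻¹ = _
    rw [hφit, commutatorElement_def]
    group
  have hlt : Nat.card (⁅R, X⁆ : Subgroup G) < n := by
    rw [← hn]
    by_contra hge
    exact (lt_of_le_of_lt hRX hDlt).ne
      (Subgroup.eq_of_le_of_card_ge (lt_of_le_of_lt hRX hDlt).le (not_lt.1 hge))
  have hle : ⁅R, X⁆ ≤ R := hRX.trans hDR
  have hn1 : w ∈ normalizer ((⁅R, X⁆ : Subgroup G) : Set G) := by
    refine Coprime.mem_normalizer_of_conj_smul_eq ?_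
    show Subgroup.map (MulAut.conj w).toMonoidHom ⁅R, X⁆ = _
    rw [map_commutator]
    congr 1
    · exact Coprime.conj_smul_eq_self_of_mem hwR
    · rw [hX, MonoidHom.map_zpowers]
      show zpowers (w * x * w⁻¹) = _
      rw [hinv, zpowers_inv]
  have hX2 : ⁅R, X⁆ ≤ Cent x := ih _ hlt (hodd.of_dvd_nat (card_dvd_of_le hle)) hn1
    (normalizer_commutator_ge_right R X (mem_zpowers x)) (hcop.coprime_dvd_right (card_dvd_of_le hle))
    ((inf_le_inf_right _ hle).trans h) rfl
  have := Coprime.le_centralizer_of_commutator_le_centralizer hXR hcopX (Or.inr inferInstance)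
    (zpowers_le.2 (mem_centralizer_iff.2 fun y hy => mem_cent.1 (hX2 hy)))
  exact fun r hr => mem_cent.2 (mem_centralizer_iff.1 (this (mem_zpowers x)) r hr)

/-! ### `fitCore` -/

theorem fitCore_le_oCore (x : G) : fitCore x ≤ oCore x := map_subtype_le _

theorem cent_le_normalizer_coreP (r : ℕ) (x : G) :
    Cent x ≤ normalizer (coreP r (oCore x) : Set G) :=
  (Hyp.cent_le_normalizer x).trans (Components.normalizer_le_normalizer_map_of_characteristic _ _)

theorem cent_le_normalizer_fitCore (x : G) : Cent x ≤ normalizer (fitCore x : Set G) := by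
  haveI : (Cfsg.fittingSubgroup ↥(oCore x)).Characteristic := Components.fittingSubgroup_characteristic _
  exact (Hyp.cent_le_normalizer x).trans (Components.normalizer_le_normalizer_map_of_characteristic _ _)

theorem fitCore_le_fitOf (x : G) : fitCore x ≤ fitOf (Cent x) := by
  have hle : fitCore x ≤ Cent x := (fitCore_le_oCore x).trans (Hyp.oCore_le_cent x)
  have hn : ((fitCore x).subgroupOf (Cent x)).Normal :=
    normal_subgroupOf_of_le_normalizer (cent_le_normalizer_fitCore x)
  haveI : Group.IsNilpotent ↥(fitCore x) :=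
    Group.nilpotent_of_mulEquiv ((Cfsg.fittingSubgroup ↥(oCore x)).equivMapOfInjective
      (oCore x).subtype (oCore x).subtype_injective)
  haveI : Group.IsNilpotent ↥((fitCore x).subgroupOf (Cent x)) :=
    Group.nilpotent_of_mulEquiv (subgroupOfEquivOfLe hle).symm
  intro f hf
  exact ⟨⟨f, hle hf⟩, Components.le_fittingSubgroup hn hf, rfl⟩

theorem dvd_card_fitting_cent {x : G} {r : ℕ} (hr : r ∣ Nat.card (fitCore x)) :
    r ∣ Nat.card ↥(fittingSubgroup ↥(Cent x)) := by
  refine hr.trans ?_
  rw [← card_map_of_injective (Cent x).subtype_injective (K := fittingSubgroup ↥(Cent x))]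
  exact card_dvd_of_le (fitCore_le_fitOf x)

theorem two_dvd_card_fitting_cent {x : G} (hx : orderOf x = 2) :
    2 ∣ Nat.card ↥(fittingSubgroup ↥(Cent x)) := by
  have hmem : (⟨x, mem_cent.2 rfl⟩ : Cent x) ∈ fittingSubgroup ↥(Cent x) := by
    have hn : (zpowers (⟨x, mem_cent.2 rfl⟩ : Cent x)).Normal := by
      refine normalizer_eq_top_iff.1 (top_le_iff.1 fun c _ => ?_)
      refine centralizer_le_normalizer _ (mem_centralizer_iff.2 fun y hy => ?_)
      obtain ⟨i, rfl⟩ := mem_zpowers_iff.1 hy
      exact (Commute.zpow_left (show Commute (⟨x, mem_cent.2 rfl⟩ : Cent x) c from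
        Subtype.ext (mem_cent.1 c.2).symm) i).eq
    haveI : Group.IsNilpotent ↥(zpowers (⟨x, mem_cent.2 rfl⟩ : Cent x)) :=
      by
      letI := IsCyclic.commGroup (α := ↥(zpowers (⟨x, mem_cent.2 rfl⟩ : Cent x)))
      infer_instance
    exact Components.le_fittingSubgroup hn (mem_zpowers _)
  have := Subgroup.orderOf_dvd_natCard _ hmem
  rwa [orderOf_mk, hx] at this

theorem map_conj_cent (x g : G) :
    (Cent x).map (MulAut.conj g).toMonoidHom = Cent (g * x * g⁻¹) := by
  ext y
  rw [mem_map]
  constructor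
  · rintro ⟨c, hc, rfl⟩
    refine mem_cent.2 ?_
    show g * c * g⁻¹ * (g * x * g⁻¹) = g * x * g⁻¹ * (g * c * g⁻¹)
    calc g * c * g⁻¹ * (g * x * g⁻¹) = g * (c * x) * g⁻¹ := by group
      _ = g * (x * c) * g⁻¹ := by rw [mem_cent.1 hc]
      _ = g * x * g⁻¹ * (g * c * g⁻¹) := by group
  · intro hy
    refine ⟨g⁻¹ * y * g, mem_cent.2 ?_, by simp [mul_assoc]⟩
    calc g⁻¹ * y * g * x = g⁻¹ * (y * (g * x * g⁻¹)) * g := by group
      _ = g⁻¹ * (g * x * g⁻¹ * y) * g := by rw [mem_cent.1 hy]
      _ = x * (g⁻¹ * y * g) := by group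

theorem map_conj_oCore (x g : G) :
    (oCore x).map (MulAut.conj g).toMonoidHom = oCore (g * x * g⁻¹) := by
  have hC := map_conj_cent x g
  have := map_rad (p := 2) (Cent x) (MulAut.conj g)
  rw [hC] at this
  exact this

theorem conj_mem_fitCore {x f : G} (hf : f ∈ fitCore x) (g : G) :
    g * f * g⁻¹ ∈ fitCore (g * x * g⁻¹) := by
  have h := map_conj_oCore x g
  have key : ∀ L : Subgroup G, L = oCore (g * x * g⁻¹) →
      (Cfsg.fittingSubgroup ↥L).map L.subtype = fitCore (g * x * g⁻¹) := by
    rintro L rfl; rfl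
  rw [← key _ h]
  obtain ⟨z, hz, rfl⟩ := hf
  let e := (oCore x).equivMapOfInjective (MulAut.conj g).toMonoidHom (MulAut.conj g).injective
  exact ⟨e z, by rw [← Components.map_fittingSubgroup e]; exact mem_map_of_mem _ hz, rfl⟩

/-! ### Cycles -/

theorem exists_swap_of_four_lt (hyp : Hyp S t) {a b : G} (h : Pair a b)
    (hS : 4 < Nat.card (S : Subgroup G)) :
    ∃ s : G, s * a * s⁻¹ = a ∧ s * b * s⁻¹ = a * b := by
  obtain ⟨T, hT, hVT⟩ := hyp.exists_at h.ha h.four h.isPGroup (fun v hv =>
    mem_cent.2 (h.commute_of_mem_four hv h.left_mem).eq)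
  obtain ⟨g⟩ := hT.exists_gens
  have hcard : Nat.card (T : Subgroup G) = Nat.card (S : Subgroup G) := by
    haveI : Fact (Nat.Prime 2) := ⟨Nat.prime_two⟩
    exact (T.card_eq_multiplicity).trans S.card_eq_multiplicity.symm
  obtain ⟨j, hj⟩ : ∃ j, g.k = j + 1 := by
    refine ⟨g.k - 1, ?_⟩
    rcases Nat.eq_zero_or_pos g.k with e | e
    · rw [← hcard, g.hcard, g.hn, e] at hS; norm_num at hS
    · omega
  set s := g.σ ^ (2 ^ j) with hs
  have hss : s * s = a := by
    refine eq_of_invol_zpowers ?_ g.htσ ?_ h.ha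
    · rw [hs, ← pow_add]; exact pow_mem (mem_zpowers _) _
    · rw [hs, ← pow_add, orderOf_pow_of_dvd (by positivity) ?_, g.hord, g.hn, hj]
      · rw [show 2 ^ j + 2 ^ j = 2 ^ (j + 1) by ring, Nat.pow_div (by omega) (by norm_num)]
        norm_num
      · rw [g.hord, g.hn, hj, show 2 ^ j + 2 ^ j = 2 ^ (j + 1) by ring]
        exact pow_dvd_pow 2 (by omega)
  refine ⟨s, ?_, ?_⟩
  · rw [← hss]; group
  obtain ⟨m, hm | hm⟩ := g.hform b (hVT h.right_mem)
  · exact absurd (eq_of_invol_zpowers (hm ▸ zpow_mem (mem_zpowers _) m) g.htσ h.hb h.ha) h.ne.symm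
  · subst hm
    have hτs : g.τ * s⁻¹ = s * g.τ := by
      have e : g.τ * s * g.τ⁻¹ = s⁻¹ := by rw [hs, ← conj_pow, g.hrel, inv_pow]
      have e' := congrArg (·⁻¹) e
      simp only [mul_inv_rev, inv_inv, mul_assoc] at e'
      calc g.τ * s⁻¹ = g.τ * (s⁻¹ * g.τ⁻¹) * g.τ := by group
        _ = s * g.τ := by rw [e']
    have hsm : Commute s (g.σ ^ m) := ((Commute.refl g.σ).pow_left _).zpow_right m
    calc s * (g.σ ^ m * g.τ) * s⁻¹ = (s * g.σ ^ m) * (g.τ * s⁻¹) := by group
      _ = (g.σ ^ m * s) * (s * g.τ) := by rw [hsm.eq, hτs]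
      _ = g.σ ^ m * (s * s) * g.τ := by group
      _ = a * (g.σ ^ m * g.τ) := by
          rw [show a * (g.σ ^ m * g.τ) = (a * g.σ ^ m) * g.τ by group,
            show g.σ ^ m * (s * s) = s * s * g.σ ^ m from ((hsm.mul_left hsm).symm).eq, hss]

/-- Every four group has an element permuting its involutions cyclically. -/
theorem exists_cycles (hyp : Hyp S t) {a b : G} (h : Pair a b) : ∃ g, Cycles g a b := by
  haveI : Fact (Nat.Prime 2) := ⟨Nat.prime_two⟩
  haveI := hyp.simple
  by_cases hS : 4 < Nat.card (S : Subgroup G)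
  · obtain ⟨s, hsa, hsb⟩ := exists_swap_of_four_lt hyp h hS
    obtain ⟨s', hs'b, hs'a⟩ := exists_swap_of_four_lt hyp h.symm hS
    rw [← h.comm] at hs'a
    refine ⟨s * s', ?_, ?_⟩
    · rw [show s * s' * a * (s * s')⁻¹ = s * (s' * a * s'⁻¹) * s⁻¹ by group, hs'a,
        show s * (a * b) * s⁻¹ = (s * a * s⁻¹) * (s * b * s⁻¹) by group, hsa, hsb, ← mul_assoc,
        sq_of_order h.ha, one_mul]
    · rw [show s * s' * b * (s * s')⁻¹ = s * (s' * b * s'⁻¹) * s⁻¹ by group, hs'b, hsb]
  obtain ⟨T, hT, hVT⟩ := hyp.exists_at h.ha h.four h.isPGroup (fun v hv =>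
    mem_cent.2 (h.commute_of_mem_four hv h.left_mem).eq)
  obtain ⟨g⟩ := hT.exists_gens
  have hTcard : Nat.card (T : Subgroup G) ≤ 4 :=
    (T.card_eq_multiplicity.trans S.card_eq_multiplicity.symm).le.trans (not_lt.1 hS)
  have hk : g.k = 0 := by
    rw [g.hcard, g.hn, pow_succ] at hTcard
    by_contra hk
    have : 2 ^ 1 ≤ 2 ^ g.k := Nat.pow_le_pow_right two_pos (Nat.one_le_iff_ne_zero.2 hk)
    omega
  have hV : h.four = (T : Subgroup G) := by
    refine Subgroup.eq_of_le_of_card_ge hVT (hTcard.trans ?_)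
    let f : Fin 4 → h.four := ![1, ⟨a, h.left_mem⟩, ⟨b, h.right_mem⟩,
      ⟨a * b, h.four.mul_mem h.left_mem h.right_mem⟩]
    have hf : Function.Injective f := by
      intro i j hij
      have e := congrArg Subtype.val hij
      have h1 := ne_one_of_order h.ha
      have h2 := ne_one_of_order h.hb
      have h3 := ne_one_of_order h.order_mul
      fin_cases i <;> fin_cases j <;> simp [f] at e ⊢ <;>
        first
          | exact absurd e h1 | exact absurd e.symm h1 | exact absurd e h2 | exact absurd e.symm h2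
          | exact absurd e h3 | exact absurd e.symm h3 | exact absurd e h.ne | exact absurd e.symm h.ne
          | exact absurd e h.mul_ne | exact absurd e.symm h.mul_ne
          | exact absurd e h.mul_ne_right | exact absurd e.symm h.mul_ne_right
    simpa using Nat.card_le_card_of_injective f hf
  obtain ⟨c, hc⟩ := isConj_iff.1 (hyp.isConj_invol h.ha h.hb)
  haveI : IsMulCommutative (T : Subgroup G) := hV ▸
    ⟨⟨fun u v => Subtype.ext (h.commute_of_mem_four u.2 v.2).eq⟩⟩
  obtain ⟨n, hnN, hn⟩ := T.conj_eq_normalizer_conj_of_mem a c⁻¹ (hVT h.left_mem)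
    (by rw [inv_inv, hc]; exact hVT h.right_mem)
  rw [inv_inv, hc] at hn
  have hnN' : n⁻¹ ∈ normalizer (T : Set G) := inv_mem hnN
  have hca : n⁻¹ * a * n⁻¹⁻¹ = b := by rw [inv_inv]; exact hn.symm
  set m := n⁻¹ with hm
  have hb' : m * b * m⁻¹ ∈ h.four := by
    rw [hV]
    exact (mem_normalizer_iff.1 hnN' b).1 (hVT h.right_mem)
  rcases hb' with e | e | e | e
  · exact absurd (conj_eq_one_iff.1 e) (ne_one_of_order h.hb)
  · exfalso
    have hpow : ∀ j : ℕ, m ^ (2 * j + 1) * a * (m ^ (2 * j + 1))⁻¹ = b := by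
      intro j
      induction j with
      | zero => simpa using hca
      | succ j hj =>
        rw [show 2 * (j + 1) + 1 = 2 + (2 * j + 1) by ring, pow_add,
          show m ^ 2 * m ^ (2 * j + 1) * a * (m ^ 2 * m ^ (2 * j + 1))⁻¹ =
            m * (m * (m ^ (2 * j + 1) * a * (m ^ (2 * j + 1))⁻¹) * m⁻¹) * m⁻¹ by group, hj, e, hca]
    set o := orderOf m / 2 ^ (orderOf m).factorization 2 with ho
    have hoodd : Odd o := Nat.coprime_two_left.1 (Nat.coprime_ordCompl Nat.prime_two (orderOf_pos m).ne')
    have hmT : m ^ o ∈ (T : Subgroup G) := by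
      have h2 : IsPGroup 2 (zpowers (m ^ o)) := by
        have hd : orderOf (m ^ o) ∣ 2 ^ (orderOf m).factorization 2 :=
          orderOf_dvd_of_pow_eq_one (by
            rw [ho, ← pow_mul, mul_comm, Nat.ordProj_mul_ordCompl_eq_self, pow_orderOf_eq_one])
        obtain ⟨i, -, hi⟩ := (Nat.dvd_prime_pow Nat.prime_two).1 hd
        exact IsPGroup.of_card (n := i) (by rw [Nat.card_zpowers, hi])
      have hsup := h2.to_sup_of_normal_right' T.2 (zpowers_le.2 (pow_mem hnN' o))
      rw [← T.3 hsup le_sup_right]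
      exact mem_sup_left (mem_zpowers _)
    obtain ⟨j, hj⟩ := hoodd
    have := hpow j
    rw [← hj, (show Commute (m ^ o) a from (hT.centralS _ hmT)).eq, mul_inv_cancel_right] at this
    exact h.ne this
  · exfalso
    exact h.ne ((mul_right_inj m).1 ((mul_left_inj m⁻¹).1
      (show m * a * m⁻¹ = m * b * m⁻¹ by rw [hca, e])))
  · exact ⟨m, hca, e⟩

theorem Cycles.third {g a b : G} (h : Pair a b) (hg : Cycles g a b) :
    g * (a * b) * g⁻¹ = a := by
  rw [show g * (a * b) * g⁻¹ = (g * a * g⁻¹) * (g * b * g⁻¹) by group, hg.left, hg.right,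
    ← mul_assoc, ← h.comm, mul_assoc, sq_of_order h.hb, mul_one]

end Cfsg.Agent.GW
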