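import Cfsg.Agent.Lib.GW.PartII.CompAut
import Cfsg.Agent.Lib.GW.PartII.FitCore
import Cfsg.Agent.Lib.SylowCount.Basic

/-!
# Odd groups centralising a four group in an almost simple group with dihedral Sylow 2-subgroups

Let `E ⊴ Q` be known simple with trivial centraliser and `Q` have cyclic or dihedral Sylow
2-subgroups.  If the group `Y` of odd order centralises the four group of `a`, `b` then it
centralises a cycle of `E` on a four group containing some `z ≠ 1` of it (`quotient_cycle`).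
-/

set_option autoImplicit false
set_option linter.style.haveILetI false
set_option linter.unusedSectionVars false

namespace Cfsg.Agent.GW

open Subgroup CompAut
open BSW (sq_of_order inv_of_order ne_one_of_order order_of_sq mem_cent)
open GW.OuterPair (fix mem_fix NoFour)
open scoped Pointwise

universe u

/-- An automorphism of odd period of a dihedral 2-group fixing a central involution is trivial. -/
theorem dihedral_auto_eq_id {m K : ℕ} (hK : m = 2 ^ K) (hm : 2 ≤ m)
    (φ : DihedralGroup m ≃* DihedralGroup m) {n : ℕ} (hn : Odd n) (hφ : ∀ d, φ^[n] d = d)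
    {z : DihedralGroup m} (hz1 : z ≠ 1) (hz : φ z = z) : ∀ d, φ d = d := by
  haveI : NeZero m := ⟨by omega⟩
  rcases Nat.lt_or_ge m 3 with h3 | h3
  · obtain rfl : m = 2 := by omega
    have key : ∀ z d e f : DihedralGroup 2, (z ≠ 1 ∧ d ≠ 1 ∧ d ≠ z ∧ e ≠ 1 ∧ e ≠ z ∧ f ≠ 1 ∧
        f ≠ z ∧ e ≠ d ∧ f ≠ e) → f = d := by decide
    have h2 : ∀ d, φ (φ d) = d := by
      intro d
      by_cases hd1 : d = 1
      · rw [hd1, map_one, map_one]
      by_cases hdz : d = z
      · rw [hdz, hz, hz]
      by_cases hfd : φ d = d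
      · rw [hfd, hfd]
      have hne : ∀ e, e ≠ 1 → e ≠ z → φ e ≠ 1 ∧ φ e ≠ z := fun e h1 h2 =>
        ⟨fun h => h1 (φ.map_eq_one_iff.1 h), fun h => h2 (φ.injective (h.trans hz.symm))⟩
      obtain ⟨e1, e2⟩ := hne d hd1 hdz
      obtain ⟨f1, f2⟩ := hne _ e1 e2
      exact key z d (φ d) (φ (φ d)) ⟨hz1, hd1, hdz, e1, e2, f1, f2, hfd,
        fun h => hfd (φ.injective h)⟩
    intro d
    obtain ⟨j, rfl⟩ := hn
    have h := hφ d
    rwa [Function.iterate_add_apply, Function.iterate_one, Function.iterate_mul,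
      show (φ : DihedralGroup 2 → DihedralGroup 2)^[2] = id from funext h2, Function.iterate_id, id] at h
  -- rotations go to rotations
  obtain ⟨v, hv⟩ : ∃ v, φ (DihedralGroup.r 1) = DihedralGroup.r v := by
    cases hr : φ (DihedralGroup.r (1 : ZMod m)) with
    | r v => exact ⟨v, rfl⟩
    | sr v =>
      exfalso
      have h1 := MulEquiv.orderOf_eq φ (DihedralGroup.r (1 : ZMod m))
      rw [hr, DihedralGroup.orderOf_sr, DihedralGroup.orderOf_r_one] at h1
      omega
  have hrot : ∀ c : ZMod m, φ (DihedralGroup.r c) = DihedralGroup.r (v * c) := by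
    intro c
    rw [← ZMod.natCast_zmod_val c, ← DihedralGroup.r_one_pow, map_pow, hv, DihedralGroup.r_pow]
  obtain ⟨w, hw⟩ : ∃ w, φ (DihedralGroup.sr 0) = DihedralGroup.sr w := by
    cases hr : φ (DihedralGroup.sr (0 : ZMod m)) with
    | sr w => exact ⟨w, rfl⟩
    | r w =>
      exfalso
      obtain ⟨u, hu⟩ := φ.surjective (DihedralGroup.sr 0)
      rcases u with c | c
      · rw [hrot] at hu
        cases hu
      · rw [show DihedralGroup.sr c = DihedralGroup.sr 0 * DihedralGroup.r c by simp, map_mul, hr,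
          hrot, DihedralGroup.r_mul_r] at hu
        cases hu
  have hpowr : ∀ (k : ℕ) (c : ZMod m), φ^[k] (DihedralGroup.r c) = DihedralGroup.r (v ^ k * c) := by
    intro k
    induction k with
    | zero => intro c; simp
    | succ k ih => intro c; rw [Function.iterate_succ_apply', ih, hrot, pow_succ', mul_assoc]
  obtain ⟨j, hj⟩ := hn
  have hvn : v ^ n = 1 := by
    have h1 := hφ (DihedralGroup.r 1)
    rw [hpowr, mul_one] at h1
    exact DihedralGroup.r.inj h1
  have hv1 : v = 1 := by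
    have hu : IsUnit v := IsUnit.of_mul_eq_one (v ^ (2 * j))
      (by rw [← pow_succ', ← hj, hvn])
    obtain ⟨u, rfl⟩ := hu
    have h1 : u ^ n = 1 := Units.ext (by rw [Units.val_pow_eq_pow_val, hvn, Units.val_one])
    have hd : orderOf u ∣ 2 ^ K := by
      rcases K with _ | K
      · rw [pow_zero] at hK; omega
      refine (orderOf_dvd_natCard u).trans ?_
      rw [Nat.card_eq_fintype_card, ZMod.card_units_eq_totient, hK,
        Nat.totient_prime_pow_succ Nat.prime_two, Nat.add_one_sub_one, mul_one]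
      exact pow_dvd_pow 2 (Nat.le_succ K)
    have hcop : Nat.Coprime (2 ^ K) n := (Nat.coprime_two_left.2 ⟨j, hj⟩).pow_left K
    have := Nat.eq_one_of_dvd_coprimes hcop hd (orderOf_dvd_of_pow_eq_one h1)
    rw [orderOf_eq_one_iff] at this
    rw [this, Units.val_one]
  have hrot' : ∀ c : ZMod m, φ (DihedralGroup.r c) = DihedralGroup.r c := fun c => by
    rw [hrot, hv1, one_mul]
  have hsr : ∀ c : ZMod m, φ (DihedralGroup.sr c) = DihedralGroup.sr (w + c) := fun c => by
    rw [show DihedralGroup.sr c = DihedralGroup.sr 0 * DihedralGroup.r c by simp, map_mul, hw,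
      hrot', DihedralGroup.sr_mul_r]
  have hpows : ∀ k : ℕ, φ^[k] (DihedralGroup.sr 0) = DihedralGroup.sr ((k : ZMod m) * w) := by
    intro k
    induction k with
    | zero => simp
    | succ k ih => rw [Function.iterate_succ_apply', ih, hsr]; push_cast; ring_nf
  have hw0 : w = 0 := by
    have h1 := hφ (DihedralGroup.sr 0)
    rw [hpows] at h1
    have h2 : (n : ZMod m) * w = 0 := DihedralGroup.sr.inj h1
    have hun : IsUnit (n : ZMod m) := (ZMod.isUnit_iff_coprime _ _).2
      (hK ▸ (Nat.coprime_two_right.2 ⟨j, hj⟩).pow_right K)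
    exact hun.mul_right_eq_zero.1 h2
  intro d
  rcases d with c | c
  · exact hrot' c
  · rw [hsr, hw0, zero_add]

section Quot

variable {Q : Type u} [Group Q] [Finite Q] (E : Subgroup Q) [hEn : E.Normal]

/-- Conjugation on the normal subgroup `E`. -/
noncomputable abbrev conjE : Q →* MulAut E := MulAut.conjNormal

theorem conjE_eq (q : Q) (x : E) : ((conjE E q x : E) : Q) = q * x * q⁻¹ :=
  MulAut.conjNormal_apply q x

theorem conjE_fix_iff (q : Q) (x : E) : conjE E q x = x ↔ Commute q x := by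
  rw [← Subtype.coe_inj, conjE_eq]
  exact mul_inv_eq_iff_eq_mul

variable [hEs : IsSimpleGroup E]

/-- An involution outside `E` fixes no four group of `E`. -/
theorem noFour_of_not_mem (hd : SubDihedral Q) {i : Q} (hi : orderOf i = 2) (hiE : i ∉ E) :
    NoFour (fix (conjE E i)) := by
  haveI : Fact (Nat.Prime 2) := ⟨Nat.prime_two⟩
  intro x hx y hy hox hoy hxy
  by_contra hne
  obtain ⟨V, hV, -, hxV, hyV⟩ := exists_four_of_commute (X := E) hox hoy hxy hne (L := ⊤) trivial trivial
  haveI := hV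
  haveI := isKleinFour_map E.subtype E.subtype_injective V
  refine hiE (map_subtype_le V (hd.mem_four (V.map E.subtype)
    (IsPGroup.of_card (n := 1) (by rw [Nat.card_zpowers, hi, pow_one])) ?_))
  refine mem_centralizer_iff.2 ?_
  rintro _ ⟨v, hv, rfl⟩
  have hfix : V ≤ fix (conjE E i) := by
    intro v hv
    haveI : IsMulCommutative V := IsKleinFour.isMulCommutative
    by_cases h1 : v = 1
    · rw [h1]; exact one_mem _
    by_cases h2 : v = x
    · rw [h2]; exact hx
    by_cases h3 : v = y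
    · rw [h3]; exact hy
    have := IsKleinFour.eq_mul_of_ne_all (x := (⟨x, hxV⟩ : V)) (y := ⟨y, hyV⟩) (z := ⟨v, hv⟩)
      (fun h => ne_one_of_order hox (congrArg Subtype.val h))
      (fun h => ne_one_of_order hoy (congrArg Subtype.val h)) (fun h => hne (congrArg Subtype.val h))
      (fun h => h1 (congrArg Subtype.val h)) (fun h => h2 (congrArg Subtype.val h))
      (fun h => h3 (congrArg Subtype.val h))
    rw [show v = x * y from congrArg Subtype.val this]
    exact mul_mem hx hy
  exact ((conjE_fix_iff E i v).1 (hfix hv)).symm.eq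

theorem conjE_sq {i : Q} (hi : orderOf i = 2) : conjE E i * conjE E i = 1 := by
  rw [← map_mul, sq_of_order hi, map_one]

/-- Odd elements of `E` fixed by an outer involution and commuting with a fixed inner one. -/
theorem eq_one_of_odd_fix (hd : SubDihedral Q) (hk : IsKnown E) {z i r : Q} (hz : orderOf z = 2)
    (hzE : z ∈ E) (hi : orderOf i = 2) (hiE : i ∉ E) (hiz : Commute i z) (hrE : r ∈ E)
    (hro : Odd (orderOf r)) (hrz : Commute r z) (hri : Commute r i) : r = 1 :=
  congrArg Subtype.val (eq_one_of_outer_fixed hk (conjE_sq E hi) (noFour_of_not_mem E hd hi hiE)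
    (z := ⟨z, hzE⟩) (r := ⟨r, hrE⟩) ((conjE_fix_iff E i _).2 hiz) ((conjE_fix_iff E i _).2 hri.symm)
    (by rwa [Subgroup.orderOf_mk]) (by rwa [Subgroup.orderOf_mk]) (Subtype.ext hrz.eq))

/-- Over `A₇` all involutions are inner. -/
theorem mem_of_seven (hd : SubDihedral Q) (e : E ≃* alternatingGroup (Fin 7)) {i : Q}
    (hi : orderOf i = 2) : i ∈ E :=
  by_contra fun hiE => OuterPair.not_noFour_seven _
    (by rw [← map_mul, conjE_sq E hi, map_one] : MulAut.congr e (conjE E i) * MulAut.congr e (conjE E i) = 1)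
    (OuterPair.noFour_congr e (noFour_of_not_mem E hd hi hiE))

/-- Over `A₇` elements of odd order are inner. -/
theorem mem_of_seven_odd (e : E ≃* alternatingGroup (Fin 7)) (hC : centralizer (E : Set Q) = ⊥)
    {q : Q} (hq : Odd (orderOf q)) : q ∈ E := by
  obtain ⟨p, hp⟩ := seven_inner e hq (β := conjE E q) (by rw [← map_pow, pow_orderOf_eq_one, map_one])
  have h : (p : Q)⁻¹ * q ∈ centralizer (E : Set Q) := by
    refine mem_centralizer_iff.2 fun w hw => ?_
    have h1 : q * w * q⁻¹ = (p : Q) * w * (p : Q)⁻¹ := by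
      rw [← conjE_eq E q ⟨w, hw⟩, hp]; rfl
    calc w * ((p : Q)⁻¹ * q) = (p : Q)⁻¹ * (p * w * (p : Q)⁻¹) * q := by group
      _ = (p : Q)⁻¹ * q * w := by rw [← h1]; group
  rw [hC, mem_bot, inv_mul_eq_one] at h
  exact h ▸ p.2

/-- `E` has dihedral Sylow 2-subgroups. -/
theorem dihedralTwo_simple (hd : SubDihedral Q) (hk : IsKnown E) : DihedralTwo E := fun T =>
  (hd.subgroup E T).resolve_left fun h =>
    not_complement_of_simple hk.not_comm hk.even_card (hasNormalPComplement_of_cyclic_two T h)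

/-- A Sylow 2-subgroup of `Q` containing a given 2-subgroup of the centraliser of `z ∈ E`, inside it. -/
theorem exists_sylow_cent (hd : SubDihedral Q) (hk : IsKnown E) {z : Q} (hz : orderOf z = 2)
    (hzE : z ∈ E) {V : Subgroup Q} (hV : IsPGroup 2 V) (hVz : V ≤ centralizer ({z} : Set Q)) :
    ∃ P : Sylow 2 Q, V ≤ (P : Subgroup Q) ∧ (P : Subgroup Q) ≤ centralizer ({z} : Set Q) := by
  haveI : Fact (Nat.Prime 2) := ⟨Nat.prime_two⟩
  obtain ⟨R, hR⟩ := exists_central_sylow hd E hk hz hzE
  obtain ⟨R', hR'⟩ := IsPGroup.exists_le_sylow (p := 2)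
    (hV.comap_subtype (K := centralizer ({z} : Set Q)))
  obtain ⟨c, hc⟩ := MulAction.exists_smul_eq (centralizer ({z} : Set Q)) (R.subtype hR) R'
  refine ⟨(c : Q) • R, fun q hq => ?_, fun q hq => ?_⟩
  · have hqR : (⟨q, hVz hq⟩ : centralizer ({z} : Set Q)) ∈ (R' : Subgroup _) := hR' hq
    rw [← hc, Sylow.coe_subgroup_smul, Subgroup.mem_pointwise_smul_iff_inv_smul_mem,
      Sylow.coe_subtype, Subgroup.mem_subgroupOf] at hqR
    rw [Sylow.coe_subgroup_smul, Subgroup.mem_pointwise_smul_iff_inv_smul_mem]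
    simpa using hqR
  · obtain ⟨r, hr, rfl⟩ : ∃ r ∈ (R : Subgroup Q), (c : Q) * r * (c : Q)⁻¹ = q := hq
    exact mul_mem (mul_mem c.2 (hR hr)) (inv_mem c.2)

/-- Some member of a four group lies in `E`. -/
theorem exists_mem_four (hd : SubDihedral Q) (hk : IsKnown E) {a b : Q} (h : Pair a b) :
    a ∈ E ∨ b ∈ E ∨ a * b ∈ E := by
  haveI : Fact (Nat.Prime 2) := ⟨Nat.prime_two⟩
  obtain ⟨P, hP⟩ := h.isPGroup.exists_le_sylow
  obtain ⟨T, hT⟩ := SylowCount.exists_sylow_inf P E
  obtain ⟨m, hm, ⟨eT⟩⟩ := dihedralTwo_simple E hd hk T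
  haveI : NeZero m := ⟨by omega⟩
  rcases hd P with hc | ⟨n, hn, ⟨eP⟩⟩
  · haveI := hc
    exact absurd (isCyclic_of_injective (inclusion hP) (inclusion_injective hP))
      (fun hc' => by
        haveI := hc'
        obtain ⟨g, hg⟩ := IsCyclic.exists_generator (α := h.four)
        have := eq_of_invol_zpowers (σ := (g : Q)) (x := a) (y := b) ?_ ?_ h.ha h.hb
        · exact h.ne this
        · obtain ⟨i, hi⟩ := mem_zpowers_iff.mp (hg ⟨a, h.left_mem⟩)
          exact ⟨i, congrArg Subtype.val hi⟩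
        · obtain ⟨i, hi⟩ := mem_zpowers_iff.mp (hg ⟨b, h.right_mem⟩)
          exact ⟨i, congrArg Subtype.val hi⟩)
  haveI : NeZero n := ⟨by omega⟩
  set U : Subgroup (P : Subgroup Q) := E.subgroupOf (P : Subgroup Q) with hU
  haveI : U.Normal := inferInstance
  have hUc : ¬ IsCyclic U := by
    intro hc
    haveI := hc
    let j : (T : Subgroup E) →* U :=
      ((E.subtype.comp (T : Subgroup E).subtype).codRestrict (P : Subgroup Q) fun x => by
        exact (SetLike.ext_iff.1 hT (x : E)).1 x.2).codRestrict U fun x => (x : E).2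
    have hj : Function.Injective j := fun x y hxy => Subtype.ext (E.subtype_injective
      (congrArg (fun w : U => ((w : (P : Subgroup Q)) : Q)) hxy))
    haveI := isCyclic_of_injective j hj
    exact not_complement_of_simple hk.not_comm hk.even_card
      (hasNormalPComplement_of_cyclic_two T inferInstance)
  haveI : (U.map eP.toMonoidHom).Normal := (inferInstance : U.Normal).map _ eP.surjective
  have hidx := relIndex_le_two_of_dihedral (U.map eP.toMonoidHom) fun hc => hUc
    ((U.equivMapOfInjective eP.toMonoidHom eP.injective).isCyclic.2 hc)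
  rw [show eP.toMonoidHom = (eP : (P : Subgroup Q) →* DihedralGroup n) from rfl, index_map_equiv] at hidx
  by_contra hno
  push Not at hno
  obtain ⟨ha, hb, hab⟩ := hno
  have h0 : U.index ≠ 0 := U.index_ne_zero_of_finite
  rcases (show U.index = 1 ∨ U.index = 2 by omega) with h1 | h2
  · refine ha ?_
    have : (⟨a, hP h.left_mem⟩ : (P : Subgroup Q)) ∈ U := by rw [index_eq_one.1 h1]; trivial
    exact this
  · exact hab ((Subgroup.mul_mem_iff_of_index_two h2 (a := ⟨a, hP h.left_mem⟩)
      (b := ⟨b, hP h.right_mem⟩)).2 (iff_of_false ha hb))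

/-- An odd group centralising a four group inside `E` centralises a cycle on it. -/
theorem exists_cycle_inner (hd : SubDihedral Q) (hk : IsKnown E) (hC : centralizer (E : Set Q) = ⊥)
    {a b : Q} (h : Pair a b) (ha : a ∈ E) (hb : b ∈ E) {Y : Subgroup Q} (hY : Odd (Nat.card Y))
    (hYc : Y ≤ Cent a ⊓ Cent b) : ∃ g ∈ E, Cycles g a b ∧ ∀ y ∈ Y, Commute y g := by
  haveI : Fact (Nat.Prime 2) := ⟨Nat.prime_two⟩
  obtain ⟨S, t, hyp⟩ := exists_hyp hEs (dihedralTwo_simple E hd hk)
  have hp : Pair (⟨a, ha⟩ : E) ⟨b, hb⟩ := ⟨by rw [Subgroup.orderOf_mk]; exact h.ha,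
    by rw [Subgroup.orderOf_mk]; exact h.hb, Subtype.ext h.comm, fun e => h.ne (congrArg Subtype.val e)⟩
  obtain ⟨g, hg⟩ := exists_cycles hyp hp
  have hga : (g : Q) * a * (g : Q)⁻¹ = b := congrArg Subtype.val hg.left
  have hgb : (g : Q) * b * (g : Q)⁻¹ = a * b := congrArg Subtype.val hg.right
  have hyo : ∀ y ∈ Y, Odd (orderOf y) := fun y hy =>
    hY.of_dvd_nat (Subgroup.orderOf_dvd_natCard Y hy)
  have hya : ∀ y ∈ Y, Commute y a := fun y hy => mem_cent.1 (hYc hy).1
  have hyb : ∀ y ∈ Y, Commute y b := fun y hy => mem_cent.1 (hYc hy).2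
  -- the conjugates of the cycle act alike
  have hconj : ∀ y ∈ Y, Commute ((g : Q)⁻¹ * (y * g * y⁻¹)) a ∧
      Commute ((g : Q)⁻¹ * (y * g * y⁻¹)) b := by
    intro y hy
    have hfix : ∀ v, Commute y v → y⁻¹ * v * y = v := fun v hv => by
      rw [mul_assoc, ← hv.eq, inv_mul_cancel_left]
    have h1 : ∀ v u, Commute y v → Commute y u → (g : Q) * v * (g : Q)⁻¹ = u →
        Commute ((g : Q)⁻¹ * (y * g * y⁻¹)) v := by
      intro v u hv hu hvu
      refine mul_inv_eq_iff_eq_mul.1 ?_
      calc (g : Q)⁻¹ * (y * g * y⁻¹) * v * ((g : Q)⁻¹ * (y * g * y⁻¹))⁻¹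
          = (g : Q)⁻¹ * (y * (g * (y⁻¹ * v * y) * (g : Q)⁻¹) * y⁻¹) * g := by group
        _ = (g : Q)⁻¹ * u * g := by rw [hfix v hv, hvu, hu.eq, mul_inv_cancel_right]
        _ = v := by rw [← hvu]; group
    exact ⟨h1 a b (hya y hy) (hyb y hy) hga,
      h1 b (a * b) (hyb y hy) ((hya y hy).mul_right (hyb y hy)) hgb⟩
  rcases known_cases hk with ⟨q, hq⟩ | ⟨⟨e⟩⟩
  · refine ⟨g, g.2, ⟨hga, hgb⟩, fun y hy => ?_⟩
    set δ := (g : Q)⁻¹ * (y * g * y⁻¹) with hδ
    have hδE : δ ∈ E := mul_mem (inv_mem g.2) (hEn.conj_mem _ g.2 y)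
    have hδ2 : δ * δ = 1 := congrArg Subtype.val (hq.sq_eq_one (k := ⟨δ, hδE⟩) hp
      (Subtype.ext (hconj y hy).1.eq) (Subtype.ext (hconj y hy).2.eq))
    -- `δ` lies in the four group
    have hδy : Commute y δ := by
      by_cases h1 : δ = 1
      · rw [h1]; exact Commute.one_right y
      obtain ⟨V, hV, -, haV, hbV⟩ := exists_four_of_commute h.ha h.hb h.comm h.ne (L := ⊤) trivial trivial
      haveI := hV
      have hmem : δ ∈ V := hd.mem_four V
        (IsPGroup.of_card (n := 1) (by rw [Nat.card_zpowers, order_of_sq hδ2 h1, pow_one]))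
        (mem_centralizer_iff.2 fun v hv => by
          by_cases hv1 : v = 1
          · rw [hv1, one_mul, mul_one]
          by_cases hva : v = a
          · rw [hva]; exact (hconj y hy).1.symm.eq
          by_cases hvb : v = b
          · rw [hvb]; exact (hconj y hy).2.symm.eq
          have := IsKleinFour.eq_mul_of_ne_all (x := (⟨a, haV⟩ : V)) (y := ⟨b, hbV⟩) (z := ⟨v, hv⟩)
            (fun h' => ne_one_of_order h.ha (congrArg Subtype.val h'))
            (fun h' => ne_one_of_order h.hb (congrArg Subtype.val h'))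
            (fun h' => h.ne (congrArg Subtype.val h'))
            (fun h' => hv1 (congrArg Subtype.val h')) (fun h' => hva (congrArg Subtype.val h'))
            (fun h' => hvb (congrArg Subtype.val h'))
          rw [show v = a * b from congrArg Subtype.val this]
          exact ((hconj y hy).1.mul_right (hconj y hy).2).symm.eq)
      by_cases hda : δ = a
      · rw [hda]; exact hya y hy
      by_cases hdb : δ = b
      · rw [hdb]; exact hyb y hy
      have := IsKleinFour.eq_mul_of_ne_all (x := (⟨a, haV⟩ : V)) (y := ⟨b, hbV⟩) (z := ⟨δ, hmem⟩)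
        (fun h' => ne_one_of_order h.ha (congrArg Subtype.val h'))
        (fun h' => ne_one_of_order h.hb (congrArg Subtype.val h'))
        (fun h' => h.ne (congrArg Subtype.val h'))
        (fun h' => h1 (congrArg Subtype.val h')) (fun h' => hda (congrArg Subtype.val h'))
        (fun h' => hdb (congrArg Subtype.val h'))
      rw [show δ = a * b from congrArg Subtype.val this]
      exact (hya y hy).mul_right (hyb y hy)
    have hyg : y * g * y⁻¹ = g * δ := by rw [hδ]; group
    have hit : ∀ k : ℕ, y ^ k * g * (y ^ k)⁻¹ = g * δ ^ k := by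
      intro k
      induction k with
      | zero => simp
      | succ k ih =>
        calc y ^ (k + 1) * g * (y ^ (k + 1))⁻¹ = y * (y ^ k * g * (y ^ k)⁻¹) * y⁻¹ := by
              rw [pow_succ']; group
          _ = y * g * y⁻¹ * (y * δ ^ k * y⁻¹) := by rw [ih]; group
          _ = g * δ ^ (k + 1) := by
              rw [hyg, (hδy.pow_right k).eq, mul_inv_cancel_right, pow_succ', mul_assoc]
    have h1 := hit (orderOf y)
    rw [pow_orderOf_eq_one, one_mul, inv_one, mul_one] at h1
    obtain ⟨j, hj⟩ := hyo y hy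
    rw [hj, pow_succ, pow_mul, pow_two, hδ2, one_pow, one_mul] at h1
    rw [← h1] at hyg
    exact mul_inv_eq_iff_eq_mul.1 hyg
  · -- degree seven
    have hyE : ∀ y ∈ Y, y ∈ E := fun y hy => mem_of_seven_odd E e hC (hyo y hy)
    obtain ⟨V, hV, -, haV, hbV⟩ := exists_four_of_commute (X := E) hp.ha hp.hb hp.comm hp.ne
      (L := ⊤) trivial trivial
    haveI := hV
    have hc := hasNormalPComplement_centralizer_four (hd.subgroup E) V
    set C := centralizer (V : Set E) with hCdef
    set R := (Cfsg.pResidual 2 C).map C.subtype with hR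
    have hmemR : ∀ x : E, Commute x ⟨a, ha⟩ → Commute x ⟨b, hb⟩ → Odd (orderOf x) → x ∈ R := by
      intro x hxa hxb hxo
      have hxC : x ∈ C := by
        refine mem_centralizer_iff.2 fun v hv => ?_
        by_cases hv1 : v = 1
        · rw [hv1, one_mul, mul_one]
        by_cases hva : v = ⟨a, ha⟩
        · rw [hva]; exact hxa.symm.eq
        by_cases hvb : v = ⟨b, hb⟩
        · rw [hvb]; exact hxb.symm.eq
        have := IsKleinFour.eq_mul_of_ne_all (x := (⟨_, haV⟩ : V)) (y := ⟨_, hbV⟩) (z := ⟨v, hv⟩)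
          (fun h' => ne_one_of_order hp.ha (congrArg Subtype.val h'))
          (fun h' => ne_one_of_order hp.hb (congrArg Subtype.val h'))
          (fun h' => hp.ne (congrArg Subtype.val h'))
          (fun h' => hv1 (congrArg Subtype.val h')) (fun h' => hva (congrArg Subtype.val h'))
          (fun h' => hvb (congrArg Subtype.val h'))
        rw [show v = ⟨a, ha⟩ * ⟨b, hb⟩ from congrArg Subtype.val this]
        exact (hxa.mul_right hxb).symm.eq
      exact ⟨⟨x, hxC⟩, (Transfer.mem_pResidual_iff hc _).2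
        (by rw [Subgroup.orderOf_mk]; exact Nat.coprime_two_right.2 hxo), rfl⟩
    have hR3 : Nat.card R ∣ 3 := by
      refine seven_card_dvd e hp.ha ?_ ?_
      · rw [hR, card_map_of_injective C.subtype_injective, ← Nat.not_even_iff_odd, even_iff_two_dvd]
        exact Transfer.hasNormalPComplement_iff.mp hc
      · exact (map_subtype_le _).trans (centralizer_le (Set.singleton_subset_iff.2 haV))
    refine ⟨(g : Q) ^ 4, pow_mem g.2 4, ?_, fun y hy => ?_⟩
    · have h3 := Cycles.third h ⟨hga, hgb⟩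
      constructor
      · calc (g : Q) ^ 4 * a * ((g : Q) ^ 4)⁻¹
            = g * (g * (g * (g * a * (g : Q)⁻¹) * (g : Q)⁻¹) * (g : Q)⁻¹) * (g : Q)⁻¹ := by
              simp [pow_succ, mul_assoc]
          _ = b := by rw [hga, hgb, h3, hga]
      · calc (g : Q) ^ 4 * b * ((g : Q) ^ 4)⁻¹
            = g * (g * (g * (g * b * (g : Q)⁻¹) * (g : Q)⁻¹) * (g : Q)⁻¹) * (g : Q)⁻¹ := by
              simp [pow_succ, mul_assoc]
          _ = a * b := by rw [hgb, h3, hga, hgb]
    · by_cases hy1 : y = 1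
      · rw [hy1]; exact Commute.one_left _
      set y' : E := ⟨y, hyE y hy⟩ with hy'
      have hy'R : y' ∈ R := hmemR y' (Subtype.ext (hya y hy).eq) (Subtype.ext (hyb y hy).eq)
        (by rw [hy', Subgroup.orderOf_mk]; exact hyo y hy)
      have hgy : g * y' * g⁻¹ ∈ R := by
        have h3 := Cycles.third hp hg
        have hb' : Commute (g * y' * g⁻¹) ⟨b, hb⟩ := by
          rw [← hg.left]
          exact Commute.map (Subtype.ext (hya y hy).eq : Commute y' ⟨a, ha⟩) (MulAut.conj g)
        have ha' : Commute (g * y' * g⁻¹) ⟨a, ha⟩ := by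
          rw [← h3]
          exact Commute.map (Subtype.ext ((hya y hy).mul_right (hyb y hy)).eq :
            Commute y' (⟨a, ha⟩ * ⟨b, hb⟩)) (MulAut.conj g)
        refine hmemR _ ha' hb' ?_
        rw [show g * y' * g⁻¹ = MulAut.conj g y' from rfl, MulEquiv.orderOf_eq, hy',
          Subgroup.orderOf_mk]
        exact hyo y hy
      haveI : Fact (Nat.Prime 3) := ⟨Nat.prime_three⟩
      have hy3 : orderOf y' = 3 := by
        rcases (Nat.dvd_prime Nat.prime_three).1 ((Subgroup.orderOf_dvd_natCard R hy'R).trans hR3) with e1 | e1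
        · exact absurd (congrArg Subtype.val (orderOf_eq_one_iff.1 e1)) hy1
        · exact e1
      have hgen : zpowers y' = R := eq_of_le_of_card_ge (zpowers_le.2 hy'R) (by
        rw [Nat.card_zpowers, hy3]; exact Nat.le_of_dvd (by norm_num) hR3)
      obtain ⟨i, hi⟩ := mem_zpowers_iff.1 (hgen.ge hgy)
      rw [← zpow_mod_orderOf, hy3] at hi
      have hi' : g * y' * g⁻¹ = y' ∨ g * y' * g⁻¹ = y'⁻¹ := by
        have : i % 3 = 0 ∨ i % 3 = 1 ∨ i % 3 = 2 := by omega
        rcases this with e1 | e1 | e1 <;> rw [show ((3 : ℕ) : ℤ) = 3 from rfl, e1] at hi <;> rw [← hi]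
        · rw [zpow_zero] at hi
          exact absurd (congrArg Subtype.val (conj_eq_one_iff.1 hi.symm)) hy1
        · exact Or.inl (zpow_one y')
        · refine Or.inr (eq_inv_of_mul_eq_one_left ?_)
          rw [← zpow_add_one]
          have := pow_orderOf_eq_one y'
          rw [hy3] at this
          exact_mod_cast this
      have hcom : Commute ((g : Q) ^ 4) y := by
        rcases hi' with e1 | e1
        · exact Commute.pow_left (mul_inv_eq_iff_eq_mul.1 (congrArg Subtype.val e1) :
            Commute (g : Q) y) 4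
        · have e2 : (g : Q) * y * (g : Q)⁻¹ = y⁻¹ := congrArg Subtype.val e1
          have : Commute ((g : Q) ^ 2) y := by
            refine mul_inv_eq_iff_eq_mul.1 ?_
            calc (g : Q) ^ 2 * y * ((g : Q) ^ 2)⁻¹ = g * (g * y * (g : Q)⁻¹) * (g : Q)⁻¹ := by
                  simp [pow_two, mul_assoc]
              _ = ((g : Q) * y * (g : Q)⁻¹)⁻¹ := by conv_lhs => rw [e2]
                                                    group
              _ = y := by rw [e2, inv_inv]
          have := this.pow_left 2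
          rwa [← pow_mul] at this
      exact hcom.symm

/-- An odd group centralising an inner and an outer involution centralises a four group of `E`. -/
theorem exists_pair_fixed (hd : SubDihedral Q) (hk : IsKnown E) {z i : Q} (h : Pair z i)
    (hzE : z ∈ E) (hiE : i ∉ E) {Y : Subgroup Q} (hY : Odd (Nat.card Y))
    (hYc : Y ≤ Cent z ⊓ Cent i) : ∃ x ∈ E, Pair z x ∧ ∀ y ∈ Y, Commute y x := by
  haveI : Fact (Nat.Prime 2) := ⟨Nat.prime_two⟩
  obtain ⟨q, hq⟩ : ∃ q, IsPSLTwo E q := (known_cases hk).resolve_right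
    fun ⟨e⟩ => hiE (mem_of_seven E hd e h.hb)
  obtain ⟨P, hVP, hPz⟩ := exists_sylow_cent E hd hk h.ha hzE h.isPGroup
    (h.four_le (mem_cent.2 rfl) (mem_cent.2 h.comm.symm))
  obtain ⟨T, hT⟩ := SylowCount.exists_sylow_inf P E
  obtain ⟨m, hm, ⟨eT⟩⟩ := dihedralTwo_simple E hd hk T
  haveI : NeZero m := ⟨by omega⟩
  set z' : E := ⟨z, hzE⟩
  set D : Subgroup E := centralizer ({z'} : Set E) with hD
  have hmemT : ∀ x : E, x ∈ (T : Subgroup E) ↔ (x : Q) ∈ (P : Subgroup Q) := fun x => by
    rw [hT, mem_subgroupOf]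
  have hzT : z' ∈ (T : Subgroup E) := (hmemT z').2 (hVP h.left_mem)
  have hTD : (T : Subgroup E) ≤ D := fun x hx =>
    mem_centralizer_singleton_iff.2 (Subtype.ext (mem_centralizer_singleton_iff.1 (hPz ((hmemT x).1 hx))))
  set β := conjE E i with hβ
  have hβT : ∀ x ∈ (T : Subgroup E), β x ∈ (T : Subgroup E) := fun x hx =>
    (hmemT _).2 (by
      rw [conjE_eq]
      exact mul_mem (mul_mem (hVP h.right_mem) ((hmemT x).1 hx)) (inv_mem (hVP h.right_mem)))
  have hzD : ∀ x ∈ D, Commute x z' := fun x hx => mem_centralizer_singleton_iff.1 hx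
  have hβz : β z' = z' := (conjE_fix_iff E i z').2 h.comm.symm
  -- a Klein pair in `T`
  obtain ⟨x, hxT, hpx⟩ : ∃ x ∈ (T : Subgroup E), Pair z' x := by
    have hmk : ∀ c : ZMod m, ((eT.symm (DihedralGroup.sr c) : (T : Subgroup E)) : E) ≠ z' →
        ∃ x ∈ (T : Subgroup E), Pair z' x := fun c hc =>
      ⟨_, Subtype.coe_prop _, by rw [Subgroup.orderOf_mk]; exact h.ha,
        by rw [Subgroup.orderOf_coe, MulEquiv.orderOf_eq, DihedralGroup.orderOf_sr],
        (hzD _ (hTD (Subtype.coe_prop _))).symm.eq, Ne.symm hc⟩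
    by_cases h0 : ((eT.symm (DihedralGroup.sr 0) : (T : Subgroup E)) : E) = z'
    · refine hmk 1 fun h1 => ?_
      have := eT.symm.injective (Subtype.ext (h0.trans h1.symm))
      rw [DihedralGroup.sr.injEq] at this
      have h1' : ((1 : ℕ) : ZMod m) = 0 := by push_cast; exact this.symm
      rw [ZMod.natCast_eq_zero_iff] at h1'
      exact absurd (Nat.le_of_dvd one_pos h1') (by omega)
    · exact hmk 0 h0
  -- the structure of the centraliser of `z` in `E`
  have hD2 : IsPGroup 2 (D ⧸ Cfsg.oddCore D) := by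
    have hzo : orderOf (⟨z', hTD hzT⟩ : D) = 2 := by
      rw [Subgroup.orderOf_mk, Subgroup.orderOf_mk]; exact h.ha
    refine isPGroup_of_central_invol ((hd.subgroup E).subgroup D).quotient_oddCore
      PCore.pPrimeCore_quotient_self_eq_bot
      (z := QuotientGroup.mk' (Cfsg.oddCore D) ⟨z', hTD hzT⟩) ?_ ?_
    · refine order_of_sq ?_ fun h1 => ?_
      · rw [← map_mul, sq_of_order hzo, map_one]
      · rw [QuotientGroup.mk'_apply, QuotientGroup.eq_one_iff] at h1
        have := PCore.odd_card_oddCore.of_dvd_nat (Subgroup.orderOf_dvd_natCard _ h1)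
        rw [hzo] at this
        exact absurd this (by decide)
    · refine mem_center_iff.2 fun d => ?_
      obtain ⟨d, rfl⟩ := QuotientGroup.mk'_surjective _ d
      rw [← map_mul, ← map_mul]
      exact congrArg _ (Subtype.ext (hzD d d.2).eq)
  have hodd : ∀ k : E, ∀ hk : k ∈ D, Odd (orderOf k) → (⟨k, hk⟩ : D) ∈ Cfsg.oddCore D := by
    intro k hkD ho
    rw [← QuotientGroup.eq_one_iff, ← orderOf_eq_one_iff]
    obtain ⟨j, hj⟩ := hD2 ((⟨k, hkD⟩ : D) : D ⧸ Cfsg.oddCore D)
    refine Nat.eq_one_of_dvd_coprimes ((Nat.coprime_two_left.2 ho).pow_left j)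
      (orderOf_dvd_of_pow_eq_one hj) ?_
    have := orderOf_map_dvd (QuotientGroup.mk' (Cfsg.oddCore D)) (⟨k, hkD⟩ : D)
    rwa [Subgroup.orderOf_mk] at this
  -- uniqueness of the invariant Sylow subgroup
  have huniq : ∀ T' : Sylow 2 E, (T' : Subgroup E) ≤ D →
      (∀ x ∈ (T' : Subgroup E), β x ∈ (T' : Subgroup E)) → (T' : Subgroup E) = T := by
    intro T' hT'D hβT'
    obtain ⟨d, hd'⟩ := MulAction.exists_smul_eq D (T.subtype hTD) (T'.subtype hT'D)
    -- write `d` as an odd element times an element of `T`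
    obtain ⟨k, hkO, s, hs, rfl⟩ : ∃ k ∈ Cfsg.oddCore D, ∃ s ∈ (T.subtype hTD : Subgroup D), k * s = d := by
      haveI : (Cfsg.oddCore D).Normal := PCore.pPrimeCore_normal
      have htop : ((T.subtype hTD : Sylow 2 D) : Subgroup D) ⊔ Cfsg.oddCore D = ⊤ := by
        have hmap : ((T.subtype hTD : Sylow 2 D) : Subgroup D).map
            (QuotientGroup.mk' (Cfsg.oddCore D)) = ⊤ := by
          have h1 := ((T.subtype hTD).mapSurjective (QuotientGroup.mk'_surjective (Cfsg.oddCore D))).3
            (PCore.isPGroup_top_iff.mpr hD2) le_top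
          rw [Sylow.coe_mapSurjective] at h1
          exact h1.symm
        rw [← QuotientGroup.ker_mk' (Cfsg.oddCore D), ← comap_map_eq, hmap, comap_top]
      have hd1 : d ∈ ((Cfsg.oddCore D : Subgroup D) ⊔ (T.subtype hTD : Subgroup D) : Subgroup D) := by
        rw [sup_comm, htop]; trivial
      obtain ⟨k, hk, s, hs, he⟩ := mem_sup_of_normal_left.1 hd1
      exact ⟨k, hk, s, hs, he⟩
    have hT'eq : ∀ w : E, w ∈ (T' : Subgroup E) ↔ (k : E)⁻¹ * w * k ∈ (T : Subgroup E) := by
      intro w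
      have hsT : (s : E) ∈ (T : Subgroup E) := hs
      constructor
      · intro hw
        have h1 : (⟨w, hT'D hw⟩ : D) ∈ (T'.subtype hT'D : Subgroup D) := hw
        rw [← hd', Sylow.coe_subgroup_smul, Subgroup.mem_pointwise_smul_iff_inv_smul_mem] at h1
        have h2 : ((k : E) * s)⁻¹ * w * ((k : E) * s) ∈ (T : Subgroup E) := by
          simpa [MulAut.smul_def, mem_subgroupOf, mul_assoc] using h1
        have := mul_mem (mul_mem hsT h2) (inv_mem hsT)
        convert this using 1
        group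
      · intro hw
        have hwD : w ∈ D := by
          have := mul_mem (mul_mem k.2 (hTD hw)) (inv_mem k.2)
          convert this using 1
          group
        suffices h1 : (⟨w, hwD⟩ : D) ∈ (T'.subtype hT'D : Subgroup D) from h1
        rw [← hd', Sylow.coe_subgroup_smul, Subgroup.mem_pointwise_smul_iff_inv_smul_mem]
        have h2 := mul_mem (mul_mem (inv_mem hsT) hw) hsT
        simpa [MulAut.smul_def, mem_subgroupOf, mul_assoc] using h2
    set k' : E := β k with hk'
    have hko : Odd (orderOf (k : E)) := by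
      rw [Subgroup.orderOf_coe]
      exact PCore.odd_card_oddCore.of_dvd_nat (Subgroup.orderOf_dvd_natCard _ hkO)
    have hk'D : k' ∈ D := mem_centralizer_singleton_iff.2 (by
      rw [hk', ← hβz, ← map_mul, ← map_mul, (hzD _ k.2).eq])
    have hmO : (⟨(k : E)⁻¹ * k', mul_mem (inv_mem k.2) hk'D⟩ : D) ∈ Cfsg.oddCore D := by
      exact mul_mem (inv_mem hkO) (hodd k' hk'D (by rw [hk', MulEquiv.orderOf_eq]; exact hko))
    set mm : E := (k : E)⁻¹ * k' with hmm
    -- `mm` normalises `T`
    have hmT : ∀ w ∈ (T : Subgroup E), mm * w * mm⁻¹ ∈ (T : Subgroup E) := by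
      intro w hw
      obtain ⟨w₀, hw₀, rfl⟩ : ∃ w₀ ∈ (T : Subgroup E), β w₀ = w := by
        refine ⟨β w, hβT w hw, ?_⟩
        rw [← MulAut.mul_apply, conjE_sq E h.hb, MulAut.one_apply]
      have h1 : (k : E) * w₀ * (k : E)⁻¹ ∈ (T' : Subgroup E) := (hT'eq _).2 (by
        convert hw₀ using 1; group)
      have h2 := (hT'eq _).1 (hβT' _ h1)
      rw [map_mul, map_mul, map_inv, ← hk'] at h2
      convert h2 using 1
      rw [hmm]; group
    have hmc : ∀ w ∈ (T : Subgroup E), Commute mm w := by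
      intro w hw
      haveI : (Cfsg.oddCore D).Normal := PCore.pPrimeCore_normal
      set c : D := ⟨mm, mul_mem (inv_mem k.2) hk'D⟩ * ⟨w, hTD hw⟩ *
        (⟨mm, mul_mem (inv_mem k.2) hk'D⟩)⁻¹ * (⟨w, hTD hw⟩)⁻¹ with hc
      have hcO : c ∈ Cfsg.oddCore D := by
        rw [hc, mul_assoc _ _ (⟨w, hTD hw⟩ : D)⁻¹, mul_assoc]
        refine mul_mem hmO ?_
        rw [← mul_assoc]
        exact (inferInstance : (Cfsg.oddCore D).Normal).conj_mem _ (inv_mem hmO) _
      have hcT : (c : E) ∈ (T : Subgroup E) := mul_mem (hmT w hw) (inv_mem hw)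
      have hc1 : (c : E) = 1 := by
        have ho := PCore.odd_card_oddCore.of_dvd_nat (Subgroup.orderOf_dvd_natCard _ hcO)
        obtain ⟨j, hj⟩ := T.2 ⟨c, hcT⟩
        rw [← Subgroup.orderOf_coe] at ho
        refine orderOf_eq_one_iff.1 (Nat.eq_one_of_dvd_coprimes
          ((Nat.coprime_two_left.2 ho).pow_left j) ?_ dvd_rfl)
        exact orderOf_dvd_of_pow_eq_one (by simpa using congrArg Subtype.val hj)
      exact mul_inv_eq_iff_eq_mul.1 (mul_inv_eq_one.1 hc1)
    have hmm1 : mm = 1 := eq_one_of_sq (by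
      rw [show orderOf mm = orderOf (⟨mm, mul_mem (inv_mem k.2) hk'D⟩ : D) from (Subgroup.orderOf_mk _ _).symm]
      exact PCore.odd_card_oddCore.of_dvd_nat (Subgroup.orderOf_dvd_natCard _ hmO))
      (hq.sq_eq_one hpx (hmc z' hzT) (hmc x hxT))
    have hk1 : (k : E) = 1 := by
      rw [hmm, inv_mul_eq_one] at hmm1
      refine Subtype.ext (eq_one_of_odd_fix E hd hk h.ha hzE h.hb hiE h.comm.symm
        (k : E).2 ?_ (congrArg Subtype.val (hzD _ k.2).eq) ?_)
      · rw [Subgroup.orderOf_coe]; exact hko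
      · exact ((conjE_fix_iff E i k).1 hmm1.symm).symm
    ext w
    rw [hT'eq, hk1]
    simp
  -- `Y` centralises `T`
  refine ⟨x, x.2, ⟨h.ha, by rw [Subgroup.orderOf_coe]; exact hpx.hb, congrArg Subtype.val hpx.comm,
    fun e => hpx.ne (Subtype.ext e)⟩, fun y hy => ?_⟩
  set γ := conjE E y with hγ
  have hγz : γ z' = z' := (conjE_fix_iff E y z').2 (mem_cent.1 (hYc hy).1)
  have hyi : Commute y i := mem_cent.1 (hYc hy).2
  have hT' : (T : Subgroup E).map γ.toMonoidHom = T := by
    have hcard : Nat.card ((T : Subgroup E).map γ.toMonoidHom) = 2 ^ (Nat.card E).factorization 2 := by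
      rw [card_map_of_injective (f := γ.toMonoidHom) γ.injective, T.card_eq_multiplicity]
    have h1 := huniq (Sylow.ofCard _ hcard) ?_ ?_
    · rwa [Sylow.coe_ofCard] at h1
    · rw [Sylow.coe_ofCard]
      rintro _ ⟨w, hw, rfl⟩
      refine mem_centralizer_singleton_iff.2 ?_
      show γ w * z' = z' * γ w
      rw [← hγz, ← map_mul, ← map_mul, (hzD w (hTD hw)).eq]
    · rw [Sylow.coe_ofCard]
      rintro _ ⟨w, hw, rfl⟩
      refine ⟨β w, hβT w hw, ?_⟩
      show γ (β w) = β (γ w)
      rw [← MulAut.mul_apply, ← MulAut.mul_apply, hγ, hβ, ← map_mul, ← map_mul, hyi.eq]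
  have hmap : ∀ w ∈ (T : Subgroup E), γ w ∈ (T : Subgroup E) := fun w hw =>
    hT'.le ⟨w, hw, rfl⟩
  let τ : (T : Subgroup E) ≃* (T : Subgroup E) :=
    ((T : Subgroup E).equivMapOfInjective γ.toMonoidHom γ.injective).trans (MulEquiv.subgroupCongr hT')
  let φ : DihedralGroup m ≃* DihedralGroup m := eT.symm.trans (τ.trans eT)
  have hτv : ∀ w : (T : Subgroup E), ((τ w : (T : Subgroup E)) : E) = γ w := fun w => rfl
  have hit : ∀ (k : ℕ) (d : DihedralGroup m),
      (((eT.symm (φ^[k] d)) : (T : Subgroup E)) : E) = (γ ^ k) (eT.symm d : (T : Subgroup E)) := by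
    intro k
    induction k with
    | zero => intro d; simp
    | succ k ih =>
      intro d
      rw [Function.iterate_succ_apply', pow_succ', MulAut.mul_apply, ← ih]
      show ((eT.symm (eT (τ (eT.symm _))) : (T : Subgroup E)) : E) = _
      rw [eT.symm_apply_apply, hτv]
  have hn : Odd (orderOf y) := hY.of_dvd_nat (Subgroup.orderOf_dvd_natCard Y hy)
  obtain ⟨K, hK⟩ := DihedralSylow.exists_two_pow eT
  have hid := dihedral_auto_eq_id hK hm φ hn (z := eT ⟨z', hzT⟩) ?_ ?_ ?_ (eT ⟨x, hxT⟩)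
  · have h2 : γ x = x := by
      have h3 := congrArg (fun d => ((eT.symm d : (T : Subgroup E)) : E)) hid
      rw [show φ (eT ⟨x, hxT⟩) = eT (τ ⟨x, hxT⟩) by
        show eT (τ (eT.symm (eT _))) = _; rw [eT.symm_apply_apply]] at h3
      rw [eT.symm_apply_apply, eT.symm_apply_apply, hτv] at h3
      exact h3
    exact (conjE_fix_iff E y x).1 h2
  · intro d
    apply eT.symm.injective
    refine Subtype.ext ?_
    rw [hit, hγ, ← map_pow, pow_orderOf_eq_one, map_one, MulAut.one_apply]
  · intro e1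
    exact ne_one_of_order h.ha (congrArg (fun w : (T : Subgroup E) => ((w : E) : Q)) (eT.map_eq_one_iff.1 e1))
  · show eT (τ (eT.symm (eT _))) = _
    rw [eT.symm_apply_apply]
    exact congrArg eT (Subtype.ext ((hτv _).trans hγz))

/-- **The quotient statement**: `Y` centralises a cycle of `E` on a four group meeting that of `a`
and `b`; if these lie in `E`, on theirs. -/
theorem quotient_cycle (hd : SubDihedral Q) (hk : IsKnown E) (hC : centralizer (E : Set Q) = ⊥)
    {a b : Q} (h : Pair a b) {Y : Subgroup Q} (hY : Odd (Nat.card Y)) (hYc : Y ≤ Cent a ⊓ Cent b) :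
    ∃ z c g : Q, z ∈ h.four ∧ z ∈ E ∧ c ∈ E ∧ g ∈ E ∧ Pair z c ∧ Cycles g z c ∧
      (∀ y ∈ Y, Commute y z ∧ Commute y c ∧ Commute y g) ∧ (a ∈ E → b ∈ E → z = a ∧ c = b) := by
  have hya : ∀ y ∈ Y, Commute y a := fun y hy => mem_cent.1 (hYc hy).1
  have hyb : ∀ y ∈ Y, Commute y b := fun y hy => mem_cent.1 (hYc hy).2
  by_cases hab : a ∈ E ∧ b ∈ E
  · obtain ⟨g, hg, hcyc, hfix⟩ := exists_cycle_inner E hd hk hC h hab.1 hab.2 hY hYc
    exact ⟨a, b, g, h.left_mem, hab.1, hab.2, hg, h, hcyc,
      fun y hy => ⟨hya y hy, hyb y hy, hfix y hy⟩, fun _ _ => ⟨rfl, rfl⟩⟩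
  have key : ∀ z i : Q, Pair z i → z ∈ h.four → z ∈ E → i ∉ E →
      (∀ y ∈ Y, Commute y z ∧ Commute y i) →
      ∃ z c g : Q, z ∈ h.four ∧ z ∈ E ∧ c ∈ E ∧ g ∈ E ∧ Pair z c ∧ Cycles g z c ∧
        (∀ y ∈ Y, Commute y z ∧ Commute y c ∧ Commute y g) ∧ (a ∈ E → b ∈ E → z = a ∧ c = b) := by
    intro z i hp hz4 hzE hiE hc
    obtain ⟨x, hxE, hpx, hxc⟩ := exists_pair_fixed E hd hk hp hzE hiE hY
      fun y hy => ⟨mem_cent.2 (hc y hy).1.eq, mem_cent.2 (hc y hy).2.eq⟩
    obtain ⟨g, hg, hcyc, hfix⟩ := exists_cycle_inner E hd hk hC hpx hzE hxE hY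
      fun y hy => ⟨mem_cent.2 (hc y hy).1.eq, mem_cent.2 (hxc y hy).eq⟩
    exact ⟨z, x, g, hz4, hzE, hxE, hg, hpx, hcyc,
      fun y hy => ⟨(hc y hy).1, hxc y hy, hfix y hy⟩, fun ha hb => absurd ⟨ha, hb⟩ hab⟩
  by_cases ha : a ∈ E
  · exact key a b h h.left_mem ha (fun hb => hab ⟨ha, hb⟩) fun y hy => ⟨hya y hy, hyb y hy⟩
  rcases exists_mem_four E hd hk h with h1 | h1 | h1
  · exact absurd h1 ha
  · exact key b a h.symm h.right_mem h1 ha fun y hy => ⟨hyb y hy, hya y hy⟩
  · exact key (a * b) a h.right_left (h.four.mul_mem h.left_mem h.right_mem) h1 ha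
      fun y hy => ⟨(hya y hy).mul_right (hyb y hy), hya y hy⟩

/-- Odd subgroups of involution centralisers over `A₇` have order dividing 3. -/
theorem card_dvd_three_of_seven (hd : SubDihedral Q) (e : E ≃* alternatingGroup (Fin 7))
    (hC : centralizer (E : Set Q) = ⊥) {a : Q} (ha : orderOf a = 2) {R : Subgroup Q}
    (hR : Odd (Nat.card R)) (hRa : R ≤ Cent a) : Nat.card R ∣ 3 := by
  have hle : R ≤ E := fun r hr =>
    mem_of_seven_odd E e hC (hR.of_dvd_nat (Subgroup.orderOf_dvd_natCard R hr))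
  have haE := mem_of_seven E hd e ha
  have hcard : Nat.card (R.subgroupOf E) = Nat.card R :=
    Nat.card_congr (subgroupOfEquivOfLe hle).toEquiv
  have := seven_card_dvd e (t := ⟨a, haE⟩) (by rwa [Subgroup.orderOf_mk]) (R := R.subgroupOf E)
    (by rwa [hcard])
    fun r hr => mem_centralizer_singleton_iff.2 (Subtype.ext (mem_cent.1 (hRa hr)))
  rwa [hcard] at this

/-- Over `A₇`, odd elements centralising the involution `a` centralise what a nontrivial one among
them centralises. -/
theorem commute_of_seven (hd : SubDihedral Q) (e : E ≃* alternatingGroup (Fin 7))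
    (hC : centralizer (E : Set Q) = ⊥) {a y x b : Q} (ha : orderOf a = 2) (hy : Odd (orderOf y))
    (hya : Commute y a) (hy1 : y ≠ 1) (hx : Odd (orderOf x)) (hxa : Commute x a)
    (hyb : Commute y b) : Commute x b := by
  haveI : Fact (Nat.Prime 2) := ⟨Nat.prime_two⟩
  set D := centralizer ({a} : Set Q) with hD
  haveI : (Cfsg.oddCore D).Normal := PCore.pPrimeCore_normal
  have haD : a ∈ D := mem_centralizer_singleton_iff.2 rfl
  have hao : orderOf (⟨a, haD⟩ : D) = 2 := by rw [Subgroup.orderOf_mk]; exact ha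
  have hD2 : IsPGroup 2 (D ⧸ Cfsg.oddCore D) := by
    refine isPGroup_of_central_invol (hd.subgroup D).quotient_oddCore
      PCore.pPrimeCore_quotient_self_eq_bot
      (z := QuotientGroup.mk' (Cfsg.oddCore D) ⟨a, haD⟩) ?_ ?_
    · refine order_of_sq ?_ fun h1 => ?_
      · rw [← map_mul, sq_of_order hao, map_one]
      · rw [QuotientGroup.mk'_apply, QuotientGroup.eq_one_iff] at h1
        have := PCore.odd_card_oddCore.of_dvd_nat (Subgroup.orderOf_dvd_natCard _ h1)
        rw [hao] at this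
        exact absurd this (by decide)
    · refine mem_center_iff.2 fun d => ?_
      obtain ⟨d, rfl⟩ := QuotientGroup.mk'_surjective _ d
      rw [← map_mul, ← map_mul]
      exact congrArg _ (Subtype.ext (mem_centralizer_singleton_iff.1 d.2))
  set R := (Cfsg.oddCore D).map D.subtype with hR
  have hmem : ∀ q : Q, Commute q a → Odd (orderOf q) → q ∈ R := by
    intro q hqa ho
    have hq : q ∈ D := mem_centralizer_singleton_iff.2 hqa.eq
    refine ⟨⟨q, hq⟩, ?_, rfl⟩
    show (⟨q, hq⟩ : D) ∈ Cfsg.oddCore D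
    rw [← QuotientGroup.eq_one_iff, ← orderOf_eq_one_iff]
    obtain ⟨j, hj⟩ := hD2 ((⟨q, hq⟩ : D) : D ⧸ Cfsg.oddCore D)
    refine Nat.eq_one_of_dvd_coprimes ((Nat.coprime_two_left.2 ho).pow_left j)
      (orderOf_dvd_of_pow_eq_one hj) ?_
    have := orderOf_map_dvd (QuotientGroup.mk' (Cfsg.oddCore D)) (⟨q, hq⟩ : D)
    rwa [Subgroup.orderOf_mk] at this
  have hR3 : Nat.card R ∣ 3 := card_dvd_three_of_seven E hd e hC ha
    (by rw [hR, card_map_of_injective D.subtype_injective]; exact PCore.odd_card_oddCore)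
    (map_subtype_le _)
  have hyR := hmem y hya hy
  have hgen : zpowers y = R := by
    refine eq_of_le_of_card_ge (zpowers_le.2 hyR) ?_
    rw [Nat.card_zpowers]
    rcases (Nat.dvd_prime Nat.prime_three).1 ((Subgroup.orderOf_dvd_natCard R hyR).trans hR3) with e1 | e1
    · exact absurd (orderOf_eq_one_iff.1 e1) hy1
    · rw [e1]; exact Nat.le_of_dvd (by norm_num) hR3
  obtain ⟨i, rfl⟩ := mem_zpowers_iff.1 (hgen.ge (hmem x hxa hx))
  exact hyb.zpow_left i

end Quot

end Cfsg.Agent.GW
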