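import Cfsg.Agent.Lib.GW.PartII.CompCase

/-!
# The inverted centre: the two shapes

`Central.Extra t τ W`: `W` is the extraspecial subgroup of `fitCore t`; `not_compConfig_of_shapes`: no
component configuration, given that the configuration of inverted centre has one of two shapes and
both give a `Heis`.
-/

set_option autoImplicit false

namespace Cfsg.Agent.GW

open Subgroup CompLocal

universe u

variable {G : Type u} [Group G] [Finite G] {S : Sylow 2 G} {t : G}

theorem not_compConfig_of_shapes (hyp : Hyp S t) (hk : ProperKnown G) (hM : IsCoatom (Cent t))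
    (hsplit : ∀ τ, Central t τ →
      (∃ b y, Heis t b y τ ∧ oCore t = fitCore t ∧
        (normalizer (zpowers y : Set G) ⊓ Cent t).relIndex (Cent t) = orderOf y ∧
        orderOf y - 1 ≤ (nbrs t y).ncard) ∨
      (∃ b y, Heis t b y τ ∧ orderOf y - 1 ≤ (nbrs t y).ncard ∧
        (normalizer (zpowers y : Set G) ⊓ Cent t).relIndex (Cent t) ≤ orderOf y * (orderOf y + 1) ∧
        (fitCore t).relIndex (oCore t) ≤ orderOf y + 1 ∧
        (∀ u : G, orderOf u = 2 → u ≠ t → Commute u t → Nat.card (dFix t u) = orderOf y) ∧
        (orderOf y = 3 → 16 ∣ Nat.card (S : Subgroup G)))) : ¬ CompConfig G := by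
  refine not_compConfig_of_central hyp hk hM fun τ hτ => ?_
  rcases hsplit τ hτ with ⟨b, y, h, hOF, hMr, hc⟩ | ⟨b, y, h, hc, hMr, hrel, hD, hr3⟩
  · exact h.false_of_line hyp hk hM CompModel.fixModel hOF hMr hc
  · exact h.false_of_extraspecial hyp hk hM CompModel.fixModel hMr hc hrel hD hr3

end Cfsg.Agent.GW
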