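import Cfsg.Agent.Lib.GW.PartII.SplitResidual
import Cfsg.Agent.Lib.GW.PartII.SplitFour
import Cfsg.Agent.Lib.GW.LinearFixed.Values

/-!
# Part II of Gorenstein-Walter: the split configuration has no fixed points

With Sylow 2-subgroups of order at least 8, either a nontrivial linear character of the core of `Cent J`
is fixed by `Cent J` and by the three-cycles (impossible by section B), or
`oCore J = fitCore J · qf τ J · qf (σ τ) J`, and then the semiregular actions leave the residual case.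
-/

set_option autoImplicit false
set_option linter.style.haveILetI false
set_option linter.unusedSectionVars false

namespace Cfsg.Agent.GW

open Subgroup Cfsg.Agent.DihedralBlock
open BSW (sq_of_order inv_of_order ne_one_of_order order_of_sq mem_cent)

universe u

variable {G : Type u} [Group G] [Finite G] {S : Sylow 2 G} {t : G}

/-- A proper normalised subgroup of an odd-order group lies in the kernel of a nontrivial linear
character. -/
theorem exists_linear_trivial_on {V W : Subgroup G} (hn : V ≤ normalizer (W : Set G))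
    (hne : ¬ V ≤ W) (hodd : Odd (Nat.card V)) :
    ∃ θ : V →* ℂ, θ ≠ 1 ∧ ∀ x : V, (x : G) ∈ W → θ x = 1 := by
  haveI : (W.subgroupOf V).Normal := normal_subgroupOf_of_le_normalizer hn
  haveI : Nontrivial (V ⧸ W.subgroupOf V) := by
    rw [QuotientGroup.nontrivial_iff, Ne, subgroupOf_eq_top]
    exact hne
  obtain ⟨φ, hφ⟩ := exists_linear_ne_one (V ⧸ W.subgroupOf V)
    (hodd.of_dvd_nat (card_dvd_of_surjective _ (QuotientGroup.mk'_surjective _)))
  refine ⟨φ.comp (QuotientGroup.mk' _), fun e => hφ (MonoidHom.ext fun q => ?_), fun x hx => ?_⟩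
  · obtain ⟨x, rfl⟩ := QuotientGroup.mk'_surjective _ q
    exact DFunLike.congr_fun e x
  · show φ (QuotientGroup.mk' _ x) = 1
    rw [show QuotientGroup.mk' (W.subgroupOf V) x = 1 from (QuotientGroup.eq_one_iff x).2 hx, map_one]

/-- `tri a b` lies in `oCore a`. -/
theorem tri_le_oCore (hyp : Hyp S t) {a b : G} (h : Pair a b) : tri a b ≤ oCore a :=
  sup_le (sup_le (qf_le_oCore a b) ((qf_le_dd_swap hyp h.ha).trans inf_le_left))
    ((qf_le_dd_swap hyp h.ha).trans inf_le_left)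

/-- `oCore a` normalises `fitCore a ⊔ tri a b`. -/
theorem SplitConfig.le_normalizer_sup_tri (sc : SplitConfig G) (hyp : Hyp S t) {a b : G}
    (h : Pair a b) : oCore a ≤ normalizer ((fitCore a ⊔ tri a b : Subgroup G) : Set G) := by
  rw [← sc.fitCore_sup_dd h]
  refine sup_le ((le_sup_left).trans le_normalizer) fun y hy => ?_
  refine mem_normalizer_of_conj_mem fun k hk => ?_
  have hle : (fitCore a ⊔ tri a b).map (MulAut.conj y).toMonoidHom ≤ fitCore a ⊔ tri a b := by
    rw [Subgroup.map_sup]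
    refine sup_le_sup ?_ ?_
    · rintro _ ⟨f, hf, rfl⟩
      exact (mem_normalizer_iff.1 (cent_le_normalizer_fitCore a (Hyp.oCore_le_cent a hy.1)) f).1 hf
    · rintro _ ⟨f, hf, rfl⟩
      refine conj_mem_tri hyp h (fun x hx => ?_) f hf
      have hya : Commute y a := mem_cent.1 (Hyp.oCore_le_cent a hy.1)
      have hyb : Commute y b := mem_cent.1 hy.2
      have hyx : Commute y x := by
        rcases hx with rfl | rfl | rfl
        exacts [hya, hyb, hya.mul_right hyb]
      rw [hyx.eq, mul_inv_cancel_right]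
      exact hx
  exact hle ⟨k, hk, rfl⟩

section Big

variable {σ τ : G} {M₀ : ℕ}

/-- Commuting with two reflections generating `⟨σ, τ⟩` gives commuting with `σ`. -/
theorem commute_sigma {z : G} (d : DihedralBlock.Data σ τ M₀) (h1 : Commute z τ)
    (h2 : Commute z (σ * τ)) : Commute z σ := by
  have h := h2.mul_right h1
  rwa [mul_assoc, d.tsq, mul_one] at h

theorem false_of_big [Fintype G] (sc : SplitConfig G) (hyp : Hyp S t)
    (d : DihedralBlock.Data σ τ M₀) (P : Sylow 2 G) (hσ : σ ∈ (P : Subgroup G))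
    (hτ : τ ∈ (P : Subgroup G))
    (hform : ∀ x ∈ (P : Subgroup G), ∃ i : ℕ, x = σ ^ i ∨ x = σ ^ i * τ)
    (hV : d.V = oCore (σ ^ M₀)) (hD : dd (σ ^ M₀) τ ≠ ⊥) : False := by
  classical
  haveI := sc.simple
  set J := σ ^ M₀ with hJ
  set F := fitCore J with hF
  have hJo : orderOf J = 2 := d.orderOf_J
  have hqo : ∀ i : ℕ, orderOf (σ ^ i * τ) = 2 := fun i =>
    orderOf_eq_prime (by rw [pow_two]; exact RhoInvariant.refl_sq d) fun h =>
      d.mul_pow_ne d.V.one_mem d.V.one_mem 0 i (by rw [one_mul, one_mul, pow_zero, h])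
  have hpair : ∀ i : ℕ, Pair J (σ ^ i * τ) := fun i =>
    ⟨hJo, hqo i, (RhoInvariant.commute_refl d).eq, fun h =>
      d.mul_pow_ne d.V.one_mem d.V.one_mem M₀ i (by rw [one_mul, one_mul]; exact h)⟩
  have h1 : Pair J τ := by simpa using hpair 0
  have h2 : Pair J (σ * τ) := by simpa using hpair 1
  set s := σ ^ (M₀ / 2) with hs_def
  have hss : s * s = J := RhoInvariant.half_sq d
  have hsb : s * τ * s⁻¹ = J * τ := by simpa using RhoInvariant.half_conj d 0
  have hsb' : s * (σ * τ) * s⁻¹ = J * (σ * τ) := by simpa using RhoInvariant.half_conj d 1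
  -- `Cent J` acts trivially on `oCore J` modulo `F`
  have hnorm : ∀ c : G, Commute J c → ∀ x ∈ oCore J, c * x * c⁻¹ ∈ oCore J := fun c hc x hx =>
    (mem_normalizer_iff.1 (Hyp.cent_le_normalizer J (mem_cent.2 hc.eq.symm)) x).1 hx
  have hτF : ∀ x ∈ oCore J, τ * x * τ⁻¹ * x⁻¹ ∈ F := fun x hx => sc.comm_mem_fitCore h1 hx
  have hσF : ∀ x ∈ oCore J, σ * x * σ⁻¹ * x⁻¹ ∈ F := by
    intro x hx
    have e : σ * x * σ⁻¹ * x⁻¹ = σ * τ * (τ * x * τ⁻¹) * (σ * τ)⁻¹ * (τ * x * τ⁻¹)⁻¹ *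
        (τ * x * τ⁻¹ * x⁻¹) := by
      rw [show σ * τ * (τ * x * τ⁻¹) * (σ * τ)⁻¹ = σ * (τ * τ) * x * (τ * τ)⁻¹ * σ⁻¹ by group,
        d.tsq, mul_one, inv_one, mul_one]
      group
    rw [e]
    exact mul_mem (sc.comm_mem_fitCore h2 (hnorm τ d.commute_J_t x hx)) (hτF x hx)
  have hσnF : ∀ i : ℕ, ∀ x ∈ oCore J, σ ^ i * x * (σ ^ i)⁻¹ * x⁻¹ ∈ F := by
    intro i
    induction i with
    | zero => intro x _; simp
    | succ i ih =>
      intro x hx
      have e : σ ^ (i + 1) * x * (σ ^ (i + 1))⁻¹ * x⁻¹ = σ * (σ ^ i * x * (σ ^ i)⁻¹) * σ⁻¹ *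
          (σ ^ i * x * (σ ^ i)⁻¹)⁻¹ * (σ ^ i * x * (σ ^ i)⁻¹ * x⁻¹) := by
        rw [pow_succ']; group
      rw [e]
      exact mul_mem (hσF _ (hnorm _ (d.commute_J_pow i) x hx)) (ih x hx)
  have hFV : F ≤ oCore J := fitCore_le_oCore J
  by_cases hle : oCore J ≤ F
  · exact hD (sc.dd_eq_bot_of_le_fitCore hyp h1 hle)
  set W := F ⊔ tri J τ ⊔ (F ⊔ tri J (σ * τ)) with hW
  by_cases hWV : oCore J ≤ W
  swap
  · -- a fixed linear character
    have hWn : oCore J ≤ normalizer (W : Set G) := fun y hy => by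
      refine mem_normalizer_of_conj_mem fun k hk => ?_
      have hle' : W.map (MulAut.conj y).toMonoidHom ≤ W := by
        rw [hW, Subgroup.map_sup]
        refine sup_le_sup ?_ ?_
        · rintro _ ⟨z, hz, rfl⟩
          exact (mem_normalizer_iff.1 (sc.le_normalizer_sup_tri hyp h1 hy) z).1 hz
        · rintro _ ⟨z, hz, rfl⟩
          exact (mem_normalizer_iff.1 (sc.le_normalizer_sup_tri hyp h2 hy) z).1 hz
      exact hle' ⟨k, hk, rfl⟩
    rw [← hV] at hWn hWV
    obtain ⟨θ, hθ1, hθW⟩ := exists_linear_trivial_on hWn hWV d.oddV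
    have hcong : ∀ v w : d.V, (w : G) * (v : G)⁻¹ ∈ F → θ w = θ v := fun v w h => by
      rw [← inv_mul_cancel_right w v, map_mul,
        hθW (w * v⁻¹) (mem_sup_left (mem_sup_left (by simpa using h))), one_mul]
    have hinner : ∀ u v : d.V, θ (u * v * u⁻¹) = θ v := fun u v => by
      rw [map_mul, map_mul, mul_right_comm, ← map_mul, mul_inv_cancel, map_one, one_mul]
    have hinv : ∀ c, Commute J c → ∀ v w : d.V, (w : G) = c * v * c⁻¹ → θ w = θ v := by
      intro c hc v w hw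
      obtain ⟨v₀, hv₀, i, rfl | rfl⟩ := d.decomp c hc
      · let y : d.V := ⟨σ ^ i * v * (σ ^ i)⁻¹, d.normV _ (d.commute_J_pow i) _ v.2⟩
        have e : w = ⟨v₀, hv₀⟩ * y * ⟨v₀, hv₀⟩⁻¹ := Subtype.ext (by
          show (w : G) = v₀ * (σ ^ i * (v : G) * (σ ^ i)⁻¹) * v₀⁻¹
          rw [hw]; group)
        rw [e, hinner, hcong v y (hσnF i _ (hV ▸ v.2))]
      · have hJi : Commute J (σ ^ i * τ) := RhoInvariant.commute_refl d
        let y : d.V := ⟨σ ^ i * τ * v * (σ ^ i * τ)⁻¹, d.normV _ hJi _ v.2⟩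
        have e : w = ⟨v₀, hv₀⟩ * y * ⟨v₀, hv₀⟩⁻¹ := Subtype.ext (by
          show (w : G) = v₀ * (σ ^ i * τ * (v : G) * (σ ^ i * τ)⁻¹) * v₀⁻¹
          rw [hw]; group)
        refine (congrArg θ e).trans ((hinner _ _).trans (hcong v y ?_))
        have e' : σ ^ i * τ * (v : G) * (σ ^ i * τ)⁻¹ * (v : G)⁻¹ =
            σ ^ i * (τ * v * τ⁻¹) * (σ ^ i)⁻¹ * (τ * (v : G) * τ⁻¹)⁻¹ * (τ * v * τ⁻¹ * (v : G)⁻¹) := by
          group
        show σ ^ i * τ * (v : G) * (σ ^ i * τ)⁻¹ * (v : G)⁻¹ ∈ F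
        rw [e']
        exact mul_mem (hσnF i _ (hnorm τ d.commute_J_t _ (hV ▸ v.2))) (hτF _ (hV ▸ v.2))
    have hhr : ∀ j : ℕ, tri J (σ ^ j * τ) ≤ W → ∃ r : G,
        r * J * r⁻¹ = σ ^ j * τ ∧ r * (σ ^ j * τ) * r⁻¹ = J * (σ ^ j * τ) ∧
        ∀ v w : d.V, Commute (σ ^ j * τ) (v : G) → (w : G) = r⁻¹ * v * r → θ w = θ v := by
      intro j hj
      have hs' : ∀ v ∈ d.V, Commute (σ ^ j * τ) v → s * v * s⁻¹ * v⁻¹ ∈ tri J (σ ^ j * τ) := by
        intro v hv hqv
        refine mem_sup_left (mem_sup_left ⟨hσnF _ v (hV ▸ hv), mem_cent.2 ?_⟩)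
        have c1 : Commute (s * v * s⁻¹) (σ ^ j * τ) := by
          have h := ((d.commute_J hv).mul_left hqv).symm.map (MulAut.conj s)
          simp only [MulAut.conj_apply] at h
          rwa [← conj_mul, RhoInvariant.half_conj d j, show s * σ ^ M₀ * s⁻¹ = σ ^ M₀ by
            rw [(Commute.pow_pow_self σ (M₀ / 2) M₀).eq, mul_inv_cancel_right],
          ← mul_assoc, d.J_sq, one_mul] at h
        exact (c1.mul_left hqv.symm.inv_left).eq
      obtain ⟨r, hr1, hr2, hr3⟩ := RhoInvariant.exists_r_hom d θ.toHomUnits (tri J (σ ^ j * τ))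
        (fun x hx => Units.ext (by simpa using hθW x (hj hx)))
        (fun g hg => conj_mem_tri hyp (hpair j) hg) hs'
      exact ⟨r, hr1, hr2, fun v w hv hw => by simpa using congrArg Units.val (hr3 v w hv hw)⟩
    refine LinearFixed.false_of_nontrivial P hσ hτ hform hyp.not_comm
      ({ θ := θ, inv := hinv, hr := ?_ } : LinearFixed.Fix d) hθ1
    rintro q (rfl | rfl)
    · have := hhr 0 (by rw [pow_zero, one_mul]; exact le_sup_right.trans le_sup_left)
      simpa using this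
    · have := hhr 1 (by rw [pow_one]; exact le_sup_right.trans le_sup_right)
      simpa using this
  -- the residual
  have hswap : ∀ {q : G}, Pair J q → s * q * s⁻¹ = J * q →
      F ⊔ tri J q ≤ F ⊔ qf q J := fun {q} hq hsq => by
    refine sup_le le_sup_left (sup_le (sup_le (inf_le_left.trans le_sup_left) le_sup_right) ?_)
    exact sc.qf_mul_le_sup hyp hq hss hsq (hσnF _)
  set Qu := qf τ J
  set Qu' := qf (σ * τ) J
  have hgen : oCore J ≤ (F ⊔ Qu) ⊔ (F ⊔ Qu') :=
    hWV.trans (sup_le_sup (hswap h1 hsb) (hswap h2 hsb'))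
  have hQu : Qu ≤ oCore J := (qf_le_dd_swap hyp hJo).trans inf_le_left
  have hQu' : Qu' ≤ oCore J := (qf_le_dd_swap hyp hJo).trans inf_le_left
  have hbot : ∀ {q : G}, Pair J q → s * q * s⁻¹ = J * q → qf J q = ⊥ → qf q J = ⊥ :=
    fun {q} hq hsq e => Subgroup.card_eq_one.1 (by
      rw [sc.card_qf_eq hyp hq hss hsq (hσnF _), e, Subgroup.card_bot])
  by_cases hQ : qf J τ = ⊥
  · have hgen' : F ⊔ Qu' = oCore J := by
      refine le_antisymm (sup_le hFV hQu') (hgen.trans (sup_le ?_ le_rfl))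
      rw [show Qu = ⊥ from hbot h1 hsb hQ, sup_bot_eq]
      exact le_sup_left
    let d' : DihedralBlock.Data σ (σ * τ) M₀ := { toCore := d.toCore.shift, conjAll := d.conjAll }
    have hQ' : qf J (σ * τ) ≠ ⊥ := fun e => hle (by
      rw [← hgen', show Qu' = ⊥ from hbot h2 hsb' e, sup_bot_eq])
    have hform' : ∀ x ∈ (P : Subgroup G), ∃ i : ℕ, x = σ ^ i ∨ x = σ ^ i * (σ * τ) := by
      intro x hx
      obtain ⟨i, hi | hi⟩ := hform x hx
      · exact ⟨i, Or.inl hi⟩
      · refine ⟨i + (2 * M₀ - 1), Or.inr ?_⟩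
        have := d.hM0
        rw [← mul_assoc, ← pow_succ, add_assoc, Nat.sub_add_cancel (by omega), pow_add,
          d.sigma_pow_two_mul, mul_one]
        exact hi
    have hQ'' : qf J (σ * (σ * τ)) = ⊥ := (Subgroup.eq_bot_iff_forall _).2 fun z hz => by
      have h := conj_mem_qf hz σ⁻¹
      rw [inv_inv, show σ⁻¹ * J * σ = J by
          rw [mul_assoc, (Commute.pow_self σ M₀).eq, inv_mul_cancel_left],
        show σ⁻¹ * (σ * (σ * τ)) * σ = τ by
          rw [inv_mul_cancel_left, mul_assoc, show τ * σ = σ⁻¹ * τ by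
            simpa using d.t_mul_pow 1, mul_inv_cancel_left], hQ, mem_bot] at h
      calc z = σ * (σ⁻¹ * z * σ) * σ⁻¹ := by group
        _ = 1 := by rw [h]; group
    refine false_of_residual sc hyp d' P hσ (mul_mem hσ hτ) hform' hV h2 ?_ hss hsb' (hσnF _) hQ'
      hQ'' hgen'
    have := hpair 2
    rwa [pow_two, mul_assoc] at this
  by_cases hQ' : qf J (σ * τ) = ⊥
  · refine false_of_residual sc hyp d P hσ hτ hform hV h1 h2 hss hsb (hσnF _) hQ hQ'
      (le_antisymm (sup_le hFV hQu) (hgen.trans (sup_le le_rfl ?_)))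
    rw [show Qu' = ⊥ from hbot h2 hsb' hQ', sup_bot_eq]
    exact le_sup_left
  have hd1 := sc.card_dvd_pred hyp h1 hss hsb (hσnF _) h2 fun z _ ha hb =>
    (commute_sigma d ha hb).pow_right _
  have hd2 := sc.card_dvd_pred hyp h2 hss hsb' (hσnF _) h1 fun z _ ha hb =>
    (commute_sigma d hb ha).pow_right _
  have g1 := (Subgroup.one_lt_card_iff_ne_bot _).2 hQ
  have g2 := (Subgroup.one_lt_card_iff_ne_bot _).2 hQ'
  have e1 := Nat.le_of_dvd (by omega) hd1
  have e2 := Nat.le_of_dvd (by omega) hd2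
  omega

end Big

theorem SplitConfig.false_of_four_lt (sc : SplitConfig G) (hyp : Hyp S t)
    (h4 : 4 < Nat.card (S : Subgroup G)) {a b : G} (h : Pair a b) (hD : dd a b ≠ ⊥) : False := by
  classical
  haveI := Fintype.ofFinite G
  haveI : Fact (Nat.Prime 2) := ⟨Nat.prime_two⟩
  obtain ⟨T, hT, hVT⟩ := hyp.exists_at h.ha h.four h.isPGroup (fun v hv =>
    mem_cent.2 (h.commute_of_mem_four hv h.left_mem).eq)
  obtain ⟨g⟩ := hT.exists_gens
  have hk : 1 ≤ g.k := by
    rw [S.card_eq_multiplicity, ← T.card_eq_multiplicity, g.hcard, g.hn] at h4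
    by_contra hk
    rw [show g.k = 0 by omega] at h4
    norm_num at h4
  have hbT : b ∈ (T : Subgroup G) := hVT h.right_mem
  obtain ⟨m, hm | hm⟩ := g.hform b hbT
  · exact h.ne (eq_of_invol_zpowers (hm ▸ zpow_mem (mem_zpowers _) m) g.htσ h.hb h.ha).symm
  have hσo : orderOf g.σ = 2 ^ (g.k + 2 - 1) := by rw [g.hord, g.hn]; rfl
  have hconjσ : g.τ * g.σ * g.τ⁻¹ = g.σ⁻¹ := g.hrel
  have hrel : b * g.σ * b⁻¹ = g.σ⁻¹ := by
    rw [hm, show g.σ ^ m * g.τ * g.σ * (g.σ ^ m * g.τ)⁻¹ =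
      g.σ ^ m * (g.τ * g.σ * g.τ⁻¹) * (g.σ ^ m)⁻¹ by group, hconjσ]
    group
  have hgen : closure ({g.σ, b} : Set G) = (T : Subgroup G) := by
    refine le_antisymm ((closure_le _).2 (by rintro x (rfl | rfl); exacts [g.hσ, hbT])) fun x hx => ?_
    have hσc : g.σ ∈ closure ({g.σ, b} : Set G) := subset_closure (by simp)
    have hbc : b ∈ closure ({g.σ, b} : Set G) := subset_closure (by simp)
    have hτc : g.τ ∈ closure ({g.σ, b} : Set G) := by
      rw [show g.τ = (g.σ ^ m)⁻¹ * b by rw [hm, inv_mul_cancel_left]]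
      exact mul_mem (inv_mem (zpow_mem hσc m)) hbc
    obtain ⟨i, rfl | rfl⟩ := g.hform x hx
    · exact zpow_mem hσc i
    · exact mul_mem (zpow_mem hσc i) hτc
  have hk2 : orderOf (g.σ ^ (2 ^ g.k)) = 2 := by
    rw [orderOf_pow_of_dvd (by positivity) (by rw [g.hord, g.hn, pow_succ]; exact dvd_mul_right _ _),
      g.hord, g.hn, pow_succ, Nat.mul_div_cancel_left _ (by positivity)]
  have hJ : g.σ ^ (2 ^ g.k) = a :=
    eq_of_invol_zpowers (pow_mem (mem_zpowers _) _) g.htσ hk2 h.ha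
  have hσb : orderOf (g.σ * b) = 2 := by
    rw [hm, ← mul_assoc, ← zpow_one_add]; exact refl_order g _
  obtain ⟨d, hform⟩ := DihedralBlock.exists_data (n := g.k + 2) (by omega) T g.hσ hbT hσo h.hb hrel
    hgen ⟨hT.isConj_invol hk2 h.hb, hT.isConj_invol hk2 hσb⟩
  rw [Nat.add_sub_cancel] at d
  refine false_of_big sc hT d T g.hσ hbT hform ?_ (by rw [hJ]; exact hD)
  ext v
  rw [d.mem_V, hyp.mem_oCore_iff (x := g.σ ^ (2 ^ g.k)) hk2, mem_cent]
  exact ⟨fun h => ⟨h.1.symm.eq, h.2⟩, fun h => ⟨Commute.symm h.1, h.2⟩⟩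

/-- **The split configuration has no fixed points.** -/
theorem SplitConfig.noFixed (sc : SplitConfig G) (hyp : Hyp S t) : NoFixed G := by
  intro a b ha hb hab hne
  by_contra hD
  have h : Pair a b := ⟨ha, hb, hab, hne⟩
  by_cases h4 : 4 < Nat.card (S : Subgroup G)
  · exact sc.false_of_four_lt hyp h4 h hD
  refine false_of_four hyp sc.splits ?_ h hD
  obtain ⟨g⟩ := hyp.exists_gens
  rw [g.hcard, g.hn, pow_succ] at h4 ⊢
  have := Nat.one_le_two_pow (n := g.k)
  omega

end Cfsg.Agent.GW
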