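import Cfsg.Agent.Lib.GW.Assembly
import Cfsg.Agent.Lib.GW.PartII.CentMaximal
import Cfsg.Agent.Lib.GW.PartII.SplitFinal

/-!
# Gorenstein-Walter Part II: the assembly

If some maximal subgroup over `Cent t` has no normal 2-complement we are in the big case; otherwise `Cent t`
is maximal, there is no component configuration, and the split configuration has no fixed points.
-/

set_option autoImplicit false

namespace Cfsg.Agent.GW

open Subgroup

universe u

variable {G : Type u} [Group G] [Finite G] {S : Sylow 2 G} {t : G}

/-- `Cent t` has all fixed-point-free pairs unless a big maximal subgroup or a component configuration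
exists. -/
theorem noFixed_of_coatom (hyp : Hyp S t) (hcf : CycleFixed G) (hM : IsCoatom (Cent t))
    (hc : ¬ CompConfig G) : NoFixed G :=
  (splitConfig hyp hcf hM hc).noFixed hyp

/-- **Part II** from the cycle lemma, the big case and the absence of component configurations. -/
theorem partTwo_of
    (hcf : ∀ (G : Type u) [Group G] [Finite G] (S : Sylow 2 G) (t : G), Hyp S t → ProperKnown G →
      CycleFixed G)
    (hbig : ∀ (G : Type u) [Group G] [Finite G] (S : Sylow 2 G) (t : G), Hyp S t → ProperKnown G →
      ¬ NoFixed G → ∀ M : Subgroup G, IsCoatom M → Cent t ≤ M →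
        ¬ Cfsg.HasNormalPComplement 2 M → IsKnown G)
    (hcomp : ∀ (G : Type u) [Group G] [Finite G] (S : Sylow 2 G) (t : G), Hyp S t → ProperKnown G →
      IsCoatom (Cent t) → ¬ CompConfig G) :
    PartTwo.{u} := by
  intro G _ _ S t hyp hk nf
  by_cases hnb : ∀ N : Subgroup G, IsCoatom N → Cent t ≤ N → Cfsg.HasNormalPComplement 2 N
  · have hM := cent_isCoatom_of_properKnown hyp hk (hcf G S t hyp hk) hnb
    exact absurd (noFixed_of_coatom hyp (hcf G S t hyp hk) hM (hcomp G S t hyp hk hM)) nf
  · push Not at hnb
    obtain ⟨M, hM, hCM, hc⟩ := hnb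
    exact hbig G S t hyp hk nf M hM hCM hc

end Cfsg.Agent.GW
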