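import Cfsg.Agent.Lib.GW.PartII.NotMaxLocal

/-!
# Case C of Gorenstein-Walter, Part II

If every maximal subgroup over the centraliser of an involution has a normal 2-complement, the
centralisers of involutions are maximal (`cent_isCoatom`).
-/

set_option autoImplicit false
set_option linter.style.haveILetI false
set_option linter.unusedSectionVars false
set_option linter.unusedVariables false

namespace Cfsg.Agent.GW

open Subgroup Cfsg.Agent.S1856 Cfsg.Agent.S1312
open BSW (sq_of_order inv_of_order ne_one_of_order order_of_sq mem_cent)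

universe u

variable {G : Type u} [Group G] [Finite G] {S : Sylow 2 G} {t : G}

namespace Over

variable {a b g : G} {M : Subgroup G}

/-- An element of `O_r(M)` fixed by `b`, as an element with small centraliser in both. -/
theorem exists_eigen_fixed (hyp : Hyp S t) (hnb : NoBig G) (hcc : InvertedLayer G) (h : Over a M)
    (hab : Pair a b) {r p : ℕ} (hr : r.Prime) (hp : p.Prime) (hrp : r ≠ p)
    (hpm : ¬ coreP p M ≤ Cent a) (hne : coreP r M ⊓ Cent b ≠ ⊥) :
    ∃ j ∈ coreP r M, j ≠ 1 ∧ Commute j b ∧ (Commute j a ∨ a * j * a⁻¹ = j⁻¹) ∧ Cent j ≤ M := by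
  obtain ⟨y₀, hy₀, h1⟩ : ∃ y₀ ∈ coreP r M ⊓ Cent b, y₀ ≠ 1 := by
    by_contra hno
    push Not at hno
    exact hne ((Subgroup.eq_bot_iff_forall _).2 hno)
  obtain ⟨j, hj, hj1, hjb, hja⟩ := exists_eigen h.ha hab.comm (h.self_normalizer r) hy₀.1
    (mem_cent.1 hy₀.2) h1
  exact ⟨j, hj, hj1, hjb, hja, h.cent_le_of_eigen hyp hnb hcc hab
    (map_mono (Components.pCore_le_fittingSubgroup hr) hj) hj1 hja hp hpm
    fun f hf => mem_cent.2 (commute_coreP hr hp hrp hj hf).symm.eq⟩

/-- Two moved primes. -/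
theorem false_of_two_moved (hyp : Hyp S t) (hnb : NoBig G) (hcc : InvertedLayer G) (h : Over a M)
    (hab : Pair a b) (hg : Cycles g a b) {p r : ℕ} (hp : p.Prime) (hr : r.Prime) (hrp : r ≠ p)
    (hpm : ¬ coreP p M ≤ Cent a) (hrm : ¬ coreP r M ≤ Cent a) {z : G} (hz : z ∈ coreP p M)
    (hz1 : z ≠ 1) (hza : a * z * a⁻¹ = z⁻¹) (hzb : Commute z b) : False := by
  set N := M.map (MulAut.conj g).toMonoidHom with hN
  have hO : Over b N := hg.left ▸ h.map g
  have hzM : Cent z ≤ M := h.cent_le_of_eigen hyp hnb hcc hab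
    (map_mono (Components.pCore_le_fittingSubgroup hp) hz) hz1 (Or.inr hza) hr hrm
    fun f hf => mem_cent.2 (commute_coreP hp hr hrp.symm hz hf).symm.eq
  obtain ⟨j, hj, hjN, hjM⟩ : ∃ j ∈ coreP r M, j ∈ N ∧ Cent j ≤ M := by
    by_cases hne : coreP r M ⊓ Cent b = ⊥
    swap
    · obtain ⟨j, hj, -, hjb, -, hjM⟩ := h.exists_eigen_fixed hyp hnb hcc hab hr hp hrp hpm hne
      exact ⟨j, hj, hO.mem_of_commute hjb, hjM⟩
    have hbR : b ∈ normalizer (coreP r M : Set G) :=
      le_normalizer_coreP r M (h.mem_of_commute hab.comm.symm)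
    have hbinv := inverts_of_inf_eq_bot hab.hb hbR hne
    obtain ⟨f, hf, hfa⟩ : ∃ f ∈ coreP r M ⊓ Cent (a * b), f ∉ Cent a := by
      by_contra hno
      push Not at hno
      exact hrm (le_of_fixed hab (odd_coreP hyp h hr) (h.self_normalizer r) hbR inf_le_right
        (hne.le.trans bot_le) hno)
    set z' := f⁻¹ * (a * f * a⁻¹) with hz'
    have hz'mem : z' ∈ coreP r M :=
      mul_mem (inv_mem hf.1) ((mem_normalizer_iff.1 (h.self_normalizer r) f).1 hf.1)
    have hz'1 : z' ≠ 1 := fun e =>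
      hfa (mem_cent.2 (mul_inv_eq_iff_eq_mul.1 (inv_mul_eq_one.1 e).symm).symm)
    have hz'w : Commute z' (a * b) := by
      have h1 : Commute a (a * b) := hab.left.comm
      have h2 : Commute f (a * b) := mem_cent.1 hf.2
      exact h2.inv_left.mul_left ((h1.mul_left h2).mul_left h1.inv_left)
    set e := g * z' * g⁻¹ with he
    have hea : Commute e a := by
      rw [← hg.third hab]; exact Commute.map hz'w (MulAut.conj g)
    have heb : b * e * b⁻¹ = e⁻¹ := by
      rw [← hg.left, he, show g * a * g⁻¹ * (g * z' * g⁻¹) * (g * a * g⁻¹)⁻¹ =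
        g * (a * z' * a⁻¹) * g⁻¹ by group,
        show a * z' * a⁻¹ = z'⁻¹ from inverts_displace h.ha f]
      group
    have heR : e ∈ coreP r N := by
      rw [hN, ← map_conj_coreP]; exact mem_map_conj hz'mem g
    have heM : e ∈ M := h.mem_of_commute hea
    have heo := odd_order hyp hO hr heR
    have heq := coe_pow_eq_one (isPGroup_coreP r N) heR
    have heF : ∀ s : ℕ, s.Prime → s ∣ Nat.card ↥(fittingSubgroup ↥M) → coreP s M ≤ Cent e := by
      intro s hs _
      by_cases hsr : s = r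
      · subst hsr
        exact commute_of_inverts (le_normalizer_coreP s M heM) heo heb hbinv
      · refine commute_of_inverted (odd_coreP hyp h hs) hab.hb
          (le_normalizer_coreP s M (h.mem_of_commute hab.comm.symm)) (le_normalizer_coreP s M heM) heo
          (h.coprime_order hs hr (Ne.symm hsr) heq) heb fun y hy => ?_
        exact mem_cent.2 (commute_cross hr hs (Ne.symm hsr) heR hy.1 heM (hO.le hy.2)).symm.eq
    have heMr : e ∈ coreP r M := h.mem_coreP hr heM heq heF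
    exact ⟨e, heMr, map_subtype_le _ heR, h.cent_le_of_eigen hyp hnb hcc hab
      (map_mono (Components.pCore_le_fittingSubgroup hr) heMr)
      (fun e' => hz'1 (conj_eq_one_iff.1 e')) (Or.inl hea) hp hpm
      fun f hf => mem_cent.2 (commute_coreP hr hp hrp heMr hf).symm.eq⟩
  exact h.false_of_both hyp hab hg hp hr hrp hj hjN hjM hz (hO.mem_of_commute hzb) hzM
    fun s hs hsp => (h.coreP_le_cent_z hyp hab hO hp hs hsp hz hza hzb).trans hzM

/-- One moved prime `p`, the other cores centralised by the whole four group. -/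
theorem coreP_le_of_central (hyp : Hyp S t) (h : Over a M) (hab : Pair a b) (hg : Cycles g a b)
    {p : ℕ} (hA : ∀ s : ℕ, s.Prime → s ≠ p → coreP s M ≤ Cent a ⊓ Cent b) {s : ℕ} (hs : s.Prime)
    (hsp : s ≠ p) : coreP s (M.map (MulAut.conj g).toMonoidHom) ≤ M := by
  rw [← map_conj_coreP]
  rintro _ ⟨c, hc, rfl⟩
  obtain ⟨hca, hcb⟩ := hA s hs hsp hc
  have h1 : Commute (g * c * g⁻¹) b := by
    rw [← hg.left]; exact Commute.map (mem_cent.1 hca) (MulAut.conj g)
  have h2 : Commute (g * c * g⁻¹) (a * b) := by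
    rw [← hg.right]; exact Commute.map (mem_cent.1 hcb) (MulAut.conj g)
  refine h.mem_of_commute ?_
  have := h2.mul_right h1
  rwa [mul_assoc a b b, sq_of_order hab.hb, mul_one] at this

theorem false_of_central (hyp : Hyp S t) (hnb : NoBig G) (hcc : InvertedLayer G) (h : Over a M)
    (hab : Pair a b) (hg : Cycles g a b) {p r : ℕ} (hp : p.Prime) (hr : r.Prime) (hrp : r ≠ p)
    (hpm : ¬ coreP p M ≤ Cent a) (hA : ∀ s : ℕ, s.Prime → s ≠ p → coreP s M ≤ Cent a ⊓ Cent b)
    {j : G} (hj : j ∈ coreP r M) (hj1 : j ≠ 1) {β : G} (hβ : β ∈ coreP p M) (hβb : Commute β b)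
    (hβM : Cent β ≤ M) : False := by
  have hO : Over b (M.map (MulAut.conj g).toMonoidHom) := hg.left ▸ h.map g
  obtain ⟨hja, hjb⟩ := hA r hr hrp hj
  exact h.false_of_both hyp hab hg hp hr hrp hj (hO.mem_of_commute (mem_cent.1 hjb))
    (h.cent_le_of_eigen hyp hnb hcc hab (map_mono (Components.pCore_le_fittingSubgroup hr) hj) hj1
      (Or.inl (mem_cent.1 hja)) hp hpm fun f hf => mem_cent.2 (commute_coreP hr hp hrp hj hf).symm.eq)
    hβ (hO.mem_of_commute hβb) hβM fun s hs hsp => h.coreP_le_of_central hyp hab hg hA hs hsp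

/-- Case (a). -/
theorem false_of_all_central (hyp : Hyp S t) (hnb : NoBig G) (hcf : CycleFixed G)
    (hcc : InvertedLayer G) (hst : SameTorus G) (h : Over a M) (hab : Pair a b) (hg : Cycles g a b)
    {p r : ℕ} (hp : p.Prime) (hr : r.Prime) (hrp : r ≠ p) (hpm : ¬ coreP p M ≤ Cent a)
    (hA : ∀ s : ℕ, s.Prime → s ≠ p → coreP s M ≤ Cent a ⊓ Cent b) (hr1 : coreP r M ≠ ⊥) {z : G}
    (hz : z ∈ coreP p M) (hz1 : z ≠ 1) (hza : a * z * a⁻¹ = z⁻¹) (hzb : Commute z b) : False := by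
  haveI := Fact.mk hp
  set N := M.map (MulAut.conj g).toMonoidHom with hN
  have hO : Over b N := hg.left ▸ h.map g
  obtain ⟨j, hj, hj1⟩ : ∃ j ∈ coreP r M, j ≠ 1 := by
    by_contra hno
    push Not at hno
    exact hr1 ((Subgroup.eq_bot_iff_forall _).2 hno)
  have hAw : ∀ s : ℕ, s.Prime → s ≠ p → coreP s M ≤ Cent a ⊓ Cent (a * b) := fun s hs hsp x hx =>
    ⟨(hA s hs hsp hx).1, mem_cent.2 ((show Commute x a from mem_cent.1 (hA s hs hsp hx).1).mul_right
      (show Commute x b from mem_cent.1 (hA s hs hsp hx).2)).eq⟩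
  -- the centre of `O_p(M)`
  have hzle : zOf p M ≤ coreP p M := inf_le_left
  have hzN : ∀ i, i ∈ M → i ∈ normalizer (zOf p M : Set G) := fun i hi => le_normalizer_zOf p M hi
  have hbM : b ∈ M := h.mem_of_commute hab.comm.symm
  have hcen : ∀ (i : G) (k : G), Pair a i → Cycles k a i →
      (∀ s : ℕ, s.Prime → s ≠ p → coreP s M ≤ Cent a ⊓ Cent i) → zOf p M ⊓ Cent i = ⊥ := by
    intro i k hai hk hAi
    by_contra hne
    obtain ⟨y₀, hy₀, h1⟩ : ∃ y₀ ∈ zOf p M ⊓ Cent i, y₀ ≠ 1 := by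
      by_contra hno
      push Not at hno
      exact hne ((Subgroup.eq_bot_iff_forall _).2 hno)
    obtain ⟨y, hy, hy1, hyi, hya⟩ :=
      exists_eigen h.ha hai.comm (hzN a h.self_mem) hy₀.1 (mem_cent.1 hy₀.2) h1
    exact h.false_of_central hyp hnb hcc hai hk hp hr hrp hpm hAi hj hj1 (hzle hy) hyi
      (h.cent_le_of_eigen hyp hnb hcc hai (map_mono (Components.pCore_le_fittingSubgroup hp) (hzle hy))
        hy1 hya hp hpm fun f hf => mem_cent.2 (mem_centralizer_iff.1 hy.2 f hf))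
  have hbz := inverts_of_inf_eq_bot hab.hb (hzN b hbM) (hcen b g hab hg hA)
  have hwz := inverts_of_inf_eq_bot hab.order_mul (hzN _ (mul_mem h.self_mem hbM))
    (hcen (a * b) g⁻¹ hab.left (hg.inv hab) hAw)
  obtain ⟨c, hc, hc1⟩ : ∃ c ∈ zOf p M, c ≠ 1 := by
    by_contra hno
    push Not at hno
    exact zOf_ne_bot (fun e => hpm (by rw [e]; exact bot_le)) ((Subgroup.eq_bot_iff_forall _).2 hno)
  have hca : Commute c a := by
    refine (mul_inv_eq_iff_eq_mul.1 ?_).symm
    calc a * c * a⁻¹ = (a * b) * (b⁻¹ * c * b) * (a * b)⁻¹ := by group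
      _ = c := by
        rw [show b⁻¹ * c * b = b * c * b⁻¹ by rw [inv_of_order hab.hb], hbz c hc,
          show a * b * c⁻¹ * (a * b)⁻¹ = (a * b * c * (a * b)⁻¹)⁻¹ by group, hwz c hc, inv_inv]
  have hcM : Cent c ≤ M := h.cent_le_of_eigen hyp hnb hcc hab
    (map_mono (Components.pCore_le_fittingSubgroup hp) (hzle hc)) hc1 (Or.inl hca) hp hpm
    fun f hf => mem_cent.2 (mem_centralizer_iff.1 hc.2 f hf)
  set e := g * c * g⁻¹ with he
  have hzNN : ∀ x ∈ zOf p M, g * x * g⁻¹ ∈ zOf p N := by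
    intro x hx
    refine ⟨by rw [hN, ← map_conj_coreP]; exact mem_map_conj hx.1 g, mem_centralizer_iff.2 ?_⟩
    intro w hw
    rw [hN, ← map_conj_coreP] at hw
    obtain ⟨w', hw', rfl⟩ := hw
    exact (Commute.map (show Commute w' x from mem_centralizer_iff.1 hx.2 w' hw') (MulAut.conj g)).eq
  have hainv : ∀ y ∈ zOf p M, a * (g * y * g⁻¹) * a⁻¹ = (g * y * g⁻¹)⁻¹ := by
    intro y hy
    calc a * (g * y * g⁻¹) * a⁻¹
        = g * (a * b) * g⁻¹ * (g * y * g⁻¹) * (g * (a * b) * g⁻¹)⁻¹ := by rw [hg.third hab]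
      _ = g * (a * b * y * (a * b)⁻¹) * g⁻¹ := by group
      _ = (g * y * g⁻¹)⁻¹ := by rw [hwz y hy]; group
  have hez : Commute e z := by
    have hR : ∀ k ∈ zOf p N, a * k * a⁻¹ = k⁻¹ := by
      intro k hk
      have hk' : g⁻¹ * k * g ∈ zOf p M := by
        have h1 : g⁻¹ * k * g ∈ coreP p M := by
          have := hk.1
          rw [hN, ← map_conj_coreP] at this
          obtain ⟨w, hw, rfl⟩ := this
          simpa [mul_assoc] using hw
        refine ⟨h1, mem_centralizer_iff.2 fun w hw => ?_⟩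
        have h2 := mem_centralizer_iff.1 hk.2 (g * w * g⁻¹)
          (by rw [hN, ← map_conj_coreP]; exact mem_map_conj hw g)
        calc w * (g⁻¹ * k * g) = g⁻¹ * (g * w * g⁻¹ * k) * g := by group
          _ = g⁻¹ * (k * (g * w * g⁻¹)) * g := by rw [h2]
          _ = g⁻¹ * k * g * w := by group
      have := hainv _ hk'
      rwa [show g * (g⁻¹ * k * g) * g⁻¹ = k by group] at this
    exact mem_cent.1 (commute_of_inverts (le_normalizer_zOf p N (hO.mem_of_commute hzb))
      (odd_order hyp h hp hz) hza hR (hzNN c hc))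
  have heb : Commute e b := by rw [← hg.left]; exact Commute.map hca (MulAut.conj g)
  have hzM : Cent z ≤ M := by
    refine h.cent_z_le hyp hnb hcf hcc hst hab hO (fun q => (dvd_map g).1) hp hz hz1 hza hzb
      (odd_order hyp hO hp (hzNN c hc).1) heb (hainv c hc) (cent_conj_le hcM g) hez
      (Or.inl ⟨r, j, hr, hrp, hj, hj1, mem_cent.1 (hA r hr hrp hj).1,
        mem_cent.1 (hA r hr hrp hj).2, ?_⟩)
    exact h.cent_le_of_eigen hyp hnb hcc hab (map_mono (Components.pCore_le_fittingSubgroup hr) hj)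
      hj1 (Or.inl (mem_cent.1 (hA r hr hrp hj).1)) hp hpm
      fun f hf => mem_cent.2 (commute_coreP hr hp hrp hj hf).symm.eq
  exact h.false_of_central hyp hnb hcc hab hg hp hr hrp hpm hA hj hj1 hz hzb hzM

/-- (L1) in case (b). -/
theorem cent_z_le_of_outer (hyp : Hyp S t) (hnb : NoBig G) (hcf : CycleFixed G)
    (hcc : InvertedLayer G) (hst : SameTorus G) (h : Over a M) (hab : Pair a b) (hg : Cycles g a b)
    {p r : ℕ} (hp : p.Prime) (hr : r.Prime) (hrp : r ≠ p) (hpm : ¬ coreP p M ≤ Cent a)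
    (hB : coreP r M ≤ Cent a) {c : G} (hc : c ∈ coreP r M) (hc1 : c ≠ 1)
    (hcb : b * c * b⁻¹ = c⁻¹) {z : G}
    (hz : z ∈ coreP p M) (hz1 : z ≠ 1) (hza : a * z * a⁻¹ = z⁻¹) (hzb : Commute z b) :
    Cent z ≤ M := by
  set N := M.map (MulAut.conj g).toMonoidHom with hN
  have hO : Over b N := hg.left ▸ h.map g
  have hca : Commute c a := mem_cent.1 (hB hc)
  have hcw : a * b * c * (a * b)⁻¹ = c⁻¹ := by
    rw [show a * b * c * (a * b)⁻¹ = a * (b * c * b⁻¹) * a⁻¹ by group, hcb,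
      show a * c⁻¹ * a⁻¹ = (a * c * a⁻¹)⁻¹ by group, hca.symm.eq, mul_inv_cancel_right]
  have hcM : Cent c ≤ M := h.cent_le_of_eigen hyp hnb hcc hab
    (map_mono (Components.pCore_le_fittingSubgroup hr) hc) hc1 (Or.inl hca) hp hpm
    fun f hf => mem_cent.2 (commute_coreP hr hp hrp hc hf).symm.eq
  set e := g * c * g⁻¹ with he
  have heR : e ∈ coreP r N := by rw [hN, ← map_conj_coreP]; exact mem_map_conj hc g
  have heb : Commute e b := by rw [← hg.left]; exact Commute.map hca (MulAut.conj g)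
  have hea : a * e * a⁻¹ = e⁻¹ := by
    calc a * e * a⁻¹ = g * (a * b) * g⁻¹ * (g * c * g⁻¹) * (g * (a * b) * g⁻¹)⁻¹ := by
          rw [hg.third hab]
      _ = g * (a * b * c * (a * b)⁻¹) * g⁻¹ := by group
      _ = e⁻¹ := by rw [hcw, he]; group
  have hez : Commute e z :=
    mem_cent.1 (h.coreP_le_cent_z hyp hab hO hp hr hrp hz hza hzb heR)
  exact h.cent_z_le hyp hnb hcf hcc hst hab hO (fun q => (dvd_map g).1) hp hz hz1 hza hzb
    (odd_order hyp hO hr heR) heb hea (cent_conj_le hcM g) hez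
    (Or.inr ⟨r, c, hr, hrp, ne_two hyp h (h.dvd_of_mem hr hc hc1), hc, hca, hcb, hcM,
      coe_pow_eq_one (isPGroup_coreP r N) heR⟩)

/-- Case (b). -/
theorem false_of_outer (hyp : Hyp S t) (hnb : NoBig G) (hcf : CycleFixed G) (hcc : InvertedLayer G)
    (hst : SameTorus G) (h : Over a M) (hab : Pair a b) (hg : Cycles g a b) {p r : ℕ} (hp : p.Prime)
    (hr : r.Prime) (hrp : r ≠ p) (hpm : ¬ coreP p M ≤ Cent a)
    (hall : ∀ s : ℕ, s.Prime → s ≠ p → coreP s M ≤ Cent a) (hrb : ¬ coreP r M ≤ Cent b) {z : G}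
    (hz : z ∈ coreP p M) (hz1 : z ≠ 1) (hza : a * z * a⁻¹ = z⁻¹) (hzb : Commute z b) : False := by
  set N := M.map (MulAut.conj g).toMonoidHom with hN
  have hO : Over b N := hg.left ▸ h.map g
  have hbM : b ∈ M := h.mem_of_commute hab.comm.symm
  obtain ⟨f, hf, -, hcmem, hc1⟩ :=
    exists_inverted_of_not_le hab.hb (le_normalizer_coreP r M hbM) hrb
  set c := f⁻¹ * (b * f * b⁻¹) with hcdef
  have hcb := inverts_displace hab.hb f
  rw [← hcdef] at hcb
  have hzM := h.cent_z_le_of_outer hyp hnb hcf hcc hst hab hg hp hr hrp hpm (hall r hr hrp) hcmem hc1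
    hcb hz hz1 hza hzb
  have hR : ∀ s : ℕ, s.Prime → s ≠ p → coreP s N ≤ M := fun s hs hsp =>
    (h.coreP_le_cent_z hyp hab hO hp hs hsp hz hza hzb).trans hzM
  have hca : Commute c a := mem_cent.1 (hall r hr hrp hcmem)
  by_cases hzw : ∃ z' ∈ coreP p M, z' ≠ 1 ∧ a * z' * a⁻¹ = z'⁻¹ ∧ Commute z' (a * b)
  · obtain ⟨z', hz', hz'1, hz'a, hz'w⟩ := hzw
    have hcw : a * b * c * (a * b)⁻¹ = c⁻¹ := by
      rw [show a * b * c * (a * b)⁻¹ = a * (b * c * b⁻¹) * a⁻¹ by group, hcb,
        show a * c⁻¹ * a⁻¹ = (a * c * a⁻¹)⁻¹ by group, hca.symm.eq, mul_inv_cancel_right]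
    have hg' := hg.inv hab
    have hz'M := h.cent_z_le_of_outer hyp hnb hcf hcc hst hab.left hg' hp hr hrp hpm (hall r hr hrp)
      hcmem hc1 hcw hz' hz'1 hz'a hz'w
    have hO' : Over (a * b) (M.map (MulAut.conj g⁻¹).toMonoidHom) := hg'.left ▸ h.map g⁻¹
    have hcN : c ∈ N := by
      have h1 : g⁻¹ * c * g⁻¹⁻¹ ∈ coreP r (M.map (MulAut.conj g⁻¹).toMonoidHom) := by
        rw [← map_conj_coreP]; exact mem_map_conj hcmem g⁻¹
      have h2 := (h.coreP_le_cent_z hyp hab.left hO' hp hr hrp hz' hz'a hz'w).trans hz'M h1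
      exact ⟨_, h2, by simp [mul_assoc]⟩
    exact h.false_of_both hyp hab hg hp hr hrp hcmem hcN
      (h.cent_le_of_eigen hyp hnb hcc hab (map_mono (Components.pCore_le_fittingSubgroup hr) hcmem)
        hc1 (Or.inl hca) hp hpm fun y hy => mem_cent.2 (commute_coreP hr hp hrp hcmem hy).symm.eq)
      hz (hO.mem_of_commute hzb) hzM hR
  set e := g * c * g⁻¹ with he
  have heR : e ∈ coreP r N := by rw [hN, ← map_conj_coreP]; exact mem_map_conj hcmem g
  have heb : Commute e b := by rw [← hg.left]; exact Commute.map hca (MulAut.conj g)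
  have hcw : a * b * c * (a * b)⁻¹ = c⁻¹ := by
    rw [show a * b * c * (a * b)⁻¹ = a * (b * c * b⁻¹) * a⁻¹ by group, hcb,
      show a * c⁻¹ * a⁻¹ = (a * c * a⁻¹)⁻¹ by group, hca.symm.eq, mul_inv_cancel_right]
  have hea : a * e * a⁻¹ = e⁻¹ := by
    calc a * e * a⁻¹ = g * (a * b) * g⁻¹ * (g * c * g⁻¹) * (g * (a * b) * g⁻¹)⁻¹ := by
          rw [hg.third hab]
      _ = g * (a * b * c * (a * b)⁻¹) * g⁻¹ := by group
      _ = e⁻¹ := by rw [hcw, he]; group
  have hew : a * b * e * (a * b)⁻¹ = e⁻¹ := by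
    rw [show a * b * e * (a * b)⁻¹ = a * (b * e * b⁻¹) * a⁻¹ by group, heb.symm.eq,
      mul_inv_cancel_right, hea]
  have heM : e ∈ M := hR r hr hrp heR
  have heo := odd_order hyp hO hr heR
  have heq := coe_pow_eq_one (isPGroup_coreP r N) heR
  have heF : ∀ s : ℕ, s.Prime → s ∣ Nat.card ↥(fittingSubgroup ↥M) → coreP s M ≤ Cent e := by
    intro s hs _
    by_cases hsp : s = p
    swap
    · exact commute_of_fixed_group (le_normalizer_coreP s M heM) heo hea (hall s hs hsp)
    subst hsp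
    refine commute_of_inverted (odd_coreP hyp h hs) hab.order_mul
      (le_normalizer_coreP s M (mul_mem h.self_mem hbM)) (le_normalizer_coreP s M heM) heo
      (h.coprime_order hs hr hrp heq) hew fun y hy => ?_
    have hyw : Commute y (a * b) := mem_cent.1 hy.2
    have hya : Commute y a := by
      by_contra hne
      refine hzw ⟨y⁻¹ * (a * y * a⁻¹),
        mul_mem (inv_mem hy.1) ((mem_normalizer_iff.1 (h.self_normalizer s) y).1 hy.1), fun e' => ?_,
        inverts_displace h.ha y, ?_⟩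
      · exact hne (mul_inv_eq_iff_eq_mul.1 (inv_mul_eq_one.1 e').symm).symm
      · have h1 : Commute a (a * b) := hab.left.comm
        exact hyw.inv_left.mul_left ((h1.mul_left hyw).mul_left h1.inv_left)
    have hyb : Commute y b := by
      have := hya.mul_right hyw
      rwa [← mul_assoc, sq_of_order h.ha, one_mul] at this
    exact mem_cent.2 (commute_cross hr hs hrp heR hy.1 heM (hO.mem_of_commute hyb)).symm.eq
  have heMr : e ∈ coreP r M := h.mem_coreP hr heM heq heF
  have h1 : Commute e a := mem_cent.1 (hall r hr hrp heMr)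
  rw [h1.symm.eq, mul_inv_cancel_right, ← mul_eq_one_iff_eq_inv] at hea
  refine hc1 (conj_eq_one_iff.1 (show e = 1 from ?_))
  obtain ⟨j, hj⟩ := heo
  have := pow_orderOf_eq_one e
  rwa [hj, pow_succ, pow_mul, pow_two, hea, one_pow, one_mul] at this

/-- A moved `z` fixed by `b` is impossible. -/
theorem false_of_z (hyp : Hyp S t) (hnb : NoBig G) (hcf : CycleFixed G) (hcc : InvertedLayer G)
    (hst : SameTorus G) (h : Over a M) (hab : Pair a b) (hg : Cycles g a b) {p : ℕ} (hp : p.Prime)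
    (hpm : ¬ coreP p M ≤ Cent a) {z : G}
    (hz : z ∈ coreP p M) (hz1 : z ≠ 1) (hza : a * z * a⁻¹ = z⁻¹) (hzb : Commute z b) : False := by
  by_cases hall : ∀ s : ℕ, s.Prime → s ≠ p → coreP s M ≤ Cent a
  swap
  · push Not at hall
    obtain ⟨r, hr, hrp, hrm⟩ := hall
    exact h.false_of_two_moved hyp hnb hcc hab hg hp hr hrp hpm hrm hz hz1 hza hzb
  by_cases hb : ∀ s : ℕ, s.Prime → s ≠ p → coreP s M ≤ Cent b
  swap
  · push Not at hb
    obtain ⟨r, hr, hrp, hrb⟩ := hb
    exact h.false_of_outer hyp hnb hcf hcc hst hab hg hp hr hrp hpm hall hrb hz hz1 hza hzb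
  obtain ⟨p₁, p₂, h1, h2, h12, hd1, hd2⟩ := h.two_primes hyp
  haveI := Fact.mk h1
  haveI := Fact.mk h2
  by_cases he : p₁ = p
  · exact h.false_of_all_central hyp hnb hcf hcc hst hab hg hp h2 (fun e => h12 (he.trans e.symm))
      hpm (fun s hs hsp => le_inf (hall s hs hsp) (hb s hs hsp)) ((dvd_card_fit_iff M).1 hd2)
      hz hz1 hza hzb
  · exact h.false_of_all_central hyp hnb hcf hcc hst hab hg hp h1 he
      hpm (fun s hs hsp => le_inf (hall s hs hsp) (hb s hs hsp)) ((dvd_card_fit_iff M).1 hd1)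
      hz hz1 hza hzb

end Over

theorem noBig_of_base (hyp : Hyp S t)
    (hnb : ∀ N : Subgroup G, IsCoatom N → Cent t ≤ N → Cfsg.HasNormalPComplement 2 N) : NoBig G := by
  intro a ha N hN hle
  obtain ⟨g, hg⟩ := isConj_iff.1 (hyp.isConj_invol ha hyp.orderT)
  have h1 := hnb (N.map (MulAut.conj g).toMonoidHom) (((MulAut.conj g).mapSubgroup.isCoatom_iff N).2 hN)
    (by rw [← hg, ← map_conj_cent]; exact map_mono hle)
  exact Transfer.hasNormalPComplement_of_surjective
    (N.equivMapOfInjective (MulAut.conj g).toMonoidHom (MulAut.conj g).injective).symm.toMonoidHom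
    (N.equivMapOfInjective (MulAut.conj g).toMonoidHom (MulAut.conj g).injective).symm.surjective h1

/-- **Case C**: if the maximal subgroups over `Cent t` have normal 2-complements, `Cent t` is maximal. -/
theorem cent_isCoatom (hyp : Hyp S t) (hcf : CycleFixed G) (hcc : InvertedLayer G) (hst : SameTorus G)
    (hnb : ∀ N : Subgroup G, IsCoatom N → Cent t ≤ N → Cfsg.HasNormalPComplement 2 N) :
    IsCoatom (Cent t) := by
  have hNB := noBig_of_base hyp hnb
  haveI := hyp.simple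
  have htop : Cent t ≠ ⊤ := by
    intro e
    rcases hyp.simple.eq_bot_or_eq_top_of_normal (center G) inferInstance with h1 | h1
    · have hc : t ∈ center G := mem_center_iff.2 fun x => mem_cent.1 (e.ge (mem_top x))
      exact ne_one_of_order hyp.orderT (mem_bot.1 (h1 ▸ hc))
    · exact hyp.not_comm ⟨⟨fun x y => (mem_center_iff.1 (h1 ▸ mem_top y) x)⟩⟩
  rcases eq_top_or_exists_le_coatom (Cent t) with e | ⟨M, hM, hle⟩
  · exact absurd e htop
  by_cases hne : M = Cent t
  · exact hne ▸ hM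
  exfalso
  have h : Over t M := ⟨hyp.orderT, hM, hle, hnb M hM hle, hne⟩
  obtain ⟨p, hp, hpm⟩ := h.exists_moved hyp
  obtain ⟨b, hab⟩ := hyp.exists_pair hyp.orderT
  obtain ⟨g, hg⟩ := exists_cycles hyp hab
  have hbR : b ∈ normalizer (coreP p M : Set G) :=
    le_normalizer_coreP p M (h.mem_of_commute hab.comm.symm)
  have hmk : ∀ i : G, Pair t i → ∀ f ∈ coreP p M, f ∉ Cent t → Commute f i →
      ∃ z ∈ coreP p M, z ≠ 1 ∧ t * z * t⁻¹ = z⁻¹ ∧ Commute z i := by
    intro i hi f hf hft hfi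
    refine ⟨f⁻¹ * (t * f * t⁻¹),
      mul_mem (inv_mem hf) ((mem_normalizer_iff.1 (h.self_normalizer p) f).1 hf),
      fun e => hft (mem_cent.2 (mul_inv_eq_iff_eq_mul.1 (inv_mul_eq_one.1 e).symm).symm),
      inverts_displace h.ha f, ?_⟩
    have h1 : Commute t i := hi.comm
    exact hfi.inv_left.mul_left ((h1.mul_left hfi).mul_left h1.inv_left)
  by_cases hb : coreP p M ⊓ Cent b ≤ Cent t
  · have hw : ¬ coreP p M ⊓ Cent (t * b) ≤ Cent t := fun hw => hpm (le_of_fixed hab
      (Over.odd_coreP hyp h hp) (h.self_normalizer p) hbR inf_le_right hb hw)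
    obtain ⟨f, hf, hft⟩ := SetLike.not_le_iff_exists.1 hw
    obtain ⟨z, hz, hz1, hza, hzi⟩ := hmk _ hab.left f hf.1 hft (mem_cent.1 hf.2)
    exact h.false_of_z hyp hNB hcf hcc hst hab.left (hg.inv hab) hp hpm hz hz1 hza hzi
  · obtain ⟨f, hf, hft⟩ := SetLike.not_le_iff_exists.1 hb
    obtain ⟨z, hz, hz1, hza, hzi⟩ := hmk _ hab f hf.1 hft (mem_cent.1 hf.2)
    exact h.false_of_z hyp hNB hcf hcc hst hab hg hp hpm hz hz1 hza hzi

end Cfsg.Agent.GW
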