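import Cfsg.Agent.Lib.GW.Basic
import Cfsg.Agent.Lib.GW.KType

/-!
# Part II of Gorenstein-Walter: shared definitions

* `ProperKnown G`: the proper subgroups have known simple sections (minimal counterexample).
* `fitCore x`: the Fitting subgroup of `oCore x`, as a subgroup of `G`.
* `Cycles g a b`: conjugation by `g` permutes the involutions `a`, `b`, `a * b` cyclically.
* `CompConfig G`: some four group, one of whose involutions is `a`, has its fusion inside the
  centraliser of a nontrivial element of `fitCore a` (the component configuration).
* `Splits a b`: `oCore a` is a normal abelian subgroup inverted by `b` times `oCore a ⊓ Cent b`.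
-/

set_option autoImplicit false

namespace Cfsg.Agent.GW

open Subgroup

universe u

variable {G : Type u} [Group G]

/-- Every proper subgroup has known simple sections. -/
def ProperKnown (G : Type u) [Group G] : Prop :=
  ∀ L : Subgroup G, L ≠ ⊤ → KnownSections L

/-- The Fitting subgroup of the odd core of the centraliser of `x`. -/
noncomputable def fitCore [Finite G] (x : G) : Subgroup G :=
  (Cfsg.fittingSubgroup ↥(oCore x)).map (oCore x).subtype

/-- `g` permutes `a`, `b`, `a * b` cyclically. -/
structure Cycles (g a b : G) : Prop where
  left : g * a * g⁻¹ = b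
  right : g * b * g⁻¹ = a * b

/-- A nontrivial element of `fitCore a` centralises a four group containing `a` together with an
element permuting its involutions cyclically. -/
def CompConfig (G : Type u) [Group G] [Finite G] : Prop :=
  ∃ a b g y : G, Pair a b ∧ Cycles g a b ∧ y ∈ fitCore a ∧ y ≠ 1 ∧
    y * b = b * y ∧ y * g = g * y

/-- `oCore a` has an abelian normal subgroup `A`, inverted by `b`, complemented by the fixed
points of `b`. -/
def Splits [Finite G] (a b : G) : Prop :=
  ∃ A : Subgroup G, A ≤ fitCore a ∧ oCore a ≤ normalizer (A : Set G) ∧
    (∀ x ∈ A, b * x * b⁻¹ = x⁻¹) ∧ A ⊓ (oCore a ⊓ Cent b) = ⊥ ∧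
    A ⊔ (oCore a ⊓ Cent b) = oCore a

end Cfsg.Agent.GW
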