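import Cfsg.Agent.Lib.GW.PartII.MaxCentral

/-!
# Part II of Gorenstein-Walter: the split configuration, elementary facts

`qf a b = fitCore a ⊓ Cent b` and `dd a b = oCore a ⊓ Cent b`.  `SplitConfig G` collects what is known
when the centralisers of involutions are maximal and there is no component configuration.
-/

set_option autoImplicit false
set_option linter.style.haveILetI false
set_option linter.unusedSectionVars false

namespace Cfsg.Agent.GW

open Subgroup Cfsg.Agent.S1856 Cfsg.Agent.S1312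
open BSW (sq_of_order inv_of_order ne_one_of_order order_of_sq mem_cent)

universe u

variable {G : Type u} [Group G] [Finite G] {S : Sylow 2 G} {t : G}

/-- The fixed points of `b` on `fitCore a`. -/
noncomputable abbrev qf (a b : G) : Subgroup G := fitCore a ⊓ Cent b

/-- The fixed points of `b` on `oCore a`. -/
noncomputable abbrev dd (a b : G) : Subgroup G := oCore a ⊓ Cent b

/-- The situation without component configuration and with maximal centralisers of involutions. -/
structure SplitConfig (G : Type u) [Group G] [Finite G] : Prop where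
  simple : IsSimpleGroup G
  coatom : ∀ x : G, orderOf x = 2 → IsCoatom (Cent x)
  splits : ∀ a b : G, Pair a b → Splits a b
  disjoint : ∀ a b : G, Pair a b → fitCore a ⊓ fitCore b = ⊥
  centLe : ∀ a b y : G, Pair a b → y ∈ fitCore a → Commute y b → y ≠ 1 → Cent y ≤ Cent a
  normal : ∀ a b : G, Pair a b → Cent a ≤ normalizer (qf a b : Set G)

/-- A conjugation mapping a subgroup into itself normalises it. -/
theorem mem_normalizer_of_conj_mem {K : Subgroup G} {g : G} (h : ∀ k ∈ K, g * k * g⁻¹ ∈ K) :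
    g ∈ normalizer (K : Set G) := by
  rw [mem_normalizer_iff_map_conj_eq]
  refine eq_of_le_of_card_ge (by rintro _ ⟨k, hk, rfl⟩; exact h k hk)
    (le_of_eq (card_map_of_injective (MulAut.conj g).injective).symm)

/-- `|N H| = |N| |H|`. -/
theorem card_sup_eq_mul {N H : Subgroup G} (hn : H ≤ normalizer (N : Set G)) (hd : N ⊓ H = ⊥) :
    Nat.card ↥(N ⊔ H) = Nat.card N * Nat.card H := by
  rw [← Nat.card_prod]
  refine (Nat.card_eq_of_bijective (fun p : N × H => (⟨(p.1 : G) * p.2,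
    mul_mem (mem_sup_left p.1.2) (mem_sup_right p.2.2)⟩ : ↥(N ⊔ H))) ⟨?_, ?_⟩).symm
  · rintro ⟨n₁, h₁⟩ ⟨n₂, h₂⟩ e
    have e' : (n₁ : G) * h₁ = n₂ * h₂ := congrArg Subtype.val e
    have h1 : (n₂ : G)⁻¹ * n₁ ∈ N ⊓ H := by
      refine mem_inf.2 ⟨mul_mem (inv_mem n₂.2) n₁.2, ?_⟩
      rw [show (n₂ : G)⁻¹ * n₁ = h₂ * (h₁ : G)⁻¹ by
        rw [eq_mul_inv_iff_mul_eq, mul_assoc, e', inv_mul_cancel_left]]
      exact mul_mem h₂.2 (inv_mem h₁.2)
    rw [hd, mem_bot, inv_mul_eq_one] at h1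
    have h2 : (h₁ : G) = h₂ := by rw [← h1] at e'; exact mul_left_cancel e'
    exact Prod.ext (Subtype.ext h1.symm) (Subtype.ext h2)
  · rintro ⟨x, hx⟩
    have hx' : x ∈ (↑(N ⊔ H) : Set G) := hx
    rw [coe_mul_of_right_le_normalizer_left N H hn] at hx'
    obtain ⟨n, hn', h, hh, rfl⟩ := Set.mem_mul.1 hx'
    exact ⟨(⟨n, hn'⟩, ⟨h, hh⟩), rfl⟩

/-- A semiregular group of automorphisms has order dividing `|K| - 1`. -/
theorem card_dvd_pred {H K : Subgroup G} (hn : H ≤ normalizer (K : Set G))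
    (hfree : ∀ h ∈ H, h ≠ 1 → ∀ k ∈ K, h * k = k * h → k = 1) :
    Nat.card H ∣ Nat.card K - 1 := by
  classical
  let X := {k : K // k ≠ 1}
  letI : MulAction H X :=
    { smul := fun h k => ⟨⟨(h : G) * (k.1 : G) * (h : G)⁻¹,
        (mem_normalizer_iff.1 (hn h.2) _).1 k.1.2⟩, fun e => k.2 (Subtype.ext
          (conj_eq_one_iff.1 (congrArg Subtype.val e)))⟩
      one_smul := fun k => Subtype.ext (Subtype.ext (by
        show (((1 : H) : G)) * (k.1 : G) * ((1 : H) : G)⁻¹ = k.1
        simp))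
      mul_smul := fun g h k => Subtype.ext (Subtype.ext (by
        show ((g * h : H) : G) * (k.1 : G) * ((g * h : H) : G)⁻¹ =
          (g : G) * ((h : G) * (k.1 : G) * (h : G)⁻¹) * (g : G)⁻¹
        push_cast
        group)) }
  have hstab : ∀ x : X, MulAction.stabilizer H x = ⊥ := fun x => by
    refine (eq_bot_iff_forall _).2 fun h hh => Subtype.ext ?_
    by_contra h1
    have e : (h : G) * (x.1 : G) * (h : G)⁻¹ = x.1 :=
      congrArg (fun y : X => ((y.1 : K) : G)) (MulAction.mem_stabilizer_iff.1 hh)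
    exact x.2 (Subtype.ext (hfree h h.2 h1 x.1 x.1.2 (mul_inv_eq_iff_eq_mul.1 e)))
  have hcard : Nat.card X = Nat.card K - 1 := by
    haveI := Fintype.ofFinite K
    rw [Nat.card_eq_fintype_card, Nat.card_eq_fintype_card, Fintype.card_subtype_compl,
      Fintype.card_subtype_eq]
  rw [← hcard, Nat.card_congr (MulAction.selfEquivOrbitsQuotientProd hstab), Nat.card_prod]
  exact dvd_mul_left _ _

theorem qf_le_oCore (a b : G) : qf a b ≤ oCore a := inf_le_left.trans (fitCore_le_oCore a)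

theorem qf_le_dd (a b : G) : qf a b ≤ dd a b := le_inf (qf_le_oCore a b) inf_le_right

theorem qf_le_dd_swap (hyp : Hyp S t) {a b : G} (ha : orderOf a = 2) : qf b a ≤ dd a b := fun y hy =>
  ⟨mem_oCore_of_commute hyp ha hy.1 (mem_cent.1 hy.2), mem_cent.2 (commute_of_fitCore hy.1).eq⟩

theorem qf_mul (hyp : Hyp S t) {a b : G} (h : Pair a b) : qf a (a * b) = qf a b := by
  ext y
  refine ⟨fun hy => ⟨hy.1, mem_cent.2 ?_⟩,
    fun hy => ⟨hy.1, mem_cent.2 ((commute_of_fitCore hy.1).mul_right (mem_cent.1 hy.2)).eq⟩⟩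
  have h1 := (commute_of_fitCore hy.1).mul_right
    (show Commute y (a * b) from mem_cent.1 hy.2)
  rw [← mul_assoc, sq_of_order h.ha, one_mul] at h1
  exact h1.eq

theorem conj_mem_qf {a b y : G} (hy : y ∈ qf a b) (g : G) :
    g * y * g⁻¹ ∈ qf (g * a * g⁻¹) (g * b * g⁻¹) :=
  ⟨conj_mem_fitCore hy.1 g, mem_cent.2
    ((show Commute y b from mem_cent.1 hy.2).map (MulAut.conj g)).eq⟩

theorem conj_mem_dd (hyp : Hyp S t) {a b y : G} (ha : orderOf a = 2) (hy : y ∈ dd a b) (g : G) :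
    g * y * g⁻¹ ∈ dd (g * a * g⁻¹) (g * b * g⁻¹) :=
  ⟨hyp.map_oCore ha g hy.1, mem_cent.2
    ((show Commute y b from mem_cent.1 hy.2).map (MulAut.conj g)).eq⟩

/-- The fixed points of a cycle group are the same for its three involutions. -/
theorem cycle_mem_normalizer_dd (hyp : Hyp S t) {a b g : G} (h : Pair a b) (hg : Cycles g a b) :
    g ∈ normalizer (dd a b : Set G) := by
  refine mem_normalizer_of_conj_mem fun y hy => ?_
  have h1 := conj_mem_dd hyp h.ha hy g
  rw [hg.left, hg.right] at h1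
  have hb : Commute (g * y * g⁻¹) b := mem_cent.1 (Hyp.oCore_le_cent b h1.1)
  have ha : Commute (g * y * g⁻¹) a := by
    have h2 := (show Commute (g * y * g⁻¹) (a * b) from mem_cent.1 h1.2).mul_right hb
    rwa [mul_assoc a b b, sq_of_order h.hb, mul_one] at h2
  exact ⟨(hyp.mem_oCore_iff h.ha).2 ⟨mem_cent.2 ha.eq, ((hyp.mem_oCore_iff h.hb).1 h1.1).2⟩,
    mem_cent.2 hb.eq⟩

/-- The conjugation by `c ∈ Cent a` commutes with `b` on `fitCore a`. -/
theorem qf_normal (hyp : Hyp S t) (hcf : CycleFixed G) (hM : IsCoatom (Cent t))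
    (hc : ¬ CompConfig G) {a b : G} (h : Pair a b) : Cent a ≤ normalizer (qf a b : Set G) := by
  intro c hca
  have hbb := inv_of_order h.hb
  set k := b⁻¹ * c⁻¹ * b * c with hk
  have hle : fitOf (oCore a) ≤ Cent k := (fit_le_iff (oCore a) _).2 fun r hr _ f hf => by
    haveI := Fact.mk hr
    have hf' : c * f * c⁻¹ ∈ coreP r (oCore a) :=
      (mem_normalizer_iff.1 (cent_le_normalizer_coreP r a hca) f).1 hf
    refine mem_cent.2 (mul_inv_eq_iff_eq_mul.1 ?_).symm
    rcases coreP_fixed_or_inverted hyp hcf hM hc h hr with hd | hd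
    · have e1 : Commute f b := mem_cent.1 (hd hf)
      have e2 : Commute (c * f * c⁻¹) b := mem_cent.1 (hd hf')
      calc k * f * k⁻¹ = b⁻¹ * (c⁻¹ * (b * (c * f * c⁻¹) * b⁻¹) * c) * b := by rw [hk]; group
        _ = b⁻¹ * f * b := by rw [← e2.eq, mul_inv_cancel_right]; group
        _ = f := by rw [mul_assoc, e1.eq, inv_mul_cancel_left]
    · calc k * f * k⁻¹ = b⁻¹ * (c⁻¹ * (b * (c * f * c⁻¹) * b⁻¹) * c) * b := by rw [hk]; group
        _ = b * f⁻¹ * b⁻¹ := by rw [hd _ hf', hbb]; group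
        _ = f := by rw [show b * f⁻¹ * b⁻¹ = (b * f * b⁻¹)⁻¹ by group, hd f hf, inv_inv]
  refine mem_normalizer_of_conj_mem fun y hy => ⟨?_, mem_cent.2 (Eq.symm ?_)⟩
  · have h1 := conj_mem_fitCore hy.1 c
    rwa [mem_cent.1 hca, mul_inv_cancel_right] at h1
  have hky : k * y * k⁻¹ = y := mul_inv_eq_iff_eq_mul.2 (mem_cent.1 (hle hy.1)).symm
  refine mul_inv_eq_iff_eq_mul.1 ?_
  calc b * (c * y * c⁻¹) * b⁻¹ = c * (b * (k * y * k⁻¹) * b⁻¹) * c⁻¹ := by rw [hk]; group
    _ = c * y * c⁻¹ := by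
      rw [hky, ← (show Commute y b from mem_cent.1 hy.2).eq, mul_inv_cancel_right]

theorem splitConfig (hyp : Hyp S t) (hcf : CycleFixed G) (hM : IsCoatom (Cent t))
    (hc : ¬ CompConfig G) : SplitConfig G where
  simple := hyp.simple
  coatom _ hx := isCoatom_cent hyp hM hx
  splits _ _ h := GW.splits hyp hcf hM hc h
  disjoint _ _ h := inf_fitCore_eq_bot hyp hcf hM hc h
  centLe _ _ _ h hy hyb hy1 := cent_le_of_fixed hyp hcf hM hc h hy hyb hy1
  normal _ _ h := qf_normal hyp hcf hM hc h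

namespace SplitConfig

variable (sc : SplitConfig G)
include sc

/-- `b` acts trivially on `oCore a` modulo `fitCore a`. -/
theorem comm_mem_fitCore {a b : G} (h : Pair a b) {x : G} (hx : x ∈ oCore a) :
    b * x * b⁻¹ * x⁻¹ ∈ fitCore a := by
  obtain ⟨A, hAF, hAn, hinv, -, hsup⟩ := sc.splits a b h
  have hx' : x ∈ (↑(A ⊔ dd a b) : Set G) := by rw [SetLike.mem_coe, hsup]; exact hx
  rw [coe_mul_of_right_le_normalizer_left _ _ (inf_le_left.trans hAn)] at hx'
  obtain ⟨α, hα, δ, hδ, rfl⟩ := Set.mem_mul.1 hx'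
  have e : b * δ * b⁻¹ = δ :=
    mul_inv_eq_iff_eq_mul.2 (show Commute δ b from mem_cent.1 hδ.2).symm.eq
  rw [show b * (α * δ) * b⁻¹ * (α * δ)⁻¹ = b * α * b⁻¹ * (b * δ * b⁻¹) * δ⁻¹ * α⁻¹ by group,
    e, hinv α hα, mul_inv_cancel_right]
  exact mul_mem (inv_mem (hAF hα)) (inv_mem (hAF hα))

/-- `oCore a = fitCore a · dd a b`. -/
theorem fitCore_sup_dd {a b : G} (h : Pair a b) : fitCore a ⊔ dd a b = oCore a := by
  obtain ⟨A, hAF, -, -, -, hsup⟩ := sc.splits a b h
  exact le_antisymm (sup_le (fitCore_le_oCore a) inf_le_left)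
    (hsup ▸ sup_le_sup_right hAF _)

/-- A nontrivial subgroup with maximal centraliser in its normaliser has it as its normaliser. -/
theorem normalizer_eq_cent {a : G} (ha : orderOf a = 2) {N : Subgroup G} (hN : N ≤ oCore a)
    (hn : Cent a ≤ normalizer (N : Set G)) (hne : N ≠ ⊥) : normalizer (N : Set G) = Cent a := by
  haveI := sc.simple
  rcases ((sc.coatom a ha).le_iff).1 hn with e | e
  · exfalso
    rcases (normalizer_eq_top_iff.1 e).eq_bot_or_eq_top with e' | e'
    · exact hne e'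
    · exact (sc.coatom a ha).1 (top_le_iff.1 (e' ▸ hN.trans (Hyp.oCore_le_cent a)))
  · exact e

/-- A subgroup of fixed points normal in `Cent a` and stable under a cycle is trivial. -/
theorem eq_bot_of_cycle {a b g : G} (h : Pair a b) (hg : Cycles g a b) {N : Subgroup G}
    (hN : N ≤ oCore a) (hn : Cent a ≤ normalizer (N : Set G))
    (hgN : g ∈ normalizer (N : Set G)) : N = ⊥ := by
  by_contra hne
  rw [sc.normalizer_eq_cent h.ha hN hn hne] at hgN
  have := hg.left
  rw [mem_cent.1 hgN, mul_inv_cancel_right] at this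
  exact h.ne this

theorem dd_eq_bot_of_le_fitCore (hyp : Hyp S t) {a b : G} (h : Pair a b)
    (hle : oCore a ≤ fitCore a) : dd a b = ⊥ := by
  obtain ⟨g, hg⟩ := exists_cycles hyp h
  have hdq : dd a b = qf a b :=
    le_antisymm (inf_le_inf_right _ hle) (qf_le_dd a b)
  refine sc.eq_bot_of_cycle h hg inf_le_left ?_ (cycle_mem_normalizer_dd hyp h hg)
  rw [hdq]
  exact sc.normal a b h

end SplitConfig

end Cfsg.Agent.GW
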