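import Cfsg.Agent.Lib.GW.PartII.SplitBasic

/-!
# Part II of Gorenstein-Walter: the swap of a four group in the split configuration

For a pair `a, b` and `s` with `s² = a`, `s b s⁻¹ = a b`, trivial on `oCore a` modulo `fitCore a`:
`s` inverts `qf a b`, the images of `qf b a` and `qf (a * b) a` agree modulo `fitCore a`, and, for a
second pair `a, b'`, `|qf a b|` divides `|qf a b'| - 1`.
-/

set_option autoImplicit false
set_option linter.style.haveILetI false
set_option linter.unusedSectionVars false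

namespace Cfsg.Agent.GW

open Subgroup
open BSW (sq_of_order inv_of_order ne_one_of_order order_of_sq mem_cent)

universe u

variable {G : Type u} [Group G] [Finite G] {S : Sylow 2 G} {t : G}

/-- The subgroup generated by the fixed points attached to the three involutions of a four group. -/
noncomputable abbrev tri (a b : G) : Subgroup G := qf a b ⊔ qf b a ⊔ qf (a * b) a

theorem qf_le_tri (hyp : Hyp S t) {a b : G} (h : Pair a b) {x y : G}
    (hx : x ∈ ({a, b, a * b} : Set G)) (hy : y ∈ ({a, b, a * b} : Set G)) (hxy : x ≠ y) :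
    qf x y ≤ tri a b := by
  have h1 : qf a b ≤ tri a b := le_sup_left.trans le_sup_left
  have h2 : qf b a ≤ tri a b := le_sup_right.trans le_sup_left
  have h3 : qf (a * b) a ≤ tri a b := le_sup_right
  have h4 : qf b (a * b) ≤ tri a b := by
    rw [h.comm, qf_mul hyp h.symm]
    exact h2
  have h5 : qf (a * b) b ≤ tri a b := by
    rw [← qf_mul hyp h.left.symm, show a * b * a = b by
      rw [h.comm, mul_assoc, sq_of_order h.ha, mul_one]] at h3
    exact h3
  simp only [Set.mem_insert_iff, Set.mem_singleton_iff] at hx hy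
  rcases hx with hx | hx | hx <;> rcases hy with hy | hy | hy <;> rw [hx, hy] at hxy ⊢ <;>
    first
      | exact absurd rfl hxy
      | exact h1
      | exact h2
      | exact h3
      | exact h4
      | exact h5
      | exact (qf_mul hyp h).le.trans h1

/-- `tri a b` is stable under conjugation by the normaliser of the four group. -/
theorem conj_mem_tri (hyp : Hyp S t) {a b : G} (h : Pair a b) {g : G}
    (hg : ∀ x ∈ ({a, b, a * b} : Set G), g * x * g⁻¹ ∈ ({a, b, a * b} : Set G)) :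
    ∀ f ∈ tri a b, g * f * g⁻¹ ∈ tri a b := by
  have key : ∀ x y : G, x ∈ ({a, b, a * b} : Set G) → y ∈ ({a, b, a * b} : Set G) → x ≠ y →
      (qf x y).map (MulAut.conj g).toMonoidHom ≤ tri a b := by
    rintro x y hx hy hxy _ ⟨z, hz, rfl⟩
    refine qf_le_tri hyp h (hg x hx) (hg y hy) (fun e => hxy ((MulAut.conj g).injective e)) ?_
    exact conj_mem_qf hz g
  intro f hf
  have hle : (tri a b).map (MulAut.conj g).toMonoidHom ≤ tri a b := by
    rw [tri, Subgroup.map_sup, Subgroup.map_sup]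
    exact sup_le (sup_le (key a b (by simp) (by simp) h.ne)
      (key b a (by simp) (by simp) h.ne.symm)) (key (a * b) a (by simp) (by simp) h.mul_ne)
  exact hle ⟨f, hf, rfl⟩

namespace SplitConfig

variable (sc : SplitConfig G) (hyp : Hyp S t) {a b s : G} (h : Pair a b) (hss : s * s = a)
  (hsb : s * b * s⁻¹ = a * b) (hs : ∀ x ∈ oCore a, s * x * s⁻¹ * x⁻¹ ∈ fitCore a)
include sc hyp h hss hsb hs

theorem commutator_mem_qf {y : G} (hy : y ∈ qf b a) : y⁻¹ * (s * y * s⁻¹) ∈ qf a b := by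
  have hsa : s * a * s⁻¹ = a := by rw [← hss]; group
  have hyO := qf_le_dd_swap hyp h.ha hy
  have hy' : s * y * s⁻¹ ∈ qf (a * b) a := by
    have := conj_mem_qf hy s
    rwa [hsa, hsb] at this
  have hya : Commute (s * y * s⁻¹) a := mem_cent.1 hy'.2
  have hyb : Commute (s * y * s⁻¹) b := by
    have h2 := hya.mul_right (commute_of_fitCore hy'.1)
    rwa [← mul_assoc, sq_of_order h.ha, one_mul] at h2
  refine ⟨?_, mem_cent.2 ((commute_of_fitCore hy.1).inv_left.mul_left hyb).eq⟩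
  rw [show y⁻¹ * (s * y * s⁻¹) = y⁻¹ * (s * y * s⁻¹ * y⁻¹) * y⁻¹⁻¹ by group]
  exact (mem_normalizer_iff.1 (cent_le_normalizer_fitCore a
    (inv_mem (Hyp.oCore_le_cent a hyO.1))) _).1 (hs y hyO.1)

theorem bijective_commutator :
    Function.Bijective (fun y : qf b a =>
      (⟨(y : G)⁻¹ * (s * y * s⁻¹), sc.commutator_mem_qf hyp h hss hsb hs y.2⟩ : qf a b)) := by
  have hsa : s * a * s⁻¹ = a := by rw [← hss]; group
  refine Function.Injective.bijective_of_nat_card_le ?_ ?_
  · rintro ⟨y₁, h₁⟩ ⟨y₂, h₂⟩ e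
    have e' : y₁⁻¹ * (s * y₁ * s⁻¹) = y₂⁻¹ * (s * y₂ * s⁻¹) := congrArg Subtype.val e
    have h4 : s * (y₂ * y₁⁻¹) * s⁻¹ = y₂ * y₁⁻¹ := by
      calc s * (y₂ * y₁⁻¹) * s⁻¹ = y₂ * (y₂⁻¹ * (s * y₂ * s⁻¹)) * (s * y₁ * s⁻¹)⁻¹ := by group
        _ = y₂ * y₁⁻¹ := by rw [← e']; group
    have h5 : y₂ * y₁⁻¹ ∈ fitCore b := mul_mem h₂.1 (inv_mem h₁.1)
    have h6 : y₂ * y₁⁻¹ ∈ fitCore (a * b) := by
      have := conj_mem_fitCore h5 s
      rwa [h4, hsb] at this
    have h7 : y₂ * y₁⁻¹ ∈ fitCore b ⊓ fitCore (a * b) := ⟨h5, h6⟩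
    rw [sc.disjoint _ _ h.right, mem_bot, mul_inv_eq_one] at h7
    exact Subtype.ext h7.symm
  · obtain ⟨g, hg⟩ := exists_cycles hyp h
    have hle : (qf a b).map (MulAut.conj g).toMonoidHom ≤ qf b a := by
      rintro _ ⟨z, hz, rfl⟩
      have := conj_mem_qf hz g
      rw [hg.left, hg.right, h.comm, qf_mul hyp h.symm] at this
      exact this
    exact (card_map_of_injective (MulAut.conj g).injective).symm.le.trans (card_le_of_le hle)

theorem card_qf_eq : Nat.card (qf b a) = Nat.card (qf a b) :=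
  Nat.card_eq_of_bijective _ (sc.bijective_commutator hyp h hss hsb hs)

/-- The swap inverts the fixed points on the Fitting subgroup. -/
theorem swap_inverts {z : G} (hz : z ∈ qf a b) : s * z * s⁻¹ = z⁻¹ := by
  obtain ⟨⟨y, hy⟩, e⟩ := (sc.bijective_commutator hyp h hss hsb hs).2 ⟨z, hz⟩
  have e' : y⁻¹ * (s * y * s⁻¹) = z := congrArg Subtype.val e
  have hya : Commute a y := (show Commute y a from mem_cent.1 hy.2).symm
  rw [← e']
  calc s * (y⁻¹ * (s * y * s⁻¹)) * s⁻¹ = (s * y * s⁻¹)⁻¹ * (s * s * y * (s * s)⁻¹) := by group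
    _ = (s * y * s⁻¹)⁻¹ * y := by rw [hss, hya.eq, mul_inv_cancel_right]
    _ = (y⁻¹ * (s * y * s⁻¹))⁻¹ := by group

theorem qf_mul_le_sup : qf (a * b) a ≤ fitCore a ⊔ qf b a := by
  intro w hw
  have hy : s⁻¹ * w * s ∈ qf b a := by
    have h1 := conj_mem_qf hw s⁻¹
    rw [inv_inv, ← hsb, show s⁻¹ * (s * b * s⁻¹) * s = b by group,
      show s⁻¹ * a * s = a by rw [← hss]; group] at h1
    exact h1
  have hf := hs _ (qf_le_dd_swap hyp h.ha hy).1
  have e : w = s * (s⁻¹ * w * s) * s⁻¹ * (s⁻¹ * w * s)⁻¹ * (s⁻¹ * w * s) := by group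
  rw [e]
  exact mul_mem (mem_sup_left hf) (mem_sup_right hy)

/-- The semiregular action on the fixed points of the other pair. -/
theorem card_dvd_pred {b' : G} (h' : Pair a b')
    (hcomm : ∀ z ∈ oCore a, Commute z b → Commute z b' → Commute z s) :
    Nat.card (qf a b) ∣ Nat.card (qf a b') - 1 := by
  rw [← sc.card_qf_eq hyp h hss hsb hs]
  refine GW.card_dvd_pred
    (fun y hy => sc.normal a b' h' (Hyp.oCore_le_cent a (qf_le_dd_swap hyp h.ha hy).1))
    fun y hy hy1 z hz hyz => ?_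
  have hzb : Commute z b := mem_cent.1 (sc.centLe b a y h.symm hy.1 (mem_cent.1 hy.2) hy1
    (mem_cent.2 (show z * y = y * z from hyz.symm)))
  have hzq : z ∈ qf a b := ⟨hz.1, mem_cent.2 hzb.eq⟩
  have hzs := hcomm z (fitCore_le_oCore a hz.1) hzb (mem_cent.1 hz.2)
  have h1 := sc.swap_inverts hyp h hss hsb hs hzq
  rw [← hzs.eq, mul_inv_cancel_right] at h1
  obtain ⟨k, hk⟩ := (hyp.odd_oCore a).of_dvd_nat
    (Subgroup.orderOf_dvd_natCard _ (fitCore_le_oCore a hz.1))
  have h2 := pow_orderOf_eq_one z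
  rwa [hk, pow_succ, pow_mul, pow_two, mul_eq_one_iff_eq_inv.2 h1, one_pow, one_mul] at h2

end SplitConfig

end Cfsg.Agent.GW
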