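import Cfsg.Agent.Lib.GW.PartII.SplitPairs
import Cfsg.Agent.Lib.GW.TwoPrimes
import Cfsg.Agent.Lib.GW.RhoInvariant
import Cfsg.Agent.Lib.DihedralBlock.SevenValues

/-!
# Part II of Gorenstein-Walter: the residual split case

`qf J τ ≠ ⊥ = qf J (σ τ)` and `oCore J = fitCore J · qf τ J`: then `|dd J τ| = q²`, `|dd J (σ τ)| = q`, the
order formula gives signed degree `-15` or `-7`, while a prime of the inverted part of `oCore J` cannot
divide `|G : Cent J|`.
-/

set_option autoImplicit false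
set_option linter.style.haveILetI false
set_option linter.unusedSectionVars false

namespace Cfsg.Agent.GW

open Subgroup Cfsg.Agent.DihedralBlock
open BSW (sq_of_order inv_of_order ne_one_of_order order_of_sq mem_cent)

universe u

variable {G : Type u} [Group G] [Fintype G] {S : Sylow 2 G} {t : G} {σ τ : G} {M₀ : ℕ}

/-- An element of odd order that is its own inverse is trivial. -/
theorem eq_one_of_inv_eq {z : G} (hodd : Odd (orderOf z)) (h : z⁻¹ = z) : z = 1 := by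
  obtain ⟨k, hk⟩ := hodd
  have h2 := pow_orderOf_eq_one z
  rwa [hk, pow_succ, pow_mul, pow_two, inv_eq_iff_mul_eq_one.1 h, one_pow, one_mul] at h2

/-- A prime whose normal `l`-subgroup of `oCore a` has no fixed point under the other involutions of
`Cent a` does not divide the index of `Cent a`. -/
theorem SplitConfig.not_dvd_index_cent (sc : SplitConfig G) {a : G} (ha : orderOf a = 2)
    {N : Subgroup G} (hN : N ≤ oCore a) (hn : Cent a ≤ normalizer (N : Set G)) (hne : N ≠ ⊥)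
    {l : ℕ} [Fact l.Prime] (hl : IsPGroup l N)
    (hinv : ∀ i : G, orderOf i = 2 → Commute i a → i ≠ a → ∀ x ∈ N, Commute i x → x = 1) :
    ¬ l ∣ (Cent a).index := by
  obtain ⟨T, hT⟩ := (hl.comap_subtype (K := Cent a)).exists_le_sylow
  set R := (T : Subgroup (Cent a)).map (Cent a).subtype with hR
  have hRle : R ≤ Cent a := map_subtype_le _
  have hNR : N ≤ R := fun x hx =>
    ⟨⟨x, Hyp.oCore_le_cent a (hN hx)⟩, hT (by exact hx), rfl⟩
  have hNn := sc.normalizer_eq_cent ha hN hn hne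
  have hnorm : normalizer (R : Set G) ≤ Cent a := by
    intro x hx
    have hi : orderOf (x * a * x⁻¹) = 2 := (MulEquiv.orderOf_eq (MulAut.conj x) a).trans ha
    have hcomm : ∀ n ∈ N, Commute (x * a * x⁻¹) n := by
      intro n hn'
      have h1 := (mem_normalizer_iff.1 (inv_mem hx) n).1 (hNR hn')
      rw [inv_inv] at h1
      have h2 : Commute a (x⁻¹ * n * x) := (mem_cent.1 (hRle h1)).symm
      have h3 := h2.map (MulAut.conj x)
      simp only [MulAut.conj_apply] at h3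
      rwa [show x * (x⁻¹ * n * x) * x⁻¹ = n by group] at h3
    have hia : x * a * x⁻¹ ∈ Cent a := by
      rw [← hNn]
      exact centralizer_le_normalizer _ (mem_centralizer_iff.2 fun n hn' => (hcomm n hn').eq.symm)
    by_cases hxa : x * a * x⁻¹ = a
    · exact mem_cent.2 (mul_inv_eq_iff_eq_mul.1 hxa)
    · exact absurd ((Subgroup.eq_bot_iff_forall _).2 fun n hn' =>
        hinv _ hi (mem_cent.1 hia) hxa n hn' (hcomm n hn')) hne
  obtain ⟨P, hP⟩ := exists_sylow_of_normalizer_le T hnorm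
  intro hd
  exact P.not_dvd_index (hd.trans (Subgroup.index_dvd_of_le (hP.le.trans hRle)))

theorem false_of_residual [IsSimpleGroup G] (sc : SplitConfig G) (hyp : Hyp S t)
    (d : DihedralBlock.Data σ τ M₀) (P : Sylow 2 G) (hσ : σ ∈ (P : Subgroup G))
    (hτ : τ ∈ (P : Subgroup G))
    (hform : ∀ x ∈ (P : Subgroup G), ∃ i : ℕ, x = σ ^ i ∨ x = σ ^ i * τ)
    (hV : d.V = oCore (σ ^ M₀)) (h1 : Pair (σ ^ M₀) τ) (h2 : Pair (σ ^ M₀) (σ * τ))
    {s : G} (hss : s * s = σ ^ M₀) (hsb : s * τ * s⁻¹ = σ ^ M₀ * τ)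
    (hs : ∀ x ∈ oCore (σ ^ M₀), s * x * s⁻¹ * x⁻¹ ∈ fitCore (σ ^ M₀))
    (hQ : qf (σ ^ M₀) τ ≠ ⊥) (hQ' : qf (σ ^ M₀) (σ * τ) = ⊥)
    (hgen : fitCore (σ ^ M₀) ⊔ qf τ (σ ^ M₀) = oCore (σ ^ M₀)) : False := by
  classical
  set J := σ ^ M₀ with hJ
  set F := fitCore J with hF
  set Q := qf J τ
  set Qu := qf τ J
  have hQu : Qu ≤ dd J τ := qf_le_dd_swap hyp h1.ha
  have hnF : ∀ {K : Subgroup G}, K ≤ oCore J → K ≤ normalizer (F : Set G) := fun hK =>
    (hK.trans (Hyp.oCore_le_cent J)).trans (cent_le_normalizer_fitCore J)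
  have hFu : F ⊓ Qu = ⊥ :=
    le_bot_iff.1 ((inf_le_inf_left F inf_le_left).trans (sc.disjoint _ _ h1).le)
  have hQQu : Q ⊓ Qu = ⊥ := le_bot_iff.1 ((inf_le_inf_right Qu inf_le_left).trans hFu.le)
  set q := Nat.card Q with hq
  have hqu : Nat.card Qu = q := sc.card_qf_eq hyp h1 hss hsb hs
  -- the orders
  have hcV : Nat.card (oCore J) = Nat.card F * q := by
    rw [← hgen, card_sup_eq_mul (hnF (qf_le_dd_swap hyp h1.ha |>.trans inf_le_left)) hFu, hqu]
  have hd' : Nat.card (dd J (σ * τ)) = q := by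
    have hF' : F ⊓ dd J (σ * τ) = ⊥ :=
      le_bot_iff.1 ((le_inf inf_le_left (inf_le_right.trans inf_le_right)).trans hQ'.le)
    have e := card_sup_eq_mul (hnF (inf_le_left : dd J (σ * τ) ≤ oCore J)) hF'
    rw [sc.fitCore_sup_dd h2, hcV] at e
    exact (Nat.eq_of_mul_eq_mul_left Nat.card_pos e).symm
  have hDle : Qu ≤ normalizer (Q : Set G) := fun y hy =>
    sc.normal J τ h1 (Hyp.oCore_le_cent J (hQu hy).1)
  have hD : dd J τ = Q ⊔ Qu := by
    refine le_antisymm (fun x hx => ?_) (sup_le (qf_le_dd J τ) hQu)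
    have hx' : x ∈ (↑(F ⊔ Qu) : Set G) := by rw [SetLike.mem_coe, hgen]; exact hx.1
    rw [coe_mul_of_right_le_normalizer_left _ _ (hnF (hQu.trans inf_le_left))] at hx'
    obtain ⟨f, hf, y, hy, rfl⟩ := Set.mem_mul.1 hx'
    have hfτ : Commute f τ := by
      have := (show Commute (f * y) τ from mem_cent.1 hx.2).mul_left
        (show Commute y τ from mem_cent.1 (hQu hy).2).inv_left
      rwa [mul_inv_cancel_right] at this
    exact mul_mem (mem_sup_left ⟨hf, mem_cent.2 hfτ.eq⟩) (mem_sup_right hy)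
  have hd : Nat.card (dd J τ) = q * q := by
    rw [hD, card_sup_eq_mul hDle hQQu, hqu]
  obtain ⟨A, hAF, hAn, hAinv, hAD, hAsup⟩ := sc.splits J τ h1
  have hcA : Nat.card (oCore J) = Nat.card A * (q * q) := by
    rw [← hd, ← card_sup_eq_mul (inf_le_left.trans hAn) hAD, hAsup]
  -- `A` is normal in `Cent J`; every other involution inverts it
  have hστ : ∀ x ∈ F, σ * τ * x * (σ * τ)⁻¹ = x⁻¹ := inverts_of_inf_eq_bot h2.hb
    (cent_le_normalizer_fitCore J (mem_cent.2 h2.comm.symm)) hQ'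
  have hσA : ∀ x ∈ A, Commute σ x := by
    intro x hx
    have e := hστ x (hAF hx)
    rw [show σ * τ * x * (σ * τ)⁻¹ = σ * (τ * x * τ⁻¹) * σ⁻¹ by group, hAinv x hx] at e
    have e' := congrArg (·⁻¹) e
    simp only [mul_inv_rev, inv_inv, ← mul_assoc] at e'
    exact mul_inv_eq_iff_eq_mul.1 e'
  have hrefl : ∀ i : ℕ, ∀ x ∈ A, σ ^ i * τ * x * (σ ^ i * τ)⁻¹ = x⁻¹ := fun i x hx => by
    rw [show σ ^ i * τ * x * (σ ^ i * τ)⁻¹ = σ ^ i * (τ * x * τ⁻¹) * (σ ^ i)⁻¹ by group, hAinv x hx,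
      ((hσA x hx).pow_left i).inv_right.eq, mul_inv_cancel_right]
  have hAcomm : ∀ x ∈ A, ∀ y ∈ A, Commute x y := fun x hx y hy => by
    have e := hAinv _ (mul_mem hx hy)
    rw [show τ * (x * y) * τ⁻¹ = (τ * x * τ⁻¹) * (τ * y * τ⁻¹) by group, hAinv x hx, hAinv y hy] at e
    have e' := congrArg (·⁻¹) e
    simp only [mul_inv_rev, inv_inv] at e'
    exact e'.symm
  by_cases hA1 : A = ⊥
  · obtain ⟨g, hg⟩ := exists_cycles hyp h1
    rw [hA1, bot_sup_eq] at hAsup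
    refine hQ (le_bot_iff.1 ((qf_le_dd J τ).trans (sc.eq_bot_of_cycle h1 hg inf_le_left ?_
      (cycle_mem_normalizer_dd hyp h1 hg)).le))
    rw [hAsup]
    exact Hyp.cent_le_normalizer J
  obtain ⟨l, hl, hld⟩ := Nat.exists_prime_and_dvd (fun e => hA1 (Subgroup.card_eq_one.1 e))
  haveI := Fact.mk hl
  let B : Subgroup G :=
    { carrier := {x | x ∈ A ∧ x ^ l = 1}
      one_mem' := ⟨A.one_mem, one_pow l⟩
      mul_mem' := fun {x y} hx hy => ⟨mul_mem hx.1 hy.1, by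
        rw [(hAcomm x hx.1 y hy.1).mul_pow, hx.2, hy.2, one_mul]⟩
      inv_mem' := fun {x} hx => ⟨inv_mem hx.1, by rw [inv_pow, hx.2, inv_one]⟩ }
  have hBA : B ≤ A := fun x hx => hx.1
  have hBl : IsPGroup l B := fun x => ⟨1, Subtype.ext (by simpa using x.2.2)⟩
  have hBne : B ≠ ⊥ := by
    obtain ⟨x, hx⟩ := exists_prime_orderOf_dvd_card' (G := A) l hld
    intro e
    have hxB : (x : G) ∈ B := ⟨x.2, by
      rw [← SubgroupClass.coe_pow, ← hx, pow_orderOf_eq_one, Subgroup.coe_one]⟩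
    rw [e, mem_bot] at hxB
    exact hl.ne_one (by rw [← hx, orderOf_eq_one_iff]; exact Subtype.ext hxB)
  have hBn : Cent J ≤ normalizer (B : Set G) := by
    intro c hc
    refine mem_normalizer_of_conj_mem fun x hx => ?_
    have hJc : Commute J c := (mem_cent.1 hc).symm
    refine ⟨?_, by rw [conj_pow, hx.2, mul_one, mul_inv_cancel]⟩
    obtain ⟨v, hv, i, rfl | rfl⟩ := d.decomp c hJc
    · rw [show v * σ ^ i * x * (v * σ ^ i)⁻¹ = v * (σ ^ i * x * (σ ^ i)⁻¹) * v⁻¹ by group,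
        ((hσA x hx.1).pow_left i).eq, mul_inv_cancel_right]
      exact (mem_normalizer_iff.1 (hAn (hV ▸ hv)) x).1 hx.1
    · rw [show v * (σ ^ i * τ) * x * (v * (σ ^ i * τ))⁻¹ =
          v * (σ ^ i * τ * x * (σ ^ i * τ)⁻¹) * v⁻¹ by group, hrefl i x hx.1]
      exact (mem_normalizer_iff.1 (hAn (hV ▸ hv)) _).1 (inv_mem hx.1)
  have hnd : ¬ l ∣ (Cent J).index := by
    refine sc.not_dvd_index_cent h1.ha (hBA.trans (hAF.trans (fitCore_le_oCore J))) hBn hBne hBl
      fun i hi hiJ hne x hx hix => ?_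
    have hxo : Odd (orderOf x) := (hyp.odd_oCore J).of_dvd_nat
      (Subgroup.orderOf_dvd_natCard _ (fitCore_le_oCore J (hAF hx.1)))
    have hi2 : i * i = 1 := sq_of_order hi
    obtain ⟨v, hv, m, hm | hm⟩ := d.decomp i hiJ.symm
    · exfalso
      have hm' : σ ^ m * v * (σ ^ m)⁻¹ ∈ d.V := d.normV _ (d.commute_J_pow m) v hv
      have e : v * (σ ^ m * v * (σ ^ m)⁻¹) * σ ^ (m + m) = 1 * σ ^ 0 := by
        rw [pow_zero, mul_one, ← hi2, hm, pow_add]; group
      obtain ⟨e1, e2⟩ := d.mul_pow_inj (mul_mem hv hm') d.V.one_mem e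
      rw [pow_zero, pow_add] at e2
      rcases RhoInvariant.eq_of_sq d e2 with e3 | e3 <;> rw [e3] at hm e1
      · rw [mul_one] at hm
        exact ne_one_of_order hi (hm.trans (d.eq_one_of_sq hv (hm ▸ hi2)))
      · rw [show J * v * J⁻¹ = v by rw [(d.commute_J hv).eq, mul_inv_cancel_right]] at e1
        exact hne (by rw [hm, d.eq_one_of_sq hv e1, one_mul])
    · have hvc : v * x⁻¹ * v⁻¹ = x := by
        rw [← hrefl m x hx.1]
        calc v * (σ ^ m * τ * x * (σ ^ m * τ)⁻¹) * v⁻¹ = i * x * i⁻¹ := by rw [hm]; group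
          _ = x := by rw [hix.eq, mul_inv_cancel_right]
      have hc1 : v * x * v⁻¹ = x⁻¹ := by
        rw [show v * x * v⁻¹ = (v * x⁻¹ * v⁻¹)⁻¹ by group, hvc]
      have hc2 : Commute (v * v) x := mul_inv_eq_iff_eq_mul.1
        (show v * v * x * (v * v)⁻¹ = x by
          rw [show v * v * x * (v * v)⁻¹ = v * (v * x * v⁻¹) * v⁻¹ by group, hc1, hvc])
      obtain ⟨k, hk⟩ := d.odd_of_mem hv
      have hvx : Commute v x := by
        have h := hc2.pow_left (k + 1)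
        rwa [← pow_two, ← pow_mul, show 2 * (k + 1) = orderOf v + 1 by omega, pow_succ,
          pow_orderOf_eq_one, one_mul] at h
      refine eq_one_of_inv_eq hxo ?_
      rw [← hc1, hvx.eq, mul_inv_cancel_right]
  -- the order formula
  obtain ⟨M, hM⟩ := ZStar.exists_isPModular_two
  haveI : Fact (Nat.Prime 2) := ⟨Nat.prime_two⟩
  obtain ⟨χ₁, χ₂, χ₃, δ₁, δ₂, δ₃, a, b, c, hδ, -, -, m1, -, -, n1, -, -, -, -, -, hval, ha, -, -,
    ha1, hrel, hca, hcb, hcc, heq⟩ := d.signed_degrees P hσ hτ hform hM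
  have hdV : Nat.card (d.V ⊓ centralizer ({τ} : Set G) : Subgroup G) = q * q := by rw [hV]; exact hd
  have hdV' : Nat.card (d.V ⊓ centralizer ({σ * τ} : Set G) : Subgroup G) = q := by
    rw [hV]; exact hd'
  have hpq : Nat.card (centralizer ({J, τ} : Set G)) = 4 * (q * q) := by
    rw [d.card_centralizer_pair, hdV]
  have hpq' : Nat.card (centralizer ({J, σ * τ} : Set G)) = 4 * q := by
    rw [d.toCore.shift.card_centralizer_pair, show d.toCore.shift.V = d.V from rfl, hdV']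
  have hqodd : Odd q := (hyp.odd_oCore J).of_dvd_nat (card_dvd_of_le (qf_le_oCore J τ))
  have hq3 : 3 ≤ q := by
    have h : 1 < q := (Subgroup.one_lt_card_iff_ne_bot _).2 hQ
    obtain ⟨k, hk⟩ := hqodd
    omega
  rw [hpq, hpq'] at heq
  push_cast at heq
  obtain ⟨j, hj⟩ := d.hM
  have hM0 := d.hM0
  have ha8 : a % 8 = 1 := by
    have h' : (8 : ℤ) ∣ a - 1 := (Dvd.intro (j : ℤ) (by rw [hj]; push_cast; ring)).trans hca
    omega
  have hb4 : b % 4 = 1 := by
    have h' : (4 : ℤ) ∣ b - (1 + 2 * M₀) := (Dvd.intro (M₀ : ℤ) rfl).trans hcb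
    rw [hj] at h'; push_cast at h'; omega
  have hc4 : c % 4 = 1 := by
    have h' : (4 : ℤ) ∣ c - (1 + 2 * M₀) := (Dvd.intro (M₀ : ℤ) rfl).trans hcc
    rw [hj] at h'; push_cast at h'; omega
  have hb1 : b ≠ 1 := by
    rintro rfl
    obtain ⟨k, hk⟩ := hcb
    have : (2 * M₀ : ℤ) * (2 * k + 1) = 0 := by linear_combination -hk
    rcases mul_eq_zero.1 this with e | e <;> omega
  have hc1 : c ≠ 1 := by
    rintro rfl
    obtain ⟨k, hk⟩ := hcc
    have : (2 * M₀ : ℤ) * (2 * k + 1) = 0 := by linear_combination -hk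
    rcases mul_eq_zero.1 this with e | e <;> omega
  have hbc : (b - c) % 8 = 0 := by
    have h' : (8 : ℤ) ∣ (b - (1 + 2 * M₀)) - (c - (1 + 2 * M₀)) :=
      (Dvd.intro (j : ℤ) (by rw [hj]; push_cast; ring)).trans (dvd_sub hcb hcc)
    omega
  have hqz : (q : ℤ) ≠ 0 := by omega
  have key := SignArith.small (d := (q : ℤ)) (by exact_mod_cast hq3)
    (by exact_mod_cast Nat.odd_iff.1 hqodd) hrel ha8 ha1 hb4 hb1 hc4 hc1 hbc
    (mul_left_cancel₀ (show (16 * q ^ 2 : ℤ) ≠ 0 by positivity) (by linear_combination heq))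
  obtain ⟨e, he⟩ : ∃ e : ℕ, (a - 1) ^ 2 = 2 ^ e := by
    rcases key with ⟨-, rfl, -⟩ | ⟨-, rfl, -⟩
    · exact ⟨8, by norm_num⟩
    · exact ⟨6, by norm_num⟩
  obtain ⟨-, hord⟩ := d.order_formula hM m1 (fun e => n1 (Subtype.ext e)) hδ
    fun k h0 hk => (hval k h0 hk).1
  have hC : Nat.card (centralizer ({J} : Set G)) = 4 * M₀ * (Nat.card A * (q * q)) := by
    rw [d.card_centralizer_J, d.card_K, hV, hcA]; ring
  have hI : Nat.card G = (Cent J).index * (4 * M₀ * (Nat.card A * (q * q))) := by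
    rw [← hC]; exact ((Cent J).index_mul_card).symm
  rw [hpq, hpq', hC, hI] at hord
  push_cast at hord
  have hA0 : (Nat.card A : ℂ) ≠ 0 := Nat.cast_ne_zero.2 Nat.card_pos.ne'
  have hqC : (q : ℂ) ≠ 0 := Nat.cast_ne_zero.2 (by omega)
  have hM0C : (M₀ : ℂ) ≠ 0 := Nat.cast_ne_zero.2 hM0.ne'
  have hδ2 : (δ₁ : ℂ) * δ₁ = 1 := by rcases hδ with rfl | rfl <;> norm_num
  have haC : (a : ℂ) = δ₁ * (charDegree χ₁.1 : ℂ) := by rw [ha]; push_cast; ring
  have hcx : ((Cent J).index : ℂ) * ((a : ℂ) - 1) ^ 2 =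
      2 * a * (a + 1) * ((M₀ : ℂ) * Nat.card A * (1 + q)) ^ 2 := by
    field_simp at hord
    rw [haC]
    linear_combination hord + (((Cent J).index : ℂ) * ((charDegree χ₁.1 : ℂ) ^ 2 - 1) -
      2 * ((M₀ : ℂ) * Nat.card A * (1 + q)) ^ 2 * (charDegree χ₁.1 : ℂ) ^ 2) * hδ2
  have hz : ((Cent J).index : ℤ) * (a - 1) ^ 2 =
      2 * a * (a + 1) * ((M₀ : ℤ) * Nat.card A * (1 + q)) ^ 2 := by exact_mod_cast hcx
  have hl2 : l ≠ 2 := by
    rintro rfl
    exact Nat.not_even_iff_odd.2 ((hyp.odd_oCore J).of_dvd_nat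
      (card_dvd_of_le (hAF.trans (fitCore_le_oCore J)))) (even_iff_two_dvd.2 hld)
  have hdiv : (l : ℤ) ∣ ((Cent J).index : ℤ) * 2 ^ e := by
    rw [← he, hz]
    exact (((Int.natCast_dvd_natCast.2 hld).mul_left _).mul_right _ |>.pow two_ne_zero).mul_left _
  refine hnd (((Nat.coprime_primes hl Nat.prime_two).2 hl2).pow_right e |>.dvd_of_dvd_mul_right ?_)
  exact_mod_cast hdiv

end Cfsg.Agent.GW
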